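import Cfsg.Agent.Lib.PLocal.PSolvable
import Mathlib

/-!
`p`-solvability is inherited by extensions with a `p`-group or `p'`-group as kernel.
-/

set_option autoImplicit false

namespace Cfsg.Agent.GStructB.PSolvableExt

open Cfsg

variable {p : ℕ} {G : Type*} [Group G]

theorem of_card_good (h : (∃ m, Nat.card G = p ^ m) ∨ (Nat.card G).Coprime p) : IsPSolvable p G := by
  refine ⟨1, ![⊥, ⊤], rfl, rfl, ?_, ?_, ?_⟩
  · intro i j hij; fin_cases i <;> fin_cases j <;> simp_all
  · intro i; fin_cases i <;> simp <;> infer_instance
  · intro i; fin_cases i; simpa using h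

theorem of_normal_good (A : Subgroup G) [A.Normal]
    (hA : (∃ m, Nat.card A = p ^ m) ∨ (Nat.card A).Coprime p) (h : IsPSolvable p (G ⧸ A)) :
    IsPSolvable p G := by
  obtain ⟨n, S, h0, h1, hmono, hn, hi⟩ := h
  let π := QuotientGroup.mk' A
  refine ⟨n + 1, Fin.cons ⊥ fun i => (S i).comap π, Fin.cons_zero _ _, ?_, ?_, ?_, ?_⟩
  · rw [← Fin.succ_last, Fin.cons_succ, h1, Subgroup.comap_top]
  · intro i j hij
    induction i using Fin.cases with
    | zero => simp
    | succ i =>
      induction j using Fin.cases with
      | zero => exact absurd hij (not_le.mpr (Fin.succ_pos i))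
      | succ j =>
        rw [Fin.cons_succ, Fin.cons_succ]
        exact Subgroup.comap_mono (hmono (Fin.succ_le_succ_iff.mp hij))
  · intro i
    induction i using Fin.cases with
    | zero => rw [Fin.cons_zero]; infer_instance
    | succ i => rw [Fin.cons_succ]; exact (hn i).comap π
  · intro i
    induction i using Fin.cases with
    | zero =>
      rw [Fin.castSucc_zero, Fin.cons_zero, Fin.cons_succ, h0, Subgroup.relIndex_bot_left,
        MonoidHom.comap_bot, QuotientGroup.ker_mk']
      exact hA
    | succ i =>
      rw [Fin.cons_succ, show i.succ.castSucc = i.castSucc.succ from Fin.castSucc_succ i |>.symm ▸ rfl,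
        Fin.cons_succ, Subgroup.relIndex_comap,
        Subgroup.map_comap_eq_self_of_surjective (QuotientGroup.mk'_surjective A)]
      exact hi i

end Cfsg.Agent.GStructB.PSolvableExt
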