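import Cfsg.Prelude.Def_KGroupFacts
import Mathlib

/-!
Stem extensions of groups with a cyclic normal subgroup and cyclic quotient: the kernel is cyclic,
generated by a power of a commutator, and its order divides an explicit number.
-/

set_option autoImplicit false

namespace Cfsg.Agent.GStructB.StemExt

open Subgroup
open scoped commutatorElement

universe u v

/-- If `Γ` is generated by `x`, `y` and its centre and `y x y⁻¹ = x ^ r z` with `z` central, then the
derived subgroup is generated by the commutator of `y` and `x`. -/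
theorem commutator_le_zpowers {Γ : Type u} [Group Γ] [Finite Γ] (x y z : Γ)
    (hgen : Subgroup.closure {x, y} ⊔ Subgroup.center Γ = ⊤) (r : ℕ)
    (hz : z ∈ Subgroup.center Γ) (h : y * x * y⁻¹ = x ^ r * z) :
    commutator Γ ≤ Subgroup.zpowers (x ^ ((r : ℤ) - 1) * z) := by
  set c := x ^ ((r : ℤ) - 1) * z with hc
  have hzc : ∀ w : Γ, Commute z w := fun w => (Subgroup.mem_center_iff.mp hz w).symm
  have hxc : Commute x c := ((Commute.refl x).zpow_right _).mul_right (hzc x).symm
  have hcy : y * c * y⁻¹ = c ^ r := by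
    have e1 : y * c * y⁻¹ = (y * x * y⁻¹) ^ ((r : ℤ) - 1) * z := by
      rw [conj_zpow, hc]
      calc y * (x ^ ((r : ℤ) - 1) * z) * y⁻¹
          = y * x ^ ((r : ℤ) - 1) * (z * y⁻¹) := by group
        _ = y * x ^ ((r : ℤ) - 1) * (y⁻¹ * z) := by rw [(hzc y⁻¹).eq]
        _ = _ := by group
    rw [e1, h, hc, ← zpow_natCast (_ * z) r, (hzc _).symm.mul_zpow, (hzc _).symm.mul_zpow]
    rw [← zpow_natCast x r, ← zpow_mul, ← zpow_mul, mul_assoc, ← zpow_add_one]
    congr 2 <;> ring
  -- the subgroup generated by `c` is normal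
  set N := Subgroup.zpowers c with hN
  have hsub : ∀ g : Γ, g * c * g⁻¹ ∈ N → g ∈ Subgroup.normalizer (N : Set Γ) := by
    intro g hg
    rw [Subgroup.mem_normalizer_iff]
    have hle : N.map (MulAut.conj g).toMonoidHom ≤ N := by
      rw [hN, MonoidHom.map_zpowers, Subgroup.zpowers_le]
      simpa using hg
    have heq : N.map (MulAut.conj g).toMonoidHom = N := by
      apply Subgroup.eq_of_le_of_card_ge hle
      rw [Subgroup.card_map_of_injective (MulAut.conj g).injective]
    intro n
    constructor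
    · intro hn
      rw [← heq]
      exact ⟨n, hn, by simp⟩
    · intro hn
      rw [← heq] at hn
      obtain ⟨k, hk, hke⟩ := hn
      simp at hke
      rwa [← hke]
  have hnorm : N.Normal := by
    rw [← Subgroup.normalizer_eq_top_iff, eq_top_iff, ← hgen, sup_le_iff, Subgroup.closure_le]
    refine ⟨?_, ?_⟩
    · rintro g (rfl | rfl)
      · apply hsub
        rw [hxc.eq, mul_inv_cancel_right]
        exact Subgroup.mem_zpowers c
      · apply hsub
        rw [hcy]
        exact Subgroup.npow_mem_zpowers c r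
    · intro g hg
      apply hsub
      rw [((Subgroup.mem_center_iff.mp hg c)).symm, mul_inv_cancel_right]
      exact Subgroup.mem_zpowers c
  -- the quotient is commutative
  have hcomm : y * x * y⁻¹ * x⁻¹ = c := by
    rw [h, hc, mul_assoc, (hzc x⁻¹).eq, ← mul_assoc, ← zpow_natCast, ← zpow_sub_one]
  let π := QuotientGroup.mk' N
  have hπxy : Commute (π x) (π y) := by
    have : π (y * x * y⁻¹ * x⁻¹) = 1 := by
      rw [hcomm]
      exact (QuotientGroup.eq_one_iff c).mpr (Subgroup.mem_zpowers c)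
    simp only [map_mul, map_inv] at this
    rw [mul_inv_eq_one, mul_inv_eq_iff_eq_mul] at this
    exact this.symm
  have hall : ∀ g : Γ, π g ∈ Subgroup.center (Γ ⧸ N) := by
    have hgen' : (⊤ : Subgroup Γ) ≤ (Subgroup.centralizer {π x, π y}).comap π := by
      rw [← hgen, sup_le_iff, Subgroup.closure_le]
      refine ⟨?_, ?_⟩
      · rintro g (rfl | rfl) <;>
          rw [SetLike.mem_coe, Subgroup.mem_comap, Subgroup.mem_centralizer_iff] <;>
          rintro w (rfl | rfl)
        · rfl
        · exact hπxy.symm.eq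
        · exact hπxy.eq
        · rfl
      · intro g hg
        rw [Subgroup.mem_comap, Subgroup.mem_centralizer_iff]
        rintro w (rfl | rfl) <;> rw [← map_mul, ← map_mul, Subgroup.mem_center_iff.mp hg]
    intro g
    rw [Subgroup.mem_center_iff]
    intro w
    obtain ⟨w, rfl⟩ := QuotientGroup.mk'_surjective N w
    have hg : π g ∈ Subgroup.centralizer {π x, π y} := hgen' (Subgroup.mem_top g)
    have hgen'' : (⊤ : Subgroup Γ) ≤ (Subgroup.centralizer {π g}).comap π := by
      rw [← hgen, sup_le_iff, Subgroup.closure_le]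
      refine ⟨?_, ?_⟩
      · rintro e (rfl | rfl) <;>
          rw [SetLike.mem_coe, Subgroup.mem_comap, Subgroup.mem_centralizer_iff] <;>
          rintro w' rfl
        · exact ((Subgroup.mem_centralizer_iff.mp hg) _ (Set.mem_insert _ _)).symm
        · exact ((Subgroup.mem_centralizer_iff.mp hg) _ (Set.mem_insert_of_mem _ rfl)).symm
      · intro e he
        rw [Subgroup.mem_comap, Subgroup.mem_centralizer_iff]
        rintro w' rfl
        rw [← map_mul, ← map_mul, Subgroup.mem_center_iff.mp he]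
    exact ((Subgroup.mem_centralizer_iff.mp (hgen'' (Subgroup.mem_top w))) _ rfl).symm
  rw [_root_.commutator_def, Subgroup.commutator_le]
  intro g₁ _ g₂ _
  rw [← QuotientGroup.eq_one_iff]
  change π ⁅g₁, g₂⁆ = 1
  rw [map_commutatorElement, commutatorElement_eq_one_iff_mul_comm]
  exact (Subgroup.mem_center_iff.mp (hall g₂)) (π g₁)

/-- Stem extensions of a group generated by `a`, `b` with `a` of order `m`, `b a b⁻¹ = a ^ r` and
`b ^ n = a ^ s`: the kernel lies in a cyclic group whose order divides the printed number. -/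
theorem ker_le_zpowers {Γ : Type u} {G : Type v} [Group Γ] [Finite Γ] [Group G] (σ : Γ →* G)
    (hσ : Cfsg.IsStemExtension σ) (a b : G) (hab : Subgroup.closure ({a, b} : Set G) = ⊤)
    (m n r l : ℕ) (hm : orderOf a = m) (hm0 : 0 < m) (hr : 0 < r) (hrn : r ^ n ≡ 1 [MOD m])
    (hba : b * a * b⁻¹ = a ^ r) (hbn : b ^ n = a ^ (m / Nat.gcd m (r - 1) * l)) :
    ∃ d : Γ, σ.ker ≤ Subgroup.zpowers d ∧
      orderOf d ∣ Nat.gcd l (Nat.gcd m (r - 1) * Nat.gcd m (∑ i ∈ Finset.range n, r ^ i) / m) := by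
  obtain ⟨hsurj, hcen, hcomm⟩ := hσ
  obtain ⟨x, hx⟩ := hsurj a
  obtain ⟨y, hy⟩ := hsurj b
  set g := Nat.gcd m (r - 1) with hg
  set S := ∑ i ∈ Finset.range n, r ^ i with hS
  set z := (x ^ r)⁻¹ * (y * x * y⁻¹) with hzdef
  have hzk : z ∈ σ.ker := by
    simp [MonoidHom.mem_ker, hzdef, hx, hy, hba]
  have hz : z ∈ Subgroup.center Γ := hcen hzk
  have h : y * x * y⁻¹ = x ^ r * z := by rw [hzdef, mul_inv_cancel_left]
  have hgen : Subgroup.closure {x, y} ⊔ Subgroup.center Γ = ⊤ := by
    rw [eq_top_iff]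
    intro w _
    have hmap : (Subgroup.closure {x, y}).map σ = ⊤ := by
      rw [MonoidHom.map_closure, Set.image_pair, hx, hy, hab]
    have hw : σ w ∈ (Subgroup.closure {x, y}).map σ := by rw [hmap]; exact Subgroup.mem_top _
    obtain ⟨v, hv, hvw⟩ := hw
    have hk : v⁻¹ * w ∈ σ.ker := by simp [MonoidHom.mem_ker, hvw]
    have := mul_mem (Subgroup.mem_sup_left (T := Subgroup.center Γ) hv)
      (Subgroup.mem_sup_right (S := Subgroup.closure {x, y}) (hcen hk))
    simpa using this
  have hN := commutator_le_zpowers x y z hgen r hz h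
  have hrcast : ((r : ℤ) - 1) = ((r - 1 : ℕ) : ℤ) := by omega
  rw [hrcast, zpow_natCast] at hN
  set c := x ^ (r - 1) * z with hc
  have hzc : ∀ w : Γ, Commute z w := fun w => (Subgroup.mem_center_iff.mp hz w).symm
  have hcpow : ∀ k : ℕ, c ^ k = x ^ ((r - 1) * k) * z ^ k := fun k => by
    rw [hc, (hzc _).symm.mul_pow, ← pow_mul]
  -- conjugation by `y` on powers of `x`
  have hconj : ∀ k : ℕ, y * x ^ k * y⁻¹ = x ^ (r * k) * z ^ k := fun k => by
    rw [← conj_pow, h, (hzc _).symm.mul_pow, ← pow_mul]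
  -- powers of `c` killed by conjugation
  have hfix : ∀ k : ℕ, y * x ^ k * y⁻¹ = x ^ k → c ^ k = 1 := fun k hk => by
    rw [hconj] at hk
    have e : r * k = (r - 1) * k + k := by
      obtain ⟨r', rfl⟩ := Nat.exists_eq_add_of_le hr
      simp; ring
    rw [e, add_comm, pow_add, mul_assoc, mul_eq_left] at hk
    rw [hcpow, hk]
  have hm' : c ^ m = 1 := by
    apply hfix
    have hxm : x ^ m ∈ Subgroup.center Γ := hcen (by
      rw [MonoidHom.mem_ker, map_pow, hx, ← hm, pow_orderOf_eq_one])
    rw [Subgroup.mem_center_iff.mp hxm y, mul_inv_cancel_right]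
  set s := m / g * l with hs
  have hs' : c ^ s = 1 := by
    apply hfix
    have hk : (x ^ s)⁻¹ * y ^ n ∈ σ.ker := by
      simp [MonoidHom.mem_ker, hx, hy, hbn, hs]
    have hc2 := Subgroup.mem_center_iff.mp (hcen hk)
    calc y * x ^ s * y⁻¹ = y * (y ^ n * ((x ^ s)⁻¹ * y ^ n)⁻¹) * y⁻¹ := by group
      _ = y ^ n * (y * ((x ^ s)⁻¹ * y ^ n)⁻¹ * y⁻¹) := by
          rw [← mul_assoc y, ← pow_succ', pow_succ]; group
      _ = y ^ n * ((x ^ s)⁻¹ * y ^ n)⁻¹ := by
          have := Subgroup.mem_center_iff.mp (inv_mem (hcen hk)) y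
          rw [this, mul_inv_cancel_right]
      _ = x ^ s := by group
  have hSt : ∀ k : ℕ, y ^ k * x * (y ^ k)⁻¹ =
      x ^ (r ^ k) * z ^ (∑ i ∈ Finset.range k, r ^ i) := by
    intro k
    induction k with
    | zero => simp
    | succ k ih =>
      calc y ^ (k + 1) * x * (y ^ (k + 1))⁻¹
          = y * (y ^ k * x * (y ^ k)⁻¹) * y⁻¹ := by rw [pow_succ']; group
        _ = y * x ^ (r ^ k) * y⁻¹ * z ^ (∑ i ∈ Finset.range k, r ^ i) := by
            rw [ih]
            have := ((hzc y⁻¹).pow_left (∑ i ∈ Finset.range k, r ^ i)).eq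
            rw [← mul_assoc, mul_assoc _ (z ^ _), this, ← mul_assoc]
        _ = _ := by
            rw [hconj, mul_assoc, ← pow_add, Finset.sum_range_succ, add_comm (r ^ k) _,
              ← pow_succ']
  have hS' : c ^ S = 1 := by
    have hk : (x ^ s)⁻¹ * y ^ n ∈ Subgroup.center Γ := hcen (by
      simp [MonoidHom.mem_ker, hx, hy, hbn, hs])
    have e1 : y ^ n * x * (y ^ n)⁻¹ = x := by
      have hcx : Commute x ((x ^ s)⁻¹ * y ^ n) := (Subgroup.mem_center_iff.mp hk x)
      have : Commute x (y ^ n) := by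
        simpa using ((Commute.refl x).pow_right s).mul_right hcx
      rw [this.symm.eq, mul_inv_cancel_right]
    have e2 : (r - 1) * S + 1 = r ^ n := by
      rw [hS]
      obtain ⟨r', rfl⟩ := Nat.exists_eq_add_of_le hr
      have := geom_sum_mul_add r' n
      simp [add_comm 1 r'] at this ⊢
      rw [mul_comm]; exact this
    rw [hSt, ← hS, ← e2, add_comm, pow_add, pow_one, mul_assoc, mul_eq_left] at e1
    rw [hcpow, e1]
  refine ⟨c ^ (m / g), ?_, ?_⟩
  · intro w hw
    obtain ⟨k, hk⟩ := hN (hcomm hw)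
    obtain ⟨k, rfl⟩ : ∃ k' : ℕ, c ^ k' = w := by
      have := isOfFinOrder_of_finite c
      exact this.mem_powers_iff_mem_zpowers.mpr ⟨k, hk⟩
    have hd : m ∣ (r - 1) * k := by
      rw [← hm, orderOf_dvd_iff_pow_eq_one]
      have hzk' : σ (z ^ k) = 1 := by rw [map_pow, MonoidHom.mem_ker.mp hzk, one_pow]
      simpa [MonoidHom.mem_ker, hcpow, hx, hzk'] using hw
    have : m / g ∣ k := by
      have hg0 : 0 < g := Nat.gcd_pos_of_pos_left _ hm0
      have hcop : Nat.Coprime (m / g) ((r - 1) / g) := Nat.coprime_div_gcd_div_gcd hg0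
      apply hcop.dvd_of_dvd_mul_left
      have h2 : m / g * g ∣ (r - 1) / g * k * g := by
        rw [Nat.div_mul_cancel (Nat.gcd_dvd_left _ _), mul_right_comm,
          Nat.div_mul_cancel (Nat.gcd_dvd_right _ _)]
        exact hd
      exact Nat.dvd_of_mul_dvd_mul_right hg0 h2
    obtain ⟨j, rfl⟩ := this
    rw [pow_mul]
    exact Subgroup.npow_mem_zpowers _ j
  · have hg0 : 0 < g := Nat.gcd_pos_of_pos_left _ hm0
    apply Nat.dvd_gcd
    · rw [orderOf_dvd_iff_pow_eq_one, ← pow_mul]; exact hs'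
    · rw [orderOf_dvd_iff_pow_eq_one, ← pow_mul]
      have hgm : g ∣ m := Nat.gcd_dvd_left _ _
      have hdiv : m / g ∣ Nat.gcd m S := by
        refine Nat.dvd_gcd (Nat.div_dvd_of_dvd hgm) ?_
        have e2 : (r - 1) * S + 1 = r ^ n := by
          rw [hS]
          obtain ⟨r', rfl⟩ := Nat.exists_eq_add_of_le hr
          have := geom_sum_mul_add r' n
          simp [add_comm 1 r'] at this ⊢
          rw [mul_comm]; exact this
        have hdv : m ∣ (r - 1) * S := by
          have := (Nat.modEq_iff_dvd' (Nat.one_le_pow _ _ hr)).mp hrn.symm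
          rwa [← e2, Nat.add_sub_cancel] at this
        have hcop : Nat.Coprime (m / g) ((r - 1) / g) := Nat.coprime_div_gcd_div_gcd hg0
        apply hcop.dvd_of_dvd_mul_left
        apply Nat.dvd_of_mul_dvd_mul_right hg0
        rw [Nat.div_mul_cancel hgm, mul_right_comm, Nat.div_mul_cancel (Nat.gcd_dvd_right _ _)]
        exact hdv
      obtain ⟨t, ht⟩ := hdiv
      have : g * Nat.gcd m S / m = t := by
        rw [ht, ← mul_assoc, Nat.mul_div_cancel' hgm, Nat.mul_div_cancel_left _ hm0]
      rw [this, ← ht, ← orderOf_dvd_iff_pow_eq_one]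
      exact Nat.dvd_gcd (orderOf_dvd_of_pow_eq_one hm') (orderOf_dvd_of_pow_eq_one hS')

/-- A cyclic finite group maps onto every subgroup of a cyclic group of dividing order. -/
theorem exists_surjective_hom {A : Type u} [Group A] [Finite A] [IsCyclic A] {Γ : Type v} [Group Γ]
    [Finite Γ] (H : Subgroup Γ) (d : Γ) (hH : H ≤ Subgroup.zpowers d)
    (hd : orderOf d ∣ Nat.card A) : ∃ π : A →* H, Function.Surjective π := by
  obtain ⟨g, hg⟩ := IsCyclic.exists_generator (α := A)
  have hHcyc : IsCyclic H := Subgroup.isCyclic_of_le hH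
  obtain ⟨h, hh⟩ := IsCyclic.exists_generator (α := H)
  have hdvd : orderOf h ∣ orderOf g := by
    rw [orderOf_eq_card_of_forall_mem_zpowers hg, orderOf_eq_card_of_forall_mem_zpowers hh]
    refine (Subgroup.card_dvd_of_le hH).trans ?_
    rwa [Nat.card_zpowers]
  refine ⟨monoidHomOfForallMemZpowers hg hdvd, fun w => ?_⟩
  obtain ⟨k, rfl⟩ := hh w
  exact ⟨g ^ k, by rw [map_zpow, monoidHomOfForallMemZpowers_apply_gen]⟩

/-- A group is a stem extension of itself. -/
theorem isStemExtension_id (G : Type u) [Group G] : Cfsg.IsStemExtension (MonoidHom.id G) :=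
  ⟨Function.surjective_id, by simp, by simp⟩

/-- The trivial multiplier: the criterion. -/
theorem hasCyclicSchurMultiplier_one {G : Type u} [Group G] [Finite G]
    (h : ∀ (Γ : Type u) [Group Γ] [Finite Γ] (σ : Γ →* G), Cfsg.IsStemExtension σ → σ.ker = ⊥) :
    Cfsg.HasCyclicSchurMultiplier G 1 := by
  refine ⟨⟨G, inferInstance, inferInstance, MonoidHom.id G, isStemExtension_id G, ?_⟩,
    fun Γ _ _ σ hσ => ⟨1, ?_⟩⟩
  · have : Subsingleton (MonoidHom.id G).ker := ⟨fun a b => Subtype.ext (a.2.trans b.2.symm)⟩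
    have : Unique (MonoidHom.id G).ker := uniqueOfSubsingleton 1
    exact ⟨MulEquiv.ofUnique⟩
  · intro w
    refine ⟨1, ?_⟩
    have hw : (w : Γ) ∈ (⊥ : Subgroup Γ) := h Γ σ hσ ▸ w.2
    exact Subtype.ext (by simp [Subgroup.mem_bot.mp hw])

end Cfsg.Agent.GStructB.StemExt
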