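import Cfsg.Agent.Lib.Coprime.Commutator
import Cfsg.Agent.Lib.Coprime.PGroup
import Mathlib

/-!
A coprime group of operators of a finite 2-group fixing every element of order at most four is
trivial on it.
-/

set_option autoImplicit false

namespace Cfsg.Agent.GStructB.FixTwo

open scoped commutatorElement

/-- In a finite `p`-group `p`-th powers lie in the Frattini subgroup. -/
theorem pow_mem_frattini {P : Type*} [Group P] [Finite P] {p : ℕ} [hp : Fact p.Prime]
    (hP : IsPGroup p P) (x : P) : x ^ p ∈ frattini P := by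
  have := hP.isNilpotent
  change x ^ p ∈ Order.radical (Subgroup P)
  rw [Order.radical, Subgroup.mem_iInf]
  intro M
  rw [Subgroup.mem_iInf]
  intro hM
  have hn : M.Normal := Subgroup.NormalizerCondition.normal_of_coatom M Group.normalizerCondition_of_isNilpotent hM
  by_contra hxM
  set π := QuotientGroup.mk' M
  have hle : M ≤ (Subgroup.zpowers (π (x ^ p))).comap π := by
    intro m hm
    rw [Subgroup.mem_comap, show π m = 1 from (QuotientGroup.eq_one_iff m).mpr hm]
    exact one_mem _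
  have htop : (Subgroup.zpowers (π (x ^ p))).comap π = ⊤ := hM.2 _ (lt_of_le_of_ne hle fun h => hxM (by
    have : x ^ p ∈ (Subgroup.zpowers (π (x ^ p))).comap π :=
      Subgroup.mem_comap.mpr (Subgroup.mem_zpowers _)
    rwa [← h] at this))
  have h1 : π x ∈ Subgroup.zpowers (π (x ^ p)) := by
    rw [← Subgroup.mem_comap, htop]; exact Subgroup.mem_top x
  obtain ⟨k, hk⟩ := IsPGroup.iff_orderOf.mp (hP.to_quotient M) (π x)
  have h2 := orderOf_dvd_of_mem_zpowers h1
  rw [map_pow, orderOf_pow, hk] at h2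
  rcases Nat.eq_zero_or_pos k with rfl | hk0
  · rw [pow_zero, orderOf_eq_one_iff] at hk
    apply hxM
    rw [← QuotientGroup.eq_one_iff]
    change π (x ^ p) = 1
    rw [map_pow, hk, one_pow]
  · rw [Nat.gcd_eq_right (dvd_pow_self p hk0.ne')] at h2
    have h3 := Nat.le_of_dvd (Nat.div_pos (Nat.le_self_pow hk0.ne' p) hp.out.pos) h2
    exact absurd h3 (not_le.mpr (Nat.div_lt_self (pow_pos hp.out.pos k) hp.out.one_lt))

/-- The 2-group case of the lemma on operators fixing elements of small order. -/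
theorem le_centralizer_of_fix_order_four {G : Type*} [Group G] [Finite G] {P A : Subgroup G}
    (hP : IsPGroup 2 P) (hAP : A ≤ Subgroup.normalizer (P : Set G))
    (hcop : (Nat.card A).Coprime 2) (hfix : ∀ x ∈ P, x ^ 4 = 1 → ∀ a ∈ A, a * x = x * a) :
    A ≤ Subgroup.centralizer (P : Set G) := by
  have : Fact (Nat.Prime 2) := ⟨Nat.prime_two⟩
  induction hn : Nat.card P using Nat.strongRecOn generalizing P with
  | _ n ih =>
  have := hP.isNilpotent
  have hsolv : Group.IsSolvable P := inferInstance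
  have hcopP : (Nat.card A).Coprime (Nat.card P) := by
    obtain ⟨k, hk⟩ := IsPGroup.iff_card.mp hP
    exact hk ▸ hcop.pow_right k
  have hrec : ∀ Q : Subgroup G, Q < P → A ≤ Subgroup.normalizer (Q : Set G) →
      A ≤ Subgroup.centralizer (Q : Set G) := by
    intro Q hQ hAQ
    refine ih (Nat.card Q) ?_ (hP.to_le hQ.le) hAQ (fun x hx => hfix x (hQ.le hx)) rfl
    exact hn ▸ Set.Finite.card_lt_card (Set.toFinite _) (SetLike.coe_ssubset_coe.mpr hQ)
  rcases eq_or_ne P ⊥ with hbot | hbot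
  · rw [hbot]; intro a _
    rw [Subgroup.mem_centralizer_iff]; intro x hx
    simp_all
  by_cases hlt : ⁅P, A⁆ = P
  swap
  · have h1 : ⁅P, A⁆ < P :=
      lt_of_le_of_ne (Cfsg.Agent.Coprime.commutator_le_of_le_normalizer hAP) hlt
    exact Cfsg.Agent.Coprime.le_centralizer_of_series hAP hcopP (Or.inr hsolv)
      (hrec _ h1 (Subgroup.normalizer_commutator_ge_right P A)) le_rfl
  set F := (frattini P).map P.subtype with hF
  have hFlt : F < P := by
    refine lt_of_le_of_ne (Subgroup.map_subtype_le _) fun h => ?_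
    have htop : frattini P = ⊤ := by
      apply Subgroup.map_injective P.subtype_injective
      rw [← hF, h, ← MonoidHom.range_eq_map, Subgroup.range_subtype]
    have : Nontrivial P := (Subgroup.nontrivial_iff_ne_bot P).mpr hbot
    obtain ⟨M, hM, -⟩ := (eq_top_or_exists_le_coatom (⊥ : Subgroup P)).resolve_left bot_ne_top
    exact hM.1 (top_le_iff.mp (htop ▸ frattini_le_coatom hM))
  have hAF : A ≤ Subgroup.normalizer (F : Set G) := by
    have hmap : ∀ a ∈ A, ∀ y ∈ F, a * y * a⁻¹ ∈ F := by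
      intro a ha y hy
      obtain ⟨y, hy, rfl⟩ := hy
      let φ : MulAut P := (MulEquiv.subgroupMap (MulAut.conj a) P).trans
        (MulEquiv.subgroupCongr (Subgroup.mem_normalizer_iff_map_conj_eq.mp (hAP ha)))
      refine ⟨φ y, ?_, ?_⟩
      · exact (Subgroup.characteristic_iff_map_eq.mp inferInstance φ).le ⟨y, hy, rfl⟩
      · simp [φ]
    intro a ha
    rw [Subgroup.mem_normalizer_iff]
    intro y
    refine ⟨hmap a ha y, fun hy => ?_⟩
    have := hmap a⁻¹ (inv_mem ha) _ hy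
    simpa [mul_assoc] using this
  have hAFc : A ≤ Subgroup.centralizer (F : Set G) := hrec F hFlt hAF
  have hsq : ∀ u ∈ P, u ^ 2 ∈ F := fun u hu =>
    ⟨_, pow_mem_frattini hP (⟨u, hu⟩ : P), rfl⟩
  have hderF : ⁅P, P⁆ ≤ F := by
    rw [hF, ← Subgroup.map_subtype_commutator]
    exact Subgroup.map_mono (Cfsg.Agent.Coprime.commutator_le_frattini P)
  -- `F` is central in `P`
  have hPF : ⁅P, F⁆ = ⊥ := by
    have h0 : ⁅F, A⁆ = ⊥ := Cfsg.Agent.Coprime.commutator_eq_bot_iff_le_centralizer'.mpr hAFc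
    have h1 : ⁅⁅A, F⁆, P⁆ = ⊥ := by
      rw [Subgroup.commutator_comm A, h0, Subgroup.commutator_bot_left]
    have h2 : ⁅⁅F, P⁆, A⁆ = ⊥ :=
      le_bot_iff.mp (le_trans (Subgroup.commutator_mono
        ((Subgroup.commutator_mono hFlt.le le_rfl).trans hderF) le_rfl) h0.le)
    have h3 := Subgroup.commutator_commutator_eq_bot_of_rotate h1 h2
    rwa [hlt] at h3
  have hcentral : ∀ u ∈ P, ∀ f ∈ F, u * f = f * u := fun u hu f hf => by
    rw [← commutatorElement_eq_one_iff_mul_comm, ← Subgroup.mem_bot, ← hPF]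
    exact Subgroup.commutator_mem_commutator hu hf
  have hcomm2 : ∀ u ∈ P, ∀ v ∈ P, ⁅u, v⁆ ^ 2 = 1 := by
    intro u hu v hv
    have hz : ⁅u, v⁆ ∈ F := hderF (Subgroup.commutator_mem_commutator hu hv)
    have e : ⁅u ^ 2, v⁆ = ⁅u, v⁆ ^ 2 := by
      calc ⁅u ^ 2, v⁆ = u * ⁅u, v⁆ * u⁻¹ * ⁅u, v⁆ := by
            rw [pow_two, commutatorElement_def, commutatorElement_def]; group
        _ = ⁅u, v⁆ ^ 2 := by rw [hcentral u hu _ hz, mul_inv_cancel_right, pow_two]
    rw [← e, commutatorElement_eq_one_iff_mul_comm]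
    exact (hcentral v hv _ (hsq u hu)).symm
  apply Cfsg.Agent.Coprime.le_centralizer_of_commutator_commutator_eq_bot hAP hcopP (Or.inr hsolv)
  rw [Cfsg.Agent.Coprime.commutator_eq_bot_iff_le_centralizer']
  intro b hb
  rw [Subgroup.mem_centralizer_iff]
  intro w hw
  have hgen : ⁅P, A⁆ ≤ Subgroup.centralizer ({b} : Set G) := by
    rw [Subgroup.commutator_le]
    intro u hu a ha
    rw [Subgroup.mem_centralizer_singleton_iff]
    have haP : ∀ y ∈ P, a * y * a⁻¹ ∈ P := fun y hy =>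
      (Subgroup.mem_normalizer_iff.mp (hAP ha) y).mp hy
    set d := ⁅u, a⁆ with hd
    have hdP : d ∈ P := by
      rw [hd, commutatorElement_def, show u * a * u⁻¹ * a⁻¹ = u * (a * u⁻¹ * a⁻¹) by group]
      exact mul_mem hu (haP _ (inv_mem hu))
    have hua : a * u * a⁻¹ = d⁻¹ * u := by rw [hd, commutatorElement_def]; group
    have hfx : a * (u ^ 2) * a⁻¹ = u ^ 2 := by
      rw [← Subgroup.mem_centralizer_iff.mp (hAFc ha) _ (hsq u hu), mul_inv_cancel_right]
    rw [← conj_pow, hua, pow_two, pow_two] at hfx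
    have hcc : u * d⁻¹ = ⁅u, d⁻¹⁆ * (d⁻¹ * u) := by rw [commutatorElement_def]; group
    have hzF : ⁅u, d⁻¹⁆ ∈ F := hderF (Subgroup.commutator_mem_commutator hu (inv_mem hdP))
    have h5 : d⁻¹ ^ 2 * ⁅u, d⁻¹⁆ = 1 := by
      have h6 : d⁻¹ * u * (d⁻¹ * u) = d⁻¹ ^ 2 * ⁅u, d⁻¹⁆ * (u * u) := by
        calc d⁻¹ * u * (d⁻¹ * u) = d⁻¹ * (u * d⁻¹) * u := by group
          _ = d⁻¹ * (⁅u, d⁻¹⁆ * d⁻¹) * u * u := by rw [hcc]; group
          _ = d⁻¹ * (d⁻¹ * ⁅u, d⁻¹⁆) * u * u := by rw [hcentral _ (inv_mem hdP) _ hzF]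
          _ = _ := by rw [pow_two]; group
      rw [h6] at hfx
      simpa using hfx
    have hd4 : d ^ 4 = 1 := by
      have h7 : d⁻¹ ^ 2 = ⁅u, d⁻¹⁆⁻¹ := eq_inv_of_mul_eq_one_left h5
      rw [← inv_inj, inv_one, ← inv_pow, show (4 : ℕ) = 2 * 2 from rfl, pow_mul, h7, inv_pow,
        hcomm2 u hu _ (inv_mem hdP), inv_one]
    exact (hfix d hdP hd4 b hb).symm
  exact Subgroup.mem_centralizer_singleton_iff.mp (hgen hw)

end Cfsg.Agent.GStructB.FixTwo
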