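import Mathlib
import Cfsg.Prelude.Def_Local
import Cfsg.Prelude.Def_Characters
import Cfsg.Agent.Lib.CharTheory.Basics
import Cfsg.Agent.Lib.CharTheory.Extraspecial
import Cfsg.Agent.Lib.Characters.Kernel
import Cfsg.Agent.Lib.Characters.Integrality
import Cfsg.Agent.Lib.PLocal.PSolvable
import Cfsg.Agent.Lib.Cores.Basic
import Cfsg.Agent.Lib.Coprime.Commutator
import Cfsg.Agent.Lib.Coprime.Sylow

/-!
# Faithful characters of degree below `p`

If a `p`-solvable group has a faithful character of degree `n < p` and a non-normal Sylow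
`p`-subgroup, then some `q`-subgroup `Q` normalized by a Sylow `p`-subgroup carries an invariant
irreducible constituent whose degree `d` satisfies `d ^ 2 ≡ 1 [MOD p]` with `1 < d`.
-/

set_option autoImplicit false
set_option linter.style.haveILetI false
set_option linter.unusedSectionVars false

namespace Cfsg.Agent.GStructB.SmallDegreePSolvable

open Cfsg.Agent.Characters
open Cfsg.Agent.CharTheory
open scoped commutatorElement ComplexConjugate

universe u

variable {G : Type u} [Group G] [Finite G] {p : ℕ}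

/-- A `p`-group of degree less than `p` is abelian. -/
theorem sylow_comm [hp : Fact p.Prime] {χ : G → ℂ} (hχ : Cfsg.IsCharacter G χ)
    (hf : ∀ g : G, χ g = χ 1 → g = 1) {n : ℕ} (hn : χ 1 = (n : ℂ)) (hnp : n < p)
    {P : Subgroup G} (hP : IsPGroup p P) : ∀ a ∈ P, ∀ b ∈ P, a * b = b * a := by
  classical
  haveI := Fintype.ofFinite P
  haveI := Fintype.ofFinite (Cfsg.IrrCharacter P)
  intro a ha b hb
  have hres : Cfsg.IsCharacter P (fun x : P => χ x) := isCharacter_restrict P hχ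
  obtain ⟨m, hm⟩ := char_eq_sum_nat hres
  have hlin : ∀ ψ : Cfsg.IrrCharacter P, m ψ ≠ 0 → (ψ : P → ℂ) 1 = 1 := by
    intro ψ hψ
    obtain ⟨d, hd, hd'⟩ := irr_one_pos ψ.2
    have hmem : Cfsg.classInner (fun x : P => χ x) (ψ : P → ℂ) = (m ψ : ℂ) := by
      rw [hm, classInner_sum_left, Finset.sum_eq_single ψ]
      · rw [classInner_smul_left, classInner_isIrr_self ψ.2, mul_one]
      · intro φ _ hne
        rw [classInner_smul_left, classInner_isIrr_ne φ.2 ψ.2
          (fun h => hne (Subtype.ext h)), mul_zero]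
      · simp
    have hle := Basics.degree_le hres ψ.2 hmem (show (fun x : P => χ x) 1 = (n : ℂ) by simpa using hn)
      hd'
    obtain ⟨e, he⟩ := IsPGroup.iff_card.mp hP
    obtain ⟨d', hd'', -, hdvd⟩ := irr_degree_dvd_card ψ.2
    obtain rfl : d = d' := Nat.cast_injective (R := ℂ) (hd'.symm.trans hd'')
    rw [he] at hdvd
    obtain ⟨i, -, rfl⟩ := (Nat.dvd_prime_pow hp.out).mp hdvd
    rcases i with _ | i
    · simpa using hd'
    · exfalso
      have h1 : p ≤ p ^ (i + 1) := Nat.le_self_pow (by omega) p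
      have h2 : p ^ (i + 1) ≤ m ψ * p ^ (i + 1) :=
        Nat.le_mul_of_pos_left _ (Nat.pos_of_ne_zero hψ)
      omega
  have hc : χ (a * b * a⁻¹ * b⁻¹) = χ 1 := by
    have h := congrFun hm (⟨a, ha⟩ * ⟨b, hb⟩ * (⟨a, ha⟩ : P)⁻¹ * (⟨b, hb⟩ : P)⁻¹)
    have h1 := congrFun hm (1 : P)
    simp only [Finset.sum_apply, Pi.smul_apply, smul_eq_mul] at h h1
    have he : χ (a * b * a⁻¹ * b⁻¹) = ∑ ψ : Cfsg.IrrCharacter P, (m ψ : ℂ) *
        (ψ : P → ℂ) (⟨a, ha⟩ * ⟨b, hb⟩ * (⟨a, ha⟩ : P)⁻¹ * (⟨b, hb⟩ : P)⁻¹) := by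
      simpa using h
    rw [he, show χ 1 = ∑ ψ : Cfsg.IrrCharacter P, (m ψ : ℂ) * (ψ : P → ℂ) 1 by simpa using h1]
    refine Finset.sum_congr rfl fun ψ _ => ?_
    by_cases hψ : m ψ = 0
    · simp [hψ]
    congr 1
    have h1 := hlin ψ hψ
    have hc := irr_isCharacter ψ
    have hmul := char_mul_of_degree_one hc h1
    have hinv : ∀ x : P, (ψ : P → ℂ) x * (ψ : P → ℂ) x⁻¹ = 1 := fun x => by
      rw [← hmul, mul_inv_cancel, h1]
    rw [hmul, hmul, hmul, h1]
    linear_combination ((ψ : P → ℂ) ⟨b, hb⟩ * (ψ : P → ℂ) (⟨b, hb⟩ : P)⁻¹) * hinv ⟨a, ha⟩ +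
      hinv ⟨b, hb⟩
  exact mul_inv_eq_one.mp (by simpa [mul_assoc] using hf _ hc) |>.trans rfl

/-- An abelian Sylow subgroup of a `p`-solvable group is normal modulo `O_{p'}`, so it acts
non-trivially on some invariant `q`-subgroup unless it is normal. -/
theorem exists_noncentral [hp : Fact p.Prime] (hs : Cfsg.IsPSolvable p G) (P : Sylow p G)
    (hab : ∀ a ∈ (P : Subgroup G), ∀ b ∈ (P : Subgroup G), a * b = b * a)
    (hP : ¬ (P : Subgroup G).Normal) :
    ∃ q : ℕ, q.Prime ∧ q ≠ p ∧ ∃ Q : Subgroup G, IsPGroup q Q ∧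
      (P : Subgroup G) ≤ Subgroup.normalizer (Q : Set G) ∧
      ¬ (P : Subgroup G) ≤ Subgroup.centralizer (Q : Set G) := by
  classical
  set N := Cfsg.pPrimeCore p G with hN
  haveI : N.Normal := inferInstance
  have hNp : (Nat.card N).Coprime p := Cores.pPrimeCore_card_coprime p
  -- the image of `P` is the `p`-core of the quotient
  let Pb : Sylow p (G ⧸ N) := P.mapSurjective (QuotientGroup.mk'_surjective N)
  have habb : ∀ x ∈ (Pb : Subgroup (G ⧸ N)), ∀ y ∈ (Pb : Subgroup (G ⧸ N)), x * y = y * x := by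
    rintro _ ⟨a, ha, rfl⟩ _ ⟨b, hb, rfl⟩
    rw [← map_mul, ← map_mul, hab a ha b hb]
  have hsq : Cfsg.IsPSolvable p (G ⧸ N) := PLocal.PSolvable.quotient hs N
  have hcent := PLocal.PSolvable.centralizer_pCore_le (G := G ⧸ N) (p := p)
    (Cores.pPrimeCore_quotient_self p) (PLocal.PSolvable.subgroup hsq _)
  have hcore : Cfsg.pCore p (G ⧸ N) ≤ (Pb : Subgroup (G ⧸ N)) := Cores.pCore_le_sylow Pb
  have hPb : (Pb : Subgroup (G ⧸ N)) ≤ Cfsg.pCore p (G ⧸ N) := by
    refine le_trans (fun x hx => Subgroup.mem_centralizer_iff.mpr fun y hy => ?_) hcent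
    exact habb y (hcore hy) x hx
  have hPbn : (Pb : Subgroup (G ⧸ N)).Normal := by
    rw [le_antisymm hPb hcore]; infer_instance
  have hM : (((Pb : Subgroup (G ⧸ N))).comap (QuotientGroup.mk' N)).Normal := hPbn.comap _
  -- `P` does not centralize `N`
  have hnc : ¬ (P : Subgroup G) ≤ Subgroup.centralizer (N : Set G) := by
    intro hPN
    apply hP
    set M := ((Pb : Subgroup (G ⧸ N))).comap (QuotientGroup.mk' N) with hMdef
    have hPM : (P : Subgroup G) ≤ M := fun x hx => ⟨x, hx, rfl⟩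
    have hMn : M ≤ Subgroup.normalizer ((P : Subgroup G) : Set G) := by
      intro x hx
      obtain ⟨a, ha, hax⟩ := hx
      have hmem : a⁻¹ * x ∈ N := (QuotientGroup.eq (s := N)).mp hax
      rw [show x = a * (a⁻¹ * x) by group]
      refine mul_mem (Subgroup.le_normalizer ha) (Subgroup.mem_normalizer_fintype
        (S := ((P : Subgroup G) : Set G)) fun y hy => ?_)
      have hc := Subgroup.mem_centralizer_iff.mp (hPN hy) _ hmem
      rw [SetLike.mem_coe, hc, mul_inv_cancel_right]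
      exact hy
    haveI : M.Normal := hM
    let PM : Sylow p M := P.subtype hPM
    haveI hPMn : (PM : Subgroup M).Normal := Subgroup.normal_subgroupOf_iff hPM |>.mpr
      fun h m hh hm => (Subgroup.mem_normalizer_iff.mp (hMn hm) h).mp hh
    haveI : (PM : Subgroup M).Characteristic := Sylow.characteristic_of_normal PM hPMn
    have h := Cores.normal_map_subtype M (PM : Subgroup M)
    rwa [show ((PM : Subgroup M)).map M.subtype = (P : Subgroup G) from
      Subgroup.map_subgroupOf_eq_of_le hPM] at h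
  -- pass to a prime
  by_contra hcon
  push Not at hcon
  apply hnc
  have hcop : (Nat.card (P : Subgroup G)).Coprime (Nat.card N) := by
    obtain ⟨e, he⟩ := IsPGroup.iff_card.mp P.isPGroup'
    rw [he]; exact Nat.Coprime.pow_left e hNp.symm
  have hsolv : Group.IsSolvable (P : Subgroup G) :=
    Coprime.isSolvable_of_isPGroup P.isPGroup'
  have hPnN : (P : Subgroup G) ≤ Subgroup.normalizer (N : Set G) := fun x _ => by
    rw [Subgroup.normalizer_eq_top (H := N)]; exact Subgroup.mem_top x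
  let S := (Subgroup.centralizer ((P : Subgroup G) : Set G)).subgroupOf N
  have hS : S = ⊤ := by
    apply Subgroup.eq_top_of_card_eq
    refine Nat.dvd_antisymm (Subgroup.card_subgroup_dvd_card _) ?_
    rw [← Nat.factorization_prime_le_iff_dvd Nat.card_pos.ne' Nat.card_pos.ne']
    intro q hq
    haveI : Fact q.Prime := ⟨hq⟩
    by_cases hqN : q ∣ Nat.card N
    swap
    · rw [Nat.factorization_eq_zero_of_not_dvd hqN]; exact Nat.zero_le _
    obtain ⟨Q, hQ⟩ := Coprime.exists_invariant_sylow q hPnN hcop (Or.inl hsolv)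
    have hqp : q ≠ p := fun h => hp.out.coprime_iff_not_dvd.mp hNp.symm (h ▸ hqN)
    have hc := hcon q hq hqp _ (Q.isPGroup'.map N.subtype) hQ
    have hQS : (Q : Subgroup N) ≤ S := fun x hx => by
      refine Subgroup.mem_subgroupOf.mpr (Subgroup.mem_centralizer_iff.mpr fun y hy => ?_)
      exact (Subgroup.mem_centralizer_iff.mp (hc hy) _ ⟨x, hx, rfl⟩).symm
    have hd := Subgroup.card_dvd_of_le hQS
    rw [Q.card_eq_multiplicity] at hd
    exact (Nat.Prime.pow_dvd_iff_le_factorization hq Nat.card_pos.ne').mp hd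
  intro y hy
  rw [Subgroup.mem_centralizer_iff]
  intro x hx
  have : (⟨x, hx⟩ : N) ∈ S := hS ▸ Subgroup.mem_top _
  exact (Subgroup.mem_centralizer_iff.mp (Subgroup.mem_subgroupOf.mp this) y hy).symm

section Minimal

variable (P Q : Subgroup G)

/-- `Q` is a minimal `P`-invariant `q`-subgroup not centralized by `P`. -/
structure MinPair (q : ℕ) : Prop where
  grp : IsPGroup q Q
  inv : P ≤ Subgroup.normalizer (Q : Set G)
  ncent : ¬ P ≤ Subgroup.centralizer (Q : Set G)
  minimal : ∀ R : Subgroup G, R < Q → P ≤ Subgroup.normalizer (R : Set G) →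
    P ≤ Subgroup.centralizer (R : Set G)

variable {P Q} {q : ℕ} [hq : Fact q.Prime] (h : MinPair P Q q)
include h

theorem MinPair.commutator_eq (hcop : (Nat.card P).Coprime (Nat.card Q)) : ⁅Q, P⁆ = Q := by
  have hsolv : Group.IsSolvable Q := Coprime.isSolvable_of_isPGroup h.grp
  have hle := Coprime.commutator_le_of_le_normalizer h.inv
  by_contra hne
  refine h.ncent (Coprime.le_centralizer_of_commutator_commutator_eq_bot h.inv hcop (Or.inr hsolv)
    (Coprime.commutator_eq_bot_iff_le_centralizer'.mpr (h.minimal _ (lt_of_le_of_ne hle hne) ?_)))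
  exact Subgroup.normalizer_commutator_ge_right Q P

omit hq in
theorem MinPair.centralizes_derived [Fact q.Prime] : P ≤ Subgroup.centralizer ((⁅Q, Q⁆ : Subgroup G) : Set G) := by
  have hQne : Q ≠ ⊥ := fun h0 => h.ncent (by
    subst h0
    intro y _
    rw [Subgroup.mem_centralizer_iff]
    intro x hx
    rw [Subgroup.mem_bot.mp hx, one_mul, mul_one])
  refine h.minimal _ (Coprime.commutator_lt_of_isSolvable (Coprime.isSolvable_of_isPGroup h.grp) hQne)
    fun a ha => ?_
  have hfix : Q.map (MulAut.conj a).toMonoidHom = Q := by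
    rw [← Coprime.conj_smul_eq_map]; exact Coprime.conj_smul_eq_self_iff.mpr (h.inv ha)
  rw [← Coprime.conj_smul_eq_self_iff, Coprime.conj_smul_eq_map, Subgroup.map_commutator, hfix]

theorem MinPair.derived_central (hcop : (Nat.card P).Coprime (Nat.card Q)) :
    ∀ c ∈ ⁅Q, Q⁆, ∀ y ∈ Q, c * y = y * c := by
  have h1 : ⁅⁅Q, Q⁆, P⁆ = ⊥ :=
    Coprime.commutator_eq_bot_iff_le_centralizer'.mpr h.centralizes_derived
  have hQ' : ⁅⁅Q, Q⁆, Q⁆ ≤ ⁅Q, Q⁆ := Subgroup.commutator_mono (Subgroup.commutator_le_self Q) le_rfl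
  have hb : ⁅⁅P, Q⁆, ⁅Q, Q⁆⁆ = ⊥ := by
    refine Subgroup.commutator_commutator_eq_bot_of_rotate ?_ ?_
    · rw [Subgroup.commutator_comm Q ⁅Q, Q⁆]
      refine le_bot_iff.mp ?_
      exact le_trans (Subgroup.commutator_mono hQ' le_rfl) h1.le
    · rw [h1]; exact Subgroup.commutator_bot_left _
  rw [Subgroup.commutator_comm P Q, h.commutator_eq hcop, Subgroup.commutator_comm,
    Subgroup.commutator_eq_bot_iff_le_centralizer] at hb
  intro c hc y hy
  exact (Subgroup.mem_centralizer_iff.mp (hb hc) y hy).symm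

end Minimal

/-- The automorphism of `Q` given by an element normalizing it. -/
noncomputable def conjOn (Q : Subgroup G) (u : G) (hu : u ∈ Subgroup.normalizer (Q : Set G)) :
    Q ≃* Q where
  toFun x := ⟨u * x * u⁻¹, (Subgroup.mem_normalizer_iff.mp hu x).mp x.2⟩
  invFun x := ⟨u⁻¹ * x * u, by
    have := (Subgroup.mem_normalizer_iff.mp (inv_mem hu) x).mp x.2
    simpa using this⟩
  left_inv x := Subtype.ext (by simp [mul_assoc])
  right_inv x := Subtype.ext (by simp [mul_assoc])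
  map_mul' x y := Subtype.ext (by simp [mul_assoc])

omit [Finite G] in
theorem conjOn_apply (Q : Subgroup G) (u : G) (hu : u ∈ Subgroup.normalizer (Q : Set G)) (x : Q) :
    ((conjOn Q u hu x : Q) : G) = u * x * u⁻¹ := rfl

/-- A constituent of the restriction to `Q` of a character of degree `< p` is fixed by a
`p`-element normalizing `Q`. -/
theorem constituent_invariant [hp : Fact p.Prime] {χ : G → ℂ} (hχ : Cfsg.IsCharacter G χ) {n : ℕ}
    (hn : χ 1 = (n : ℂ)) (hnp : n < p) (Q : Subgroup G) [Fintype Q] {u : G}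
    (hu : u ∈ Subgroup.normalizer (Q : Set G)) {k : ℕ} (hk : u ^ (p ^ k) = 1) {θ : Q → ℂ}
    (hθ : Cfsg.IsIrrCharacter Q θ) (hc : Cfsg.classInner (fun x : Q => χ x) θ ≠ 0) :
    θ ∘ conjOn Q u hu = θ := by
  classical
  haveI := Fintype.ofFinite (Cfsg.IrrCharacter Q)
  set e := conjOn Q u hu
  have hres : Cfsg.IsCharacter Q (fun x : Q => χ x) := isCharacter_restrict Q hχ
  have hinv : (fun x : Q => χ x) ∘ e = (fun x : Q => χ x) := by
    funext x
    exact char_isClassFunction hχ (x : G) u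
  obtain ⟨m, hm⟩ := char_eq_sum_nat hres
  have hmψ : ∀ ψ : Cfsg.IrrCharacter Q,
      Cfsg.classInner (fun x : Q => χ x) (ψ : Q → ℂ) = (m ψ : ℂ) := by
    intro ψ
    rw [hm, classInner_sum_left, Finset.sum_eq_single ψ]
    · rw [classInner_smul_left, classInner_isIrr_self ψ.2, mul_one]
    · intro φ _ hne
      rw [classInner_smul_left, classInner_isIrr_ne φ.2 ψ.2
        (fun h => hne (Subtype.ext h)), mul_zero]
    · simp
  let S : Finset (Cfsg.IrrCharacter Q) := Finset.univ.filter fun ψ => m ψ ≠ 0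
  have hcard : S.card ≤ n := by
    have h1 := congrFun hm (1 : Q)
    simp only [Finset.sum_apply, Pi.smul_apply, smul_eq_mul] at h1
    choose d hd0 hd using fun ψ : Cfsg.IrrCharacter Q => irr_one_pos ψ.2
    have h2 : n = ∑ ψ : Cfsg.IrrCharacter Q, m ψ * d ψ := by
      apply Nat.cast_injective (R := ℂ)
      rw [← hn, show χ 1 = ∑ ψ : Cfsg.IrrCharacter Q, (m ψ : ℂ) * (ψ : Q → ℂ) 1 by simpa using h1]
      push_cast
      exact Finset.sum_congr rfl fun ψ _ => by rw [hd]
    rw [h2, Finset.card_eq_sum_ones]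
    refine le_trans (Finset.sum_le_sum fun ψ hψ => ?_)
      (Finset.sum_le_sum_of_subset (Finset.subset_univ _))
    exact Nat.one_le_iff_ne_zero.mpr
      (Nat.mul_ne_zero (Finset.mem_filter.mp hψ).2 (hd0 ψ).ne')
  -- the permutation of all irreducible characters
  let σ : Cfsg.IrrCharacter Q → Cfsg.IrrCharacter Q := fun ψ =>
    ⟨(ψ : Q → ℂ) ∘ e, Basics.isIrrCharacter_comp_equiv e ψ.2⟩
  have hσm : ∀ ψ, m (σ ψ) = m ψ := by
    intro ψ
    apply Nat.cast_injective (R := ℂ)
    rw [← hmψ, ← hmψ]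
    have := Basics.classInner_comp_equiv e (fun x : Q => χ x) (ψ : Q → ℂ)
    rwa [hinv] at this
  have hσS : ∀ ψ ∈ S, σ ψ ∈ S := fun ψ hψ => Finset.mem_filter.mpr
    ⟨Finset.mem_univ _, by rw [hσm]; exact (Finset.mem_filter.mp hψ).2⟩
  let τ : S → S := fun ψ => ⟨σ ψ.1, hσS _ ψ.2⟩
  have hiter : ∀ (j : ℕ) (ψ : S) (x : Q),
      ((τ^[j] ψ).1 : Q → ℂ) x = (ψ.1 : Q → ℂ) ((e : Q → Q)^[j] x) := by
    intro j
    induction j with
    | zero => intro ψ x; rfl
    | succ j ih =>
      intro ψ x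
      rw [Function.iterate_succ_apply, ih]
      show (ψ.1 : Q → ℂ) (e ((e : Q → Q)^[j] x)) = _
      rw [Function.iterate_succ_apply' (⇑e)]
  have heiter : ∀ (j : ℕ) (x : Q), (((e : Q → Q)^[j] x : Q) : G) = u ^ j * x * (u ^ j)⁻¹ := by
    intro j
    induction j with
    | zero => intro x; simp
    | succ j ih =>
      intro x
      rw [Function.iterate_succ_apply']
      show u * (((e : Q → Q)^[j] x : Q) : G) * u⁻¹ = _
      rw [ih, pow_succ']
      group
  have hper : ∀ ψ : S, Function.IsPeriodicPt τ (p ^ k) ψ := fun ψ => by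
    refine Subtype.ext (Subtype.ext (funext fun x => ?_))
    rw [hiter]
    refine congrArg _ (Subtype.ext ?_)
    rw [heiter, hk, one_mul, inv_one, mul_one]
  have hfix : ∀ ψ : S, τ ψ = ψ := by
    intro ψ
    have hd := (hper ψ).minimalPeriod_dvd
    obtain ⟨i, -, hi⟩ := (Nat.dvd_prime_pow hp.out).mp hd
    rcases i with _ | i
    · exact Function.minimalPeriod_eq_one_iff_isFixedPt.mp (by simpa using hi)
    · exfalso
      have hle : Function.minimalPeriod τ ψ ≤ Fintype.card S := by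
        have hinj : Function.Injective fun j : Fin (Function.minimalPeriod τ ψ) => τ^[(j : ℕ)] ψ :=
          fun i j hij => Fin.ext (Function.iterate_injOn_Iio_minimalPeriod i.2 j.2 hij)
        simpa using Fintype.card_le_of_injective _ hinj
      rw [Fintype.card_coe, hi] at hle
      have h1 : p ≤ p ^ (i + 1) := Nat.le_self_pow (by omega) p
      omega
  have hθS : (⟨θ, hθ⟩ : Cfsg.IrrCharacter Q) ∈ S := Finset.mem_filter.mpr
    ⟨Finset.mem_univ _, fun h0 => hc (by rw [hmψ ⟨θ, hθ⟩, h0, Nat.cast_zero])⟩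
  exact congrArg (fun ψ : S => (ψ.1 : Q → ℂ)) (hfix ⟨_, hθS⟩)

/-- The heart of the argument: an invariant irreducible character of a minimal pair, nontrivial on
`Q`, has degree `d > 1` a power of `q` with `d ^ 2 ≡ 1` modulo `p`. -/
theorem degree_of_invariant [hp : Fact p.Prime] {q : ℕ} [hq : Fact q.Prime] (hqp : q ≠ p)
    {P Q : Subgroup G} [Fintype Q] (hP : IsPGroup p P) (h : MinPair P Q q) {θ : Q → ℂ}
    (hθ : Cfsg.IsIrrCharacter Q θ) (hne : ∃ x, θ x ≠ θ 1)
    (hinv : ∀ u, ∀ hu : u ∈ P, θ ∘ conjOn Q u (h.inv hu) = θ) :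
    ∃ d k : ℕ, θ 1 = (d : ℂ) ∧ 1 < d ∧ d = q ^ k ∧ d ^ 2 ≡ 1 [MOD p] := by
  classical
  obtain ⟨e, he⟩ := IsPGroup.iff_card.mp hP
  obtain ⟨e', he'⟩ := IsPGroup.iff_card.mp h.grp
  have hcop : (Nat.card P).Coprime (Nat.card Q) := by
    rw [he, he']
    exact ((Nat.coprime_primes hp.out hq.out).mpr hqp.symm).pow e e'
  have hθc := isCharacter_of_isIrr hθ
  have hcl := char_isClassFunction hθc
  obtain ⟨d, hd0, hd⟩ := irr_one_pos hθ
  set K := charKernel θ hθc
  haveI : K.Normal := charKernel_normal hθc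
  -- commutators in `Q`
  have hcen : ∀ x y : Q, ⁅x, y⁆ ∈ Subgroup.center Q := fun x y => by
    rw [Subgroup.mem_center_iff]
    intro z
    exact Subtype.ext ((MinPair.derived_central h hcop _
      (Subgroup.commutator_mem_commutator x.2 y.2) z z.2).symm)
  have hfixc : ∀ u, ∀ hu : u ∈ P, ∀ x y : Q, conjOn Q u (h.inv hu) ⁅x, y⁆ = ⁅x, y⁆ := by
    intro u hu x y
    apply Subtype.ext
    rw [conjOn_apply]
    have := Subgroup.mem_centralizer_iff.mp (MinPair.centralizes_derived h hu)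
      ((⁅x, y⁆ : Q) : G) (Subgroup.commutator_mem_commutator x.2 y.2)
    rw [← this, mul_inv_cancel_right]
  -- `Z` : central modulo the kernel
  set Z := (Subgroup.center (Q ⧸ K)).comap (QuotientGroup.mk' K) with hZdef
  haveI : Z.Normal := inferInstance
  have hZ : ∀ z : Q, z ∈ Z ↔ ∀ y : Q, ⁅z, y⁆ ∈ K := by
    intro z
    rw [hZdef, Subgroup.mem_comap, Subgroup.mem_center_iff]
    constructor
    · intro hz y
      rw [← QuotientGroup.eq_one_iff]
      show (QuotientGroup.mk' K) ⁅z, y⁆ = 1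
      rw [map_commutatorElement, commutatorElement_eq_one_iff_mul_comm, hz]
    · intro hz y
      induction y using QuotientGroup.induction_on with
      | H y =>
        have h1 := (QuotientGroup.eq_one_iff (N := K) _).mpr (hz y)
        change (QuotientGroup.mk' K) ⁅z, y⁆ = 1 at h1
        rw [map_commutatorElement, commutatorElement_eq_one_iff_mul_comm] at h1
        exact h1.symm
  -- values
  have hoff : ∀ z : Q, z ∉ Z → θ z = 0 := by
    intro z hz
    rw [hZ, not_forall] at hz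
    obtain ⟨y, hy⟩ := hz
    obtain ⟨c, hc⟩ := Extraspecial.central_scalar hθ (hcen z y)
    have hyc : y * z * y⁻¹ * ⁅z, y⁆ = z := by
      rw [Subgroup.mem_center_iff.mp (hcen z y) (y * z * y⁻¹), commutatorElement_def]; group
    have h1 : θ z = c * θ z := by
      conv_lhs => rw [← hyc, hc, hcl z y]
    by_contra h0
    refine hy (mem_charKernel.mpr ?_)
    have hc1 : c = 1 := mul_right_cancel₀ h0 (h1.symm.trans (one_mul _).symm)
    simpa [hc1] using hc 1
  obtain ⟨ψ, -, hψ, hψi⟩ := exists_deflate_quotient K hθc (fun x hx => mem_charKernel.mp hx)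
  have hscal : ∀ z ∈ Z, ∃ c : ℂ, ∀ x : Q, θ (x * z) = c * θ x := by
    intro z hz
    obtain ⟨c, hc⟩ := Extraspecial.central_scalar (hψi hθ) (z := (QuotientGroup.mk' K) z) hz
    exact ⟨c, fun x => by rw [← hψ, ← hψ, QuotientGroup.mk_mul]; exact hc _⟩
  have hnorm : ∀ w ∈ Z, θ w * conj (θ w) = (d : ℂ) ^ 2 := by
    intro w hw
    obtain ⟨c, hc⟩ := hscal w hw
    have h1 := hc w⁻¹
    rw [inv_mul_cancel, char_inv hθc, hd] at h1
    have h2 : θ w = c * d := by simpa [hd] using hc 1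
    rw [h2, map_mul, Complex.conj_natCast] at h1
    rw [h2, map_mul, Complex.conj_natCast]
    linear_combination (-(d : ℂ)) * h1
  have hcardZ : Nat.card Q = Nat.card Z * d ^ 2 := by
    have h1 := classInner_isIrr_self hθ
    rw [classInner_def, inv_mul_eq_one₀ natCard_ne_zero] at h1
    rw [← Finset.sum_filter_add_sum_filter_not Finset.univ (· ∈ Z),
      Finset.sum_congr rfl (g := fun _ => (d : ℂ) ^ 2) (fun w hw => hnorm w (Finset.mem_filter.1 hw).2),
      Finset.sum_eq_zero (s := Finset.univ.filter fun w => ¬ w ∈ Z)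
        (fun w hw => by rw [hoff w (Finset.mem_filter.1 hw).2, zero_mul]),
      add_zero, Finset.sum_const, nsmul_eq_mul, ← Fintype.card_subtype,
      ← Nat.card_eq_fintype_card] at h1
    exact_mod_cast h1
  have hindex : Z.index = d ^ 2 :=
    Nat.eq_of_mul_eq_mul_left Nat.card_pos (Z.card_mul_index.trans hcardZ)
  -- `θ` is not linear
  have hd1 : 1 < d := by
    rcases Nat.lt_or_ge 1 d with h1 | h1
    · exact h1
    exfalso
    obtain rfl : d = 1 := le_antisymm h1 hd0
    rw [Nat.cast_one] at hd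
    have hmul := char_mul_of_degree_one hθc hd
    obtain ⟨x, hx⟩ := hne
    apply hx
    suffices hle : ⁅Q, P⁆ ≤ K.map Q.subtype by
      rw [MinPair.commutator_eq h hcop] at hle
      obtain ⟨y, hy, hyx⟩ := hle x.2
      rw [← Subtype.ext hyx]
      exact mem_charKernel.mp hy
    rw [Subgroup.commutator_le]
    intro a ha u hu
    refine ⟨⟨a, ha⟩ * (conjOn Q u (h.inv hu) ⟨a, ha⟩)⁻¹, mem_charKernel.mpr ?_, ?_⟩
    · have hu' := congrFun (hinv u hu) ⟨a, ha⟩
      rw [Function.comp_apply] at hu'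
      rw [hmul, char_inv hθc, hu', Basics.char_norm_eq_one hθc hd, hd]
    · simp [conjOn_apply, commutatorElement_def, mul_assoc]
  have hZne : ∀ u, ∀ hu : u ∈ P, ∀ z : Q, z ∈ Z → conjOn Q u (h.inv hu) z ∈ Z := by
    intro u hu z hz
    rw [hZ] at hz ⊢
    intro y
    rw [← (conjOn Q u (h.inv hu)).apply_symm_apply y, ← map_commutatorElement, hfixc u hu]
    exact hz _
  -- the action on `Q ⧸ Z`
  let φ : P → (Q ⧸ Z) →* (Q ⧸ Z) := fun u => QuotientGroup.map Z Z
    (conjOn Q u (h.inv u.2)).toMonoidHom (fun z hz => hZne u u.2 z hz)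
  have hφ : ∀ (u : P) (y : Q), φ u (y : Q ⧸ Z) = (conjOn Q u (h.inv u.2) y : Q ⧸ Z) :=
    fun u y => rfl
  letI : MulAction P (Q ⧸ Z) :=
    { smul := fun u x => φ u x
      one_smul := fun x => by
        induction x using QuotientGroup.induction_on with
        | H y =>
          show φ 1 (y : Q ⧸ Z) = y
          rw [hφ]; congr 1; exact Subtype.ext (by simp [conjOn_apply])
      mul_smul := fun u v x => by
        induction x using QuotientGroup.induction_on with
        | H y =>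
          show φ (u * v) (y : Q ⧸ Z) = φ u (φ v (y : Q ⧸ Z))
          rw [hφ, hφ, hφ]; congr 1; exact Subtype.ext (by simp [conjOn_apply, mul_assoc]) }
  have hfixed : ∀ x : Q ⧸ Z, x ∈ MulAction.fixedPoints P (Q ⧸ Z) → x = 1 := by
    intro x hx
    induction x using QuotientGroup.induction_on with
    | H y =>
      rw [QuotientGroup.eq_one_iff, hZ]
      let W : Subgroup Q :=
        { carrier := {w | ⁅y, w⁆ ∈ K}
          one_mem' := by simp
          mul_mem' := fun {a b} ha hb => by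
            show ⁅y, a * b⁆ ∈ K
            rw [show ⁅y, a * b⁆ = ⁅y, a⁆ * (a * ⁅y, b⁆ * a⁻¹) by
              simp only [commutatorElement_def]; group]
            exact mul_mem ha (Subgroup.Normal.conj_mem inferInstance _ hb a)
          inv_mem' := fun {a} ha => by
            show ⁅y, a⁻¹⁆ ∈ K
            rw [show ⁅y, a⁻¹⁆ = a⁻¹ * ⁅y, a⁆⁻¹ * a⁻¹⁻¹ by
              simp only [commutatorElement_def]; group]
            exact Subgroup.Normal.conj_mem inferInstance _ (inv_mem ha) a⁻¹ }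
      suffices hle : ⁅Q, P⁆ ≤ W.map Q.subtype by
        rw [MinPair.commutator_eq h hcop] at hle
        intro w
        obtain ⟨w', hw', hww⟩ := hle w.2
        rw [← Subtype.ext hww]
        exact hw'
      rw [Subgroup.commutator_le]
      intro a ha u hu
      refine ⟨⟨a, ha⟩ * (conjOn Q u (h.inv hu) ⟨a, ha⟩)⁻¹, ?_, ?_⟩
      swap
      · simp [conjOn_apply, commutatorElement_def, mul_assoc]
      show ⁅y, ⟨a, ha⟩ * (conjOn Q u (h.inv hu) ⟨a, ha⟩)⁻¹⁆ ∈ K
      set ε := conjOn Q u (h.inv hu) with hε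
      -- compute in the quotient by `K`
      rw [← QuotientGroup.eq_one_iff]
      show (QuotientGroup.mk' K) ⁅y, (⟨a, ha⟩ : Q) * (ε ⟨a, ha⟩)⁻¹⁆ = 1
      have hzc : ∀ z ∈ Z, ∀ w : Q, (QuotientGroup.mk' K) ⁅z, w⁆ = 1 := fun z hz w =>
        (QuotientGroup.eq_one_iff (N := K) _).mpr ((hZ z).mp hz w)
      have hyy : y⁻¹ * ε y ∈ Z := by
        have h2 := hx ⟨u, hu⟩
        change φ ⟨u, hu⟩ (y : Q ⧸ Z) = y at h2
        rw [hφ] at h2
        exact QuotientGroup.eq.mp h2.symm
      have hcy : ∀ w : Q,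
          (QuotientGroup.mk' K) ⁅ε y, w⁆ = (QuotientGroup.mk' K) ⁅y, w⁆ := by
        intro w
        rw [show ε y = y * (y⁻¹ * ε y) by group,
          show ⁅y * (y⁻¹ * ε y), w⁆ = y * ⁅y⁻¹ * ε y, w⁆ * y⁻¹ * ⁅y, w⁆ by
            simp only [commutatorElement_def]; group,
          map_mul, map_mul, map_mul, hzc _ hyy w, mul_one, ← map_mul, mul_inv_cancel, map_one,
          one_mul]
      have hB : ⁅y, (⟨a, ha⟩ : Q) * (ε ⟨a, ha⟩)⁻¹⁆ =
          ⁅y, ⟨a, ha⟩⁆ * ⁅y, ε ⟨a, ha⟩⁆⁻¹ := by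
        have h3 := Subgroup.mem_center_iff.mp (inv_mem (hcen y (ε ⟨a, ha⟩)))
          ((⟨a, ha⟩ : Q) * (ε ⟨a, ha⟩)⁻¹)
        calc _ = ⁅y, (⟨a, ha⟩ : Q)⁆ * (((⟨a, ha⟩ : Q) * (ε ⟨a, ha⟩)⁻¹) * ⁅y, ε ⟨a, ha⟩⁆⁻¹ *
              ((⟨a, ha⟩ : Q) * (ε ⟨a, ha⟩)⁻¹)⁻¹) := by simp only [commutatorElement_def]; group
          _ = _ := by rw [h3, mul_inv_cancel_right]
      rw [hB, map_mul, map_inv, ← hcy (ε ⟨a, ha⟩), ← map_commutatorElement ε, hε, hfixc u hu,
        mul_inv_cancel]
  have hmod := hP.card_modEq_card_fixedPoints (Q ⧸ Z)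
  have hone : Nat.card (MulAction.fixedPoints P (Q ⧸ Z)) = 1 := by
    rw [Nat.card_eq_one_iff_unique]
    refine ⟨⟨fun a b => Subtype.ext ((hfixed _ a.2).trans (hfixed _ b.2).symm)⟩, ⟨⟨1, ?_⟩⟩⟩
    intro u
    show φ u 1 = 1
    exact map_one _
  rw [hone, ← Subgroup.index_eq_card, hindex] at hmod
  -- `d` is a power of `q`
  obtain ⟨k, -, hk⟩ := (Nat.dvd_prime_pow hq.out).mp
    (show d ^ 2 ∣ q ^ e' from hindex ▸ he' ▸ Z.index_dvd_card)
  have hdq : d ∣ q ^ k := hk ▸ dvd_pow_self d (by norm_num)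
  obtain ⟨k', -, hk'⟩ := (Nat.dvd_prime_pow hq.out).mp hdq
  exact ⟨d, k', hd, hd1, hk', hmod⟩

/-- A faithful character of degree below `p` of a `p`-solvable group with non-normal Sylow
`p`-subgroup. -/
theorem main [hp : Fact p.Prime] {χ : G → ℂ} (hχ : Cfsg.IsCharacter G χ)
    (hf : ∀ g : G, χ g = χ 1 → g = 1) {n : ℕ} (hn : χ 1 = (n : ℂ)) (hs : Cfsg.IsPSolvable p G)
    (hnp : n + 1 ≤ p) (P : Sylow p G) (hP : ¬ (P : Subgroup G).Normal) :
    n + 1 = p ∧ (∃ k : ℕ, n = 2 ^ k) ∧ Cfsg.IsIrrCharacter G χ := by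
  classical
  haveI := Fintype.ofFinite G
  obtain ⟨q, hq, hqp, Q₀, hQ₀, hinv₀, hnc₀⟩ :=
    exists_noncentral hs P (sylow_comm hχ hf hn hnp P.isPGroup') hP
  haveI : Fact q.Prime := ⟨hq⟩
  obtain ⟨Q, -, ⟨hQg, hQi, hQn⟩, hQmin⟩ := Set.Finite.exists_le_minimal
    (Set.toFinite {R : Subgroup G | IsPGroup q R ∧
      (P : Subgroup G) ≤ Subgroup.normalizer (R : Set G) ∧
      ¬ (P : Subgroup G) ≤ Subgroup.centralizer (R : Set G)}) (a := Q₀) ⟨hQ₀, hinv₀, hnc₀⟩
  have h : MinPair (P : Subgroup G) Q q := ⟨hQg, hQi, hQn, fun R hR hRi => by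
    by_contra hc
    exact hR.not_ge (hQmin ⟨hQg.to_le hR.le, hRi, hc⟩ hR.le)⟩
  haveI := Fintype.ofFinite Q
  haveI := Fintype.ofFinite (Cfsg.IrrCharacter Q)
  have hres : Cfsg.IsCharacter Q (fun x : Q => χ x) := isCharacter_restrict Q hχ
  obtain ⟨θ, hθ, hc, hne⟩ : ∃ θ : Q → ℂ, Cfsg.IsIrrCharacter Q θ ∧
      Cfsg.classInner (fun x : Q => χ x) θ ≠ 0 ∧ ∃ x, θ x ≠ θ 1 := by
    by_contra hcon
    push Not at hcon
    apply h.ncent
    suffices hQ : Q = ⊥ by
      rw [hQ]
      intro y _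
      rw [Subgroup.mem_centralizer_iff]
      intro x hx
      rw [Subgroup.mem_bot.mp hx, one_mul, mul_one]
    refine (Subgroup.eq_bot_iff_forall _).mpr fun x hx => hf x ?_
    have hsum := classFun_eq_sum (char_isClassFunction hres)
    have h1 := congrFun hsum ⟨x, hx⟩
    have h2 := congrFun hsum 1
    simp only [Finset.sum_apply, Pi.smul_apply, smul_eq_mul, OneMemClass.coe_one] at h1 h2
    rw [h1, h2]
    refine Finset.sum_congr rfl fun ψ _ => ?_
    by_cases h0 : Cfsg.classInner (fun x : Q => χ x) (ψ : Q → ℂ) = 0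
    · rw [h0, zero_mul, zero_mul]
    · rw [hcon ψ ψ.2 h0 ⟨x, hx⟩]
  have hinv : ∀ u, ∀ hu : u ∈ (P : Subgroup G), θ ∘ conjOn Q u (h.inv hu) = θ := by
    intro u hu
    obtain ⟨k, hk⟩ := P.isPGroup' ⟨u, hu⟩
    exact constituent_invariant hχ hn (by omega) Q (h.inv hu) (k := k)
      (congrArg Subtype.val hk) hθ hc
  obtain ⟨d, k, hd, hd1, hdk, hmod⟩ := degree_of_invariant hqp P.isPGroup' h hθ hne hinv
  obtain ⟨m, hm⟩ := classInner_char_nat hres (isCharacter_of_isIrr hθ)
  have hm0 : m ≠ 0 := fun h0 => hc (by rw [hm, h0, Nat.cast_zero])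
  have hmd := Basics.degree_le hres hθ hm (show (fun x : Q => χ x) 1 = (n : ℂ) by simpa using hn) hd
  have hdn : d ≤ n := le_trans (Nat.le_mul_of_pos_left d (Nat.pos_of_ne_zero hm0)) hmd
  have hdp : d + 1 = p := by
    obtain ⟨d', rfl⟩ : ∃ d', d = d' + 1 := ⟨d - 1, by omega⟩
    have hdvd := (Nat.modEq_iff_dvd' (Nat.one_le_pow _ _ (by omega))).mp hmod.symm
    rw [show (d' + 1) ^ 2 - 1 = d' * (d' + 2) by
      rw [show (d' + 1) ^ 2 = d' * (d' + 2) + 1 by ring]; omega] at hdvd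
    rcases hp.out.dvd_mul.mp hdvd with h1 | h1
    · exact absurd (Nat.le_of_dvd (by omega) h1) (by omega)
    · have := Nat.le_of_dvd (by omega) h1
      omega
  have hn' : n + 1 = p := by omega
  have hdn' : d = n := by omega
  refine ⟨hn', ⟨k, ?_⟩, ?_⟩
  · -- parity
    rw [← hdn', hdk]
    congr 1
    have hodd : Odd p := hp.out.odd_of_ne_two (by omega)
    have heven : 2 ∣ d := by
      obtain ⟨j, hj⟩ := hodd
      exact ⟨j, by omega⟩
    rw [hdk] at heven
    exact ((Nat.prime_dvd_prime_iff_eq Nat.prime_two hq).mp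
      (Nat.prime_two.dvd_of_dvd_pow heven)).symm
  · -- irreducibility
    refine isIrr_of_isCharacter_of_norm_one hχ ?_
    haveI := Fintype.ofFinite (Cfsg.IrrCharacter G)
    obtain ⟨a, ha⟩ := char_eq_sum_nat hχ
    have hm1 : m = 1 := by
      subst hdn'
      rcases Nat.lt_or_ge 1 m with h1 | h1
      · exfalso
        have : 2 * d ≤ m * d := Nat.mul_le_mul_right _ h1
        omega
      · omega
    subst hm1
    -- a constituent over `θ` has full degree
    obtain ⟨ψ, hψ⟩ : ∃ ψ : Cfsg.IrrCharacter G,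
        a ψ ≠ 0 ∧ Cfsg.classInner (fun x : Q => (ψ : G → ℂ) x) θ ≠ 0 := by
      by_contra hcon
      push Not at hcon
      apply hc
      rw [show (fun x : Q => χ x) = ∑ ψ : Cfsg.IrrCharacter G,
          (a ψ : ℂ) • (fun x : Q => (ψ : G → ℂ) x) from funext fun x => by
        simpa [Finset.sum_apply] using congrFun ha (x : G), classInner_sum_left]
      refine Finset.sum_eq_zero fun ψ _ => ?_
      rw [classInner_smul_left]
      by_cases h0 : a ψ = 0
      · simp [h0]
      · rw [hcon ψ h0, mul_zero]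
    obtain ⟨ha0, hψθ⟩ := hψ
    obtain ⟨c, hc0, hcψ⟩ := irr_one_pos ψ.2
    obtain ⟨b, hb⟩ := classInner_char_nat (isCharacter_restrict Q (irr_isCharacter ψ))
      (isCharacter_of_isIrr hθ)
    have hb0 : b ≠ 0 := fun h0 => hψθ (by rw [hb, h0, Nat.cast_zero])
    have hbd := Basics.degree_le (isCharacter_restrict Q (irr_isCharacter ψ)) hθ hb
      (show (fun x : Q => (ψ : G → ℂ) x) 1 = (c : ℂ) by simpa using hcψ) hd
    have haψ : Cfsg.classInner χ (ψ : G → ℂ) = (a ψ : ℂ) := by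
      rw [ha, classInner_sum_left, Finset.sum_eq_single ψ]
      · rw [classInner_smul_left, classInner_isIrr_self ψ.2, mul_one]
      · intro φ _ hne'
        rw [classInner_smul_left, classInner_isIrr_ne φ.2 ψ.2
          (fun h => hne' (Subtype.ext h)), mul_zero]
      · simp
    have hca := Basics.degree_le hχ ψ.2 haψ hn hcψ
    have hdc : d ≤ c := le_trans (Nat.le_mul_of_pos_left d (Nat.pos_of_ne_zero hb0)) hbd
    have ha1 : a ψ = 1 := by
      by_contra h1
      have h2 : 2 ≤ a ψ := by omega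
      have h3 : 2 * c ≤ a ψ * c := Nat.mul_le_mul_right _ h2
      omega
    rw [ha1] at hca haψ
    have heq := Basics.eq_of_degree_eq hχ ψ.2 haψ (by
      rw [hn, hcψ, Nat.cast_one, one_mul]; congr 1; omega)
    rw [heq, Nat.cast_one, one_smul, classInner_isIrr_self ψ.2]

end Cfsg.Agent.GStructB.SmallDegreePSolvable
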