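import Mathlib
import Cfsg.Agent.Lib.Transfer.NormalPComplement

/-!
Averaging the number of primes dividing a class size: a prime for which the group is not `p`-nilpotent
divides the class size of at least half of the elements.
-/

namespace Cfsg.Agent.GStructB.ClassPrimes

open Subgroup

variable {G : Type*} [Group G] [Finite G]

theorem exists_conj_mem_centralizer {p : ℕ} [Fact p.Prime] (P : Sylow p G) {x : G}
    (hx : ¬ p ∣ (centralizer ({x} : Set G)).index) :
    ∃ k : G, k⁻¹ * x * k ∈ centralizer ((P : Subgroup G) : Set G) := by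
  set C := centralizer ({x} : Set G) with hC
  obtain ⟨R⟩ : Nonempty (Sylow p C) := inferInstance
  obtain ⟨T, hT⟩ := (R.2.map C.subtype).exists_le_sylow
  obtain ⟨k, hk⟩ := MulAction.exists_smul_eq G P T
  have hcard : Nat.card ((R : Subgroup C).map C.subtype) = Nat.card T := by
    rw [card_map_of_injective C.subtype_injective, R.card_eq_multiplicity, T.card_eq_multiplicity]
    congr 1
    rw [← C.card_mul_index, Nat.factorization_mul Nat.card_pos.ne' index_ne_zero_of_finite]
    simp [Nat.factorization_eq_zero_of_not_dvd hx]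
  have hle : (T : Subgroup G) ≤ C := by
    rw [← eq_of_le_of_card_ge hT (ge_of_eq hcard)]
    exact map_subtype_le _
  refine ⟨k, mem_centralizer_iff.2 fun y hy => ?_⟩
  have hyT : k * y * k⁻¹ ∈ (T : Subgroup G) := by
    rw [← hk, Sylow.smul_def, Sylow.pointwise_smul_def]
    exact ⟨y, hy, rfl⟩
  have h1 := mem_centralizer_singleton_iff.1 (hle hyT)
  calc y * (k⁻¹ * x * k) = k⁻¹ * ((k * y * k⁻¹) * x) * k := by group
    _ = k⁻¹ * (x * (k * y * k⁻¹)) * k := by rw [h1]
    _ = k⁻¹ * x * k * y := by group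

/-- Without a normal `p`-complement at most half of the class sizes are prime to `p`. -/
theorem two_mul_card_le [Fintype G] {p : ℕ} (hp : p.Prime) (hnot : ¬ Cfsg.HasNormalPComplement p G)
    [DecidablePred fun x : G => ¬ p ∣ (centralizer ({x} : Set G)).index] :
    2 * (Finset.univ.filter fun x : G => ¬ p ∣ (centralizer ({x} : Set G)).index).card ≤ Nat.card G := by
  classical
  haveI : Fact p.Prime := ⟨hp⟩
  obtain ⟨P⟩ : Nonempty (Sylow p G) := inferInstance
  set N := normalizer ((P : Subgroup G) : Set G) with hN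
  set C := centralizer ((P : Subgroup G) : Set G) with hCdef
  have hCN : C ≤ N := centralizer_le_normalizer _
  have hne : C ≠ N := fun e => hnot (Transfer.NormalPComplement.hasNormalPComplement_of_normalizer_le_centralizer P e.ge)
  have hrel : 2 ≤ C.relIndex N := by
    have h0 : C.relIndex N ≠ 0 := index_ne_zero_of_finite
    have h1 : C.relIndex N ≠ 1 := fun e => hne (le_antisymm hCN (relIndex_eq_one.1 e))
    omega
  let f : (G ⧸ N) × C → G := fun z => z.1.out * (z.2 : G) * z.1.out⁻¹
  have hsub : (Finset.univ.filter fun x : G => ¬ p ∣ (centralizer ({x} : Set G)).index) ⊆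
      Finset.univ.image f := by
    intro x hx
    obtain ⟨k, hk⟩ := exists_conj_mem_centralizer P (Finset.mem_filter.1 hx).2
    obtain ⟨m, hm⟩ := QuotientGroup.mk_out_eq_mul N k
    refine Finset.mem_image.2 ⟨(QuotientGroup.mk k, ⟨(m : G)⁻¹ * (k⁻¹ * x * k) * m, ?_⟩), Finset.mem_univ _, ?_⟩
    · refine mem_centralizer_iff.2 fun y hy => ?_
      have hy' : (m : G) * y * (m : G)⁻¹ ∈ (P : Subgroup G) := (mem_normalizer_iff.1 m.2 y).1 hy
      have h1 := mem_centralizer_iff.1 hk _ hy'
      calc y * ((m : G)⁻¹ * (k⁻¹ * x * k) * m)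
          = (m : G)⁻¹ * ((m * y * (m : G)⁻¹) * (k⁻¹ * x * k)) * m := by group
        _ = (m : G)⁻¹ * ((k⁻¹ * x * k) * (m * y * (m : G)⁻¹)) * m := by rw [h1]
        _ = (m : G)⁻¹ * (k⁻¹ * x * k) * m * y := by group
    · simp only [f, hm]
      group
  have h1 := (Finset.card_le_card hsub).trans Finset.card_image_le
  rw [Finset.card_univ, ← Nat.card_eq_fintype_card, Nat.card_prod,
    show Nat.card (G ⧸ N) = N.index from rfl] at h1
  have h2 : Nat.card C * C.relIndex N = Nat.card N := by
    rw [← relIndex_bot_left, ← relIndex_bot_left]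
    exact relIndex_mul_relIndex _ _ _ bot_le hCN
  calc 2 * _ ≤ 2 * (N.index * Nat.card C) := Nat.mul_le_mul_left 2 h1
    _ ≤ C.relIndex N * (N.index * Nat.card C) := Nat.mul_le_mul_right _ hrel
    _ = N.index * Nat.card N := by rw [← h2]; ring
    _ = Nat.card G := N.index_mul_card

theorem card_le_two_mul (σ : ℕ)
    (hσ : ∀ x : G, ((centralizer ({x} : Set G)).index).primeFactors.card ≤ σ)
    (hnil : ∀ p q : ℕ, p.Prime → q.Prime → p ∣ Nat.card G → q ∣ Nat.card G →
      Cfsg.HasNormalPComplement p G → Cfsg.HasNormalPComplement q G → p = q) :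
    Nat.card {p : ℕ | p.Prime ∧ ∃ x : G, p ∣ (centralizer ({x} : Set G)).index} ≤ 2 * σ := by
  classical
  haveI := Fintype.ofFinite G
  set ρ := (Nat.card G).primeFactors.filter fun p => ∃ x : G, p ∣ (centralizer ({x} : Set G)).index with hρ
  have hset : {p : ℕ | p.Prime ∧ ∃ x : G, p ∣ (centralizer ({x} : Set G)).index} = (ρ : Set ℕ) := by
    ext p
    simp only [hρ, Finset.coe_filter, Nat.mem_primeFactors]
    constructor
    · rintro ⟨hp, x, hx⟩
      exact ⟨⟨hp, hx.trans (index_dvd_card _), Nat.card_pos.ne'⟩, x, hx⟩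
    · rintro ⟨⟨hp, -, -⟩, x, hx⟩
      exact ⟨hp, x, hx⟩
  rw [hset, Nat.card_coe_set_eq, Set.ncard_coe_finset]
  rcases Nat.eq_zero_or_pos σ with rfl | hσpos
  · rw [Nat.mul_zero, Nat.le_zero, Finset.card_eq_zero, hρ, Finset.filter_eq_empty_iff]
    rintro p hp ⟨x, hx⟩
    have h0 := hσ x
    rw [Nat.le_zero, Finset.card_eq_zero] at h0
    have : p ∈ ((centralizer ({x} : Set G)).index).primeFactors :=
      Nat.mem_primeFactors.2 ⟨(Nat.mem_primeFactors.1 hp).1, hx, index_ne_zero_of_finite⟩
    rw [h0] at this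
    exact absurd this (Finset.notMem_empty _)
  set S := ρ.filter fun p => ¬ Cfsg.HasNormalPComplement p G with hS
  have hSle : S.card < 2 * σ := by
    let a : ℕ → G → ℕ := fun p x => if p ∣ (centralizer ({x} : Set G)).index then 1 else 0
    have hlow : ∀ p ∈ S, Nat.card G ≤ 2 * ∑ x, a p x := by
      intro p hp
      obtain ⟨hpρ, hnot⟩ := Finset.mem_filter.1 hp
      have hp' := (Nat.mem_primeFactors.1 (Finset.mem_filter.1 hpρ).1).1
      have h1 := two_mul_card_le hp' hnot
      have h2 := Finset.card_filter_add_card_filter_not (s := (Finset.univ : Finset G))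
        (fun x => p ∣ (centralizer ({x} : Set G)).index)
      rw [Finset.card_univ, ← Nat.card_eq_fintype_card] at h2
      simp only [a, Finset.sum_boole, Nat.cast_id]
      omega
    have hup : ∀ x, ∑ p ∈ S, a p x ≤ if x = 1 then 0 else σ := by
      intro x
      split_ifs with hx
      · subst hx
        refine le_of_eq (Finset.sum_eq_zero fun p hp => ?_)
        have hp' := (Nat.mem_primeFactors.1 (Finset.mem_filter.1 (Finset.mem_filter.1 hp).1).1).1
        have htop : centralizer ({(1 : G)} : Set G) = ⊤ :=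
          eq_top_iff.2 fun y _ => mem_centralizer_singleton_iff.2 (by simp)
        simp only [a, htop, index_top, Nat.dvd_one, hp'.ne_one, if_false]
      · simp only [a, Finset.sum_boole, Nat.cast_id]
        refine le_trans (Finset.card_le_card fun p hp => ?_) (hσ x)
        obtain ⟨hpS, hdvd⟩ := Finset.mem_filter.1 hp
        exact Nat.mem_primeFactors.2 ⟨(Nat.mem_primeFactors.1 (Finset.mem_filter.1 (Finset.mem_filter.1 hpS).1).1).1,
          hdvd, index_ne_zero_of_finite⟩
    have h1 : S.card * Nat.card G ≤ 2 * ∑ x, ∑ p ∈ S, a p x := by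
      rw [Finset.sum_comm, Finset.mul_sum]
      calc S.card * Nat.card G = ∑ _p ∈ S, Nat.card G := by rw [Finset.sum_const, smul_eq_mul]
        _ ≤ _ := Finset.sum_le_sum hlow
    have h2 : ∑ x, ∑ p ∈ S, a p x ≤ σ * (Nat.card G - 1) := by
      refine (Finset.sum_le_sum fun x _ => hup x).trans (le_of_eq ?_)
      rw [Finset.sum_ite, Finset.sum_const_zero, zero_add, Finset.sum_const, smul_eq_mul,
        Finset.filter_ne', Finset.card_erase_of_mem (Finset.mem_univ _), Finset.card_univ,
        ← Nat.card_eq_fintype_card, mul_comm]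
    by_contra hge
    push Not at hge
    have h3 : 2 * σ * Nat.card G ≤ 2 * σ * (Nat.card G - 1) :=
      (Nat.mul_le_mul_right _ hge).trans (h1.trans (by rw [mul_assoc]; exact Nat.mul_le_mul_left 2 h2))
    have := Nat.le_of_mul_le_mul_left h3 (by omega)
    have := Nat.card_pos (α := G)
    omega
  have hrest : (ρ.filter fun p => Cfsg.HasNormalPComplement p G).card ≤ 1 := by
    refine Finset.card_le_one.2 fun p hp q hq => ?_
    obtain ⟨hp1, hp2⟩ := Finset.mem_filter.1 hp
    obtain ⟨hq1, hq2⟩ := Finset.mem_filter.1 hq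
    have hp' := Nat.mem_primeFactors.1 (Finset.mem_filter.1 hp1).1
    have hq' := Nat.mem_primeFactors.1 (Finset.mem_filter.1 hq1).1
    exact hnil p q hp'.1 hq'.1 hp'.2.1 hq'.2.1 hp2 hq2
  have := Finset.card_filter_add_card_filter_not (s := ρ) (fun p => Cfsg.HasNormalPComplement p G)
  rw [← hS] at this
  omega

end Cfsg.Agent.GStructB.ClassPrimes
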