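import Mathlib
import Cfsg.Prelude.Def_Local
import Cfsg.Agent.GStructB.PSolvableExt
import Cfsg.Agent.Lib.Transfer.Frobenius

/-!
If the class of `x y` is the product of the classes of `x` and `y` for all `p`-elements `x` and all
`p'`-elements `y` of prime power order, the group is `p`-solvable.
-/

namespace Cfsg.Agent.GStructB.ClassProduct

open Subgroup

universe u

/-- The hypothesis. -/
def Prod (p : ℕ) (G : Type u) [Group G] : Prop :=
  ∀ x y : G, (∃ a : ℕ, orderOf x = p ^ a) → (∃ q b : ℕ, q.Prime ∧ q ≠ p ∧ orderOf y = q ^ b) →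
    ∀ a b : G, IsConj (x * y) (a * x * a⁻¹ * (b * y * b⁻¹))

variable {p : ℕ}

theorem prime_power_lift {G H : Type*} [Group G] [Group H] [Finite G] (f : G →* H)
    (hf : Function.Surjective f) {q : ℕ} (hq : q.Prime) {y : H} {b : ℕ} (hy : orderOf y = q ^ b) :
    ∃ x : G, f x = y ∧ ∃ c : ℕ, orderOf x = q ^ c := by
  obtain ⟨x, rfl⟩ := hf y
  obtain ⟨c, m, hm, hxo⟩ := Nat.exists_eq_pow_mul_and_not_dvd (orderOf_pos x).ne' q hq.ne_one
  obtain ⟨k, hk⟩ := exists_pow_eq_self_of_coprime (x := f x) (n := m)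
    (by rw [hy]; exact ((hq.coprime_iff_not_dvd.2 hm).pow_left b).symm)
  refine ⟨(x ^ m) ^ k, by rw [map_pow, map_pow, hk], ?_⟩
  have h1 : (x ^ m) ^ (q ^ c) = 1 := by
    rw [← pow_mul, mul_comm, ← hxo, pow_orderOf_eq_one]
  obtain ⟨d, -, hd⟩ := (Nat.dvd_prime_pow hq).1
    (show orderOf ((x ^ m) ^ k) ∣ q ^ c from orderOf_dvd_of_pow_eq_one (by
      rw [← pow_mul, mul_comm, pow_mul, h1, one_pow]))
  exact ⟨d, hd⟩

theorem Prod.quotient [hp : Fact p.Prime] {G : Type u} [Group G] [Finite G] (h : Prod p G) (N : Subgroup G)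
    [N.Normal] : Prod p (G ⧸ N) := by
  intro x y ⟨a, ha⟩ ⟨q, b, hq, hqp, hb⟩ c d
  obtain ⟨x', rfl, hx'⟩ := prime_power_lift (QuotientGroup.mk' N) (QuotientGroup.mk'_surjective N) hp.out ha
  obtain ⟨y', rfl, e, hy'⟩ := prime_power_lift (QuotientGroup.mk' N) (QuotientGroup.mk'_surjective N) hq hb
  obtain ⟨c, rfl⟩ := QuotientGroup.mk'_surjective N c
  obtain ⟨d, rfl⟩ := QuotientGroup.mk'_surjective N d
  simp only [← map_mul, ← map_inv]
  exact (QuotientGroup.mk' N).map_isConj (h x' y' hx' ⟨q, e, hq, hqp, hy'⟩ c d)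

/-- An element of order prime to `p` that fails to centralise has a prime power part that fails. -/
theorem exists_prime_power {G : Type u} [Group G] [Finite G] (C : Subgroup G) {g : G} (hg : g ∉ C) :
    ∃ k : ℕ, g ^ k ∉ C ∧ ∃ q b : ℕ, q.Prime ∧ orderOf (g ^ k) = q ^ b := by
  by_contra hno
  push Not at hno
  apply hg
  suffices h : ∀ n : ℕ, ∀ k : ℕ, orderOf (g ^ k) = n → g ^ k ∈ C by
    simpa using h _ 1 rfl
  intro n
  induction n using Nat.recOnPrimeCoprime with
  | zero => intro k hk; exact absurd hk (orderOf_pos _).ne'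
  | prime_pow q b hq =>
    intro k hk
    by_contra hC
    exact hno k hC q b hq hk
  | coprime a b ha hb hab iha ihb =>
    intro k hk
    have h1 : (g ^ k) ^ a ∈ C := by
      rw [← pow_mul]; refine ihb _ ?_
      rw [pow_mul, orderOf_pow_of_dvd (by omega) (hk ▸ dvd_mul_right a b), hk,
        Nat.mul_div_cancel_left _ (by omega)]
    have h2 : (g ^ k) ^ b ∈ C := by
      rw [← pow_mul]; refine iha _ ?_
      rw [pow_mul, orderOf_pow_of_dvd (by omega) (hk ▸ dvd_mul_left b a), hk,
        Nat.mul_div_cancel _ (by omega)]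
    have h3 := Nat.gcd_eq_gcd_ab a b
    rw [hab.gcd_eq_one] at h3
    have : g ^ k = ((g ^ k) ^ a) ^ Nat.gcdA a b * ((g ^ k) ^ b) ^ Nat.gcdB a b := by
      rw [← zpow_natCast (g ^ k) a, ← zpow_natCast (g ^ k) b, ← zpow_mul, ← zpow_mul, ← zpow_add, ← h3,
        Nat.cast_one, zpow_one]
    rw [this]
    exact mul_mem (zpow_mem h1 _) (zpow_mem h2 _)

/-- A minimal normal subgroup satisfies the Frobenius condition. -/
theorem condition_minimal [hp : Fact p.Prime] {G : Type u} [Group G] [Finite G] (h : Prod p G)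
    (N : Subgroup G) [N.Normal] (hmin : ∀ K : Subgroup G, K.Normal → K ≤ N → K ≠ ⊥ → K = N) :
    Transfer.Frobenius.Condition p N := by
  intro Q hQ g hg hgo
  by_contra hgC
  obtain ⟨k, hyC, q, b, hq, hyo⟩ := exists_prime_power _ hgC
  set y := g ^ k with hy
  have hyN : y ∈ normalizer (Q : Set N) := pow_mem hg k
  have hqp : q ≠ p ∨ b = 0 := by
    by_contra hc
    push Not at hc
    obtain ⟨rfl, hb0⟩ := hc
    have h1 : q ∣ orderOf g := (dvd_pow_self q hb0).trans (hyo ▸ orderOf_pow_dvd k)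
    exact hq.one_lt.ne' (Nat.dvd_one.1 (hgo ▸ Nat.dvd_gcd h1 dvd_rfl))
  have hqp : q ≠ p := by
    refine hqp.resolve_right fun e => hyC ?_
    rw [e, pow_zero, orderOf_eq_one_iff] at hyo
    rw [hyo]; exact one_mem _
  obtain ⟨r, hr, hry⟩ : ∃ r ∈ Q, y * r ≠ r * y := by
    by_contra hc
    push Not at hc
    exact hyC (mem_centralizer_iff.2 fun r hr => (hc r hr).symm)
  set e := r⁻¹ * (y * r * y⁻¹) with he
  have heQ : e ∈ Q := mul_mem (inv_mem hr) ((mem_normalizer_iff.1 hyN r).1 hr)
  have he1 : e ≠ 1 := fun h1 => hry (by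
    rw [he, inv_mul_eq_one] at h1
    exact mul_inv_eq_iff_eq_mul.1 h1.symm)
  set E : G := (e : G) with hE
  set Y : G := (y : G) with hY
  obtain ⟨a, ha⟩ := IsPGroup.iff_orderOf.1 hQ ⟨e, heQ⟩
  have hEo : ∃ a : ℕ, orderOf E = p ^ a :=
    ⟨a, by rw [hE, Subgroup.orderOf_coe, ← ha]; exact (Subgroup.orderOf_mk _ _).symm⟩
  have hYo : ∃ q' b' : ℕ, q'.Prime ∧ q' ≠ p ∧ orderOf Y = q' ^ b' :=
    ⟨q, b, hq, hqp, by rw [hY, Subgroup.orderOf_coe, hyo]⟩
  have hEY : IsConj Y (E * Y) := by
    refine isConj_iff.2 ⟨(r : G)⁻¹, ?_⟩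
    rw [hE, hY, he]
    push_cast
    group
  -- conjugates of `E` preserve the class of `Y`
  let S : Submonoid G :=
    { carrier := {m | ∀ z, IsConj Y z → IsConj Y (m * z)}
      one_mem' := fun z hz => by rwa [one_mul]
      mul_mem' := fun {m m'} hm hm' z hz => by rw [mul_assoc]; exact hm _ (hm' z hz) }
  have hgen : ∀ c : G, c * E * c⁻¹ ∈ S := fun c z hz => by
    obtain ⟨d, hd⟩ := isConj_iff.1 hz
    have h1 := h E Y hEo hYo c d
    rw [hd] at h1
    exact hEY.trans h1
  set K := normalClosure ({E} : Set G) with hK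
  have hKS : (K : Set G) ⊆ S := by
    intro m hm
    refine Subgroup.closure_induction (p := fun m _ => m ∈ S) ?_ (one_mem S) (fun _ _ _ _ => mul_mem) ?_ hm
    · intro x hx
      obtain ⟨e', he', hc⟩ := Group.mem_conjugatesOfSet_iff.1 hx
      rw [Set.mem_singleton_iff] at he'
      obtain ⟨c, rfl⟩ := isConj_iff.1 (he' ▸ hc)
      exact hgen c
    · intro x _ hx
      rw [show x⁻¹ = x ^ (orderOf x - 1) from inv_eq_of_mul_eq_one_right (by
        rw [← pow_succ', Nat.sub_add_cancel (orderOf_pos x), pow_orderOf_eq_one])]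
      exact pow_mem hx _
  have hKN : K = N := by
    refine hmin K normalClosure_normal (normalClosure_le_normal (Set.singleton_subset_iff.2 e.2)) fun hb => he1 ?_
    have : E ∈ K := subset_normalClosure rfl
    rw [hb, mem_bot] at this
    exact Subtype.ext this
  have hmem : Y⁻¹ ∈ S := hKS (hKN ▸ inv_mem y.2)
  have h1 := hmem Y (IsConj.refl Y)
  rw [inv_mul_cancel] at h1
  obtain ⟨c, hc⟩ := isConj_iff.1 h1
  have : y = 1 := Subtype.ext (conj_eq_one_iff.1 hc)
  rw [this] at hyC
  exact hyC (one_mem _)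

theorem isPSolvable_aux [hp : Fact p.Prime] (n : ℕ) :
    ∀ (G : Type u) [Group G] [Finite G], Nat.card G ≤ n → Prod p G → Cfsg.IsPSolvable p G := by
  induction n with
  | zero => intro G _ _ hn; exact absurd hn (not_le.2 Nat.card_pos)
  | succ n ih =>
    intro G _ _ hn h
    rcases subsingleton_or_nontrivial G with hG | hG
    · exact PSolvableExt.of_card_good (Or.inl ⟨0, by simp⟩)
    obtain ⟨N, hN2⟩ := Set.Finite.exists_minimal (Set.toFinite {N : Subgroup G | N.Normal ∧ N ≠ ⊥})
      ⟨⊤, inferInstance, top_ne_bot⟩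
    obtain ⟨hNn, hN⟩ := hN2.1
    have hmin := hN2.2
    haveI := hNn
    have hmin' : ∀ K : Subgroup G, K.Normal → K ≤ N → K ≠ ⊥ → K = N := fun K h1 h2 h3 =>
      le_antisymm h2 (hmin ⟨h1, h3⟩ h2)
    refine PSolvableExt.of_normal_good N ?_ (ih (G ⧸ N) ?_ (h.quotient N))
    swap
    · have h1 := card_eq_card_quotient_mul_card_subgroup N
      have h2 : 1 < Nat.card N := by
        rw [Finite.one_lt_card_iff_nontrivial]; exact (nontrivial_iff_ne_bot N).2 hN
      have h3 : 0 < Nat.card (G ⧸ N) := Nat.card_pos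
      have : 2 * Nat.card (G ⧸ N) ≤ Nat.card G := by rw [h1, mul_comm 2]; exact Nat.mul_le_mul_left _ h2
      omega
    obtain ⟨P, K, hKn, hKc⟩ :=
      (Transfer.Frobenius.hasNormalPComplement_iff_condition (G := N)).2 (condition_minimal h N hmin')
    haveI := hKn
    have hco : (Nat.card K).Coprime p := by
      refine ((hp.out.coprime_iff_not_dvd).2 ?_).symm
      rw [← hKc.index_eq_card]
      exact P.not_dvd_index
    -- the complement is characteristic
    have hchar : K.Characteristic := by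
      refine Subgroup.characteristic_iff_map_le.2 fun φ => ?_
      intro x hx
      obtain ⟨w, hw, rfl⟩ := hx
      rw [← QuotientGroup.eq_one_iff]
      have h1 : (φ w : N ⧸ K) ^ Nat.card K = 1 := by
        rw [← QuotientGroup.mk_pow, ← map_pow]
        have := congrArg Subtype.val (pow_card_eq_one' (x := (⟨w, hw⟩ : K)))
        rw [SubgroupClass.coe_pow, OneMemClass.coe_one] at this
        rw [this, map_one, QuotientGroup.mk_one]
      obtain ⟨a, ha⟩ := IsPGroup.iff_card.1 P.2
      have h2 : (φ w : N ⧸ K) ^ (p ^ a) = 1 := by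
        rw [← ha, ← hKc.symm.index_eq_card]; exact pow_card_eq_one'
      rw [← orderOf_eq_one_iff]
      exact Nat.eq_one_of_dvd_coprimes (hco.pow_right a) (orderOf_dvd_of_pow_eq_one h1)
        (orderOf_dvd_of_pow_eq_one h2)
    haveI : (K.map N.subtype).Normal := ConjAct.normal_of_characteristic_of_normal
    by_cases hK : K.map N.subtype = ⊥
    · left
      obtain ⟨a, ha⟩ := IsPGroup.iff_card.1 P.2
      refine ⟨a, ?_⟩
      rw [map_eq_bot_iff_of_injective _ N.subtype_injective] at hK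
      have := hKc.card_mul
      rw [hK, Subgroup.card_bot, one_mul] at this
      rw [← this, ha]
    · right
      have := hmin' _ inferInstance (map_subtype_le K) hK
      rw [← congrArg (fun H : Subgroup G => Nat.card H) this, card_map_of_injective N.subtype_injective]
      exact hco

theorem isPSolvable [hp : Fact p.Prime] {G : Type u} [Group G] [Finite G] (h : Prod p G) :
    Cfsg.IsPSolvable p G := isPSolvable_aux _ G le_rfl h

end Cfsg.Agent.GStructB.ClassProduct
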