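import Cfsg.Agent.GStructB.PElements
import Mathlib

/-!
A proper subgroup of a finite group and its conjugates never cover the group; normalisation by
centralising elements.
-/

set_option autoImplicit false

namespace Cfsg.Agent.GStructB.Cover

variable {G : Type*} [Group G]

/-- Jordan: if every element is conjugate into `H`, then `H = ⊤`. -/
theorem eq_top_of_forall_conj [Finite G] (H : Subgroup G)
    (h : ∀ g : G, ∃ c : G, c⁻¹ * g * c ∈ H) : H = ⊤ := by
  classical
  have := Fintype.ofFinite G
  rw [← Subgroup.index_eq_one]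
  let f : (G ⧸ H) × {x : H // x ≠ 1} → {g : G // g ≠ 1} := fun z =>
    ⟨z.1.out * (z.2.1 : G) * z.1.out⁻¹, by
      rw [Ne, conj_eq_one_iff]
      exact fun h1 => z.2.2 (Subtype.ext h1)⟩
  have hf : Function.Surjective f := by
    rintro ⟨g, hg⟩
    obtain ⟨c, hc⟩ := h g
    obtain ⟨k, hk⟩ := QuotientGroup.mk_out_eq_mul H c
    have hmem : (c * k)⁻¹ * g * (c * k) ∈ H := by
      have := mul_mem (mul_mem (inv_mem k.2) hc) k.2
      convert this using 1
      group
    refine ⟨(QuotientGroup.mk c, ⟨⟨_, hmem⟩, ?_⟩), Subtype.ext ?_⟩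
    · intro h1
      have h2 : (c * k)⁻¹ * g * (c * k) = 1 := congrArg Subtype.val h1
      apply hg
      calc g = (c * k) * ((c * k)⁻¹ * g * (c * k)) * (c * k)⁻¹ := by group
        _ = 1 := by rw [h2]; group
    · simp only [f, hk]
      group
  have h1 := Nat.card_le_card_of_surjective f hf
  rw [Nat.card_prod] at h1
  have e1 : Nat.card {x : H // x ≠ 1} = Nat.card H - 1 := by
    rw [Nat.card_eq_fintype_card, Nat.card_eq_fintype_card, Fintype.card_subtype_compl]
    simp
  have e2 : Nat.card {g : G // g ≠ 1} = Nat.card G - 1 := by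
    rw [Nat.card_eq_fintype_card, Nat.card_eq_fintype_card, Fintype.card_subtype_compl]
    simp
  rw [e1, e2, ← H.index_mul_card, ← Subgroup.index, Nat.mul_sub_one] at h1
  have hi : 0 < H.index := Nat.pos_of_ne_zero Subgroup.index_ne_zero_of_finite
  have hle : H.index ≤ H.index * Nat.card H := Nat.le_mul_of_pos_right _ Nat.card_pos
  omega

/-- Elements centralising `H` normalise it. -/
theorem centralizer_le_normalizer (H : Subgroup G) :
    Subgroup.centralizer (H : Set G) ≤ Subgroup.normalizer (H : Set G) := by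
  intro c hc
  rw [Subgroup.mem_normalizer_iff]
  intro w
  constructor
  · intro hw
    rwa [← Subgroup.mem_centralizer_iff.mp hc w hw, mul_inv_cancel_right]
  · intro hw
    have h3 := Subgroup.mem_centralizer_iff.mp hc _ hw
    have : c * w * c⁻¹ = w := by
      calc c * w * c⁻¹ = c⁻¹ * ((c * w * c⁻¹) * c) * 1 := by rw [h3]; group
        _ = _ := by group
    rwa [this] at hw

end Cfsg.Agent.GStructB.Cover
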