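import Mathlib
import Cfsg.Agent.GStructB.ClassPrimes
import Cfsg.Agent.GStructB.ClassProduct
import Cfsg.Agent.GStructB.Cover
import Cfsg.Agent.Lib.Hall.Product
import Cfsg.Agent.Lib.Coprime.Commutator

/-!
The prime graph on class sizes: two primes whose Sylow subgroups are not central in their normalizers
are adjacent; for a nonsolvable group any two vertices have distance at most two.
-/

set_option linter.style.haveILetI false

namespace Cfsg.Agent.GStructB.ClassGraph

open Subgroup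
open scoped Pointwise commutatorElement

variable {G : Type*} [Group G] [Finite G]

/-- The class size. -/
noncomputable def cs (x : G) : ℕ := (centralizer ({x} : Set G)).index

/-- A prime whose Sylow subgroups are not central in their normalizers. -/
def Big (p : ℕ) (G : Type*) [Group G] : Prop :=
  ∃ P : Sylow p G, ¬ normalizer ((P : Subgroup G) : Set G) ≤ centralizer ((P : Subgroup G) : Set G)

/-- Adjacent in the prime graph on class sizes. -/
def Adj (p q : ℕ) (G : Type*) [Group G] : Prop :=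
  ∃ x : G, p ∣ (centralizer ({x} : Set G)).index ∧ q ∣ (centralizer ({x} : Set G)).index

theorem big_of_not_hasNormalPComplement {p : ℕ} [Fact p.Prime]
    (h : ¬ Cfsg.HasNormalPComplement p G) : Big p G := by
  obtain ⟨P⟩ : Nonempty (Sylow p G) := inferInstance
  exact ⟨P, fun hle => h (Transfer.NormalPComplement.hasNormalPComplement_of_normalizer_le_centralizer P hle)⟩

theorem two_mul_card_le_of_big [Fintype G] {p : ℕ} (hp : p.Prime) (h : Big p G)
    [DecidablePred fun x : G => ¬ p ∣ (centralizer ({x} : Set G)).index] :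
    2 * (Finset.univ.filter fun x : G => ¬ p ∣ (centralizer ({x} : Set G)).index).card ≤ Nat.card G := by
  classical
  haveI : Fact p.Prime := ⟨hp⟩
  obtain ⟨P, hP⟩ := h
  set N := normalizer ((P : Subgroup G) : Set G) with hN
  set C := centralizer ((P : Subgroup G) : Set G) with hCdef
  have hCN : C ≤ N := centralizer_le_normalizer _
  have hrel : 2 ≤ C.relIndex N := by
    have h0 : C.relIndex N ≠ 0 := index_ne_zero_of_finite
    have h1 : C.relIndex N ≠ 1 := fun e => hP (relIndex_eq_one.1 e)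
    omega
  let f : (G ⧸ N) × C → G := fun z => z.1.out * (z.2 : G) * z.1.out⁻¹
  have hsub : (Finset.univ.filter fun x : G => ¬ p ∣ (centralizer ({x} : Set G)).index) ⊆
      Finset.univ.image f := by
    intro x hx
    obtain ⟨k, hk⟩ := ClassPrimes.exists_conj_mem_centralizer P (Finset.mem_filter.1 hx).2
    obtain ⟨m, hm⟩ := QuotientGroup.mk_out_eq_mul N k
    refine Finset.mem_image.2 ⟨(QuotientGroup.mk k, ⟨(m : G)⁻¹ * (k⁻¹ * x * k) * m, ?_⟩), Finset.mem_univ _, ?_⟩
    · refine mem_centralizer_iff.2 fun y hy => ?_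
      have hy' : (m : G) * y * (m : G)⁻¹ ∈ (P : Subgroup G) := (mem_normalizer_iff.1 m.2 y).1 hy
      have h1 := mem_centralizer_iff.1 hk _ hy'
      calc y * ((m : G)⁻¹ * (k⁻¹ * x * k) * m)
          = (m : G)⁻¹ * ((m * y * (m : G)⁻¹) * (k⁻¹ * x * k)) * m := by group
        _ = (m : G)⁻¹ * ((k⁻¹ * x * k) * (m * y * (m : G)⁻¹)) * m := by rw [h1]
        _ = (m : G)⁻¹ * (k⁻¹ * x * k) * m * y := by group
    · simp only [f, hm]
      group
  have h1 := (Finset.card_le_card hsub).trans Finset.card_image_le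
  rw [Finset.card_univ, ← Nat.card_eq_fintype_card, Nat.card_prod,
    show Nat.card (G ⧸ N) = N.index from rfl] at h1
  have h2 : Nat.card C * C.relIndex N = Nat.card N := by
    rw [← relIndex_bot_left, ← relIndex_bot_left]
    exact relIndex_mul_relIndex _ _ _ bot_le hCN
  calc 2 * _ ≤ 2 * (N.index * Nat.card C) := Nat.mul_le_mul_left 2 h1
    _ ≤ C.relIndex N * (N.index * Nat.card C) := Nat.mul_le_mul_right _ hrel
    _ = N.index * Nat.card N := by rw [← h2]; ring
    _ = Nat.card G := N.index_mul_card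

theorem one_good (p : ℕ) (hp : p.Prime) : ¬ p ∣ (centralizer ({(1 : G)} : Set G)).index := by
  have htop : centralizer ({(1 : G)} : Set G) = ⊤ :=
    eq_top_iff.2 fun y _ => mem_centralizer_singleton_iff.2 (by simp)
  rw [htop, index_top, Nat.dvd_one]
  exact hp.ne_one

/-- Two big primes are adjacent. -/
theorem adj_of_big {p q : ℕ} (hp : p.Prime) (hq : q.Prime) (hbp : Big p G) (hbq : Big q G) :
    Adj p q G := by
  classical
  haveI := Fintype.ofFinite G
  by_contra hno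
  set A := Finset.univ.filter fun x : G => ¬ p ∣ (centralizer ({x} : Set G)).index with hA
  set B := Finset.univ.filter fun x : G => ¬ q ∣ (centralizer ({x} : Set G)).index with hB
  have hAB : A ∪ B = Finset.univ := by
    rw [Finset.eq_univ_iff_forall]
    intro x
    rw [hA, hB, Finset.mem_union, Finset.mem_filter, Finset.mem_filter]
    by_contra hc
    exact hno ⟨x, by_contra fun e => hc (Or.inl ⟨Finset.mem_univ _, e⟩), by_contra fun e => hc (Or.inr ⟨Finset.mem_univ _, e⟩)⟩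
  have h1 := Finset.card_union_add_card_inter A B
  rw [hAB, Finset.card_univ, ← Nat.card_eq_fintype_card] at h1
  have h2 : 0 < (A ∩ B).card := Finset.card_pos.2 ⟨1, by
    rw [hA, hB, Finset.mem_inter, Finset.mem_filter, Finset.mem_filter]
    exact ⟨⟨Finset.mem_univ _, one_good p hp⟩, Finset.mem_univ _, one_good q hq⟩⟩
  have h3 : 2 * A.card ≤ Nat.card G := two_mul_card_le_of_big hp hbp
  have h4 : 2 * B.card ≤ Nat.card G := two_mul_card_le_of_big hq hbq
  omega

theorem centralizer_mul_le {a b : G} (hab : Commute a b) (hco : (orderOf a).Coprime (orderOf b)) :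
    centralizer ({a * b} : Set G) ≤ centralizer ({a} : Set G) := by
  intro x hx
  have h1 : Commute x (a * b) := mem_centralizer_singleton_iff.1 hx
  obtain ⟨m, hm⟩ := exists_pow_eq_self_of_coprime (x := a) (n := orderOf b) hco.symm
  have h2 := (h1.pow_right (orderOf b)).pow_right m
  rw [hab.mul_pow, pow_orderOf_eq_one, mul_one, hm] at h2
  exact mem_centralizer_singleton_iff.2 h2

theorem cs_dvd_mul {a b : G} (hab : Commute a b) (hco : (orderOf a).Coprime (orderOf b)) :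
    cs a ∣ cs (a * b) ∧ cs b ∣ cs (a * b) := by
  refine ⟨index_dvd_of_le (centralizer_mul_le hab hco), index_dvd_of_le ?_⟩
  rw [hab.eq]
  exact centralizer_mul_le hab.symm hco.symm

/-- An element commuting with no conjugate of `a` has class size divisible by `p`. -/
theorem dvd_cs_of_lacking {p : ℕ} [Fact p.Prime] {P : Sylow p G} {a : G} (ha : a ∈ (P : Subgroup G))
    {x : G} (hx : ∀ g : G, ¬ Commute x (g * a * g⁻¹)) : p ∣ cs x := by
  by_contra h
  obtain ⟨k, hk⟩ := ClassPrimes.exists_conj_mem_centralizer P h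
  refine hx k ?_
  have h1 := mem_centralizer_iff.1 hk a ha
  show x * (k * a * k⁻¹) = k * a * k⁻¹ * x
  calc x * (k * a * k⁻¹) = k * ((k⁻¹ * x * k) * a) * k⁻¹ := by group
    _ = k * (a * (k⁻¹ * x * k)) * k⁻¹ := by rw [h1]
    _ = k * a * k⁻¹ * x := by group

theorem relIndex_dvd_index (L C : Subgroup G) [L.Normal] : C.relIndex L ∣ C.index := by
  have h1 := Hall.card_mul_inf L C
  rw [← Subgroup.normal_mul L C, SetLike.coe_sort_coe] at h1
  have h2 : Nat.card ↥(L ⊓ C) * C.relIndex L = Nat.card L := by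
    rw [← relIndex_bot_left, ← relIndex_bot_left, ← inf_relIndex_left L C]
    exact relIndex_mul_relIndex ⊥ (L ⊓ C) L bot_le inf_le_left
  have h3 : Nat.card C * C.relIndex (L ⊔ C) = Nat.card ↥(L ⊔ C) := by
    rw [← relIndex_bot_left, ← relIndex_bot_left]
    exact relIndex_mul_relIndex ⊥ C (L ⊔ C) bot_le le_sup_right
  have h4 : C.relIndex L = C.relIndex (L ⊔ C) := by
    refine Nat.eq_of_mul_eq_mul_left (Nat.mul_pos (Nat.card_pos (α := C)) (Nat.card_pos (α := ↥(L ⊓ C)))) ?_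
    calc Nat.card C * Nat.card ↥(L ⊓ C) * C.relIndex L
        = Nat.card C * (Nat.card ↥(L ⊓ C) * C.relIndex L) := by ring
      _ = Nat.card ↥(L ⊔ C) * Nat.card ↥(L ⊓ C) := by rw [h2, h1, mul_comm]
      _ = _ := by rw [← h3]; ring
  rw [h4]
  exact ⟨_, (relIndex_mul_index (H := C) (K := L ⊔ C) le_sup_right).symm⟩

theorem exists_prime_dvd_relIndex {L C : Subgroup G} (h : ¬ L ≤ C) :
    ∃ s : ℕ, s.Prime ∧ s ∣ C.relIndex L :=
  Nat.exists_prime_and_dvd fun e => h (relIndex_eq_one.1 e)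

/-- If every element of `K` has a `K`-conjugate in `D`, then `K ≤ D`. -/
theorem le_of_cover {K D : Subgroup G} (h : ∀ y ∈ K, ∃ x ∈ K, x⁻¹ * y * x ∈ D) : K ≤ D := by
  have h1 : D.subgroupOf K = ⊤ := Cover.eq_top_of_forall_conj _ fun y => by
    obtain ⟨x, hx, hxD⟩ := h y y.2
    exact ⟨⟨x, hx⟩, by simpa [mem_subgroupOf] using hxD⟩
  exact subgroupOf_eq_top.1 h1

variable (L : Subgroup G) [L.Normal]

/-- The situation of two small primes. -/
structure Pair (a b : G) : Prop where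
  comm : Commute a b
  coab : (orderOf a).Coprime (orderOf b)
  coa : (orderOf a).Coprime (Nat.card L)
  cob : (orderOf b).Coprime (Nat.card L)
  conja : ∀ g : G, ∃ l ∈ L, g * a * g⁻¹ = l * a * l⁻¹
  nota : ¬ L ≤ centralizer ({a} : Set G)
  notb : ¬ L ≤ centralizer ({b} : Set G)

/-- `⁅L, ⟨a⟩⁆` lies in `C_L(b)` when `L = C_L(b) C_L(a)`. -/
theorem commutator_le_of_product {a b : G} (hab : Commute a b)
    (hprod : ∀ l ∈ L, ∃ u v, u ∈ L ∧ v ∈ L ∧ Commute u b ∧ Commute v a ∧ l = u * v) :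
    ⁅L, zpowers a⁆ ≤ L ⊓ centralizer ({b} : Set G) := by
  rw [Subgroup.commutator_le]
  rintro l hl _ ⟨i, rfl⟩
  obtain ⟨u, v, huL, -, hub, hva, rfl⟩ := hprod l hl
  have hv : v * a ^ i * v⁻¹ = a ^ i := by rw [(hva.zpow_right i).eq, mul_inv_cancel_right]
  have he : ⁅u * v, a ^ i⁆ = u * (a ^ i * u⁻¹ * (a ^ i)⁻¹) := by
    rw [commutatorElement_def, mul_inv_rev]
    calc u * v * a ^ i * (v⁻¹ * u⁻¹) * (a ^ i)⁻¹ = u * (v * a ^ i * v⁻¹) * u⁻¹ * (a ^ i)⁻¹ := by group
      _ = _ := by rw [hv]; group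
  show ⁅u * v, a ^ i⁆ ∈ _
  rw [he]
  refine ⟨mul_mem huL ((inferInstance : L.Normal).conj_mem _ (inv_mem huL) _), mem_centralizer_singleton_iff.2 ?_⟩
  have h1 : Commute (a ^ i) b := hab.zpow_left i
  exact (hub.mul_left ((h1.mul_left hub.inv_left).mul_left h1.inv_left)).eq

theorem commute_of_product {a : G} {N : Subgroup G} (hNL : ∀ u ∈ L, ∀ w ∈ N, u⁻¹ * w * u ∈ N)
    (hNa : ∀ w ∈ N, Commute w a) : ⁅L, zpowers a⁆ ≤ centralizer (N : Set G) := by
  rw [Subgroup.commutator_le]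
  rintro u hu _ ⟨i, rfl⟩
  refine mem_centralizer_iff.2 fun w hw => ?_
  have h1 : Commute (u⁻¹ * w * u) (a ^ i) := (hNa _ (hNL u hu w hw)).zpow_right i
  have h2 : Commute w (a ^ i) := (hNa w hw).zpow_right i
  show w * ⁅u, a ^ i⁆ = ⁅u, a ^ i⁆ * w
  rw [commutatorElement_def]
  symm
  calc u * a ^ i * u⁻¹ * (a ^ i)⁻¹ * w = u * a ^ i * u⁻¹ * ((a ^ i)⁻¹ * w) := by group
    _ = u * a ^ i * u⁻¹ * (w * (a ^ i)⁻¹) := by rw [h2.inv_right.eq]
    _ = u * (a ^ i * (u⁻¹ * w * u)) * u⁻¹ * (a ^ i)⁻¹ := by group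
    _ = u * ((u⁻¹ * w * u) * a ^ i) * u⁻¹ * (a ^ i)⁻¹ := by rw [h1.eq]
    _ = w * (u * a ^ i * u⁻¹ * (a ^ i)⁻¹) := by group

theorem commutator_inv_conj {a : G} {u w : G} (hu : u ∈ L) (hw : w ∈ ⁅L, zpowers a⁆) :
    u⁻¹ * w * u ∈ ⁅L, zpowers a⁆ :=
  (mem_normalizer_iff''.1 (normalizer_commutator_ge_left L (zpowers a) hu) w).1 hw

/-- Some element of `⁅L, ⟨a⟩⁆` commutes with no conjugate of `a`; moreover conjugates of `a` come
from `⁅L, ⟨a⟩⁆`. -/
theorem exists_lacking {a : G} (hco : (orderOf a).Coprime (Nat.card L))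
    (hconj : ∀ g : G, ∃ l ∈ L, g * a * g⁻¹ = l * a * l⁻¹) (hnot : ¬ L ≤ centralizer ({a} : Set G)) :
    (∀ g : G, ∃ x ∈ ⁅L, zpowers a⁆, g * a * g⁻¹ = x * a * x⁻¹) ∧
    ∃ y ∈ ⁅L, zpowers a⁆, ∀ g : G, ¬ Commute y (g * a * g⁻¹) := by
  have hAL : zpowers a ≤ normalizer (L : Set G) := fun _ _ => by
    rw [normalizer_eq_top_iff.2 (inferInstance : L.Normal)]; trivial
  have hcop : (Nat.card (zpowers a)).Coprime (Nat.card L) := by rwa [Nat.card_zpowers]
  have hs : Group.IsSolvable (zpowers a) ∨ Group.IsSolvable L := Or.inl inferInstance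
  have hcz : centralizer ((zpowers a : Subgroup G) : Set G) ≤ centralizer ({a} : Set G) :=
    fun x hx => mem_centralizer_singleton_iff.2 (mem_centralizer_iff.1 hx a (mem_zpowers a)).symm
  have hfirst : ∀ g : G, ∃ x ∈ ⁅L, zpowers a⁆, g * a * g⁻¹ = x * a * x⁻¹ := by
    intro g
    obtain ⟨l, hl, he⟩ := hconj g
    obtain ⟨c, hc, x, hx, hlx⟩ :=
      Coprime.exists_eq_centralizer_mul_commutator hAL hcop hs (inv_mem hl)
    have hca : c * a = a * c := mem_centralizer_singleton_iff.1 (hcz hc.2)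
    refine ⟨x⁻¹, inv_mem hx, ?_⟩
    rw [he, show l = x⁻¹ * c⁻¹ by rw [← inv_inj, hlx]; group]
    calc x⁻¹ * c⁻¹ * a * (x⁻¹ * c⁻¹)⁻¹ = x⁻¹ * (c⁻¹ * (a * c)) * x := by group
      _ = x⁻¹ * a * x⁻¹⁻¹ := by rw [← hca]; group
  refine ⟨hfirst, ?_⟩
  by_contra hno
  push Not at hno
  have hle : ⁅L, zpowers a⁆ ≤ centralizer ({a} : Set G) := le_of_cover fun y hy => by
    obtain ⟨g, hg⟩ := hno y hy
    obtain ⟨x, hx, he⟩ := hfirst g
    rw [he] at hg
    refine ⟨x, hx, mem_centralizer_singleton_iff.2 ?_⟩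
    calc x⁻¹ * y * x * a = x⁻¹ * (y * (x * a * x⁻¹)) * x := by group
      _ = x⁻¹ * ((x * a * x⁻¹) * y) * x := by rw [hg.eq]
      _ = a * (x⁻¹ * y * x) := by group
  apply hnot
  intro l hl
  obtain ⟨c, hc, x, hx, rfl⟩ := Coprime.exists_eq_centralizer_mul_commutator hAL hcop hs hl
  exact mul_mem (hcz hc.2) (hle hx)

omit [L.Normal] in
/-- A product decomposition from coprime indices. -/
theorem product_of_coprime (U V : Subgroup G) (hU : U ≤ L) (hV : V ≤ L)
    (hco : (U.relIndex L).Coprime (V.relIndex L)) : ∀ l ∈ L, ∃ u ∈ U, ∃ v ∈ V, l = u * v := by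
  have h1 := Hall.card_mul_inf U V
  have hsub : (U : Set G) * (V : Set G) ⊆ (L : Set G) := by
    rintro _ ⟨u, hu, v, hv, rfl⟩
    exact mul_mem (hU hu) (hV hv)
  have e1 : (U ⊓ V).relIndex U * U.relIndex L = (U ⊓ V).relIndex L :=
    relIndex_mul_relIndex _ _ _ inf_le_left hU
  have e2 : (U ⊓ V).relIndex V * V.relIndex L = (U ⊓ V).relIndex L :=
    relIndex_mul_relIndex _ _ _ inf_le_right hV
  have e3 : U.relIndex L * V.relIndex L ≤ (U ⊓ V).relIndex L := by
    refine Nat.le_of_dvd (Nat.pos_of_ne_zero index_ne_zero_of_finite) ?_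
    exact Nat.Coprime.mul_dvd_of_dvd_of_dvd hco (e1 ▸ dvd_mul_left _ _) (e2 ▸ dvd_mul_left _ _)
  have c0 : ∀ A B : Subgroup G, A ≤ B → Nat.card A * A.relIndex B = Nat.card B := fun A B hAB => by
    rw [← relIndex_bot_left, ← relIndex_bot_left]; exact relIndex_mul_relIndex _ _ _ bot_le hAB
  have hge : Nat.card L ≤ Nat.card ↥((U : Set G) * (V : Set G)) := by
    refine Nat.le_of_mul_le_mul_right ?_ (Nat.mul_pos (Nat.mul_pos (Nat.card_pos (α := ↥(U ⊓ V)))
      (Nat.pos_of_ne_zero (index_ne_zero_of_finite : U.relIndex L ≠ 0)))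
      (Nat.pos_of_ne_zero (index_ne_zero_of_finite : V.relIndex L ≠ 0)))
    calc Nat.card L * (Nat.card ↥(U ⊓ V) * U.relIndex L * V.relIndex L)
        = Nat.card L * (Nat.card ↥(U ⊓ V) * (U.relIndex L * V.relIndex L)) := by ring
      _ ≤ Nat.card L * (Nat.card ↥(U ⊓ V) * (U ⊓ V).relIndex L) :=
          Nat.mul_le_mul_left _ (Nat.mul_le_mul_left _ e3)
      _ = (Nat.card U * U.relIndex L) * (Nat.card V * V.relIndex L) := by
          rw [c0 _ L (inf_le_left.trans hU), c0 U L hU, c0 V L hV]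
      _ = (Nat.card U * Nat.card V) * (U.relIndex L * V.relIndex L) := by ring
      _ = _ := by rw [← h1]; simp only [Subgroup.relIndex]; ring
  intro l hl
  have heq : (U : Set G) * (V : Set G) = (L : Set G) :=
    Set.eq_of_subset_of_ncard_le hsub (by rw [← Nat.card_coe_set_eq, ← Nat.card_coe_set_eq]; exact hge)
  have : l ∈ (U : Set G) * (V : Set G) := heq ▸ hl
  obtain ⟨u, hu, v, hv, rfl⟩ := this
  exact ⟨u, hu, v, hv, rfl⟩

/-- With coprime centralizer indices some element commutes with no conjugate of `a` or of `b`. -/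
theorem exists_lacking_both {a b : G} (h : Pair L a b)
    (hconjb : ∀ g : G, ∃ l ∈ L, g * b * g⁻¹ = l * b * l⁻¹)
    (hco : ((L ⊓ centralizer ({b} : Set G)).relIndex L).Coprime
      ((L ⊓ centralizer ({a} : Set G)).relIndex L)) :
    ∃ x : G, (∀ g : G, ¬ Commute x (g * a * g⁻¹)) ∧ ∀ g : G, ¬ Commute x (g * b * g⁻¹) := by
  have hp := product_of_coprime L _ _ inf_le_left inf_le_left hco
  have hpab : ∀ l ∈ L, ∃ u v, u ∈ L ∧ v ∈ L ∧ Commute u b ∧ Commute v a ∧ l = u * v := fun l hl => by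
    obtain ⟨u, hu, v, hv, e⟩ := hp l hl
    exact ⟨u, v, hu.1, hv.1, mem_centralizer_singleton_iff.1 hu.2, mem_centralizer_singleton_iff.1 hv.2, e⟩
  have hpba : ∀ l ∈ L, ∃ u v, u ∈ L ∧ v ∈ L ∧ Commute u a ∧ Commute v b ∧ l = u * v := fun l hl => by
    obtain ⟨u, v, hu, hv, hub, hva, e⟩ := hpab l⁻¹ (inv_mem hl)
    exact ⟨v⁻¹, u⁻¹, inv_mem hv, inv_mem hu, hva.inv_left, hub.inv_left, by rw [← inv_inv l, e, mul_inv_rev]⟩
  have hN1 := commutator_le_of_product L h.comm hpab
  have hN2 := commutator_le_of_product L h.comm.symm hpba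
  have hcomm := commute_of_product L (a := a) (N := ⁅L, zpowers b⁆)
    (fun u hu w hw => commutator_inv_conj L hu hw) (fun w hw => mem_centralizer_singleton_iff.1 (hN2 hw).2)
  obtain ⟨hca, y, hy, hya⟩ := exists_lacking L h.coa h.conja h.nota
  obtain ⟨hcb, z, hz, hzb⟩ := exists_lacking L h.cob hconjb h.notb
  have hyz : ∀ x ∈ ⁅L, zpowers a⁆, ∀ w ∈ ⁅L, zpowers b⁆, Commute x w := fun x hx w hw =>
    (mem_centralizer_iff.1 (hcomm hx) w hw).symm
  have hy_b : Commute y b := mem_centralizer_singleton_iff.1 (hN1 hy).2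
  have hz_a : Commute z a := mem_centralizer_singleton_iff.1 (hN2 hz).2
  refine ⟨y * z, fun g hg => ?_, fun g hg => ?_⟩
  · obtain ⟨x, hx, he⟩ := hca g
    apply hya g
    have hzc : Commute z (g * a * g⁻¹) := by
      rw [he]; exact ((hyz x hx z hz).symm.mul_right hz_a).mul_right (hyz x hx z hz).symm.inv_right
    have := hg.mul_left hzc.inv_left
    rwa [mul_inv_cancel_right] at this
  · obtain ⟨w, hw, he⟩ := hcb g
    apply hzb g
    have hyc : Commute y (g * b * g⁻¹) := by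
      rw [he]; exact ((hyz y hy w hw).mul_right hy_b).mul_right (hyz y hy w hw).inv_right
    have := hyc.inv_left.mul_left hg
    rwa [inv_mul_cancel_left] at this

omit [L.Normal] in
/-- Unless some element commutes with no conjugate of `a` or `b`, some element of `C_L(a)` commutes
with no conjugate of `b`. -/
theorem exists_centralizing_lacking {a b : G} (hconja : ∀ g : G, ∃ l ∈ L, g * a * g⁻¹ = l * a * l⁻¹)
    (hconjb : ∀ g : G, ∃ l ∈ L, g * b * g⁻¹ = l * b * l⁻¹) (hnotb : ¬ L ≤ centralizer ({b} : Set G))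
    (hno : ∀ x : G, (∃ g, Commute x (g * a * g⁻¹)) ∨ ∃ g, Commute x (g * b * g⁻¹)) :
    ∃ z ∈ L, Commute z a ∧ ∀ g : G, ¬ Commute z (g * b * g⁻¹) := by
  by_contra hc
  push Not at hc
  refine hnotb (le_of_cover fun y hy => ?_)
  obtain ⟨g, hg⟩ : ∃ g, Commute y (g * b * g⁻¹) := by
    rcases hno y with ⟨g, hg⟩ | h'
    · obtain ⟨l, hl, he⟩ := hconja g
      rw [he] at hg
      have hla : Commute (l⁻¹ * y * l) a := by
        show l⁻¹ * y * l * a = a * (l⁻¹ * y * l)
        calc l⁻¹ * y * l * a = l⁻¹ * (y * (l * a * l⁻¹)) * l := by group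
          _ = l⁻¹ * ((l * a * l⁻¹) * y) * l := by rw [hg.eq]
          _ = a * (l⁻¹ * y * l) := by group
      obtain ⟨g', hg'⟩ := hc _ (mul_mem (mul_mem (inv_mem hl) hy) hl) hla
      refine ⟨l * g', ?_⟩
      show y * (l * g' * b * (l * g')⁻¹) = l * g' * b * (l * g')⁻¹ * y
      calc y * (l * g' * b * (l * g')⁻¹) = l * ((l⁻¹ * y * l) * (g' * b * g'⁻¹)) * l⁻¹ := by group
        _ = l * ((g' * b * g'⁻¹) * (l⁻¹ * y * l)) * l⁻¹ := by rw [hg'.eq]
        _ = _ := by group
    · exact h'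
  obtain ⟨l, hl, he⟩ := hconjb g
  rw [he] at hg
  refine ⟨l, hl, mem_centralizer_singleton_iff.2 ?_⟩
  calc l⁻¹ * y * l * b = l⁻¹ * (y * (l * b * l⁻¹)) * l := by group
    _ = l⁻¹ * ((l * b * l⁻¹) * y) * l := by rw [hg.eq]
    _ = b * (l⁻¹ * y * l) := by group

theorem coprime_orderOf_mem {x : G} (hx : x ∈ L) {a : G} (h : (orderOf a).Coprime (Nat.card L)) :
    (orderOf a).Coprime (orderOf x) :=
  h.coprime_dvd_right (by rw [← Subgroup.orderOf_mk x hx]; exact orderOf_dvd_natCard _)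

/-- A small prime has a neighbour dividing `|L|`. -/
theorem exists_neighbour {q : ℕ} [Fact q.Prime] (hL : ¬ Group.IsSolvable L) {Q : Sylow q G} {b : G}
    (hbQ : b ∈ (Q : Subgroup G))
    (hconj : ∀ g : G, ∃ l ∈ L, g * b * g⁻¹ = l * b * l⁻¹) (hnot : ¬ L ≤ centralizer ({b} : Set G)) :
    ∃ s : ℕ, s.Prime ∧ s ∣ Nat.card L ∧ Adj q s G := by
  by_contra hno
  push Not at hno
  have hcentral : ∀ y ∈ L, (∀ g, ¬ Commute y (g * b * g⁻¹)) → L ≤ centralizer ({y} : Set G) := by
    intro y hy hlack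
    by_contra hle
    obtain ⟨s, hs, hsd⟩ := exists_prime_dvd_relIndex hle
    exact hno s hs (hsd.trans (index_dvd_card (((centralizer ({y} : Set G))).subgroupOf L)))
      ⟨y, dvd_cs_of_lacking hbQ hlack, hsd.trans (relIndex_dvd_index L _)⟩
  -- some central element of `L` fails to commute with `b`
  set Z := L ⊓ centralizer (L : Set G) with hZdef
  obtain ⟨z, hz, hzb⟩ : ∃ z ∈ Z, z ∉ centralizer ({b} : Set G) := by
    by_contra hc
    push Not at hc
    refine hnot (le_of_cover fun y hy => ?_)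
    by_cases hlack : ∀ g, ¬ Commute y (g * b * g⁻¹)
    · refine ⟨1, one_mem _, ?_⟩
      rw [inv_one, one_mul, mul_one]
      exact hc y ⟨hy, mem_centralizer_iff.2 fun w hw => mem_centralizer_singleton_iff.1 (hcentral y hy hlack hw)⟩
    · push Not at hlack
      obtain ⟨g, hg⟩ := hlack
      obtain ⟨l, hl, he⟩ := hconj g
      rw [he] at hg
      refine ⟨l, hl, mem_centralizer_singleton_iff.2 ?_⟩
      calc l⁻¹ * y * l * b = l⁻¹ * (y * (l * b * l⁻¹)) * l := by group
        _ = l⁻¹ * ((l * b * l⁻¹) * y) * l := by rw [hg.eq]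
        _ = b * (l⁻¹ * y * l) := by group
  obtain ⟨k, hk, r, e, hr, hro⟩ := ClassProduct.exists_prime_power _ hzb
  haveI : Fact r.Prime := ⟨hr⟩
  set y := z ^ k with hy
  have hyZ : y ∈ Z := pow_mem hz k
  have hylack : ∀ g, ¬ Commute y (g * b * g⁻¹) := by
    intro g hg
    obtain ⟨l, hl, he⟩ := hconj g
    rw [he] at hg
    have hly : l * y = y * l := mem_centralizer_iff.1 hyZ.2 l hl
    refine hk (mem_centralizer_singleton_iff.2 ?_)
    calc y * b = l⁻¹ * (l * y) * b * l⁻¹ * l := by group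
      _ = l⁻¹ * (y * (l * b * l⁻¹)) * l := by rw [hly]; group
      _ = l⁻¹ * ((l * b * l⁻¹) * y) * l := by rw [hg.eq]
      _ = b * (l⁻¹ * y * l) := by group
      _ = b * y := by rw [mul_assoc l⁻¹ y l, ← hly, inv_mul_cancel_left]
  -- a noncentral element of order prime to `r`
  obtain ⟨d, hd, hdr, hdC⟩ : ∃ d ∈ L, (orderOf d).Coprime r ∧ ¬ L ≤ centralizer ({d} : Set G) := by
    by_contra hc
    push Not at hc
    refine hL ?_
    have hp : IsPGroup r (L ⧸ center L) := by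
      intro g
      obtain ⟨x, rfl⟩ := QuotientGroup.mk_surjective g
      obtain ⟨c, m, hm, hxo⟩ := Nat.exists_eq_pow_mul_and_not_dvd (orderOf_pos x).ne' r hr.ne_one
      refine ⟨c, ?_⟩
      rw [← QuotientGroup.mk_pow, QuotientGroup.eq_one_iff, mem_center_iff]
      intro w
      have hco : (orderOf ((x ^ r ^ c : L) : G)).Coprime r := by
        rw [Subgroup.orderOf_coe, orderOf_pow_of_dvd (pow_ne_zero _ hr.ne_zero) (hxo ▸ dvd_mul_right _ _),
          hxo, Nat.mul_div_cancel_left _ (pow_pos hr.pos c)]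
        exact (hr.coprime_iff_not_dvd.2 hm).symm
      exact Subtype.ext (mem_centralizer_singleton_iff.1 (hc _ (x ^ r ^ c : L).2 hco w.2))
    haveI : Group.IsSolvable (L ⧸ center L) := by
      haveI := hp.isNilpotent
      exact IsNilpotent.to_isSolvable
    haveI : Group.IsSolvable (center L) := isSolvable_of_comm fun a b => Subtype.ext (mem_center_iff.1 b.2 a)
    exact (Group.isSolvable_iff_subgroup_quotient (center L)).2 ⟨inferInstance, inferInstance⟩
  obtain ⟨s, hs, hsd⟩ := exists_prime_dvd_relIndex hdC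
  have hyd : Commute y d := (mem_centralizer_iff.1 hyZ.2 d hd).symm
  have hco : (orderOf y).Coprime (orderOf d) := by
    rw [hro]; exact (hdr.symm).pow_left e
  obtain ⟨h1, h2⟩ := cs_dvd_mul hyd hco
  exact hno s hs (hsd.trans (index_dvd_card _))
    ⟨y * d, (dvd_cs_of_lacking hbQ hylack).trans h1, (hsd.trans (relIndex_dvd_index L _)).trans h2⟩

/-- Two small primes are adjacent or have a common neighbour. -/
theorem small_small {p q : ℕ} [Fact p.Prime] [Fact q.Prime] {P : Sylow p G} {Q : Sylow q G} {a b : G}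
    (haP : a ∈ (P : Subgroup G)) (hbQ : b ∈ (Q : Subgroup G)) (h : Pair L a b)
    (hconjb : ∀ g : G, ∃ l ∈ L, g * b * g⁻¹ = l * b * l⁻¹) :
    Adj p q G ∨ ∃ s : ℕ, s.Prime ∧ s ∣ Nat.card L ∧ Adj p s G ∧ Adj s q G := by
  by_cases hboth : ∃ x : G, (∀ g, ¬ Commute x (g * a * g⁻¹)) ∧ ∀ g, ¬ Commute x (g * b * g⁻¹)
  · obtain ⟨x, hxa, hxb⟩ := hboth
    exact Or.inl ⟨x, dvd_cs_of_lacking haP hxa, dvd_cs_of_lacking hbQ hxb⟩
  have hno : ∀ x : G, (∃ g, Commute x (g * a * g⁻¹)) ∨ ∃ g, Commute x (g * b * g⁻¹) := fun x => by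
    by_contra hc
    exact hboth ⟨x, fun g hg => hc (Or.inl ⟨g, hg⟩), fun g hg => hc (Or.inr ⟨g, hg⟩)⟩
  set U := L ⊓ centralizer ({b} : Set G)
  set V := L ⊓ centralizer ({a} : Set G)
  have hnc : ¬ (U.relIndex L).Coprime (V.relIndex L) := fun hco =>
    hboth (exists_lacking_both L h hconjb hco)
  obtain ⟨s, hs, hsU, hsV⟩ := Nat.Prime.not_coprime_iff_dvd.1 hnc
  obtain ⟨z, hzL, hza, hzb⟩ := exists_centralizing_lacking L h.conja hconjb h.notb hno
  obtain ⟨w, hwL, hwb, hwa⟩ := exists_centralizing_lacking L hconjb h.conja h.nota (fun x => (hno x).symm)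
  have eU : U.relIndex L = (centralizer ({b} : Set G)).relIndex L := inf_relIndex_left _ _
  have eV : V.relIndex L = (centralizer ({a} : Set G)).relIndex L := inf_relIndex_left _ _
  refine Or.inr ⟨s, hs, hsU.trans (index_dvd_card _), ?_, ?_⟩
  · obtain ⟨h1, h2⟩ := cs_dvd_mul hwb (coprime_orderOf_mem L hwL h.cob).symm
    exact ⟨w * b, (dvd_cs_of_lacking haP hwa).trans h1,
      ((eU ▸ hsU).trans (relIndex_dvd_index L _)).trans h2⟩
  · obtain ⟨h1, h2⟩ := cs_dvd_mul hza (coprime_orderOf_mem L hzL h.coa).symm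
    exact ⟨z * a, ((eV ▸ hsV).trans (relIndex_dvd_index L _)).trans h2,
      (dvd_cs_of_lacking hbQ hzb).trans h1⟩

end Cfsg.Agent.GStructB.ClassGraph
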