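import Mathlib

/-!
Elementary facts on elements of prime power order, conjugation and powers used across this block.
-/

set_option autoImplicit false

namespace Cfsg.Agent.GStructB.PElements

open scoped Pointwise

variable {G : Type*} [Group G]

/-- Membership in a conjugate. -/
theorem mem_conj_smul {H : Subgroup G} {g x : G} :
    x ∈ MulAut.conj g • H ↔ g⁻¹ * x * g ∈ H := by
  rw [Subgroup.mem_pointwise_smul_iff_inv_smul_mem, ← map_inv]
  simp [MulAut.smul_def]

/-- Two powers with coprime exponents determine the element. -/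
theorem mem_of_pow_mem_coprime {K : Subgroup G} {x : G} {a b : ℕ} (hab : a.Coprime b)
    (ha : x ^ a ∈ K) (hb : x ^ b ∈ K) : x ∈ K := by
  have h := Nat.gcd_eq_gcd_ab a b
  rw [hab.gcd_eq_one, Nat.cast_one] at h
  have := mul_mem (K.zpow_mem ha (a.gcdA b)) (K.zpow_mem hb (a.gcdB b))
  rwa [← zpow_natCast, ← zpow_natCast, ← zpow_mul, ← zpow_mul, ← zpow_add, ← h, zpow_one] at this

/-- The cyclic group of a `p`-element is a `p`-group. -/
theorem isPGroup_zpowers {p : ℕ} {x : G} {k : ℕ} (h : orderOf x = p ^ k) :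
    IsPGroup p (Subgroup.zpowers x) :=
  IsPGroup.of_card (n := k) (by rw [Nat.card_zpowers, h])

/-- A `p`-element of a finite group lies in a Sylow subgroup. -/
theorem exists_mem_sylow {p : ℕ} {x : G} {k : ℕ} (h : orderOf x = p ^ k) :
    ∃ P : Sylow p G, x ∈ P := by
  obtain ⟨P, hP⟩ := (isPGroup_zpowers h).exists_le_sylow
  exact ⟨P, hP (Subgroup.mem_zpowers x)⟩

/-- Elements of a `p`-subgroup are `p`-elements. -/
theorem exists_orderOf_eq {p : ℕ} [Fact p.Prime] {P : Subgroup G} (hP : IsPGroup p P) {x : G}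
    (hx : x ∈ P) : ∃ k : ℕ, orderOf x = p ^ k := by
  obtain ⟨k, hk⟩ := IsPGroup.iff_orderOf.mp hP ⟨x, hx⟩
  exact ⟨k, by rwa [Subgroup.orderOf_mk] at hk⟩

/-- Splitting off the `p`-part: `x` lies in a subgroup as soon as its `p`-part and some power of it
prime to `p` do. -/
theorem exists_split [Finite G] (p : ℕ) [hp : Fact p.Prime] (x : G) :
    ∃ a s : ℕ, orderOf x = p ^ a * s ∧ ¬ p ∣ s ∧ orderOf (x ^ s) = p ^ a := by
  obtain ⟨a, s, hs, h⟩ := Nat.exists_eq_pow_mul_and_not_dvd (orderOf_pos x).ne' p hp.out.ne_one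
  refine ⟨a, s, h, hs, ?_⟩
  have hs0 : s ≠ 0 := fun h0 => hs (h0 ▸ dvd_zero p)
  rw [orderOf_pow' x hs0, h, Nat.gcd_eq_right (dvd_mul_left _ _),
    Nat.mul_div_cancel _ (Nat.pos_of_ne_zero hs0)]

/-- An automorphism of a cyclic `p`-group fixing a nontrivial element has `p`-power order. -/
theorem pow_modEq_one {p k a : ℕ} (h : k ≡ 1 [MOD p]) : k ^ p ^ a ≡ 1 [MOD p ^ (a + 1)] := by
  have h1 : (p : ℤ) ∣ (k : ℤ) - 1 := by
    have := Nat.modEq_iff_dvd.mp h.symm
    simpa using this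
  have := dvd_sub_pow_of_dvd_sub h1 a
  rw [one_pow] at this
  rw [Nat.ModEq.comm, Nat.modEq_iff_dvd]
  exact_mod_cast this

/-- If conjugation by `c` maps a `p`-element `z` to `z ^ k` with `k ≡ 1 [MOD p]`, some `p`-power of
`c` centralises `z`. -/
theorem exists_pow_commute {p : ℕ} {z c : G} {k a : ℕ} (hz : orderOf z ∣ p ^ a)
    (hc : c * z * c⁻¹ = z ^ k) (hk : k ≡ 1 [MOD p]) :
    ∃ m : ℕ, c ^ p ^ m * z = z * c ^ p ^ m := by
  refine ⟨a, ?_⟩
  have hpow : ∀ j : ℕ, c ^ j * z * (c ^ j)⁻¹ = z ^ k ^ j := by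
    intro j
    induction j with
    | zero => simp
    | succ j ih =>
      calc c ^ (j + 1) * z * (c ^ (j + 1))⁻¹ = c * (c ^ j * z * (c ^ j)⁻¹) * c⁻¹ := by
            rw [pow_succ']; group
        _ = (c * z * c⁻¹) ^ k ^ j := by rw [ih, conj_pow]
        _ = z ^ k ^ (j + 1) := by rw [hc, ← pow_mul, pow_succ']
  have h1 : z ^ k ^ p ^ a = z := by
    conv_rhs => rw [← pow_one z]
    rw [pow_eq_pow_iff_modEq]
    exact ((pow_modEq_one (a := a) hk).of_dvd (pow_dvd_pow p a.le_succ)).of_dvd hz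
  rw [← mul_inv_eq_iff_eq_mul, hpow, h1]

end Cfsg.Agent.GStructB.PElements
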