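import Mathlib
import Cfsg.Agent.GStructB.PElements
import Cfsg.Agent.GStructB.ClassGraph

/-!
Normal subgroups on which the conjugacy classes of the group have only two sizes `1` and `m`.

If such a normal subgroup `N` contains a non-central Sylow `r`-subgroup of the group and `r ∣ m`,
then every `r'`-element of `N` is central.
-/

set_option autoImplicit false
set_option linter.unusedSectionVars false
set_option linter.style.haveILetI false

namespace Cfsg.Agent.GStructB.TwoSizes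

open Subgroup

universe u

variable {G : Type u} [Group G] [Finite G]

/-- The order of a Sylow `l`-subgroup. -/
noncomputable def lp (l : ℕ) (H : Subgroup G) : ℕ := l ^ (Nat.card H).factorization l

theorem lp_pos {l : ℕ} (hl : l.Prime) (H : Subgroup G) : 0 < lp l H := pow_pos hl.pos _

theorem card_le_lp {l : ℕ} [Fact l.Prime] {T H : Subgroup G} (hT : IsPGroup l T) (h : T ≤ H) :
    Nat.card T ≤ lp l H := by
  have hl : l.Prime := Fact.out
  obtain ⟨k, hk⟩ := hT.exists_card_eq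
  rw [hk]
  refine Nat.pow_le_pow_right hl.pos ?_
  exact (hl.pow_dvd_iff_le_factorization Nat.card_pos.ne').1 (hk ▸ card_dvd_of_le h)

theorem exists_sylow_in {l : ℕ} [Fact l.Prime] (H : Subgroup G) :
    ∃ T : Subgroup G, T ≤ H ∧ IsPGroup l T ∧ Nat.card T = lp l H := by
  obtain ⟨S⟩ : Nonempty (Sylow l H) := inferInstance
  exact ⟨(S : Subgroup H).map H.subtype, map_subtype_le _, S.2.map _,
    by rw [card_subtype, S.card_eq_multiplicity]; rfl⟩

theorem lp_le_of_le {l : ℕ} [Fact l.Prime] {H K : Subgroup G} (h : H ≤ K) : lp l H ≤ lp l K := by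
  obtain ⟨T, hT, hTp, hc⟩ := exists_sylow_in (l := l) H
  rw [← hc]
  exact card_le_lp hTp (hT.trans h)

theorem card_mul_card_le {H K U : Subgroup G} (hH : H ≤ U) (hK : K ≤ U) :
    Nat.card H * Nat.card K ≤ Nat.card U * Nat.card (H ⊓ K : Subgroup G) := by
  have h1 : (H ⊓ K).relIndex H ≤ K.relIndex U := by
    rw [inf_relIndex_left]
    exact relIndex_le_of_le_right hH (K.subgroupOf U).index_ne_zero_of_finite
  have h2 : Nat.card (H ⊓ K : Subgroup G) * (H ⊓ K).relIndex H = Nat.card H := by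
    have := ((H ⊓ K).subgroupOf H).card_mul_index
    rwa [Nat.card_congr (subgroupOfEquivOfLe inf_le_left).toEquiv] at this
  have h3 : Nat.card K * K.relIndex U = Nat.card U := by
    have := (K.subgroupOf U).card_mul_index
    rwa [Nat.card_congr (subgroupOfEquivOfLe hK).toEquiv] at this
  calc Nat.card H * Nat.card K
      = Nat.card (H ⊓ K : Subgroup G) * (H ⊓ K).relIndex H * Nat.card K := by rw [h2]
    _ ≤ Nat.card (H ⊓ K : Subgroup G) * K.relIndex U * Nat.card K :=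
        Nat.mul_le_mul_right _ (Nat.mul_le_mul_left _ h1)
    _ = (Nat.card K * K.relIndex U) * Nat.card (H ⊓ K : Subgroup G) := by ring
    _ = _ := by rw [h3]

theorem conj_mem_of_normal {N : Subgroup G} [hN : N.Normal] {a : G} (ha : a ∈ N) (g : G) : g * a * g⁻¹ ∈ N :=
  hN.conj_mem a ha g

theorem lp_inf_sylow {l : ℕ} [Fact l.Prime] (Q : Sylow l G) {H : Subgroup G}
    (hQ : (Q : Subgroup G) ≤ normalizer (H : Set G)) :
    Nat.card ((Q : Subgroup G) ⊓ H : Subgroup G) = lp l H := by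
  refine le_antisymm (card_le_lp (Q.2.to_le inf_le_left) inf_le_right) ?_
  set J := normalizer (H : Set G) with hJ
  obtain ⟨T, hTH, hTp, hTc⟩ := exists_sylow_in (l := l) H
  have hTJ : T ≤ J := hTH.trans le_normalizer
  obtain ⟨S, hS⟩ := (hTp.of_equiv (subgroupOfEquivOfLe hTJ).symm).exists_le_sylow
  obtain ⟨c, hc⟩ := MulAction.exists_smul_eq J S (Q.subtype hQ)
  rw [← hTc]
  have hmem : ∀ t ∈ T, (c : G) * t * (c : G)⁻¹ ∈ (Q : Subgroup G) ⊓ H := by
    intro t ht
    refine ⟨?_, (mem_normalizer_iff.1 c.2 t).1 (hTH ht)⟩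
    have h1 : c * ⟨t, hTJ ht⟩ * c⁻¹ ∈ ((c • S : Sylow l J) : Subgroup J) := by
      rw [Sylow.coe_subgroup_smul, PElements.mem_conj_smul]
      simpa [mul_assoc] using hS (show (⟨t, hTJ ht⟩ : J) ∈ T.subgroupOf J from ht)
    rw [hc, Sylow.coe_subtype, mem_subgroupOf] at h1
    simp only [Subgroup.coe_mul, Subgroup.coe_inv] at h1
    exact h1
  exact Nat.card_le_card_of_injective (fun t : T => (⟨_, hmem t t.2⟩ : ((Q : Subgroup G) ⊓ H : Subgroup G)))
    fun a b h => Subtype.ext (mul_left_cancel (mul_right_cancel (Subtype.ext_iff.1 h)))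

/-- An element of `l`-power order. -/
def IsL (l : ℕ) (g : G) : Prop := ∃ k, orderOf g = l ^ k

theorem isL_conj {l : ℕ} {g : G} (h : IsL l g) (c : G) : IsL l (c * g * c⁻¹) := by
  obtain ⟨k, hk⟩ := h
  exact ⟨k, by rw [← hk]; exact orderOf_injective (MulAut.conj c).toMonoidHom (MulAut.conj c).injective g⟩

theorem isL_of_mem {l : ℕ} [Fact l.Prime] {T : Subgroup G} (hT : IsPGroup l T) {g : G} (hg : g ∈ T) :
    IsL l g := PElements.exists_orderOf_eq hT hg

theorem coprime_of_isL {l t : ℕ} (hl : l.Prime) (ht : t.Prime) (hne : l ≠ t) {a b : G} (ha : IsL l a)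
    (hb : IsL t b) : (orderOf a).Coprime (orderOf b) := by
  obtain ⟨i, hi⟩ := ha
  obtain ⟨j, hj⟩ := hb
  rw [hi, hj]
  exact ((Nat.coprime_primes hl ht).2 hne).pow i j

/-- The centraliser. -/
abbrev cent (g : G) : Subgroup G := centralizer ({g} : Set G)

theorem mem_cent {g z : G} : z ∈ cent g ↔ Commute z g := mem_centralizer_singleton_iff

theorem self_mem_cent (g : G) : g ∈ cent g := mem_cent.2 (Commute.refl g)

theorem cent_le_pow (g : G) (k : ℕ) : cent g ≤ cent (g ^ k) := fun _ h => mem_cent.2 ((mem_cent.1 h).pow_right k)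

theorem conj_mem_cent {g z c : G} (h : z ∈ cent g) : c * z * c⁻¹ ∈ cent (c * g * c⁻¹) :=
  mem_cent.2 ((mem_cent.1 h).map (MulAut.conj c).toMonoidHom)

theorem card_cent_conj (g c : G) : Nat.card (cent (c * g * c⁻¹)) = Nat.card (cent g) := by
  refine (Nat.card_congr (Equiv.ofBijective (fun z : cent g => (⟨c * z * c⁻¹, conj_mem_cent z.2⟩ :
    cent (c * g * c⁻¹))) ⟨fun a b h => Subtype.ext (mul_left_cancel (mul_right_cancel (Subtype.ext_iff.1 h))),
    fun z => ⟨⟨c⁻¹ * z * c, ?_⟩, Subtype.ext (by group)⟩⟩)).symm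
  have h := conj_mem_cent (c := c⁻¹) z.2
  rwa [inv_inv, show c⁻¹ * (c * g * c⁻¹) * c = g by group] at h

/-- A primary component of a non-central element is non-central. -/
theorem exists_primary {g : G} (hg : g ∉ center G) :
    ∃ l : ℕ, l.Prime ∧ ∃ k : ℕ, IsL l (g ^ k) ∧ g ^ k ∉ center G := by
  set d := orderOf (QuotientGroup.mk g : G ⧸ center G) with hd
  have hd1 : d ≠ 1 := fun h => hg ((QuotientGroup.eq_one_iff g).1 (orderOf_eq_one_iff.1 h))
  obtain ⟨l, hl, hld⟩ := Nat.exists_prime_and_dvd hd1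
  haveI : Fact l.Prime := ⟨hl⟩
  obtain ⟨a, s, -, hs, hu⟩ := PElements.exists_split l g
  refine ⟨l, hl, s, ⟨a, hu⟩, fun h => hs (hld.trans ?_)⟩
  exact orderOf_dvd_of_pow_eq_one (by rw [← QuotientGroup.mk_pow]; exact (QuotientGroup.eq_one_iff _).2 h)

/-- An element of a `t`-group commutes with an `l`-element it centralises modulo the centre. -/
theorem commute_of_mod_center {l t : ℕ} (hl : l.Prime) (ht : t.Prime) (hne : t ≠ l) {u a : G}
    (hu : IsL t u) (ha : IsL l a) (h : u * a * u⁻¹ * a⁻¹ ∈ center G) : Commute u a := by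
  set z := u * a * u⁻¹ * a⁻¹ with hz
  have hua : u * a * u⁻¹ = z * a := by rw [hz]; group
  have hzc : ∀ x : G, Commute z x := fun x => (mem_center_iff.1 h x).symm
  obtain ⟨i, hi⟩ := ha
  have h1 : z ^ l ^ i = 1 := by
    have h2 : (z * a) ^ l ^ i = 1 := by
      rw [← hua, conj_pow, ← hi, pow_orderOf_eq_one, mul_one, mul_inv_cancel]
    rwa [(hzc a).mul_pow, ← hi, pow_orderOf_eq_one, mul_one, hi] at h2
  obtain ⟨j, hj⟩ := hu
  have h3 : ∀ k : ℕ, u ^ k * a * (u ^ k)⁻¹ = z ^ k * a := by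
    intro k
    induction k with
    | zero => simp
    | succ k ih =>
      calc u ^ (k + 1) * a * (u ^ (k + 1))⁻¹ = u * (u ^ k * a * (u ^ k)⁻¹) * u⁻¹ := by
            rw [pow_succ']; group
        _ = u * z ^ k * a * u⁻¹ := by rw [ih]; group
        _ = z ^ k * (u * a * u⁻¹) := by rw [← mul_assoc, ← mul_assoc, ((hzc u).pow_left k).eq]
        _ = z ^ (k + 1) * a := by rw [hua, pow_succ]; exact (mul_assoc _ _ _).symm
  have h4 : z ^ t ^ j = 1 := by
    have := h3 (t ^ j)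
    rw [← hj, pow_orderOf_eq_one, one_mul, inv_one, mul_one, right_eq_mul] at this
    rwa [← hj]
  have h5 : z = 1 := orderOf_eq_one_iff.1 (Nat.eq_one_of_dvd_coprimes
    (((Nat.coprime_primes ht hl).2 hne).pow j i) (orderOf_dvd_of_pow_eq_one h4) (orderOf_dvd_of_pow_eq_one h1))
  rw [h5, one_mul] at hua
  exact mul_inv_eq_iff_eq_mul.1 hua

/-- A normal subgroup of a `p`-group outside a normalised subgroup has a fixed point modulo it. -/
theorem exists_step {l : ℕ} [Fact l.Prime] {Q L D : Subgroup G} (hQ : IsPGroup l Q) (hLQ : L ≤ Q)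
    (hL : Q ≤ normalizer (L : Set G)) (hD : Q ≤ normalizer (D : Set G)) (h : ¬ L ≤ D) :
    ∃ u ∈ L, u ∉ D ∧ ∀ q ∈ Q, q * u * q⁻¹ * u⁻¹ ∈ D := by
  have hl : l.Prime := Fact.out
  haveI hD' : (D.subgroupOf Q).Normal := ⟨fun d hd q => (mem_normalizer_iff.1 (hD q.2) (d : G)).1 hd⟩
  have hL' : (L.subgroupOf Q).Normal := ⟨fun d hd q => (mem_normalizer_iff.1 (hL q.2) (d : G)).1 hd⟩
  set f := QuotientGroup.mk' (D.subgroupOf Q)
  set Lb := (L.subgroupOf Q).map f with hLb
  haveI : Lb.Normal := hL'.map f (QuotientGroup.mk'_surjective _)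
  have hne : Lb ≠ ⊥ := by
    rw [Ne, hLb, Subgroup.map_eq_bot_iff, QuotientGroup.ker_mk']
    exact fun hle => h fun x hx => hle (show (⟨x, hLQ hx⟩ : Q) ∈ L.subgroupOf Q from hx)
  letI : MulAction (↥Q ⧸ D.subgroupOf Q) Lb := MulAction.compHom Lb (MulAut.conjNormal (H := Lb))
  have hQb : IsPGroup l (↥Q ⧸ D.subgroupOf Q) := hQ.to_quotient _
  obtain ⟨k, hk⟩ := (hQb.to_subgroup Lb).exists_card_eq
  have hdvd : l ∣ Nat.card Lb := by
    rcases k with _ | k
    · exact absurd (card_eq_one.1 (hk.trans (pow_zero l))) hne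
    · rw [hk]; exact dvd_pow_self l k.succ_ne_zero
  have h1 : (1 : Lb) ∈ MulAction.fixedPoints (↥Q ⧸ D.subgroupOf Q) Lb := fun g => by
    show MulAut.conjNormal g (1 : Lb) = 1
    exact map_one _
  obtain ⟨b, hb, hb1⟩ := hQb.exists_fixed_point_of_prime_dvd_card_of_fixed_point Lb hdvd h1
  obtain ⟨⟨x, hx⟩, hxL, hxb⟩ := b.2
  refine ⟨x, hxL, fun hxD => hb1 (Subtype.ext ?_).symm, fun q hq => ?_⟩
  · rw [← hxb]
    exact (QuotientGroup.eq_one_iff _).2 hxD
  · have h2 := congrArg Subtype.val (hb (f ⟨q, hq⟩))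
    change ((MulAut.conjNormal (f ⟨q, hq⟩) b : Lb) : ↥Q ⧸ D.subgroupOf Q) = b at h2
    rw [MulAut.conjNormal_apply, ← hxb, ← map_mul, ← map_inv, ← map_mul] at h2
    have h3 := QuotientGroup.eq.1 h2.symm
    have h4 := (mem_normalizer_iff.1 (hD (hLQ hxL)) _).1 (show (((⟨x, hx⟩ : Q)⁻¹ *
      (⟨q, hq⟩ * ⟨x, hx⟩ * (⟨q, hq⟩)⁻¹) : Q) : G) ∈ D from h3)
    simpa [mul_assoc] using h4

/-- The setting. -/
structure Hyp (N : Subgroup G) (r m : ℕ) : Prop where
  normal : N.Normal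
  prime : r.Prime
  sylow_le : ∀ g : G, IsL r g → g ∈ N
  noncentral : ∃ g : G, IsL r g ∧ g ∉ center G
  sizes : ∀ g ∈ N, g ∉ center G → (cent g).index = m
  dvd : r ∣ m

variable {N : Subgroup G} {r m : ℕ}

/-- The centraliser `C` is a component. -/
def IsComp (N C : Subgroup G) : Prop := ∀ w ∈ C ⊓ N, w ∉ center G → cent w = C

/-- `C ⊓ N` contains a non-central `l`-element. -/
def Full (N C : Subgroup G) (l : ℕ) : Prop := ∃ w ∈ C ⊓ N, IsL l w ∧ w ∉ center G

/-- The primes with a non-central element in `N`. -/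
def InS (N : Subgroup G) (l : ℕ) : Prop := l.Prime ∧ ∃ g ∈ N, IsL l g ∧ g ∉ center G

theorem isMulComm_of_isComp {C : Subgroup G} (hC : IsComp N C) {a b : G} (ha : a ∈ C ⊓ N) (hb : b ∈ C ⊓ N) :
    Commute a b := by
  by_cases hac : a ∈ center G
  · exact (mem_center_iff.1 hac b).symm
  · exact (mem_cent.1 ((hC a ha hac).symm ▸ hb.1)).symm

theorem mem_normalizer_of_isComp {C : Subgroup G} [N.Normal] (hC : IsComp N C) {u w : G} (hw : w ∈ C ⊓ N)
    (hwc : w ∉ center G) (h : u * w * u⁻¹ ∈ C) : u ∈ normalizer (C : Set G) := by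
  refine mem_normalizer_fintype (S := (C : Set G)) fun z hz => ?_
  have h1 : cent (u * w * u⁻¹) = C := hC _ ⟨h, conj_mem_of_normal hw.2 u⟩ fun hc => hwc (by
    rwa [(show (center G).Normal from inferInstance).mem_comm_iff, inv_mul_cancel_left] at hc)
  show u * z * u⁻¹ ∈ C
  rw [← h1]
  exact conj_mem_cent (by rw [hC w hw hwc]; exact hz)

theorem normalizer_of_central {Q : Subgroup G} {y : G} (h : ∀ q ∈ Q, q * y * q⁻¹ * y⁻¹ ∈ center G) :
    Q ≤ normalizer ((cent y : Subgroup G) : Set G) := by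
  refine fun q hq => mem_normalizer_fintype (S := ((cent y : Subgroup G) : Set G)) fun z hz => ?_
  show q * z * q⁻¹ ∈ cent y
  refine mem_cent.2 ?_
  have h2 : Commute (q * z * q⁻¹) (q * y * q⁻¹) := mem_cent.1 (conj_mem_cent hz)
  have h3 : Commute (q * z * q⁻¹) ((q * y * q⁻¹ * y⁻¹)⁻¹) := mem_center_iff.1 (inv_mem (h q hq)) _
  have h4 := h3.mul_right h2
  rwa [show (q * y * q⁻¹ * y⁻¹)⁻¹ * (q * y * q⁻¹) = y by group] at h4

theorem isPGroup_sup_center {l : ℕ} [Fact l.Prime] {g : G} (hg : IsL l g) {T : Subgroup G} (hT : IsPGroup l T)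
    (hTc : T ≤ center G) : IsPGroup l (T ⊔ zpowers g : Subgroup G) := by
  obtain ⟨k, hk⟩ := hg
  haveI : T.Normal := ⟨fun t ht c => by rw [mem_center_iff.1 (hTc ht) c, mul_inv_cancel_right]; exact ht⟩
  exact hT.to_sup_of_normal_left (PElements.isPGroup_zpowers hk)

theorem center_lt_lp {l : ℕ} [Fact l.Prime] {g : G} (hg : IsL l g) (hgc : g ∉ center G) :
    lp l (center G) < lp l (cent g) := by
  obtain ⟨T, hT, hTp, hTc⟩ := exists_sylow_in (l := l) (center G)
  rw [← hTc]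
  refine lt_of_lt_of_le ?_ (card_le_lp (isPGroup_sup_center hg hTp hT)
    (sup_le (hT.trans (center_le_centralizer _)) (zpowers_le.2 (self_mem_cent g))))
  refine lt_of_not_ge fun hge => hgc (hT ?_)
  rw [eq_of_le_of_card_ge (le_sup_left : T ≤ T ⊔ zpowers g) hge]
  exact mem_sup_right (mem_zpowers g)

theorem full_of_lt {l : ℕ} [Fact l.Prime] {H : Subgroup G} (h : lp l (center G) < lp l H) :
    ∃ w ∈ H, IsL l w ∧ w ∉ center G := by
  by_contra hcon
  push Not at hcon
  obtain ⟨T, hT, hTp, hTc⟩ := exists_sylow_in (l := l) H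
  have hle : T ≤ center G := fun w hw => hcon w (hT hw) (isL_of_mem hTp hw)
  have := card_le_lp hTp hle
  omega

theorem mem_sylow_of_comm {K : Subgroup G} (hK : ∀ a ∈ K, ∀ b ∈ K, Commute a b) {l : ℕ} [Fact l.Prime]
    {T : Subgroup G} (hTK : T ≤ K) (hTp : IsPGroup l T) (hTc : Nat.card T = lp l K) {w : G} (hw : w ∈ K)
    (hwl : IsL l w) : w ∈ T := by
  obtain ⟨k, hk⟩ := hwl
  have hn : zpowers w ≤ normalizer (T : Set G) := zpowers_le.2 (mem_normalizer_fintype (S := (T : Set G))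
    fun t ht => by
      show w * t * w⁻¹ ∈ T
      rw [(hK w hw t (hTK ht)).eq, mul_inv_cancel_right]
      exact ht)
  have h := hTp.to_sup_of_normal_left' (PElements.isPGroup_zpowers hk) hn
  have hle := card_le_lp h (sup_le hTK (zpowers_le.2 hw))
  rw [← hTc] at hle
  rw [eq_of_le_of_card_ge (le_sup_left : T ≤ T ⊔ zpowers w) hle]
  exact mem_sup_right (mem_zpowers w)

/-- A group normalising a component acts semiregularly on it. -/
theorem orbit_bound [N.Normal] {C U : Subgroup G} {t l : ℕ} [Fact t.Prime] [Fact l.Prime] (hne : t ≠ l)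
    (hcC : center G ≤ C) (hC : IsComp N C) (hU : IsPGroup t U) (hUC : U ≤ normalizer (C : Set G))
    (hfull : Full N C l) : C.relIndex U * lp l (center G ⊓ N) < lp l (C ⊓ N) := by
  classical
  obtain ⟨a, haK, hal, hac⟩ := hfull
  obtain ⟨T, hTK, hTp, hTc⟩ := exists_sylow_in (l := l) (C ⊓ N)
  obtain ⟨Zs, hZs, hZp, hZc⟩ := exists_sylow_in (l := l) (center G ⊓ N)
  have hcomm : ∀ x ∈ C ⊓ N, ∀ y ∈ C ⊓ N, Commute x y := fun x hx y hy => isMulComm_of_isComp hC hx hy
  have hZT : Zs ≤ T := fun z hz => mem_sylow_of_comm hcomm hTK hTp hTc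
    ⟨hcC (hZs hz).1, (hZs hz).2⟩ (isL_of_mem hZp hz)
  have hmem : ∀ u ∈ U, ∀ z ∈ Zs, u * a * u⁻¹ * z ∈ T := fun u hu z hz =>
    mul_mem (mem_sylow_of_comm hcomm hTK hTp hTc
      ⟨(mem_normalizer_iff.1 (hUC hu) a).1 haK.1, conj_mem_of_normal haK.2 u⟩ (isL_conj hal u)) (hZT hz)
  let φ : (↥U ⧸ C.subgroupOf U) × Zs → {w : T // w ≠ 1} := fun qz =>
    ⟨⟨(qz.1.out : G) * a * (qz.1.out : G)⁻¹ * qz.2, hmem _ qz.1.out.2 _ qz.2.2⟩, fun h => by
      have h1 : (qz.1.out : G) * a * (qz.1.out : G)⁻¹ = (qz.2 : G)⁻¹ :=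
        eq_inv_of_mul_eq_one_left (congrArg Subtype.val h)
      have h2 : (qz.1.out : G) * a * (qz.1.out : G)⁻¹ ∈ center G := h1 ▸ inv_mem (hZs qz.2.2).1
      rw [(show (center G).Normal from inferInstance).mem_comm_iff, inv_mul_cancel_left] at h2
      exact hac h2⟩
  have hφ : Function.Injective φ := by
    rintro ⟨p, z⟩ ⟨q, z'⟩ h
    have h1 : (p.out : G) * a * (p.out : G)⁻¹ * z = (q.out : G) * a * (q.out : G)⁻¹ * z' :=
      congrArg (fun w : {w : T // w ≠ 1} => ((w : T) : G)) h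
    have hu : ((q.out : G)⁻¹ * p.out) * a * ((q.out : G)⁻¹ * p.out)⁻¹ * a⁻¹ = (z' : G) * (z : G)⁻¹ := by
      have hzc : ∀ x : G, Commute ((z' : G) * (z : G)⁻¹) x := fun x =>
        (mem_center_iff.1 (mul_mem (hZs z'.2).1 (inv_mem (hZs z.2).1)) x).symm
      calc ((q.out : G)⁻¹ * p.out) * a * ((q.out : G)⁻¹ * p.out)⁻¹ * a⁻¹
          = (q.out : G)⁻¹ * ((p.out : G) * a * (p.out : G)⁻¹ * z) * (z : G)⁻¹ * q.out * a⁻¹ := by group
        _ = a * ((q.out : G)⁻¹ * ((z' : G) * (z : G)⁻¹) * q.out) * a⁻¹ := by rw [h1]; group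
        _ = _ := by
            rw [← (hzc (q.out : G)⁻¹).eq, inv_mul_cancel_right, ← (hzc a).eq, mul_inv_cancel_right]
    have hcom := commute_of_mod_center (Fact.out : l.Prime) (Fact.out : t.Prime) hne
      (isL_of_mem hU (mul_mem (inv_mem q.out.2) p.out.2)) hal
      (hu ▸ mul_mem (hZs z'.2).1 (inv_mem (hZs z.2).1))
    have hpq : q = p := by
      rw [← Quotient.out_eq' q, ← Quotient.out_eq' p]
      refine QuotientGroup.eq.2 ?_
      show (q.out : G)⁻¹ * p.out ∈ C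
      exact (hC a haK hac).le (mem_cent.2 hcom)
    subst hpq
    exact Prod.ext rfl (Subtype.ext (mul_left_cancel h1))
  have h := Nat.card_le_card_of_injective φ hφ
  rw [Nat.card_prod, hZc] at h
  refine lt_of_le_of_lt h ?_
  rw [← hTc]
  haveI := Fintype.ofFinite T
  rw [Nat.card_eq_fintype_card, Nat.card_eq_fintype_card, Fintype.card_subtype_compl, Fintype.card_subtype_eq]
  have := Fintype.card_pos (α := T)
  omega

end Cfsg.Agent.GStructB.TwoSizes
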