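import Mathlib
import Cfsg.Agent.GStructB.TwoSizes

/-!
The main argument for normal subgroups with two class sizes.
-/

set_option autoImplicit false
set_option linter.unusedSectionVars false
set_option linter.style.haveILetI false

namespace Cfsg.Agent.GStructB.TwoSizes

open Subgroup
open scoped Pointwise

universe u

variable {G : Type u} [Group G] [Finite G] {N : Subgroup G} {r m : ℕ}

/-- Fixed points of commuting automorphisms of prime order of an abelian group. -/
theorem pow_mem_of_fixed {K : Type u} [CommGroup K] {r : ℕ} [Fact r.Prime] (f g : K →* K)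
    (hfg : ∀ k, f (g k) = g (f k)) (hf : ∀ k, (f : K → K)^[r] k = k) (hg : ∀ k, (g : K → K)^[r] k = k)
    (Z : Subgroup K) (hf1 : ∀ k, f k = k → k ∈ Z) (hgf : ∀ (j : ℕ) k, g ((f : K → K)^[j] k) = k → k ∈ Z)
    (hZ : ∀ k ∈ Z, g k = k) (k : K) : k ^ r ∈ Z := by
  classical
  have hper : ∀ (h : K → K), (∀ k, h^[r] k = k) → ∀ (a : ℕ) (k : K), h^[a % r] k = h^[a] k := by
    intro h hh a k
    have h1 : ∀ (c : ℕ) (k : K), h^[r * c] k = k := by
      intro c
      induction c with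
      | zero => simp
      | succ c ih => intro k; rw [Nat.mul_succ, Function.iterate_add_apply, hh, ih]
    conv_rhs => rw [← Nat.mod_add_div a r, Function.iterate_add_apply, h1]
  have hfix : ∀ h : K →* K, (∀ k, (h : K → K)^[r] k = k) → ∀ k,
      h (∏ i : ZMod r, (h : K → K)^[i.val] k) = ∏ i : ZMod r, (h : K → K)^[i.val] k := by
    intro h hh k
    rw [map_prod]
    refine Fintype.prod_equiv (Equiv.addRight (1 : ZMod r)) _ _ fun i => ?_
    rw [← Function.iterate_succ_apply' (f := (h : K → K))]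
    show (h : K → K)^[i.val + 1] k = (h : K → K)^[(i + 1).val] k
    rw [ZMod.val_add, ZMod.val_one, hper _ hh]
  set Nf := ∏ j : ZMod r, (f : K → K)^[j.val] k with hNf
  have hNfZ : Nf ∈ Z := hf1 _ (hfix f hf k)
  have hterm : ∀ i : ZMod r, i ≠ 0 → ∏ j : ZMod r, (g : K → K)^[i.val] ((f : K → K)^[j.val * i.val] k) = Nf := by
    intro i hi
    have h1 : ∏ j : ZMod r, (f : K → K)^[j.val * i.val] k = Nf := by
      refine Fintype.prod_equiv (Equiv.mulRight₀ i hi) _ _ fun j => ?_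
      show _ = (f : K → K)^[(j * i).val] k
      rw [ZMod.val_mul, hper _ hf]
    have h2 : ∀ (n : ℕ) (φ : ZMod r → K), ∏ j, (g : K → K)^[n] (φ j) = (g : K → K)^[n] (∏ j, φ j) := by
      intro n
      induction n with
      | zero => intro φ; simp
      | succ n ih => intro φ; simp only [Function.iterate_succ_apply]; rw [ih, map_prod]
    rw [h2, h1]
    exact Function.iterate_fixed (hZ _ hNfZ) _
  have hrow : ∀ j : ZMod r, (∏ i : ZMod r, (g : K → K)^[i.val] ((f : K → K)^[j.val * i.val] k)) ∈ Z := by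
    intro j
    let F : ℕ → K →* K := fun n => Nat.rec (MonoidHom.id K) (fun _ φ => f.comp φ) n
    have hF : ∀ (n : ℕ) (x : K), F n x = (f : K → K)^[n] x := by
      intro n
      induction n with
      | zero => intro x; rfl
      | succ n ih => intro x; rw [Function.iterate_succ_apply', ← ih]; rfl
    set h := g.comp (F j.val) with hh
    have hhe : ∀ x, h x = g ((f : K → K)^[j.val] x) := fun x => by rw [hh, MonoidHom.comp_apply, hF]
    have hc : Function.Commute (g : K → K) (f : K → K)^[j.val] :=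
      Function.Commute.iterate_right (fun x => (hfg x).symm) _
    have hit : ∀ (n : ℕ) (x : K), (h : K → K)^[n] x = (g : K → K)^[n] ((f : K → K)^[j.val * n] x) := by
      intro n x
      rw [show (h : K → K) = (g : K → K) ∘ (f : K → K)^[j.val] from funext hhe, hc.comp_iterate,
        Function.comp_apply, ← Function.iterate_mul]
    have hhr : ∀ x, (h : K → K)^[r] x = x := fun x => by
      rw [hit, hg, ← hper _ hf, Nat.mul_mod_left, Function.iterate_zero_apply]
    have := hgf j.val _ (by rw [← hhe]; exact hfix h hhr k)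
    simpa only [hit] using this
  have hall : ∏ j : ZMod r, ∏ i : ZMod r, (g : K → K)^[i.val] ((f : K → K)^[j.val * i.val] k) ∈ Z :=
    Subgroup.prod_mem _ fun j _ => hrow j
  rw [Finset.prod_comm, ← Finset.mul_prod_erase Finset.univ _ (Finset.mem_univ (0 : ZMod r)),
    Finset.prod_congr rfl (fun i hi => hterm i (Finset.ne_of_mem_erase hi))] at hall
  simp only [ZMod.val_zero, mul_zero, Function.iterate_zero_apply, Finset.prod_const, Finset.card_univ,
    ZMod.card] at hall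
  exact (Subgroup.mul_mem_cancel_right _ (pow_mem hNfZ _)).1 hall

theorem conj_iter {u a z : G} (hz : z ∈ center G) (h : u * a * u⁻¹ = z * a) :
    ∀ k : ℕ, u ^ k * a * (u ^ k)⁻¹ = z ^ k * a := by
  intro k
  induction k with
  | zero => simp
  | succ k ih =>
    calc u ^ (k + 1) * a * (u ^ (k + 1))⁻¹ = u * (u ^ k * a * (u ^ k)⁻¹) * u⁻¹ := by
          rw [pow_succ']; group
      _ = (u * z ^ k) * a * u⁻¹ := by rw [ih]; group
      _ = z ^ k * (u * a * u⁻¹) := by rw [mem_center_iff.1 (pow_mem hz k) u]; group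
      _ = z ^ (k + 1) * a := by rw [h, pow_succ, mul_assoc]

theorem conj_pow_left {u a z : G} (hz : z ∈ center G) (h : u * a * u⁻¹ = z * a) (k : ℕ) :
    u * a ^ k * u⁻¹ = z ^ k * a ^ k := by
  rw [← conj_pow, h, Commute.mul_pow (mem_center_iff.1 hz a).symm]

theorem cent_conj_eq {x y c : G} (h : cent x = cent y) : cent (c * x * c⁻¹) = cent (c * y * c⁻¹) := by
  have aux : ∀ x y : G, cent x ≤ cent y → cent (c * x * c⁻¹) ≤ cent (c * y * c⁻¹) := by
    intro x y hle z hz
    have h1 := conj_mem_cent (c := c⁻¹) hz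
    rw [inv_inv, show c⁻¹ * (c * x * c⁻¹) * c = x by group] at h1
    have h2 := conj_mem_cent (c := c) (hle h1)
    rwa [show c * (c⁻¹ * z * c) * c⁻¹ = z by group] at h2
  exact le_antisymm (aux x y h.le) (aux y x h.ge)

theorem conj_notMem_center {g : G} (hg : g ∉ center G) (c : G) : c * g * c⁻¹ ∉ center G := fun h => hg (by
  rwa [(show (center G).Normal from inferInstance).mem_comm_iff, inv_mul_cancel_left] at h)

theorem card_cent_inf_conj [N.Normal] (g c : G) :
    Nat.card (cent (c * g * c⁻¹) ⊓ N : Subgroup G) = Nat.card (cent g ⊓ N : Subgroup G) := by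
  refine (Nat.card_congr (Equiv.ofBijective (fun z : (cent g ⊓ N : Subgroup G) => (⟨c * z * c⁻¹,
    conj_mem_cent z.2.1, conj_mem_of_normal z.2.2 c⟩ : (cent (c * g * c⁻¹) ⊓ N : Subgroup G)))
    ⟨fun a b h => Subtype.ext (mul_left_cancel (mul_right_cancel (Subtype.ext_iff.1 h))),
    fun z => ⟨⟨c⁻¹ * z * c, ?_, ?_⟩, Subtype.ext (by group)⟩⟩)).symm
  · have h := conj_mem_cent (c := c⁻¹) z.2.1
    rwa [inv_inv, show c⁻¹ * (c * g * c⁻¹) * c = g by group] at h
  · have h := conj_mem_of_normal (N := N) z.2.2 c⁻¹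
    rwa [inv_inv] at h

theorem full_conj [N.Normal] {g : G} {l : ℕ} (h : Full N (cent g) l) (c : G) :
    Full N (cent (c * g * c⁻¹)) l := by
  obtain ⟨w, ⟨hw1, hw2⟩, hwl, hwc⟩ := h
  exact ⟨c * w * c⁻¹, ⟨conj_mem_cent hw1, conj_mem_of_normal hw2 c⟩, isL_conj hwl c, conj_notMem_center hwc c⟩

theorem isComp_conj [N.Normal] {g : G} (h : IsComp N (cent g)) (c : G) : IsComp N (cent (c * g * c⁻¹)) := by
  intro w hw hwc
  have h1 := conj_mem_cent (c := c⁻¹) hw.1
  rw [inv_inv, show c⁻¹ * (c * g * c⁻¹) * c = g by group] at h1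
  have h2 := conj_mem_of_normal (N := N) hw.2 c⁻¹
  rw [inv_inv] at h2
  have h3 : c⁻¹ * w * c ∉ center G := by simpa using conj_notMem_center hwc c⁻¹
  have h4 := cent_conj_eq (c := c) (h _ ⟨h1, h2⟩ h3)
  rwa [show c * (c⁻¹ * w * c) * c⁻¹ = w by group] at h4

/-- The `l`-part of `m`. -/
def nn (m l : ℕ) : ℕ := l ^ m.factorization l

theorem card_sylow {l : ℕ} [Fact l.Prime] (Q : Sylow l G) : Nat.card Q = lp l (⊤ : Subgroup G) := by
  rw [Q.card_eq_multiplicity, lp, card_top]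

theorem r_le_relIndex {r : ℕ} [Fact r.Prime] {U C : Subgroup G} (hU : IsPGroup r U) (h : ¬ U ≤ C) :
    r ≤ C.relIndex U := by
  have hr : r.Prime := Fact.out
  obtain ⟨k, hk⟩ := hU.index (C.subgroupOf U)
  rcases k with _ | k
  · exact absurd (relIndex_eq_one.1 (by simpa [relIndex] using hk)) h
  · show r ≤ (C.subgroupOf U).index
    rw [hk]
    exact Nat.le_self_pow k.succ_ne_zero r

theorem inf_center_card {l : ℕ} [Fact l.Prime] {T : Subgroup G} (hT : IsPGroup l T) :
    Nat.card (T ⊓ center G : Subgroup G) ≤ lp l (center G) :=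
  card_le_lp (hT.to_le inf_le_left) inf_le_right

namespace Hyp

variable (H : Hyp N r m)
include H

theorem card_cent {g : G} (hg : g ∈ N) (hgc : g ∉ center G) : Nat.card (cent g) * m = Nat.card G := by
  rw [← H.sizes g hg hgc, card_mul_index]

theorem m_pos : 0 < m := by
  obtain ⟨g, hgl, hgc⟩ := H.noncentral
  have := H.card_cent (H.sylow_le g hgl) hgc
  rcases Nat.eq_zero_or_pos m with h | h
  · rw [h, mul_zero] at this; exact absurd this.symm Nat.card_pos.ne'
  · exact h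

theorem eq_cent {a b : G} (ha : a ∈ N) (hac : a ∉ center G) (hb : b ∈ N) (hbc : b ∉ center G)
    (hle : cent a ≤ cent b) : cent a = cent b :=
  eq_of_le_of_card_ge hle (Nat.le_of_eq (Nat.eq_of_mul_eq_mul_right H.m_pos
    (by rw [H.card_cent ha hac, H.card_cent hb hbc])))

theorem lp_mul {l : ℕ} [Fact l.Prime] {g : G} (hg : g ∈ N) (hgc : g ∉ center G) :
    lp l (cent g) * nn m l = lp l (⊤ : Subgroup G) := by
  rw [lp, lp, nn, ← pow_add, card_top, ← H.card_cent hg hgc, Nat.factorization_mul Nat.card_pos.ne' H.m_pos.ne',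
    Finsupp.add_apply]

theorem nn_pos {l : ℕ} (hl : l.Prime) : 0 < nn m l := pow_pos hl.pos _

theorem lp_eq {l : ℕ} [hl : Fact l.Prime] {g g' : G} (hg : g ∈ N) (hgc : g ∉ center G) (hg' : g' ∈ N)
    (hgc' : g' ∉ center G) : lp l (cent g) = lp l (cent g') :=
  Nat.eq_of_mul_eq_mul_right (H.nn_pos hl.out) (by rw [H.lp_mul hg hgc, H.lp_mul hg' hgc'])

theorem lp_r [Fact r.Prime] (C : Subgroup G) : lp r (C ⊓ N) = lp r C := by
  refine le_antisymm (lp_le_of_le inf_le_left) ?_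
  obtain ⟨T, hT, hTp, hTc⟩ := exists_sylow_in (l := r) C
  rw [← hTc]
  exact card_le_lp hTp fun w hw => ⟨hT hw, H.sylow_le w (isL_of_mem hTp hw)⟩

theorem commComp {x y : G} {t : ℕ} (ht : t.Prime) (htr : t ≠ r) (hx : IsL r x) (hxc : x ∉ center G)
    (hy : IsL t y) (hyN : y ∈ N) (hyc : y ∉ center G) (hxy : Commute x y) :
    IsComp N (cent x) ∧ cent y = cent x := by
  have hr := H.prime
  have hxN := H.sylow_le x hx
  have pair : ∀ {a b : G} {i j : ℕ}, i.Prime → j.Prime → i ≠ j → IsL i a → IsL j b → a ∈ N → b ∈ N →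
      a ∉ center G → b ∉ center G → Commute a b → cent a = cent b := by
    intro a b i j hi hj hij hai hbj haN hbN hac hbc hab
    have hco := coprime_of_isL hi hj hij hai hbj
    have h1 : cent (a * b) ≤ cent a := ClassGraph.centralizer_mul_le hab hco
    have h2 : cent (a * b) ≤ cent b := by
      rw [hab.eq]
      exact ClassGraph.centralizer_mul_le hab.symm hco.symm
    have habc : a * b ∉ center G := fun h => hac (mem_center_iff.2 fun z =>
      mem_cent.1 (h1 (mem_cent.2 (mem_center_iff.1 h z))))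
    rw [← H.eq_cent (mul_mem haN hbN) habc haN hac h1, H.eq_cent (mul_mem haN hbN) habc hbN hbc h2]
  have hyx : cent y = cent x := pair ht hr htr hy hx hyN hxN hyc hxc hxy.symm
  refine ⟨fun w hw hwc => ?_, hyx⟩
  obtain ⟨l, hl, k, hkl, hkc⟩ := exists_primary hwc
  have hkN : w ^ k ∈ N := pow_mem hw.2 k
  have hwk := H.eq_cent hw.2 hwc hkN hkc (cent_le_pow w k)
  rw [hwk]
  by_cases hlr : l = r
  · subst hlr
    rw [pair hl ht (Ne.symm htr) hkl hy hkN hyN hkc hyc
      ((mem_cent.1 (show w ∈ cent y by rw [hyx]; exact hw.1)).pow_left k), hyx]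
  · rw [pair hl hr hlr hkl hx hkN hxN hkc hxc ((mem_cent.1 hw.1).pow_left k)]

theorem exists_partner {y : G} {t : ℕ} (ht : t.Prime) (htr : t ≠ r) (hy : IsL t y) (hyN : y ∈ N)
    (hyc : y ∉ center G) : ∃ x, IsL r x ∧ x ∉ center G ∧ IsComp N (cent x) ∧ cent y = cent x := by
  haveI : Fact r.Prime := ⟨H.prime⟩
  obtain ⟨x0, hx0, hx0c⟩ := H.noncentral
  have h := center_lt_lp hx0 hx0c
  rw [H.lp_eq (H.sylow_le x0 hx0) hx0c hyN hyc] at h
  obtain ⟨x, hxm, hxl, hxc⟩ := full_of_lt h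
  exact ⟨x, hxl, hxc, H.commComp ht htr hxl hxc hy hyN hyc (mem_cent.1 hxm)⟩

theorem special {l : ℕ} [Fact l.Prime] (hl : InS N l) (Q : Sylow l G) :
    ∃ y ∈ (Q : Subgroup G) ⊓ N, y ∉ center G ∧ y ^ l ∈ center G ∧
      ∀ q ∈ (Q : Subgroup G), q * y * q⁻¹ * y⁻¹ ∈ center G := by
  haveI := H.normal
  obtain ⟨-, g, hgN, ⟨k, hk⟩, hgc⟩ := hl
  obtain ⟨S, hS⟩ := (PElements.isPGroup_zpowers hk).exists_le_sylow
  obtain ⟨c, hc⟩ := MulAction.exists_smul_eq G S Q
  have hgQ : c * g * c⁻¹ ∈ (Q : Subgroup G) := by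
    rw [← hc, Sylow.coe_subgroup_smul, PElements.mem_conj_smul]
    simpa [mul_assoc] using hS (mem_zpowers g)
  have hnle : ¬ (Q : Subgroup G) ⊓ N ≤ center G := fun h =>
    conj_notMem_center hgc c (h ⟨hgQ, conj_mem_of_normal hgN c⟩)
  have hn1 : (Q : Subgroup G) ≤ normalizer (((Q : Subgroup G) ⊓ N : Subgroup G) : Set G) := fun q hq =>
    mem_normalizer_fintype (S := (((Q : Subgroup G) ⊓ N : Subgroup G) : Set G)) fun z hz =>
      ⟨Subgroup.mul_mem _ (Subgroup.mul_mem _ hq hz.1) (Subgroup.inv_mem _ hq), conj_mem_of_normal hz.2 q⟩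
  have hn2 : (Q : Subgroup G) ≤ normalizer ((center G : Subgroup G) : Set G) := by
    rw [normalizer_eq_top]; exact le_top
  obtain ⟨u, huL, huc, hu⟩ := exists_step Q.2 inf_le_left hn1 hn2 hnle
  have hpg : ∃ j, orderOf (QuotientGroup.mk u : G ⧸ center G) = l ^ (j + 1) := by
    obtain ⟨i, hi⟩ := isL_of_mem Q.2 huL.1
    obtain ⟨j, -, hj⟩ := (Nat.dvd_prime_pow Fact.out).1 (hi ▸ orderOf_map_dvd (QuotientGroup.mk' (center G)) u)
    rcases j with _ | j
    · exact absurd ((QuotientGroup.eq_one_iff u).1 (orderOf_eq_one_iff.1 (by simpa using hj))) huc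
    · exact ⟨j, hj⟩
  obtain ⟨j, hj⟩ := hpg
  refine ⟨u ^ l ^ j, pow_mem huL _, fun h => ?_, ?_, fun q hq => ?_⟩
  · have h2 := orderOf_dvd_of_pow_eq_one (x := (QuotientGroup.mk u : G ⧸ center G))
      (by rw [← QuotientGroup.mk_pow]; exact (QuotientGroup.eq_one_iff _).2 h)
    rw [hj] at h2
    exact absurd (Nat.le_of_dvd (pow_pos (Fact.out : l.Prime).pos _) h2)
      (not_le.2 (Nat.pow_lt_pow_right (Fact.out : l.Prime).one_lt (Nat.lt_succ_self j)))
  · rw [← pow_mul, ← pow_succ]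
    exact (QuotientGroup.eq_one_iff _).1 (by rw [QuotientGroup.mk_pow, ← hj]; exact pow_orderOf_eq_one _)
  · rw [conj_pow_left (hu q hq) (by group), mul_inv_cancel_right]
    exact pow_mem (hu q hq) _

theorem special_relIndex {l : ℕ} [Fact l.Prime] (Q : Sylow l G) {y : G} (hyN : y ∈ N) (hyc : y ∉ center G)
    (hQy : ∀ q ∈ (Q : Subgroup G), q * y * q⁻¹ * y⁻¹ ∈ center G) :
    (cent y).relIndex (Q : Subgroup G) = nn m l := by
  have h1 := ((cent y).subgroupOf (Q : Subgroup G)).card_mul_index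
  rw [← inf_subgroupOf_left, Nat.card_congr (subgroupOfEquivOfLe inf_le_left).toEquiv,
    lp_inf_sylow Q (normalizer_of_central hQy), card_sylow Q, ← H.lp_mul hyN hyc, inf_subgroupOf_left] at h1
  exact Nat.eq_of_mul_eq_mul_left (lp_pos Fact.out _) h1

theorem special_bound {l t : ℕ} [Fact l.Prime] [Fact t.Prime] (hlt : l ≠ t) (Q : Sylow l G) {y : G}
    (hyN : y ∈ N) (hyc : y ∉ center G) (hC : IsComp N (cent y))
    (hQy : ∀ q ∈ (Q : Subgroup G), q * y * q⁻¹ * y⁻¹ ∈ center G) (hfull : Full N (cent y) t) :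
    nn m l * lp t (center G ⊓ N) < lp t (cent y ⊓ N) := by
  haveI := H.normal
  rw [← H.special_relIndex Q hyN hyc hQy]
  exact orbit_bound hlt (center_le_centralizer _) hC Q.2 (normalizer_of_central hQy) hfull

theorem exists_conj {l : ℕ} [Fact l.Prime] (Q : Sylow l G) (g : G) :
    ∃ c : G, Nat.card ((Q : Subgroup G) ⊓ cent (c * g * c⁻¹) : Subgroup G) = lp l (cent g) := by
  obtain ⟨T, hT, hTp, hTc⟩ := exists_sylow_in (l := l) (cent g)
  obtain ⟨S, hS⟩ := hTp.exists_le_sylow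
  obtain ⟨c, hc⟩ := MulAction.exists_smul_eq G S Q
  refine ⟨c, le_antisymm ?_ ?_⟩
  · have := card_le_lp (Q.2.to_le (inf_le_left (b := cent (c * g * c⁻¹)))) inf_le_right
    rwa [lp, card_cent_conj] at this
  · rw [← hTc]
    have hmem : ∀ t ∈ T, c * t * c⁻¹ ∈ (Q : Subgroup G) ⊓ cent (c * g * c⁻¹) := fun t ht => by
      refine ⟨?_, conj_mem_cent (hT ht)⟩
      rw [← hc, Sylow.coe_subgroup_smul]
      show c * t * c⁻¹ ∈ MulAut.conj c • (S : Subgroup G)
      rw [PElements.mem_conj_smul]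
      simpa [mul_assoc] using hS ht
    exact Nat.card_le_card_of_injective (fun t : T => (⟨_, hmem t t.2⟩ :
      ((Q : Subgroup G) ⊓ cent (c * g * c⁻¹) : Subgroup G)))
      fun a b h => Subtype.ext (mul_left_cancel (mul_right_cancel (Subtype.ext_iff.1 h)))

theorem bound_N {l : ℕ} [Fact l.Prime] {g : G} (hg : g ∈ N) (hgc : g ∉ center G) :
    lp l N ≤ lp l (cent g ⊓ N) * nn m l := by
  haveI := H.normal
  obtain ⟨Q⟩ : Nonempty (Sylow l G) := inferInstance
  obtain ⟨c, hc⟩ := H.exists_conj Q g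
  have hQN : Nat.card ((Q : Subgroup G) ⊓ N : Subgroup G) = lp l N :=
    lp_inf_sylow Q (by rw [normalizer_eq_top]; exact le_top)
  have h1 := card_mul_card_le (inf_le_left : (Q : Subgroup G) ⊓ N ≤ Q)
    (inf_le_left : (Q : Subgroup G) ⊓ cent (c * g * c⁻¹) ≤ Q)
  rw [hQN, hc, card_sylow Q, ← H.lp_mul hg hgc] at h1
  have h2 : Nat.card (((Q : Subgroup G) ⊓ N) ⊓ ((Q : Subgroup G) ⊓ cent (c * g * c⁻¹)) : Subgroup G)
      ≤ lp l (cent g ⊓ N) := by
    have h3 := card_le_lp (l := l) ((Q.2.to_le (inf_le_left (b := N))).to_le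
      (inf_le_left (b := (Q : Subgroup G) ⊓ cent (c * g * c⁻¹))))
      (le_inf (inf_le_right.trans inf_le_right) (inf_le_left.trans inf_le_right) :
        ((Q : Subgroup G) ⊓ N) ⊓ ((Q : Subgroup G) ⊓ cent (c * g * c⁻¹)) ≤ cent (c * g * c⁻¹) ⊓ N)
    rwa [lp, card_cent_inf_conj] at h3
  have h4 := h1.trans (Nat.mul_le_mul_left _ h2)
  refine Nat.le_of_mul_le_mul_right ?_ (lp_pos (Fact.out : l.Prime) (cent g))
  calc lp l N * lp l (cent g) ≤ lp l (cent g) * nn m l * lp l (cent g ⊓ N) := h4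
    _ = lp l (cent g ⊓ N) * nn m l * lp l (cent g) := by ring

theorem lack_bound {l : ℕ} [Fact l.Prime] {g : G} (hg : g ∈ N) (hgc : g ∉ center G)
    (hno : ¬ Full N (cent g) l) : lp l N ≤ nn m l * lp l (center G ⊓ N) := by
  refine (H.bound_N hg hgc).trans ?_
  rw [mul_comm]
  refine Nat.mul_le_mul_left _ ?_
  obtain ⟨T, hT, hTp, hTc⟩ := exists_sylow_in (l := l) (cent g ⊓ N)
  rw [← hTc]
  refine card_le_lp hTp fun w hw => ⟨?_, (hT hw).2⟩
  by_contra hwc
  exact hno ⟨w, hT hw, isL_of_mem hTp hw, hwc⟩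

/-- Some centraliser of an `r`-element misses a prime: impossible. -/
theorem no_lacking {g : G} {t : ℕ} (hg : IsL r g) (hgc : g ∉ center G) (ht : InS N t) (htr : t ≠ r)
    (hno : ¬ Full N (cent g) t) : False := by
  haveI := H.normal
  haveI : Fact r.Prime := ⟨H.prime⟩
  haveI : Fact t.Prime := ⟨ht.1⟩
  have hr := H.prime
  have hgN := H.sylow_le g hg
  obtain ⟨Qt⟩ : Nonempty (Sylow t G) := inferInstance
  obtain ⟨y, hy, hyc, -, hyQ⟩ := H.special ht Qt
  obtain ⟨x, hxl, hxc, hCx, hyx⟩ := H.exists_partner ht.1 htr (isL_of_mem Qt.2 hy.1) hy.2 hyc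
  have hCy : IsComp N (cent y) := hyx ▸ hCx
  set zr := lp r (center G)
  set zt := lp t (center G ⊓ N)
  set a := lp r (cent y) with ha
  have hag : lp r (cent g) = a := H.lp_eq hgN hgc hy.2 hyc
  have hzr : lp r (center G ⊓ N) = zr := H.lp_r _
  have bound1 : nn m t * zr < a := by
    have h := H.special_bound htr Qt hy.2 hyc hCy hyQ
      ⟨x, ⟨by rw [hyx]; exact self_mem_cent x, H.sylow_le x hxl⟩, hxl, hxc⟩
    rwa [hzr, H.lp_r] at h
  have hB : ∀ C : Subgroup G, lp t (C ⊓ N) ≤ nn m t * zt := fun C =>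
    (lp_le_of_le inf_le_right).trans (H.lack_bound hgN hgc hno)
  obtain ⟨R⟩ : Nonempty (Sylow r G) := inferInstance
  obtain ⟨x0, hx0, hx0c, hx0r, hx0R⟩ := H.special ⟨hr, g, hgN, hg, hgc⟩ R
  have hx0l : IsL r x0 := isL_of_mem R.2 hx0.1
  set C0 := cent x0 with hC0
  have hC0card : Nat.card ((R : Subgroup G) ⊓ C0 : Subgroup G) = a := by
    rw [lp_inf_sylow R (normalizer_of_central hx0R), H.lp_eq hx0.2 hx0c hy.2 hyc]
  have hRcard : Nat.card R = a * nn m r := by rw [card_sylow R, ← H.lp_mul hy.2 hyc]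
  by_cases hfull : Full N C0 t
  · obtain ⟨w, hw, hwl, hwc⟩ := hfull
    obtain ⟨hComp, -⟩ := H.commComp ht.1 htr hx0l hx0c hwl hw.2 hwc (mem_cent.1 hw.1).symm
    have h1 := H.special_bound (Ne.symm htr) R hx0.2 hx0c hComp hx0R ⟨w, hw, hwl, hwc⟩
    have h2 := h1.trans_le (hB C0)
    obtain ⟨c, hc⟩ := H.exists_conj R g
    rw [hag] at hc
    have hinf : Nat.card (((R : Subgroup G) ⊓ C0) ⊓ ((R : Subgroup G) ⊓ cent (c * g * c⁻¹)) : Subgroup G)
        ≤ zr := by
      refine le_trans (Subgroup.card_le_of_le (le_inf (inf_le_left.trans inf_le_left) ?_)) (inf_center_card R.2)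
      intro v hv
      by_contra hvc
      have hvN : v ∈ N := H.sylow_le v (isL_of_mem R.2 hv.1.1)
      have hveq : cent v = C0 := hComp v ⟨hv.1.2, hvN⟩ hvc
      have hg'C : c * g * c⁻¹ ∈ C0 := by
        rw [← hveq]; exact mem_cent.2 (mem_cent.1 hv.2.2).symm
      have heq : cent (c * g * c⁻¹) = C0 := hComp _ ⟨hg'C, conj_mem_of_normal hgN c⟩ (conj_notMem_center hgc c)
      have hf := full_conj (N := N) (g := c * g * c⁻¹) (l := t) (by rw [heq]; exact ⟨w, hw, hwl, hwc⟩) c⁻¹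
      rw [inv_inv, show c⁻¹ * (c * g * c⁻¹) * c = g by group] at hf
      exact hno hf
    have h3 := (card_mul_card_le (inf_le_left : (R : Subgroup G) ⊓ C0 ≤ R)
      (inf_le_left : (R : Subgroup G) ⊓ cent (c * g * c⁻¹) ≤ R)).trans (Nat.mul_le_mul_left _ hinf)
    rw [hC0card, hc, hRcard] at h3
    have h4 : a ≤ nn m r * zr := Nat.le_of_mul_le_mul_left (by rw [← mul_assoc]; exact h3) (lp_pos hr _)
    have h5 : nn m t < nn m r := Nat.lt_of_mul_lt_mul_right (bound1.trans_le h4)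
    have h6 : nn m r < nn m t := Nat.lt_of_mul_lt_mul_right h2
    omega
  -- the special element has no partner
  obtain ⟨c, hc⟩ := H.exists_conj R y
  set y' := c * y * c⁻¹ with hy'def
  have hy'N : y' ∈ N := conj_mem_of_normal hy.2 c
  have hy'c : y' ∉ center G := conj_notMem_center hyc c
  have hy'l : IsL t y' := isL_conj (isL_of_mem Qt.2 hy.1) c
  set C' := cent y' with hC'
  have hComp : IsComp N C' := isComp_conj hCy c
  have hfullC' : Full N C' t := ⟨y', ⟨self_mem_cent y', hy'N⟩, hy'l, hy'c⟩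
  set A := (R : Subgroup G) ⊓ C' with hA
  have hAN : ∀ w ∈ A, w ∈ C' ⊓ N := fun w hw => ⟨hw.2, H.sylow_le w (isL_of_mem R.2 hw.1)⟩
  have hx0C' : x0 ∉ C' := fun h => hfull (by
    show Full N (cent x0) t
    rw [hComp x0 ⟨h, hx0.2⟩ hx0c]
    exact hfullC')
  have hAC0 : ∀ w ∈ A, w ∈ C0 → w ∈ center G := fun w hw hw0 => by
    by_contra hwc
    exact hx0C' ((hComp w (hAN w hw) hwc).le (mem_cent.2 (mem_cent.1 hw0).symm))
  have hx0w : ∀ w ∈ (R : Subgroup G), x0 * w * x0⁻¹ * w⁻¹ ∈ center G := fun w hw => by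
    have h1 := inv_mem (hx0R w hw)
    rwa [show (w * x0 * w⁻¹ * x0⁻¹)⁻¹ = x0 * w * x0⁻¹ * w⁻¹ by group] at h1
  have hApow : ∀ w ∈ A, w ^ r ∈ center G := fun w hw => by
    refine hAC0 _ (pow_mem hw r) (mem_cent.2 ?_)
    set z := x0 * w * x0⁻¹ * w⁻¹ with hz
    have he : x0 * w * x0⁻¹ = z * w := by rw [hz]; group
    have hzr' : z ^ r = 1 := by
      have h1 := conj_iter (hx0w w hw.1) he r
      rw [← mem_center_iff.1 hx0r w, mul_inv_cancel_right, right_eq_mul] at h1
      exact h1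
    have h2 := conj_pow_left (hx0w w hw.1) he r
    rw [hzr', one_mul] at h2
    exact (mul_inv_eq_iff_eq_mul.1 h2).symm
  have hAcard : Nat.card A = a := hc
  obtain ⟨w0, hw0A, hw0c⟩ : ∃ w ∈ A, w ∉ center G := by
    by_contra hcon
    push Not at hcon
    have h1 := card_le_lp (R.2.to_le inf_le_left) (show A ≤ center G from hcon)
    rw [hAcard] at h1
    have := Nat.mul_le_mul_right zr (H.nn_pos ht.1)
    omega
  have hnorm : ∀ u w : G, w ∈ A → w ∉ center G → u * w * u⁻¹ * w⁻¹ ∈ center G →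
      u ∈ normalizer (C' : Set G) := fun u w hw hwc h => by
    refine mem_normalizer_of_isComp hComp (hAN w hw) hwc ?_
    have := mul_mem (show u * w * u⁻¹ * w⁻¹ ∈ C' from center_le_centralizer _ h) hw.2
    rwa [inv_mul_cancel_right] at this
  have hx0N : x0 ∈ normalizer (C' : Set G) := hnorm x0 w0 hw0A hw0c (hx0w w0 hw0A.1)
  by_cases hsmall : a ≤ r * zr
  · obtain ⟨k, hk⟩ := hx0l
    have h1 := orbit_bound (Ne.symm htr) (center_le_centralizer _) hComp (PElements.isPGroup_zpowers hk)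
      (zpowers_le.2 hx0N) hfullC'
    have h2 := r_le_relIndex (PElements.isPGroup_zpowers hk) fun h => hx0C' (h (mem_zpowers x0))
    have h3 : r < nn m t := Nat.lt_of_mul_lt_mul_right
      ((Nat.mul_le_mul_right zt h2).trans_lt (h1.trans_le (hB C')))
    have h4 : nn m t < r := Nat.lt_of_mul_lt_mul_right (bound1.trans_le hsmall)
    omega
  rw [not_le] at hsmall
  set D := zpowers x0 ⊔ center G with hD
  have hDidx : (center G).relIndex D ≤ r := by
    have h1 : ((QuotientGroup.mk' (center G)).comp D.subtype).ker = (center G).subgroupOf D := by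
      rw [← MonoidHom.comap_ker, QuotientGroup.ker_mk']; rfl
    rw [relIndex, ← h1, index_ker, MonoidHom.range_comp, range_subtype, hD, Subgroup.map_sup,
      QuotientGroup.map_mk'_self, sup_bot_eq, MonoidHom.map_zpowers, Nat.card_zpowers]
    exact Nat.le_of_dvd hr.pos (orderOf_dvd_of_pow_eq_one (by
      rw [← map_pow]; exact (QuotientGroup.eq_one_iff _).2 hx0r))
  have hRD : (R : Subgroup G) ≤ normalizer (D : Set G) := fun q hq => by
    refine mem_normalizer_fintype (S := (D : Set G)) fun z hz => ?_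
    have hle : D.map (MulAut.conj q).toMonoidHom ≤ D := by
      rw [hD, Subgroup.map_sup, MonoidHom.map_zpowers]
      refine sup_le (zpowers_le.2 ?_) ?_
      · show q * x0 * q⁻¹ ∈ _
        have := mul_mem (mem_sup_right (S := zpowers x0) (hx0R q hq)) (mem_sup_left (mem_zpowers x0))
        rwa [inv_mul_cancel_right] at this
      · rintro _ ⟨v, hv, rfl⟩
        show q * v * q⁻¹ ∈ _
        rw [mem_center_iff.1 hv q, mul_inv_cancel_right]
        exact mem_sup_right hv
    exact hle ⟨z, hz, rfl⟩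
  set L := (R : Subgroup G) ⊓ C0 with hL
  have hidx : ∀ T : Subgroup G, T ≤ (R : Subgroup G) → Nat.card T ≤ (center G).relIndex T * zr := by
    intro T hT
    have h1 := ((center G).subgroupOf T).card_mul_index
    rw [← inf_subgroupOf_left, Nat.card_congr (subgroupOfEquivOfLe inf_le_left).toEquiv] at h1
    rw [inf_subgroupOf_left] at h1
    rw [← h1, mul_comm]
    exact Nat.mul_le_mul_left _ (inf_center_card (R.2.to_le hT))
  have hLD : ¬ L ≤ D := fun h => by
    have h1 := hidx L inf_le_left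
    rw [hL, hC0card] at h1
    have h2 : (center G).relIndex L ≤ r := (relIndex_le_of_le_right h
      ((center G).subgroupOf D).index_ne_zero_of_finite).trans hDidx
    have := h1.trans (Nat.mul_le_mul_right zr h2)
    omega
  have hLn : (R : Subgroup G) ≤ normalizer (L : Set G) := fun q hq => by
    refine mem_normalizer_fintype (S := (L : Set G)) fun z hz =>
      ⟨Subgroup.mul_mem _ (Subgroup.mul_mem _ hq hz.1) (Subgroup.inv_mem _ hq), (mem_normalizer_iff.1 (normalizer_of_central hx0R hq) z).1 hz.2⟩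
  obtain ⟨ℓ, hℓL, hℓD, hℓ⟩ := exists_step R.2 inf_le_left hLn hRD hLD
  have hκ : ∀ w ∈ A, ℓ * w * ℓ⁻¹ * w⁻¹ ∈ D := fun w hw => by
    have h1 := inv_mem (hℓ w hw.1)
    rwa [show (w * ℓ * w⁻¹ * ℓ⁻¹)⁻¹ = ℓ * w * ℓ⁻¹ * w⁻¹ by group] at h1
  obtain ⟨w, hwA, hwc, hwℓ⟩ : ∃ w ∈ A, w ∉ center G ∧ ℓ * w * ℓ⁻¹ * w⁻¹ ∈ center G := by
    by_contra hcon
    push Not at hcon
    let ψ : (↥A ⧸ (center G).subgroupOf A) → (↥D ⧸ (center G).subgroupOf D) := fun q =>
      QuotientGroup.mk ⟨_, hκ _ q.out.2⟩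
    have hψ : Function.Injective ψ := by
      intro p q hpq
      rw [← Quotient.out_eq' p, ← Quotient.out_eq' q]
      refine QuotientGroup.eq.2 ?_
      show (p.out : G)⁻¹ * q.out ∈ center G
      by_contra hpc
      have h0 := QuotientGroup.eq.1 (show (QuotientGroup.mk (⟨_, hκ _ p.out.2⟩ : D) : ↥D ⧸ (center G).subgroupOf D) =
          QuotientGroup.mk ⟨_, hκ _ q.out.2⟩ from hpq)
      have h1 : (ℓ * (p.out : G) * ℓ⁻¹ * (p.out : G)⁻¹)⁻¹ * (ℓ * (q.out : G) * ℓ⁻¹ * (q.out : G)⁻¹) ∈ center G := h0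
      refine hcon _ (mul_mem (inv_mem p.out.2) q.out.2) hpc ?_
      set P' := (p.out : G)
      set Q' := (q.out : G)
      set e := (ℓ * P' * ℓ⁻¹ * P'⁻¹)⁻¹ * (ℓ * Q' * ℓ⁻¹ * Q'⁻¹) with he
      have h2 : ℓ * (P'⁻¹ * Q') * ℓ⁻¹ * (P'⁻¹ * Q')⁻¹ = P'⁻¹ * e * P' := by rw [he]; group
      rw [h2, mul_assoc, ← mem_center_iff.1 h1 P', inv_mul_cancel_left]
      exact h1
    have h1 := Nat.card_le_card_of_injective ψ hψ
    have h2 := hidx A inf_le_left
    rw [hAcard] at h2
    have := (h2.trans (Nat.mul_le_mul_right zr h1)).trans (Nat.mul_le_mul_right zr hDidx)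
    omega
  have hℓN : ℓ ∈ normalizer (C' : Set G) := hnorm ℓ w hwA hwc hwℓ
  have hℓr : ℓ ^ r ∈ C' := by
    set z := ℓ * w * ℓ⁻¹ * w⁻¹ with hz
    have he : ℓ * w * ℓ⁻¹ = z * w := by rw [hz]; group
    have h1 := conj_pow_left hwℓ he r
    rw [mem_center_iff.1 (hApow w hwA) ℓ, mul_inv_cancel_right, right_eq_mul] at h1
    have h2 := conj_iter hwℓ he r
    rw [h1, one_mul] at h2
    rw [← hComp w (hAN w hwA) hwc]
    exact mem_cent.2 (mul_inv_eq_iff_eq_mul.1 h2)
  have hℓx0 : Commute ℓ x0 := mem_cent.1 hℓL.2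
  have hfree : ∀ j : ℕ, ℓ * x0 ^ j ∉ C' := fun j h => hℓD (by
    have h1 : ℓ * x0 ^ j ∈ center G := hAC0 _ ⟨mul_mem hℓL.1 (pow_mem hx0.1 j), h⟩
      (mul_mem hℓL.2 (pow_mem (self_mem_cent x0) j))
    have := mul_mem (mem_sup_right (S := zpowers x0) h1)
      (inv_mem (pow_mem (mem_sup_left (T := center G) (mem_zpowers x0)) j))
    rwa [mul_inv_cancel_right] at this)
  -- the product argument
  letI : CommGroup (C' ⊓ N : Subgroup G) := { (C' ⊓ N : Subgroup G).toGroup with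
    mul_comm := fun a b => Subtype.ext (isMulComm_of_isComp hComp a.2 b.2) }
  have hconj : ∀ u ∈ normalizer (C' : Set G), ∀ k ∈ C' ⊓ N, u * k * u⁻¹ ∈ C' ⊓ N := fun u hu k hk =>
    ⟨(mem_normalizer_iff.1 hu k).1 hk.1, conj_mem_of_normal hk.2 u⟩
  let act : ∀ u, u ∈ normalizer (C' : Set G) → ((C' ⊓ N : Subgroup G) →* (C' ⊓ N : Subgroup G)) := fun u hu =>
    { toFun := fun k => ⟨_, hconj u hu k k.2⟩
      map_one' := Subtype.ext (by simp)
      map_mul' := fun a b => Subtype.ext (by simp [mul_assoc]) }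
  have hiter : ∀ u (hu : u ∈ normalizer (C' : Set G)) (n : ℕ) (k : (C' ⊓ N : Subgroup G)),
      (((act u hu : (C' ⊓ N : Subgroup G) → (C' ⊓ N : Subgroup G))^[n] k : (C' ⊓ N : Subgroup G)) : G) =
        u ^ n * k * (u ^ n)⁻¹ := by
    intro u hu n
    induction n with
    | zero => intro k; simp
    | succ n ih =>
      intro k
      rw [Function.iterate_succ_apply']
      show u * _ * u⁻¹ = _
      rw [ih, pow_succ']
      group
  have htriv : ∀ u (hu : u ∈ normalizer (C' : Set G)), u ^ r ∈ C' → ∀ k : (C' ⊓ N : Subgroup G),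
      (act u hu : (C' ⊓ N : Subgroup G) → (C' ⊓ N : Subgroup G))^[r] k = k := by
    intro u hu hur k
    refine Subtype.ext ?_
    rw [hiter u hu]
    by_cases hk : (k : G) ∈ center G
    · rw [mem_center_iff.1 hk, mul_inv_cancel_right]
    · rw [← hComp _ k.2 hk] at hur
      rw [(mem_cent.1 hur).eq, mul_inv_cancel_right]
  have hfixZ : ∀ u : G, u ∉ C' → ∀ k : (C' ⊓ N : Subgroup G), u * k * u⁻¹ = k → (k : G) ∈ center G := by
    intro u hu k h
    by_contra hk
    exact hu ((hComp _ k.2 hk).le (mem_cent.2 (mul_inv_eq_iff_eq_mul.1 h)))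
  have hpow := pow_mem_of_fixed (r := r) (act x0 hx0N) (act ℓ hℓN)
    (fun k => Subtype.ext (by
      show x0 * (ℓ * k * ℓ⁻¹) * x0⁻¹ = ℓ * (x0 * k * x0⁻¹) * ℓ⁻¹
      calc x0 * (ℓ * (k : G) * ℓ⁻¹) * x0⁻¹ = (x0 * ℓ) * k * (x0 * ℓ)⁻¹ := by group
        _ = (ℓ * x0) * k * (ℓ * x0)⁻¹ := by rw [hℓx0.eq]
        _ = _ := by group))
    (htriv x0 hx0N (center_le_centralizer _ hx0r)) (htriv ℓ hℓN hℓr)
    ((center G).subgroupOf (C' ⊓ N))
    (fun k hk => hfixZ x0 hx0C' k (congrArg Subtype.val hk))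
    (fun j k hk => hfixZ (ℓ * x0 ^ j) (hfree j) k (by
      have h1 := congrArg Subtype.val hk
      change ℓ * _ * ℓ⁻¹ = _ at h1
      rw [hiter x0 hx0N] at h1
      calc ℓ * x0 ^ j * (k : G) * (ℓ * x0 ^ j)⁻¹ = ℓ * (x0 ^ j * k * (x0 ^ j)⁻¹) * ℓ⁻¹ := by group
        _ = k := h1))
    (fun k hk => Subtype.ext (by
      show ℓ * (k : G) * ℓ⁻¹ = k
      rw [mem_center_iff.1 (show (k : G) ∈ center G from hk), mul_inv_cancel_right]))
    ⟨y', self_mem_cent y', hy'N⟩
  have h1 : y' ^ r ∈ center G := hpow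
  obtain ⟨i, hi⟩ := hy'l
  obtain ⟨e, he⟩ := exists_pow_eq_self_of_coprime (x := y') (n := r)
    (by rw [hi]; exact ((Nat.coprime_primes hr ht.1).2 (Ne.symm htr)).pow_right i)
  exact hy'c (he ▸ pow_mem h1 e)

/-- All `r'`-elements of `N` are central. -/
theorem central_of_isL {y : G} {s : ℕ} (hs : s.Prime) (hsr : s ≠ r) (hy : IsL s y) (hyN : y ∈ N) :
    y ∈ center G := by
  classical
  haveI := H.normal
  haveI : Fact r.Prime := ⟨H.prime⟩
  by_contra hyc
  have hr := H.prime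
  obtain ⟨g0, hg0, hg0c⟩ := H.noncentral
  have hS0 : InS N s := ⟨hs, y, hyN, hy, hyc⟩
  have hSr : InS N r := ⟨hr, g0, H.sylow_le g0 hg0, hg0, hg0c⟩
  have hfull : ∀ g, IsL r g → g ∉ center G → ∀ t, InS N t → Full N (cent g) t := by
    intro g hg hgc t ht
    by_cases htr : t = r
    · subst htr; exact ⟨g, ⟨self_mem_cent g, H.sylow_le g hg⟩, hg, hgc⟩
    · by_contra hno
      exact H.no_lacking hg hgc ht htr hno
  have hall : ∀ g ∈ N, g ∉ center G → IsComp N (cent g) ∧ ∀ t, InS N t → Full N (cent g) t := by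
    intro g hg hgc
    obtain ⟨l, hl, k, hkl, hkc⟩ := exists_primary hgc
    rw [H.eq_cent hg hgc (pow_mem hg k) hkc (cent_le_pow g k)]
    by_cases hlr : l = r
    · subst hlr
      obtain ⟨w, hw, hwl, hwc⟩ := hfull _ hkl hkc s hS0
      exact ⟨(H.commComp hs hsr hkl hkc hwl hw.2 hwc (mem_cent.1 hw.1).symm).1, hfull _ hkl hkc⟩
    · obtain ⟨x, hxl, hxc, hC, heq⟩ := H.exists_partner hl hlr hkl (pow_mem hg k) hkc
      rw [heq]
      exact ⟨hC, hfull x hxl hxc⟩
  set P := (Nat.card N).primeFactors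
  set S := P.filter (InS N)
  have hSmem : ∀ l, InS N l → l ∈ S := fun l hl => by
    refine Finset.mem_filter.2 ⟨Nat.mem_primeFactors.2 ⟨hl.1, ?_, Nat.card_pos.ne'⟩, hl⟩
    obtain ⟨g, hgN, ⟨k, hk⟩, hgc⟩ := hl.2
    refine dvd_trans ?_ (N.orderOf_dvd_natCard hgN)
    rcases k with _ | k
    · rw [pow_zero, orderOf_eq_one_iff] at hk
      exact absurd (hk ▸ one_mem (center G)) hgc
    · rw [hk]; exact dvd_pow_self l k.succ_ne_zero
  obtain ⟨l, hlS, hmax⟩ := S.exists_max_image (nn m) ⟨r, hSmem r hSr⟩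
  have hlI : InS N l := (Finset.mem_filter.1 hlS).2
  obtain ⟨t, ht, htl⟩ : ∃ t, InS N t ∧ t ≠ l := by
    by_cases h : r = l
    · exact ⟨s, hS0, h ▸ hsr⟩
    · exact ⟨r, hSr, h⟩
  haveI : Fact l.Prime := ⟨hlI.1⟩
  haveI : Fact t.Prime := ⟨ht.1⟩
  obtain ⟨Ql⟩ : Nonempty (Sylow l G) := inferInstance
  obtain ⟨Qt⟩ : Nonempty (Sylow t G) := inferInstance
  obtain ⟨yl, hyl, hylc, -, hylQ⟩ := H.special hlI Ql
  obtain ⟨yt, hyt, hytc, -, hytQ⟩ := H.special ht Qt
  set K := cent yl ⊓ N with hK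
  have hbig : ∀ l' : ℕ, InS N l' → l' ≠ l → nn m l * lp l' (center G ⊓ N) < lp l' K := fun l' h hne => by
    haveI : Fact l'.Prime := ⟨h.1⟩
    exact H.special_bound (Ne.symm hne) Ql hyl.2 hylc (hall _ hyl.2 hylc).1 hylQ ((hall _ hyl.2 hylc).2 l' h)
  have hsecond : nn m t * lp l (center G ⊓ N) < lp l K := by
    have hC0 := hall _ hyt.2 hytc
    have hb := H.special_bound htl Qt hyt.2 hytc hC0.1 hytQ (hC0.2 l hlI)
    obtain ⟨T, hTK, hTp, hTc⟩ := exists_sylow_in (l := t) K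
    obtain ⟨S', hS'⟩ := hTp.exists_le_sylow
    obtain ⟨c, hc⟩ := MulAction.exists_smul_eq G S' Qt
    set T' := T.map (MulAut.conj c).toMonoidHom with hT'
    have hT'Q : T' ≤ (Qt : Subgroup G) ⊓ N := by
      rintro _ ⟨w, hw, rfl⟩
      refine ⟨?_, conj_mem_of_normal (hTK hw).2 c⟩
      rw [← hc, Sylow.coe_subgroup_smul]
      exact Subgroup.smul_mem_pointwise_smul w (MulAut.conj c) _ (hS' hw)
    have hT'c : Nat.card T' = lp t K := by
      rw [hT', card_map_of_injective (MulAut.conj c).injective, hTc]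
    by_cases heq : cent (c * yl * c⁻¹) = cent yt
    · have h2 : lp l (cent yt ⊓ N) = lp l K := by rw [← heq, lp, card_cent_inf_conj]; rfl
      exact h2 ▸ hb
    exfalso
    have hKt : Nat.card ((Qt : Subgroup G) ⊓ cent yt ⊓ N : Subgroup G) ≤ lp t (cent yt ⊓ N) :=
      card_le_lp (Qt.2.to_le (inf_le_left.trans inf_le_left)) (inf_le_inf_right _ inf_le_right)
    set X := (Qt : Subgroup G) ⊓ cent yt ⊓ N with hX
    have hidx : lp t N ≤ Nat.card X * nn m t := by
      have h1 : (cent yt).relIndex ((Qt : Subgroup G) ⊓ N) ≤ nn m t := by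
        rw [← H.special_relIndex Qt hyt.2 hytc hytQ]
        exact relIndex_le_of_le_right inf_le_left ((cent yt).subgroupOf (Qt : Subgroup G)).index_ne_zero_of_finite
      have h2 := ((cent yt).subgroupOf ((Qt : Subgroup G) ⊓ N)).card_mul_index
      rw [← inf_subgroupOf_left, Nat.card_congr (subgroupOfEquivOfLe inf_le_left).toEquiv, inf_subgroupOf_left,
        lp_inf_sylow Qt (by rw [normalizer_eq_top]; exact le_top),
        inf_right_comm, ← hX] at h2
      rw [← h2]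
      exact Nat.mul_le_mul_left _ h1
    have hinf : Nat.card (T' ⊓ X : Subgroup G) ≤ lp t (center G ⊓ N) := by
      refine card_le_lp ((hTp.map _).to_le inf_le_left) fun w hw => ⟨?_, hw.2.2⟩
      by_contra hwc
      obtain ⟨v, hv, rfl⟩ := hw.1
      have h1 : cent ((MulAut.conj c).toMonoidHom v) = cent yt :=
        hC0.1 _ ⟨hw.2.1.2, hw.2.2⟩ hwc
      have h2 : cent ((MulAut.conj c).toMonoidHom v) = cent (c * yl * c⁻¹) :=
        (isComp_conj (hall _ hyl.2 hylc).1 c) _ ⟨conj_mem_cent (hTK hv).1, hw.2.2⟩ hwc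
      exact heq (h2.symm.trans h1)
    have h1 := card_mul_card_le hT'Q (show X ≤ (Qt : Subgroup G) ⊓ N from
      le_inf (inf_le_left.trans inf_le_left) inf_le_right)
    rw [hT'c, lp_inf_sylow Qt (by rw [normalizer_eq_top]; exact le_top)] at h1
    have h2 := h1.trans (Nat.mul_le_mul (hidx) hinf)
    have h3 : lp t K ≤ nn m t * lp t (center G ⊓ N) := by
      refine Nat.le_of_mul_le_mul_right ?_ (Nat.card_pos (α := X))
      calc lp t K * Nat.card X ≤ Nat.card X * nn m t * lp t (center G ⊓ N) := h2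
        _ = _ := by ring
    have h4 := (Nat.mul_le_mul_right (lp t (center G ⊓ N)) (hmax t (hSmem t ht))).trans_lt (hbig t ht htl)
    omega
  -- another component
  obtain ⟨g, hgN, hgc, hgK⟩ : ∃ g ∈ N, g ∉ center G ∧ g ∉ cent yl := by
    by_contra hcon
    push Not at hcon
    have hRle : ∀ x, IsL r x → x ∈ cent yl := fun x hx => by
      by_cases hxc : x ∈ center G
      · exact center_le_centralizer _ hxc
      · exact hcon x (H.sylow_le x hx) hxc
    obtain ⟨R⟩ : Nonempty (Sylow r G) := inferInstance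
    have h1 := card_le_lp R.2 fun x hx => hRle x (isL_of_mem R.2 hx)
    rw [card_sylow R, ← H.lp_mul hyl.2 hylc] at h1
    have h2 : nn m r ≤ 1 := Nat.le_of_mul_le_mul_left (by rw [mul_one]; exact h1) (lp_pos hr _)
    have h3 : r ≤ nn m r := by
      show r ≤ r ^ _
      exact Nat.le_self_pow (hr.factorization_pos_of_dvd H.m_pos.ne' H.dvd).ne' r
    have := hr.two_le
    omega
  have hinter : Nat.card (K ⊓ (cent g ⊓ N) : Subgroup G) ≤ Nat.card (center G ⊓ N : Subgroup G) := by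
    refine Subgroup.card_le_of_le fun w hw => ⟨?_, hw.1.2⟩
    by_contra hwc
    have h1 : cent w = cent yl := (hall _ hyl.2 hylc).1 w hw.1 hwc
    have h2 : cent w = cent g := (hall _ hgN hgc).1 w hw.2 hwc
    exact hgK (h1 ▸ h2 ▸ self_mem_cent g)
  let n' : ℕ → ℕ := fun q => if q ∈ S then nn m q else 1
  have hprod : ∀ X : Subgroup G, X ≤ N → Nat.card X = ∏ q ∈ P, lp q X := by
    intro X hX
    conv_lhs => rw [← Nat.factorization_prod_pow_eq_self (Nat.card_pos (α := X)).ne']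
    refine Finsupp.prod_of_support_subset _ ?_ _ fun _ _ => pow_zero _
    rw [Nat.support_factorization]
    exact Nat.primeFactors_mono (card_dvd_of_le hX) Nat.card_pos.ne'
  have hNle : Nat.card N ≤ Nat.card (cent g ⊓ N : Subgroup G) * ∏ q ∈ P, n' q := by
    rw [hprod N le_rfl, hprod _ inf_le_right, ← Finset.prod_mul_distrib]
    refine Finset.prod_le_prod (fun _ _ => Nat.zero_le _) fun q hq => ?_
    haveI : Fact q.Prime := ⟨Nat.prime_of_mem_primeFactors hq⟩
    by_cases hqS : q ∈ S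
    · simp only [n', if_pos hqS]; exact H.bound_N hgN hgc
    · simp only [n', if_neg hqS, mul_one]
      obtain ⟨T, hT, hTp, hTc⟩ := exists_sylow_in (l := q) N
      rw [← hTc]
      refine card_le_lp hTp fun w hw => ⟨center_le_centralizer _ ?_, hT hw⟩
      by_contra hwc
      exact hqS (hSmem q ⟨Fact.out, w, hT hw, isL_of_mem hTp hw, hwc⟩)
  have hle : Nat.card K ≤ Nat.card (center G ⊓ N : Subgroup G) * ∏ q ∈ P, n' q := by
    have h1 := card_mul_card_le (inf_le_right : K ≤ N) (inf_le_right : cent g ⊓ N ≤ N)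
    refine Nat.le_of_mul_le_mul_right ?_ (Nat.card_pos (α := (cent g ⊓ N : Subgroup G)))
    calc Nat.card K * Nat.card (cent g ⊓ N : Subgroup G)
        ≤ Nat.card N * Nat.card (K ⊓ (cent g ⊓ N) : Subgroup G) := h1
      _ ≤ _ := Nat.mul_le_mul hNle hinter
      _ = _ := by ring
  rw [hprod K inf_le_right, hprod _ inf_le_right, ← Finset.prod_mul_distrib] at hle
  have hlP : l ∈ P := (Finset.mem_filter.1 hlS).1
  have htP : t ∈ P := (Finset.mem_filter.1 (hSmem t ht)).1
  have htE : t ∈ P.erase l := Finset.mem_erase.2 ⟨htl, htP⟩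
  rw [← Finset.mul_prod_erase P _ hlP, ← Finset.mul_prod_erase (P.erase l) _ htE,
    ← Finset.mul_prod_erase P _ hlP, ← Finset.mul_prod_erase (P.erase l) _ htE] at hle
  have hrest : ∀ q ∈ (P.erase l).erase t, lp q (center G ⊓ N) * n' q ≤ lp q K := by
    intro q hq
    have hql : q ≠ l := (Finset.mem_erase.1 (Finset.mem_erase.1 hq).2).1
    haveI : Fact q.Prime := ⟨Nat.prime_of_mem_primeFactors (Finset.mem_of_mem_erase (Finset.mem_of_mem_erase hq))⟩
    by_cases hqS : q ∈ S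
    · simp only [n', if_pos hqS]
      rw [mul_comm]
      exact ((Nat.mul_le_mul_right _ (hmax q hqS)).trans_lt (hbig q (Finset.mem_filter.1 hqS).2 hql)).le
    · simp only [n', if_neg hqS, mul_one]
      exact lp_le_of_le (inf_le_inf_right _ (center_le_centralizer _))
  have h2 := Finset.prod_le_prod (f := fun q => lp q (center G ⊓ N) * n' q) (g := fun q => lp q K)
    (fun _ _ => Nat.zero_le _) hrest
  have h3 : (lp l (center G ⊓ N) * n' l) * (lp t (center G ⊓ N) * n' t) < lp l K * lp t K := by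
    simp only [n', if_pos hlS, if_pos (hSmem t ht)]
    calc lp l (center G ⊓ N) * nn m l * (lp t (center G ⊓ N) * nn m t)
        = (nn m t * lp l (center G ⊓ N)) * (nn m l * lp t (center G ⊓ N)) := by ring
      _ < _ := Nat.mul_lt_mul'' hsecond (hbig t ht htl)
  have hpos : 0 < ∏ q ∈ (P.erase l).erase t, lp q K := Finset.prod_pos fun q hq =>
    lp_pos (Nat.prime_of_mem_primeFactors (Finset.mem_of_mem_erase (Finset.mem_of_mem_erase hq))) _
  have h4 := Nat.mul_lt_mul_of_lt_of_le h3 h2 hpos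
  simp only [mul_assoc] at h4 hle
  omega

end Hyp

end Cfsg.Agent.GStructB.TwoSizes
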