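import Mathlib
import Cfsg.Agent.GStructB.ClassGraph

/-!
For a nonsolvable group the prime graph on class sizes has diameter at most two.
-/

set_option linter.style.haveILetI false

namespace Cfsg.Agent.GStructB.ClassDiameter

open Subgroup ClassGraph
open scoped Pointwise

variable {G : Type*} [Group G] [Finite G]

/-- The intersection of the `p`-residuals over the small primes. -/
noncomputable def core (G : Type*) [Group G] : Subgroup G :=
  ⨅ r : {r : ℕ // r.Prime ∧ r ∣ Nat.card G ∧ ¬ Big r G}, Cfsg.pResidual r.1 G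

instance core_normal : (core G).Normal := by
  haveI h : ∀ r : {r : ℕ // r.Prime ∧ r ∣ Nat.card G ∧ ¬ Big r G}, (Cfsg.pResidual r.1 G).Normal :=
    fun r => by
      haveI : Fact r.1.Prime := ⟨r.2.1⟩
      infer_instance
  exact Subgroup.normal_iInf_normal h

theorem coprime_card_core {r : ℕ} (hr : r.Prime) (hrG : r ∣ Nat.card G) (hns : ¬ Big r G) :
    ¬ r ∣ Nat.card (core G) := by
  haveI : Fact r.Prime := ⟨hr⟩
  obtain ⟨P⟩ : Nonempty (Sylow r G) := inferInstance
  have hle : normalizer ((P : Subgroup G) : Set G) ≤ centralizer ((P : Subgroup G) : Set G) := by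
    by_contra h
    exact hns ⟨P, h⟩
  obtain ⟨P', N, hNn, hN⟩ :=
    Transfer.NormalPComplement.hasNormalPComplement_of_normalizer_le_centralizer P hle
  haveI := hNn
  have hres := Transfer.NormalPComplement.pResidual_eq_of_isComplement' hN
  intro hd
  have h1 : r ∣ Nat.card (Cfsg.pResidual r G) :=
    hd.trans (Subgroup.card_dvd_of_le (iInf_le _ (⟨r, hr, hrG, hns⟩ : {r : ℕ // r.Prime ∧ r ∣ Nat.card G ∧ ¬ Big r G})))
  rw [hres, ← hN.index_eq_card] at h1
  exact P'.not_dvd_index h1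

theorem comm_mem_core (x y : G) : x * y * x⁻¹ * y⁻¹ ∈ core G := by
  rw [core, mem_iInf]
  rintro ⟨r, hr, hrG, hns⟩
  haveI : Fact r.Prime := ⟨hr⟩
  obtain ⟨P⟩ : Nonempty (Sylow r G) := inferInstance
  have hle : normalizer ((P : Subgroup G) : Set G) ≤ centralizer ((P : Subgroup G) : Set G) := by
    by_contra h
    exact hns ⟨P, h⟩
  set K := Cfsg.pResidual r G
  have hsup : K ⊔ (P : Subgroup G) = ⊤ := Transfer.NormalPComplement.pResidual_sup_sylow P
  have hsurj : ∀ g : G, ∃ c ∈ (P : Subgroup G), (c : G ⧸ K) = (g : G ⧸ K) := by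
    intro g
    have hg : g ∈ ((K ⊔ (P : Subgroup G) : Subgroup G) : Set G) := by rw [hsup]; trivial
    rw [Subgroup.normal_mul K] at hg
    obtain ⟨k, hk, c, hc, rfl⟩ := hg
    refine ⟨c, hc, ?_⟩
    rw [QuotientGroup.mk_mul, (QuotientGroup.eq_one_iff k).2 hk, one_mul]
  obtain ⟨c, hc, hcx⟩ := hsurj x
  obtain ⟨d, hd, hdy⟩ := hsurj y
  show x * y * x⁻¹ * y⁻¹ ∈ K
  rw [← QuotientGroup.eq_one_iff]
  simp only [QuotientGroup.mk_mul, QuotientGroup.mk_inv, ← hcx, ← hdy]
  have hcd : ((c : G) : G ⧸ K) * (d : G ⧸ K) = (d : G ⧸ K) * (c : G ⧸ K) := by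
    rw [← QuotientGroup.mk_mul, ← QuotientGroup.mk_mul, mem_centralizer_iff.1 (hle (le_normalizer hd)) c hc]
  calc (c : G ⧸ K) * (d : G ⧸ K) * (c : G ⧸ K)⁻¹ * (d : G ⧸ K)⁻¹
      = (d : G ⧸ K) * (c : G ⧸ K) * (c : G ⧸ K)⁻¹ * (d : G ⧸ K)⁻¹ := by rw [hcd]
    _ = 1 := by group

theorem core_not_solvable (hG : ¬ Group.IsSolvable G) : ¬ Group.IsSolvable (core G) := by
  intro h
  apply hG
  haveI : Group.IsSolvable (G ⧸ core G) := isSolvable_of_comm fun a b => by
    obtain ⟨x, rfl⟩ := QuotientGroup.mk_surjective a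
    obtain ⟨y, rfl⟩ := QuotientGroup.mk_surjective b
    rw [← mul_inv_eq_one, ← QuotientGroup.mk_mul, ← QuotientGroup.mk_mul, ← QuotientGroup.mk_inv,
      ← QuotientGroup.mk_mul, QuotientGroup.eq_one_iff]
    have := comm_mem_core x y
    rwa [mul_inv_rev, ← mul_assoc]
  exact (Group.isSolvable_iff_subgroup_quotient (core G)).2 ⟨h, inferInstance⟩

/-- Sylow centralizers cover the quotient by the core. -/
theorem core_mul_centralizer {r : ℕ} [Fact r.Prime] (R : Sylow r G)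
    (hR : normalizer ((R : Subgroup G) : Set G) ≤ centralizer ((R : Subgroup G) : Set G)) (g : G) :
    ∃ l ∈ core G, ∃ c ∈ centralizer ((R : Subgroup G) : Set G), g = l * c := by
  set M := core G ⊔ (R : Subgroup G) with hM
  haveI : M.Normal := ⟨fun m hm x => by
    rw [show x * m * x⁻¹ = (x * m * x⁻¹ * m⁻¹) * m by group]
    exact mul_mem (mem_sup_left (comm_mem_core x m)) hm⟩
  have h1 := Sylow.normalizer_sup_eq_top' R (le_sup_right : (R : Subgroup G) ≤ M)
  have h2 : core G ⊔ centralizer ((R : Subgroup G) : Set G) = ⊤ := by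
    refine top_le_iff.1 (h1 ▸ sup_le (le_trans ?_ le_sup_right) (sup_le le_sup_left (le_trans ?_ le_sup_right)))
    · exact hR
    · exact le_normalizer.trans hR
  have hg : g ∈ ((core G ⊔ centralizer ((R : Subgroup G) : Set G) : Subgroup G) : Set G) := by
    rw [h2]; trivial
  rw [Subgroup.normal_mul] at hg
  obtain ⟨l, hl, c, hc, rfl⟩ := hg
  exact ⟨l, hl, c, hc, rfl⟩

/-- A noncentral element of a small prime's Sylow subgroup. -/
theorem exists_elem {p : ℕ} [Fact p.Prime] (hp : ∃ x : G, p ∣ (centralizer ({x} : Set G)).index)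
    (hns : ¬ Big p G) (P : Sylow p G) :
    ∃ a ∈ (P : Subgroup G), (orderOf a).Coprime (Nat.card (core G)) ∧
      (∀ g : G, ∃ l ∈ core G, g * a * g⁻¹ = l * a * l⁻¹) ∧
      ¬ core G ≤ centralizer ({a} : Set G) := by
  obtain ⟨x, hx⟩ := hp
  have hle : normalizer ((P : Subgroup G) : Set G) ≤ centralizer ((P : Subgroup G) : Set G) := by
    by_contra h
    exact hns ⟨P, h⟩
  have hdec := core_mul_centralizer P hle
  obtain ⟨a, ha, hacore⟩ : ∃ a ∈ (P : Subgroup G), ¬ core G ≤ centralizer ({a} : Set G) := by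
    by_contra hc
    push Not at hc
    refine P.not_dvd_index (hx.trans (index_dvd_of_le fun y hy => ?_))
    obtain ⟨l, hl, c, hc', rfl⟩ := hdec x
    refine mem_centralizer_singleton_iff.2 ?_
    have h1 : y * l = l * y := (mem_centralizer_singleton_iff.1 (hc y hy hl)).symm
    have h2 : y * c = c * y := mem_centralizer_iff.1 hc' y hy
    rw [← mul_assoc, h1, mul_assoc, h2, mul_assoc]
  refine ⟨a, ha, ?_, fun g => ?_, hacore⟩
  · obtain ⟨k, hk⟩ := IsPGroup.iff_orderOf.1 P.2 ⟨a, ha⟩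
    rw [Subgroup.orderOf_mk] at hk
    rw [hk]
    exact Nat.Coprime.pow_left k ((Fact.out : p.Prime).coprime_iff_not_dvd.2
      (coprime_card_core Fact.out (hx.trans (index_dvd_card _)) hns))
  · obtain ⟨l, hl, c, hc', rfl⟩ := hdec g
    refine ⟨l, hl, ?_⟩
    have h2 : a * c = c * a := mem_centralizer_iff.1 hc' a ha
    calc l * c * a * (l * c)⁻¹ = l * (c * a) * c⁻¹ * l⁻¹ := by group
      _ = l * (a * c) * c⁻¹ * l⁻¹ := by rw [h2]
      _ = l * a * l⁻¹ := by group

/-- There is a Sylow `q`-subgroup centralizing a given small Sylow `p`-subgroup. -/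
theorem exists_commuting_sylow {p q : ℕ} [Fact p.Prime] [Fact q.Prime] (hns : ¬ Big p G)
    (hq : ¬ q ∣ Nat.card (core G)) (P : Sylow p G) :
    ∃ Q : Sylow q G, (Q : Subgroup G) ≤ centralizer ((P : Subgroup G) : Set G) := by
  have hle : normalizer ((P : Subgroup G) : Set G) ≤ centralizer ((P : Subgroup G) : Set G) := by
    by_contra h
    exact hns ⟨P, h⟩
  set C := centralizer ((P : Subgroup G) : Set G) with hC
  obtain ⟨R⟩ : Nonempty (Sylow q C) := inferInstance
  obtain ⟨Q, hQ⟩ := (R.2.map C.subtype).exists_le_sylow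
  refine ⟨Q, ?_⟩
  have hidx : ¬ q ∣ C.index := by
    intro hd
    apply hq
    have h0 : ((core G : Set G) * (C : Set G)) = Set.univ :=
      Set.eq_univ_of_forall fun g => by
        obtain ⟨l, hl, c, hc, rfl⟩ := core_mul_centralizer P hle g
        exact Set.mul_mem_mul hl hc
    have h1 := Hall.card_mul_inf (core G) C
    rw [h0, Nat.card_univ, ← C.card_mul_index] at h1
    have h2 : Nat.card (core G) = C.index * Nat.card ↥(core G ⊓ C) :=
      (Nat.eq_of_mul_eq_mul_left (Nat.card_pos (α := C)) (by rw [← mul_assoc, h1, mul_comm])).symm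
    exact hd.trans ⟨_, h2⟩
  have hcard : Nat.card ((R : Subgroup C).map C.subtype) = Nat.card Q := by
    rw [card_map_of_injective C.subtype_injective, R.card_eq_multiplicity, Q.card_eq_multiplicity]
    congr 1
    rw [← C.card_mul_index, Nat.factorization_mul Nat.card_pos.ne' index_ne_zero_of_finite]
    simp [Nat.factorization_eq_zero_of_not_dvd hidx]
  rw [← eq_of_le_of_card_ge hQ (ge_of_eq hcard)]
  exact map_subtype_le _

theorem adj_mul {p q : ℕ} (hp : p.Prime) (hq : q.Prime) (hpq : p ≠ q) (h : Adj p q G) :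
    ∃ x : G, p * q ∣ (centralizer ({x} : Set G)).index := by
  obtain ⟨x, h1, h2⟩ := h
  exact ⟨x, Nat.Coprime.mul_dvd_of_dvd_of_dvd ((Nat.coprime_primes hp hq).2 hpq) h1 h2⟩

theorem big_of_dvd_core {s : ℕ} (hs : s.Prime) (hsd : s ∣ Nat.card (core G)) : Big s G := by
  by_contra h
  exact coprime_card_core hs (hsd.trans (Subgroup.card_subgroup_dvd_card _)) h hsd

theorem dist_two (hG : ¬ Group.IsSolvable G) {p q : ℕ} (hp : p.Prime) (hq : q.Prime) (hpq : p ≠ q)
    (hp' : ∃ x : G, p ∣ (centralizer ({x} : Set G)).index)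
    (hq' : ∃ x : G, q ∣ (centralizer ({x} : Set G)).index) :
    Adj p q G ∨ ∃ r : ℕ, r.Prime ∧ r ≠ p ∧ r ≠ q ∧ Adj p r G ∧ Adj r q G := by
  haveI : Fact p.Prime := ⟨hp⟩
  haveI : Fact q.Prime := ⟨hq⟩
  have hL := core_not_solvable hG
  have sym : ∀ {x y : ℕ}, Adj x y G → Adj y x G := fun ⟨z, h1, h2⟩ => ⟨z, h2, h1⟩
  have nb : ∀ {r : ℕ} [Fact r.Prime], (∃ x : G, r ∣ (centralizer ({x} : Set G)).index) → ¬ Big r G →
      ∃ s : ℕ, s.Prime ∧ Big s G ∧ Adj r s G := by
    intro r _ hr hns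
    obtain ⟨R⟩ : Nonempty (Sylow r G) := inferInstance
    obtain ⟨b, hb, -, hconj, hnot⟩ := exists_elem hr hns R
    obtain ⟨s, hs, hsd, hadj⟩ := exists_neighbour (core G) hL hb hconj hnot
    exact ⟨s, hs, big_of_dvd_core hs hsd, hadj⟩
  by_cases hbp : Big p G <;> by_cases hbq : Big q G
  · exact Or.inl (adj_of_big hp hq hbp hbq)
  · obtain ⟨s, hs, hbs, hadj⟩ := nb hq' hbq
    by_cases hsp : s = p
    · exact Or.inl (sym (hsp ▸ hadj))
    · exact Or.inr ⟨s, hs, hsp, fun e => hbq (e ▸ hbs), adj_of_big hp hs hbp hbs, sym hadj⟩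
  · obtain ⟨s, hs, hbs, hadj⟩ := nb hp' hbp
    by_cases hsq : s = q
    · exact Or.inl (hsq ▸ hadj)
    · exact Or.inr ⟨s, hs, fun e => hbp (e ▸ hbs), hsq, hadj, adj_of_big hs hq hbs hbq⟩
  · obtain ⟨P⟩ : Nonempty (Sylow p G) := inferInstance
    obtain ⟨a, ha, hcoa, hconja, hnota⟩ := exists_elem hp' hbp P
    obtain ⟨x, hx⟩ := hq'
    obtain ⟨Q, hQ⟩ := exists_commuting_sylow hbp
      (coprime_card_core hq (hx.trans (index_dvd_card _)) hbq) P
    obtain ⟨b, hb, hcob, hconjb, hnotb⟩ := exists_elem ⟨x, hx⟩ hbq Q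
    have hpair : Pair (core G) a b := by
      refine ⟨mem_centralizer_iff.1 (hQ hb) a ha, ?_, hcoa, hcob, hconja, hnota, hnotb⟩
      obtain ⟨i, hi⟩ := IsPGroup.iff_orderOf.1 P.2 ⟨a, ha⟩
      obtain ⟨j, hj⟩ := IsPGroup.iff_orderOf.1 Q.2 ⟨b, hb⟩
      rw [Subgroup.orderOf_mk] at hi hj
      rw [hi, hj]
      exact Nat.Coprime.pow _ _ ((Nat.coprime_primes hp hq).2 hpq)
    rcases small_small (core G) ha hb hpair hconjb with h | ⟨s, hs, hsd, h1, h2⟩
    · exact Or.inl h
    · exact Or.inr ⟨s, hs, fun e => hbp (e ▸ big_of_dvd_core hs hsd),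
        fun e => hbq (e ▸ big_of_dvd_core hs hsd), h1, h2⟩

end Cfsg.Agent.GStructB.ClassDiameter
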