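import Mathlib
import Cfsg.Agent.GStructB.TwoSizesCore

/-!
Consequences for groups and normal subgroups with two class sizes.
-/

set_option autoImplicit false
set_option linter.unusedSectionVars false
set_option linter.style.haveILetI false

namespace Cfsg.Agent.GStructB.TwoSizes

open Subgroup
open scoped Pointwise

universe u

variable {G : Type u} [Group G] [Finite G] {N : Subgroup G}

theorem mem_of_sylow_le [hN : N.Normal] {r : ℕ} [Fact r.Prime] {R : Sylow r G} (hR : (R : Subgroup G) ≤ N)
    {g : G} (hg : IsL r g) : g ∈ N := by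
  obtain ⟨k, hk⟩ := hg
  obtain ⟨S, hS⟩ := PElements.exists_mem_sylow hk
  obtain ⟨c, hc⟩ := MulAction.exists_smul_eq G R S
  rw [← hc] at hS
  change g ∈ MulAut.conj c • (R : Subgroup G) at hS
  rw [PElements.mem_conj_smul] at hS
  have := hN.conj_mem _ (hR hS) c
  simpa [mul_assoc] using this

/-- If all centralisers of elements of `N` have index prime to `r`, then `N` centralises `R`. -/
theorem le_centralizer_of_cover [N.Normal] {r : ℕ} [Fact r.Prime] (R : Sylow r G) (hR : (R : Subgroup G) ≤ N)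
    (h : ∀ w ∈ N, ¬ r ∣ (cent w).index) : N ≤ centralizer ((R : Subgroup G) : Set G) := by
  refine ClassGraph.le_of_cover fun w hw => ?_
  obtain ⟨T, hT, hTp, hTc⟩ := exists_sylow_in (l := r) (cent w)
  obtain ⟨S, hS⟩ := hTp.exists_le_sylow
  have hST : (S : Subgroup G) ≤ cent w := by
    refine le_trans ?_ hT
    refine (eq_of_le_of_card_ge hS ?_).ge
    rw [hTc, card_sylow S, lp, lp, card_top, ← (cent w).card_mul_index,
      Nat.factorization_mul Nat.card_pos.ne' index_ne_zero_of_finite, Finsupp.add_apply,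
      Nat.factorization_eq_zero_of_not_dvd (h w hw), add_zero]
  have hSN : (S : Subgroup G) ≤ N := fun x hx => mem_of_sylow_le hR (isL_of_mem S.2 hx)
  obtain ⟨c, hc⟩ := MulAction.exists_smul_eq N (R.subtype hR) (S.subtype hSN)
  refine ⟨c, c.2, mem_centralizer_iff.2 fun x hx => ?_⟩
  have h1 : c * (⟨x, hR hx⟩ : N) * c⁻¹ ∈ ((S.subtype hSN : Sylow r N) : Subgroup N) := by
    rw [← hc, Sylow.coe_subgroup_smul, PElements.mem_conj_smul]
    simp only [Sylow.coe_subtype, mem_subgroupOf, Subgroup.coe_mul, Subgroup.coe_inv, mul_assoc,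
      inv_mul_cancel_left, inv_mul_cancel, mul_one]
    exact hx
  rw [Sylow.coe_subtype, mem_subgroupOf] at h1
  simp only [Subgroup.coe_mul, Subgroup.coe_inv] at h1
  have h2 : (c : G) * x * (c : G)⁻¹ * w = w * ((c : G) * x * (c : G)⁻¹) := mem_cent.1 (hST h1)
  calc x * ((c : G)⁻¹ * w * c) = (c : G)⁻¹ * ((c : G) * x * (c : G)⁻¹ * w) * c := by group
    _ = (c : G)⁻¹ * (w * ((c : G) * x * (c : G)⁻¹)) * c := by rw [h2]
    _ = (c : G)⁻¹ * w * c * x := by group

/-- The `r'`-elements are central in the main case. -/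
theorem Hyp.central_of_coprime {r m : ℕ} (H : Hyp N r m) {v : G} (hv : v ∈ N) (hr : ¬ r ∣ orderOf v) :
    v ∈ center G := by
  by_contra hvc
  obtain ⟨l, hl, k, hkl, hkc⟩ := exists_primary hvc
  refine hkc (H.central_of_isL hl (fun he => ?_) hkl (pow_mem hv k))
  subst he
  obtain ⟨i, hi⟩ := hkl
  rcases i with _ | i
  · rw [pow_zero, orderOf_eq_one_iff] at hi
    exact hkc (hi ▸ one_mem _)
  · exact hr (((dvd_pow_self l i.succ_ne_zero).trans hi.symm.dvd).trans (orderOf_pow_dvd k))

/-- A normal subgroup with two class sizes containing a non-central Sylow subgroup is nilpotent. -/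
theorem nilpotent_of_two_sizes [hN : N.Normal] {r m : ℕ} [Fact r.Prime] (R : Sylow r G)
    (hR : ¬ (R : Subgroup G) ≤ center G) (hRN : (R : Subgroup G) ≤ N)
    (h : ∀ x ∈ N, (cent x).index = 1 ∨ (cent x).index = m) : Group.IsNilpotent N := by
  have hr : r.Prime := Fact.out
  obtain ⟨x, hxR, hxc⟩ := SetLike.not_le_iff_exists.1 hR
  have hxl := isL_of_mem R.2 hxR
  have hsz : ∀ g ∈ N, g ∉ center G → (cent g).index = m := fun g hg hgc => (h g hg).resolve_left fun h1 =>
    hgc (mem_center_iff.2 fun z => mem_cent.1 (show z ∈ cent g from index_eq_one.1 h1 ▸ mem_top z))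
  by_cases hdvd : r ∣ m
  · have H : Hyp N r m := ⟨hN, hr, fun g hg => mem_of_sylow_le hRN hg, ⟨x, hxl, hxc⟩, hsz, hdvd⟩
    refine Group.of_quotient_center_nilpotent ?_
    refine (IsPGroup.isNilpotent (p := r) fun q => ?_)
    obtain ⟨w, rfl⟩ := QuotientGroup.mk_surjective q
    obtain ⟨a, s, hord, hs, -⟩ := PElements.exists_split r (w : G)
    refine ⟨a, ?_⟩
    rw [← QuotientGroup.mk_pow]
    refine (QuotientGroup.eq_one_iff _).2 (mem_center_iff.2 fun z => Subtype.ext ?_)
    have hc := H.central_of_coprime (v := (w : G) ^ r ^ a) (pow_mem w.2 _) (by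
      rw [orderOf_pow_of_dvd (pow_ne_zero _ hr.ne_zero) (hord ▸ dvd_mul_right _ _), hord,
        Nat.mul_div_cancel_left _ (pow_pos hr.pos a)]
      exact hs)
    show (z : G) * (w : G) ^ r ^ a = (w : G) ^ r ^ a * z
    exact mem_center_iff.1 hc _
  have hnd : ∀ w ∈ N, ¬ r ∣ (cent w).index := fun w hw hd => by
    rcases h w hw with h1 | h1 <;> rw [h1] at hd
    · exact hr.not_dvd_one hd
    · exact hdvd hd
  have hNR := le_centralizer_of_cover R hRN hnd
  have hcomR : ∀ u, IsL r u → u ∈ N → ∀ w ∈ N, Commute u w := by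
    intro u hu huN w hw
    obtain ⟨k, hk⟩ := hu
    obtain ⟨S, hS⟩ := PElements.exists_mem_sylow hk
    have hSN : (S : Subgroup G) ≤ N := fun z hz => mem_of_sylow_le hRN (isL_of_mem S.2 hz)
    obtain ⟨c, hc⟩ := MulAction.exists_smul_eq N (R.subtype hRN) (S.subtype hSN)
    have h1 : (⟨u, huN⟩ : N) ∈ ((S.subtype hSN : Sylow r N) : Subgroup N) := by
      rw [Sylow.coe_subtype, mem_subgroupOf]; exact hS
    rw [← hc, Sylow.coe_subgroup_smul, PElements.mem_conj_smul, Sylow.coe_subtype, mem_subgroupOf] at h1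
    simp only [Subgroup.coe_mul, Subgroup.coe_inv] at h1
    have h2 := mem_centralizer_iff.1 (hNR c.2) _ h1
    have h3 : u = (c : G)⁻¹ * u * c := by
      calc u = (c : G) * ((c : G)⁻¹ * u * c) * (c : G)⁻¹ := by group
        _ = _ := by rw [← h2, mul_inv_cancel_right]
    rw [h3]
    exact mem_centralizer_iff.1 (hNR hw) _ h1
  have hr' : ∀ v ∈ N, ¬ r ∣ orderOf v → v ∉ center G → cent v = cent x := by
    intro v hv hvr hvc
    have hco : (orderOf x).Coprime (orderOf v) := by
      obtain ⟨k, hk⟩ := hxl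
      rw [hk]; exact (hr.coprime_iff_not_dvd.2 hvr).pow_left k
    have hxv : Commute x v := hcomR x hxl (hRN hxR) v hv
    have h1 : cent (x * v) ≤ cent x := ClassGraph.centralizer_mul_le hxv hco
    have h2 : cent (x * v) ≤ cent v := by
      rw [hxv.eq]; exact ClassGraph.centralizer_mul_le hxv.symm hco.symm
    have hxvc : x * v ∉ center G := fun h' => hxc (mem_center_iff.2 fun z =>
      mem_cent.1 (h1 (mem_cent.2 (mem_center_iff.1 h' z))))
    have hm : 0 < m := by
      rw [← hsz x (hRN hxR) hxc]; exact Nat.pos_of_ne_zero index_ne_zero_of_finite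
    have heq : ∀ g, g ∈ N → g ∉ center G → Nat.card (cent g) * m = Nat.card G := fun g hg hgc => by
      rw [← hsz g hg hgc, card_mul_index]
    have e1 := eq_of_le_of_card_ge h1 (Nat.le_of_eq (Nat.eq_of_mul_eq_mul_right hm
      (by rw [heq x (hRN hxR) hxc, heq _ (mul_mem (hRN hxR) hv) hxvc])))
    have e2 := eq_of_le_of_card_ge h2 (Nat.le_of_eq (Nat.eq_of_mul_eq_mul_right hm
      (by rw [heq v hv hvc, heq _ (mul_mem (hRN hxR) hv) hxvc])))
    rw [← e1, e2]
  have hcomm : ∀ a b : N, a * b = b * a := fun a b => Subtype.ext (by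
    have key : ∀ w ∈ N, ∀ z ∈ N, ∀ (i s : ℕ), orderOf w = r ^ i * s → ¬ r ∣ s → ¬ r ∣ orderOf z →
        Commute z (w ^ r ^ i) := by
      intro w hw z hz i s hord hs hzr
      by_cases hzc : z ∈ center G
      · exact (mem_center_iff.1 hzc _).symm
      have hwr : ¬ r ∣ orderOf (w ^ r ^ i) := by
        rw [orderOf_pow_of_dvd (pow_ne_zero _ hr.ne_zero) (hord ▸ dvd_mul_right _ _), hord,
          Nat.mul_div_cancel_left _ (pow_pos hr.pos i)]
        exact hs
      by_cases hwc : w ^ r ^ i ∈ center G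
      · exact mem_center_iff.1 hwc z
      refine mem_cent.1 ?_
      rw [hr' _ (pow_mem hw _) hwr hwc, ← hr' z hz hzr hzc]
      exact self_mem_cent z
    have full : ∀ w ∈ N, ∀ z ∈ N, ¬ r ∣ orderOf z → Commute z w := by
      intro w hw z hz hzr
      obtain ⟨i, s, hord, hs, hu⟩ := PElements.exists_split r w
      exact (mem_cent.1 (PElements.mem_of_pow_mem_coprime (a := s) (b := r ^ i)
        ((hr.coprime_iff_not_dvd.2 hs).pow_left i).symm
        (mem_cent.2 (hcomR _ ⟨i, hu⟩ (pow_mem hw s) z hz))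
        (mem_cent.2 (key w hw z hz i s hord hs hzr).symm))).symm
    obtain ⟨i, s, hord, hs, hu⟩ := PElements.exists_split r (a : G)
    refine (mem_cent.1 (PElements.mem_of_pow_mem_coprime (a := s) (b := r ^ i)
      ((hr.coprime_iff_not_dvd.2 hs).pow_left i).symm
      (mem_cent.2 (hcomR _ ⟨i, hu⟩ (pow_mem a.2 s) b b.2))
      (mem_cent.2 (full b b.2 _ (pow_mem a.2 _) ?_)))).eq
    rw [orderOf_pow_of_dvd (pow_ne_zero _ hr.ne_zero) (hord ▸ dvd_mul_right _ _), hord,
      Nat.mul_div_cancel_left _ (pow_pos hr.pos i)]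
    exact hs)
  letI : CommGroup N := { N.toGroup with mul_comm := hcomm }
  infer_instance

/-- Groups of conjugate type `(n, 1)`. -/
theorem two_sizes_structure (n : ℕ)
    (h : ∀ x : G, (cent x).index = 1 ∨ (cent x).index = n) (hex : ∃ x : G, x ∉ center G) :
    ∃ (p : ℕ) (_ : Fact p.Prime) (a : ℕ), n = p ^ a ∧ ∀ P : Sylow p G, (P : Subgroup G).Normal ∧
      (∃ K : Subgroup G, K.Normal ∧ K.IsComplement' (P : Subgroup G) ∧ IsMulCommutative K ∧
        ∀ x ∈ K, ∀ y ∈ (P : Subgroup G), x * y = y * x) ∧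
      ∃ A : Subgroup (P : Subgroup G), A.Normal ∧ IsMulCommutative A ∧ ∀ y : (P : Subgroup G), y ^ p ∈ A := by
  obtain ⟨g, hg⟩ := hex
  obtain ⟨p, hp, k, hkl, hkc⟩ := exists_primary hg
  haveI : Fact p.Prime := ⟨hp⟩
  have hsz : ∀ z, z ∈ (⊤ : Subgroup G) → z ∉ center G → (cent z).index = n := fun z _ hzc =>
    (h z).resolve_left fun h1 => hzc (mem_center_iff.2 fun w =>
      mem_cent.1 (show w ∈ cent z from index_eq_one.1 h1 ▸ mem_top w))
  have hdvd : p ∣ n := by
    by_contra hnd
    obtain ⟨R, hR⟩ := PElements.exists_mem_sylow hkl.choose_spec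
    have h1 := le_centralizer_of_cover R (le_top (a := (R : Subgroup G))) fun w _ hd => by
      rcases h w with h1 | h1 <;> rw [h1] at hd
      · exact hp.not_dvd_one hd
      · exact hnd hd
    exact hkc (mem_center_iff.2 fun z => (mem_centralizer_iff.1 (h1 (mem_top z)) _ hR).symm)
  have H : Hyp (⊤ : Subgroup G) p n :=
    ⟨inferInstance, hp, fun z _ => mem_top z, ⟨_, hkl, hkc⟩, hsz, hdvd⟩
  have hn : n = p ^ n.factorization p := by
    refine Nat.eq_pow_of_factorization_eq_single ?_ ?_
    · exact H.m_pos.ne'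
    · ext q
      by_cases hq : q = p
      · subst hq; simp
      rw [Finsupp.single_eq_of_ne hq]
      by_cases hqp : q.Prime
      · haveI : Fact q.Prime := ⟨hqp⟩
        have h1 := H.lp_mul (l := q) (mem_top _) hkc
        obtain ⟨Q⟩ : Nonempty (Sylow q G) := inferInstance
        have h2 : lp q (⊤ : Subgroup G) ≤ lp q (cent (g ^ k)) := by
          rw [← card_sylow Q]
          refine card_le_lp Q.2 fun w hw => center_le_centralizer _ ?_
          obtain ⟨i, hi⟩ := isL_of_mem Q.2 hw
          exact H.central_of_isL hqp hq ⟨i, hi⟩ (mem_top w)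
        rw [← h1] at h2
        have h3 : nn n q ≤ 1 := Nat.le_of_mul_le_mul_left (by rw [mul_one]; exact h2) (lp_pos hqp _)
        by_contra hne
        have h4 : q ≤ nn n q := Nat.le_self_pow hne q
        have := hqp.two_le
        omega
      · exact Nat.factorization_eq_zero_of_not_prime n hqp
  refine ⟨p, inferInstance, _, hn, fun P => ?_⟩
  have hcent : ∀ v : G, ¬ p ∣ orderOf v → v ∈ center G := fun v hv => H.central_of_coprime (mem_top v) hv
  have hgen : (P : Subgroup G) ⊔ center G = ⊤ := by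
    refine eq_top_iff.2 fun w _ => ?_
    obtain ⟨a, s, hord, hs, hu⟩ := PElements.exists_split p w
    obtain ⟨S, hS⟩ := PElements.exists_mem_sylow hu
    refine PElements.mem_of_pow_mem_coprime (a := s) (b := p ^ a)
      ((hp.coprime_iff_not_dvd.2 hs).pow_left a).symm ?_ (mem_sup_right (hcent _ ?_))
    · -- every Sylow subgroup lies in `P ⊔ Z(G)`
      have hcard : Nat.card ((P : Subgroup G) ⊔ center G : Subgroup G) = Nat.card G := by
        refine le_antisymm (Subgroup.card_le_card_group _) (Nat.le_of_dvd Nat.card_pos ?_)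
        rw [← Nat.factorization_le_iff_dvd Nat.card_pos.ne' Nat.card_pos.ne']
        intro q
        by_cases hqp : q.Prime
        · haveI : Fact q.Prime := ⟨hqp⟩
          obtain ⟨Q⟩ : Nonempty (Sylow q G) := inferInstance
          have hle : lp q (⊤ : Subgroup G) ≤ lp q ((P : Subgroup G) ⊔ center G) := by
            by_cases hq : q = p
            · subst hq
              rw [← card_sylow P]
              exact card_le_lp P.2 le_sup_left
            · rw [← card_sylow Q]
              refine card_le_lp Q.2 fun z hz => mem_sup_right ?_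
              obtain ⟨i, hi⟩ := isL_of_mem Q.2 hz
              exact H.central_of_isL hqp hq ⟨i, hi⟩ (mem_top z)
          rw [lp, lp, card_top] at hle
          exact (Nat.pow_le_pow_iff_right hqp.one_lt).1 hle
        · simp [Nat.factorization_eq_zero_of_not_prime _ hqp]
      rw [eq_top_of_card_eq _ hcard]
      exact mem_top _
    · rw [orderOf_pow_of_dvd (pow_ne_zero _ hp.ne_zero) (hord ▸ dvd_mul_right _ _), hord,
        Nat.mul_div_cancel_left _ (pow_pos hp.pos a)]
      exact hs
  have hPn : (P : Subgroup G).Normal := by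
    rw [← normalizer_eq_top_iff, eq_top_iff, ← hgen]
    exact sup_le le_normalizer (center_le_normalizer _)
  refine ⟨hPn, ?_, ?_⟩
  · haveI := hPn
    obtain ⟨K, hK⟩ := exists_left_complement'_of_coprime (N := (P : Subgroup G)) P.card_coprime_index
    have hKc : K ≤ center G := fun v hv => hcent v fun hd => by
      have h1 := hd.trans (K.orderOf_dvd_natCard hv)
      rw [← hK.index_eq_card] at h1
      exact P.not_dvd_index h1
    refine ⟨K, ⟨fun v hv c => by rw [mem_center_iff.1 (hKc hv) c, mul_inv_cancel_right]; exact hv⟩, hK,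
      ⟨⟨fun a b => Subtype.ext (mem_center_iff.1 (hKc b.2) a)⟩⟩, fun v hv y _ => (mem_center_iff.1 (hKc hv) y).symm⟩
  obtain ⟨x, hx, hxc, hxp, hxP⟩ := H.special ⟨hp, _, mem_top _, hkl, hkc⟩ P
  set C := cent x
  set A0 := C ⊓ centralizer (C : Set G) with hA0
  refine ⟨A0.subgroupOf (P : Subgroup G), ?_, ⟨⟨fun a b => Subtype.ext (Subtype.ext
    (mem_centralizer_iff.1 b.2.2 _ a.2.1))⟩⟩, fun y => ?_⟩
  · refine ⟨fun a ha q => ?_⟩
    have hn := mem_normalizer_iff.1 (normalizer_of_central hxP q.2)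
    refine ⟨(hn _).1 ha.1, mem_centralizer_iff.2 fun z hz => ?_⟩
    have h1 : (q : G)⁻¹ * z * q ∈ C := by
      refine (hn _).2 ?_
      simpa [mul_assoc] using hz
    have h2 := mem_centralizer_iff.1 ha.2 _ h1
    show z * ((q : G) * a * (q : G)⁻¹) = (q : G) * a * (q : G)⁻¹ * z
    calc z * ((q : G) * a * (q : G)⁻¹) = q * ((q : G)⁻¹ * z * q * a) * (q : G)⁻¹ := by group
      _ = q * ((a : G) * ((q : G)⁻¹ * z * q)) * (q : G)⁻¹ := congrArg (fun e => (q : G) * e * (q : G)⁻¹) h2
      _ = _ := by group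
  · show ((y : G) ^ p) ∈ A0
    by_cases hyc : (y : G) ^ p ∈ center G
    · exact ⟨center_le_centralizer _ hyc, center_le_centralizer _ hyc⟩
    have hyn : (y : G) ∉ center G := fun h' => hyc (pow_mem h' p)
    have hCy : cent (y : G) = cent ((y : G) ^ p) :=
      H.eq_cent (mem_top _) hyn (mem_top _) hyc (cent_le_pow _ p)
    set z := (y : G) * x * (y : G)⁻¹ * x⁻¹ with hz
    have he : (y : G) * x * (y : G)⁻¹ = z * x := by rw [hz]; group
    have h1 := conj_pow_left (hxP y y.2) he p
    rw [mem_center_iff.1 hxp (y : G), mul_inv_cancel_right, right_eq_mul] at h1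
    have h2 := conj_iter (hxP y y.2) he p
    rw [h1, one_mul] at h2
    have hypx : Commute ((y : G) ^ p) x := mul_inv_eq_iff_eq_mul.1 h2
    have hyx : Commute (y : G) x := (mem_cent.1 (show x ∈ cent (y : G) from hCy ▸ mem_cent.2 hypx.symm)).symm
    have hC : C = cent (y : G) := by
      have hpc : ((y : G) * x) ^ p ∉ center G := fun h' => hyc (by
        rw [hyx.mul_pow] at h'
        have := mul_mem h' (inv_mem hxp)
        rwa [mul_inv_cancel_right] at this)
      have hyxc : (y : G) * x ∉ center G := fun h' => hpc (pow_mem h' p)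
      have h3 : cent ((y : G) * x) ≤ cent ((y : G) ^ p) := fun w hw => by
        have h4 : Commute w (((y : G) * x) ^ p) := (mem_cent.1 hw).pow_right p
        rw [hyx.mul_pow] at h4
        have h5 := h4.mul_right (show Commute w (x ^ p)⁻¹ from mem_center_iff.1 (inv_mem hxp) w)
        rw [mul_inv_cancel_right] at h5
        exact mem_cent.2 h5
      have h6 := H.eq_cent (mem_top _) hyxc (mem_top _) hyc h3
      refine (H.eq_cent (mem_top _) hyn (mem_top _) hxc fun w hw => ?_).symm
      have h7 : Commute w ((y : G) * x) := mem_cent.1 (show w ∈ cent ((y : G) * x) by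
        rw [h6, ← hCy]; exact hw)
      have h8 := ((mem_cent.1 hw).inv_right).mul_right h7
      rw [inv_mul_cancel_left] at h8
      exact mem_cent.2 h8
    refine ⟨mem_cent.2 hypx, mem_centralizer_iff.2 fun w hw => ?_⟩
    have hw' : w ∈ cent ((y : G) ^ p) := by rw [← hCy, ← hC]; exact hw
    exact (mem_cent.1 hw').eq

end Cfsg.Agent.GStructB.TwoSizes
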