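import Mathlib
import Cfsg.Agent.Lib.Characters.Kernel
import Cfsg.Agent.Lib.Characters.Integrality

/-!
The automorphism group of a nonabelian group has at most `|G| / p` orbits.
-/

set_option autoImplicit false
set_option linter.unusedSectionVars false

namespace Cfsg.Agent.GStructB.AutOrbits

open Subgroup

universe u

variable {G : Type u} [Group G] [Finite G]

theorem orbits_le_classes :
    Nat.card (MulAction.orbitRel.Quotient (MulAut G) G) ≤ Nat.card (ConjClasses G) := by
  refine Nat.card_le_card_of_surjective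
    (Quotient.map' (s₁ := IsConj.setoid G) (s₂ := MulAction.orbitRel (MulAut G) G) id fun a b h => ?_)
    fun q => ?_
  · obtain ⟨c, hc⟩ := isConj_iff.1 (IsConj.symm h)
    exact MulAction.orbitRel_apply.2 ⟨MulAut.conj c, hc⟩
  · induction q using Quotient.inductionOn' with
    | h a => exact ⟨Quotient.mk'' a, rfl⟩

theorem classes_bound {p : ℕ} (hmin : ∀ d, d ∣ Nat.card G → d ≠ 1 → p ≤ d) :
    p ^ 2 * Nat.card (ConjClasses G) + (commutator G).index ≤
      p ^ 2 * (commutator G).index + Nat.card G := by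
  classical
  haveI := Fintype.ofFinite G
  haveI := Fintype.ofFinite (Cfsg.IrrCharacter G)
  choose d hd _ hdvd using fun χ : Cfsg.IrrCharacter G => Characters.irr_degree_dvd_card χ.2
  have h1 := Characters.sum_degree_sq (G := G)
  simp only [hd] at h1
  have h2 : ∑ χ : Cfsg.IrrCharacter G, d χ ^ 2 = Nat.card G := by exact_mod_cast h1
  have h3 : (commutator G).index = ∑ χ : Cfsg.IrrCharacter G, if d χ = 1 then 1 else 0 := by
    rw [← Characters.card_degree_one, Finset.sum_boole, Nat.cast_id, Nat.card_eq_fintype_card,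
      Fintype.card_subtype]
    congr 1
    refine Finset.filter_congr fun χ _ => ?_
    rw [hd χ, Nat.cast_eq_one]
  rw [← Characters.card_irrCharacter, Nat.card_eq_fintype_card (α := Cfsg.IrrCharacter G),
    ← Finset.card_univ, Finset.card_eq_sum_ones, ← h2, h3, Finset.mul_sum, Finset.mul_sum,
    ← Finset.sum_add_distrib, ← Finset.sum_add_distrib]
  refine Finset.sum_le_sum fun χ _ => ?_
  split_ifs with h
  · simp [h]
  · have := Nat.pow_le_pow_left (hmin _ (hdvd χ) h) 2
    omega

variable {p : ℕ} [Fact p.Prime]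

/-- Powers in a group whose commutator subgroup is central. -/
theorem mul_pow_central {g u d : G} (hd : d ∈ center G) (hug : u * g = d * (g * u)) :
    ∀ n : ℕ, (g * u) ^ n = g ^ n * u ^ n * d ^ n.choose 2 := by
  have hc : ∀ (x : G) (k : ℕ), d ^ k * x = x * d ^ k := fun x k =>
    (mem_center_iff.1 (pow_mem hd k) x).symm
  have hug' : ∀ n : ℕ, u ^ n * g = d ^ n * (g * u ^ n) := by
    intro n
    induction n with
    | zero => simp
    | succ n ih =>
      calc u ^ (n + 1) * g = u * (u ^ n * g) := by rw [pow_succ']; group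
        _ = (u * d ^ n) * g * u ^ n := by rw [ih]; group
        _ = d ^ n * (u * g) * u ^ n := by rw [← hc u n]; group
        _ = d ^ (n + 1) * (g * u ^ (n + 1)) := by rw [hug, pow_succ, pow_succ']; group
  intro n
  induction n with
  | zero => simp
  | succ n ih =>
    calc (g * u) ^ (n + 1) = g ^ n * u ^ n * d ^ n.choose 2 * (g * u) := by rw [pow_succ, ih]
      _ = g ^ n * (u ^ n * g) * u * d ^ n.choose 2 := by rw [mul_assoc, hc]; group
      _ = g ^ n * (d ^ n * g) * u ^ n * u * d ^ n.choose 2 := by rw [hug']; group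
      _ = g ^ (n + 1) * u ^ (n + 1) * (d ^ n * d ^ n.choose 2) := by
          rw [hc g n]
          simp only [mul_assoc]
          rw [← mul_assoc (d ^ n) (u ^ n), hc (u ^ n) n, mul_assoc, ← mul_assoc (d ^ n) u, hc u n,
            mul_assoc, pow_succ, pow_succ]
          simp only [mul_assoc]
      _ = g ^ (n + 1) * u ^ (n + 1) * d ^ (n + 1).choose 2 := by
          rw [← pow_add, Nat.choose_succ_succ, Nat.choose_one_right]

/-- Substituting `g ↦ g * u` extends to an automorphism. -/
theorem exists_aut {M : Subgroup G} [M.Normal] (hM : M.index = p) {g u : G} (hg : g ∉ M)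
    (hu : u ∈ M) (huM : ∀ m ∈ M, Commute u m) (hpow : (g * u) ^ p = g ^ p) :
    ∃ α : MulAut G, α g = g * u ∧ ∀ m ∈ M, α m = m := by
  have hp : p.Prime := Fact.out
  set f := QuotientGroup.mk' M with hf
  have hq : Nat.card (G ⧸ M) = p := by rw [← index_eq_card, hM]
  have hfg : f g ≠ 1 := fun h => hg ((QuotientGroup.eq_one_iff g).1 h)
  have hord : orderOf (f g) = p := (Nat.dvd_prime hp).1 (hq ▸ orderOf_dvd_natCard (f g))
    |>.resolve_left fun h => hfg (orderOf_eq_one_iff.1 h)
  have hgen : ∀ x : G, ∃ i : ℤ, f x = f g ^ i := fun x => by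
    have : zpowers (f g) = ⊤ := eq_top_of_card_eq _ (by rw [Nat.card_zpowers, hord, hq])
    obtain ⟨i, hi⟩ := mem_zpowers_iff.1 (this ▸ mem_top (f x))
    exact ⟨i, hi.symm⟩
  choose k hk using hgen
  let w : ℤ → G := fun i => (g ^ i)⁻¹ * (g * u) ^ i
  have hw : ∀ (x : G) (i : ℤ), f x = f g ^ i → w (k x) = w i := by
    intro x i hi
    rw [hk x] at hi
    have hdvd := zpow_eq_zpow_iff_modEq.1 hi
    rw [hord] at hdvd
    obtain ⟨l, hl⟩ := Int.modEq_iff_dvd.1 hdvd
    have : i = (p : ℤ) * l + k x := by omega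
    show (g ^ (k x))⁻¹ * _ = (g ^ i)⁻¹ * _
    rw [this, zpow_add, zpow_add, zpow_mul, zpow_mul, zpow_natCast, zpow_natCast, hpow, mul_inv_rev]
    group
  have hconj : ∀ (i : ℤ), ∀ m ∈ M, (g * u) ^ i * m * ((g * u) ^ i)⁻¹ = g ^ i * m * (g ^ i)⁻¹ := by
    intro i m hm
    have h1 : MulAut.conjNormal (H := M) (g * u) = MulAut.conjNormal g := by
      rw [map_mul, mul_eq_left]
      ext z
      rw [MulAut.conjNormal_apply, (huM z z.2).eq, mul_inv_cancel_right]
      rfl
    have h2 : MulAut.conjNormal (H := M) ((g * u) ^ i) = MulAut.conjNormal (g ^ i) := by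
      rw [map_zpow, map_zpow, h1]
    have h3 := congrArg (fun e : MulAut M => ((e ⟨m, hm⟩ : M) : G)) h2
    simp only [MulAut.conjNormal_apply] at h3
    exact h3
  let α₀ : G →* G := MonoidHom.mk' (fun x => x * w (k x)) (by
    intro x y
    have h1 : w (k (x * y)) = w (k x + k y) := hw _ _ (by rw [map_mul, hk x, hk y, zpow_add])
    have hm : y * (g ^ k y)⁻¹ ∈ M :=
      (QuotientGroup.eq_one_iff _).1 (by
        show f (y * (g ^ k y)⁻¹) = 1
        rw [map_mul, map_inv, map_zpow, hk y, mul_inv_cancel])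
    have h2 := hconj (k x) _ hm
    show x * y * w (k (x * y)) = x * w (k x) * (y * w (k y))
    rw [h1]
    calc x * y * w (k x + k y) = x * (g ^ k x)⁻¹ *
          (g ^ k x * (y * (g ^ k y)⁻¹) * (g ^ k x)⁻¹) * (g * u) ^ k x * (g * u) ^ k y := by
            simp only [w, zpow_add]; group
      _ = x * (g ^ k x)⁻¹ *
          ((g * u) ^ k x * (y * (g ^ k y)⁻¹) * ((g * u) ^ k x)⁻¹) * (g * u) ^ k x * (g * u) ^ k y := by
            rw [h2]
      _ = x * w (k x) * (y * w (k y)) := by simp only [w]; group)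
  have hα : ∀ x (i : ℤ), f x = f g ^ i → α₀ x = x * w i := fun x i h => by
    show x * w (k x) = x * w i
    rw [hw x i h]
  have hM' : ∀ m ∈ M, α₀ m = m := fun m hm => by
    rw [hα m 0 (by rw [zpow_zero]; exact (QuotientGroup.eq_one_iff m).2 hm)]
    simp [w]
  have hinj : Function.Injective α₀ := by
    rw [injective_iff_map_eq_one]
    intro x hx
    have hfu : f u = 1 := (QuotientGroup.eq_one_iff u).2 hu
    have h1 : f x = 1 := by
      have h2 := congrArg f hx
      rw [hα x (k x) (hk x)] at h2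
      simpa [w, hfu] using h2
    rwa [hM' x ((QuotientGroup.eq_one_iff x).1 h1)] at hx
  refine ⟨MulEquiv.ofBijective α₀ (Finite.injective_iff_bijective.1 hinj), ?_, hM'⟩
  show α₀ g = _
  rw [hα g 1 (zpow_one _).symm]
  simp [w]

/-- A functional on an elementary abelian group. -/
theorem exists_functional {Q : Type u} [CommGroup Q] (hexp : ∀ q : Q, q ^ p = 1) {q : Q} (hq : q ≠ 1) :
    ∃ f : Q → ZMod p, (∀ a b, f (a * b) = f a + f b) ∧ f q ≠ 0 := by
  letI : Module (ZMod p) (Additive Q) :=
    AddCommGroup.zmodModule (n := p) (G := Additive Q) fun q => hexp (Additive.toMul q)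
  obtain ⟨φ, hφ⟩ : ∃ φ : Additive Q →ₗ[ZMod p] ZMod p, φ (Additive.ofMul q) ≠ 0 := by
    by_contra hcon
    push Not at hcon
    exact hq ((Module.forall_dual_apply_eq_zero_iff (ZMod p) (Additive.ofMul q)).1 hcon)
  exact ⟨fun a => φ (Additive.ofMul a), fun a b => map_add φ _ _, hφ⟩

/-- The setting of the extremal case. -/
structure Setting (p : ℕ) (G : Type u) [Group G] where
  z : G
  order : orderOf z = p
  central : z ∈ center G
  comm_mem : ∀ a b : G, a * b * a⁻¹ * b⁻¹ ∈ zpowers z
  minimal : ∀ d, d ∣ Nat.card G → d ≠ 1 → p ≤ d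
  nonabelian : center G ≠ ⊤

namespace Setting

variable (S : Setting p G)
include S

theorem zpowers_le_center : zpowers S.z ≤ center G := zpowers_le.2 S.central

theorem pow_p_eq_one {d : G} (h : d ∈ zpowers S.z) : d ^ p = 1 := by
  obtain ⟨i, rfl⟩ := mem_zpowers_iff.1 h
  have h := pow_orderOf_eq_one S.z
  rw [S.order] at h
  rw [← zpow_natCast, zpow_comm, zpow_natCast, h, one_zpow]

theorem mem_zpowers_of_ne {c : G} (h : c ∈ zpowers S.z) (hc : c ≠ 1) : zpowers c = zpowers S.z :=
  eq_of_le_of_card_ge (zpowers_le.2 h) (by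
    rw [Nat.card_zpowers, Nat.card_zpowers, S.order,
      orderOf_eq_prime (S.pow_p_eq_one h) hc])

theorem commute_comm (a b : G) : Commute (a * b * a⁻¹ * b⁻¹) a :=
  (mem_center_iff.1 (S.zpowers_le_center (S.comm_mem a b)) a).symm

theorem conj_eq (a b : G) : a * b * a⁻¹ = (a * b * a⁻¹ * b⁻¹) * b := by group

theorem pow_mem_center (x : G) : x ^ p ∈ center G := by
  refine mem_center_iff.2 fun y => mul_inv_eq_iff_eq_mul.1 ?_
  have hc : Commute (y * x * y⁻¹ * x⁻¹) x :=
    (mem_center_iff.1 (S.zpowers_le_center (S.comm_mem y x)) x).symm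
  rw [← conj_pow, S.conj_eq y x, hc.mul_pow, S.pow_p_eq_one (S.comm_mem y x), one_mul]

theorem mul_pow_p (g u : G) :
    (g * u) ^ p = g ^ p * u ^ p * (u * g * u⁻¹ * g⁻¹) ^ p.choose 2 :=
  mul_pow_central (S.zpowers_le_center (S.comm_mem u g)) (by group) p

theorem choose_two (hp2 : p ≠ 2) {d : G} (h : d ∈ zpowers S.z) : d ^ p.choose 2 = 1 := by
  obtain ⟨k, hk⟩ := (Fact.out : p.Prime).dvd_choose_self two_ne_zero
    ((Fact.out : p.Prime).two_le.lt_of_ne (Ne.symm hp2))
  rw [hk, pow_mul, S.pow_p_eq_one h, one_pow]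

theorem index_centralizer {x : G} (hx : x ∉ center G) :
    (centralizer ({x} : Set G)).index = p := by
  set C := centralizer ({x} : Set G)
  refine le_antisymm ?_ (S.minimal _ (index_dvd_card C) fun h => hx ?_)
  · rw [index_eq_card]
    have hmem : ∀ q : G ⧸ C, q.out * x * q.out⁻¹ * x⁻¹ ∈ zpowers S.z := fun q => S.comm_mem _ _
    calc Nat.card (G ⧸ C) ≤ Nat.card (zpowers S.z) := Nat.card_le_card_of_injective
          (fun q => (⟨_, hmem q⟩ : zpowers S.z)) fun a b hab => by
            have h1 := mul_right_cancel (Subtype.ext_iff.1 hab)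
            rw [← Quotient.out_eq' a, ← Quotient.out_eq' b]
            refine QuotientGroup.eq.2 (mem_centralizer_singleton_iff.2 ?_)
            calc a.out⁻¹ * b.out * x = a.out⁻¹ * (b.out * x * b.out⁻¹) * b.out := by group
              _ = a.out⁻¹ * (a.out * x * a.out⁻¹) * b.out := by rw [← h1]
              _ = x * (a.out⁻¹ * b.out) := by group
      _ = p := by rw [Nat.card_zpowers, S.order]
  · exact mem_center_iff.2 fun y =>
      mem_centralizer_singleton_iff.1 (show y ∈ C from index_eq_one.1 h ▸ mem_top y)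

theorem normal_of_center_le {M : Subgroup G} (h : center G ≤ M) : M.Normal :=
  ⟨fun m hm g => by rw [S.conj_eq g m]; exact mul_mem (h (S.zpowers_le_center (S.comm_mem g m))) hm⟩

theorem card_center_le : p ^ 2 * Nat.card (center G) ≤ Nat.card G := by
  rw [← (center G).card_mul_index, mul_comm]
  refine Nat.mul_le_mul_left _ ?_
  set n := (center G).index with hn
  have h1 : n ≠ 1 := fun h => S.nonabelian (index_eq_one.1 h)
  have h0 : n ≠ 0 := index_ne_zero_of_finite
  by_cases hpr : n.Prime
  · exfalso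
    haveI : IsCyclic (G ⧸ center G) := by
      haveI : Fact n.Prime := ⟨hpr⟩
      exact isCyclic_of_prime_card (p := n) (by rw [hn, index_eq_card])
    refine S.nonabelian (eq_top_iff.2 fun x _ => mem_center_iff.2 fun y => ?_)
    exact commutative_of_cyclic_center_quotient (QuotientGroup.mk' (center G))
      (by rw [QuotientGroup.ker_mk']) y x
  · have h2 : n.minFac ∣ Nat.card G := (Nat.minFac_dvd n).trans (index_dvd_card _)
    have h3 := S.minimal _ h2 (Nat.minFac_prime h1).ne_one
    calc p ^ 2 ≤ n.minFac ^ 2 := Nat.pow_le_pow_left h3 2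
      _ ≤ n := Nat.minFac_sq_le_self (Nat.pos_of_ne_zero h0) hpr

/-- The subgroup generated by commutators and `p`-th powers. -/
def R : Subgroup G := zpowers S.z ⊔ closure (Set.range fun x : G => x ^ p)

theorem R_le_center : S.R ≤ center G :=
  sup_le S.zpowers_le_center ((closure_le _).2 (by rintro _ ⟨x, rfl⟩; exact S.pow_mem_center x))

theorem R_normal : S.R.Normal :=
  ⟨fun m hm g => by rw [mem_center_iff.1 (S.R_le_center hm) g, mul_inv_cancel_right]; exact hm⟩

/-- A central element outside `R` is moved to all its translates by `z`. -/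
theorem exists_central_aut {w : G} (hw : w ∈ center G) (hwR : w ∉ S.R) :
    ∃ α : MulAut G, ∃ d ∈ zpowers S.z, d ≠ 1 ∧ ∀ n : ℕ, (α ^ n) w = w * d ^ n := by
  have hp : p.Prime := Fact.out
  haveI := S.R_normal
  have hzR : S.z ∈ S.R := mem_sup_left (mem_zpowers _)
  letI : CommGroup (G ⧸ S.R) := { QuotientGroup.Quotient.group S.R with
    mul_comm := by
      intro a b
      obtain ⟨a, rfl⟩ := QuotientGroup.mk_surjective a
      obtain ⟨b, rfl⟩ := QuotientGroup.mk_surjective b
      rw [← QuotientGroup.mk_mul, ← QuotientGroup.mk_mul, QuotientGroup.eq,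
        show (a * b)⁻¹ * (b * a) = b⁻¹ * a⁻¹ * b⁻¹⁻¹ * a⁻¹⁻¹ by group]
      exact (zpowers_le.2 hzR) (S.comm_mem _ _) }
  have hexp : ∀ q : G ⧸ S.R, q ^ p = 1 := fun q => by
    obtain ⟨a, rfl⟩ := QuotientGroup.mk_surjective q
    rw [← QuotientGroup.mk_pow]
    exact (QuotientGroup.eq_one_iff _).2 (mem_sup_right (Subgroup.subset_closure ⟨a, rfl⟩))
  have hzp : S.z ^ p = 1 := S.pow_p_eq_one (mem_zpowers _)
  obtain ⟨f, hf⟩ := exists_functional hexp
    (q := (QuotientGroup.mk w : G ⧸ S.R)) fun h => hwR ((QuotientGroup.eq_one_iff w).1 h)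
  let ψ : G → ℕ := fun x => (f (QuotientGroup.mk x)).val
  have hψ : ∀ x y, S.z ^ ψ (x * y) = S.z ^ ψ x * S.z ^ ψ y := fun x y => by
    show S.z ^ ZMod.val _ = _
    rw [QuotientGroup.mk_mul, hf.1, ZMod.val_add, ← pow_eq_pow_mod _ hzp, pow_add]
  let α₀ : G →* G := MonoidHom.mk' (fun x => x * S.z ^ ψ x) fun x y => by
    show x * y * S.z ^ ψ (x * y) = x * S.z ^ ψ x * (y * S.z ^ ψ y)
    rw [hψ, mul_assoc x (S.z ^ ψ x), ← mul_assoc (S.z ^ ψ x) y,
      ← mem_center_iff.1 (pow_mem S.central (ψ x)) y]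
    group
  have hz0 : ψ S.z = 0 := by
    show ZMod.val (f _) = 0
    have h1 := hf.1 1 1
    rw [one_mul, left_eq_add] at h1
    rw [(QuotientGroup.eq_one_iff S.z).2 hzR, h1, ZMod.val_zero]
  have hαz : α₀ S.z = S.z := by show S.z * _ = _; rw [hz0, pow_zero, mul_one]
  have hinj : Function.Injective α₀ := by
    rw [injective_iff_map_eq_one]
    intro x hx
    change x * S.z ^ ψ x = 1 at hx
    have hx' : x = (S.z ^ ψ x)⁻¹ := eq_inv_of_mul_eq_one_left hx
    have h1 : α₀ x = x := by rw [hx', map_inv, map_pow, hαz]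
    rw [← h1]
    exact hx
  refine ⟨MulEquiv.ofBijective α₀ (Finite.injective_iff_bijective.1 hinj), S.z ^ ψ w,
    pow_mem (mem_zpowers _) _, fun h => hf.2 ?_, fun n => ?_⟩
  · rw [← orderOf_dvd_iff_pow_eq_one, S.order] at h
    exact (ZMod.val_eq_zero _).1 (Nat.eq_zero_of_dvd_of_lt h (ZMod.val_lt _))
  induction n with
  | zero => simp
  | succ n ih =>
    rw [pow_succ', MulAut.mul_apply, ih]
    show α₀ (w * (S.z ^ ψ w) ^ n) = _
    rw [map_mul, map_pow, map_pow, hαz, pow_succ' (S.z ^ ψ w)]
    show w * S.z ^ ψ w * _ = _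
    rw [mul_assoc]

/-- The data for moving elements outside a subgroup of index `p`. -/
theorem exists_shift : ∃ (M : Subgroup G) (u : G), center G ≤ M ∧ M.index = p ∧ u ∈ M ∧
    (∀ m ∈ M, Commute u m) ∧ (∀ k : ℕ, 0 < k → k < p → u ^ k ∉ zpowers S.z) ∧
    ∀ g, g ∉ M → (g * u) ^ p = g ^ p := by
  have hp : p.Prime := Fact.out
  have hcle : ∀ x : G, center G ≤ centralizer ({x} : Set G) := fun x => center_le_centralizer _
  have hkk : ∀ (u : G) (H : Subgroup G) (k : ℕ), 0 < k → k < p → u ^ p ∈ H → u ^ k ∈ H → u ∈ H :=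
    fun u H k hk hkp h1 h2 => by
      have hco : k.Coprime p := Nat.Coprime.symm ((hp.coprime_iff_not_dvd).2 fun hd =>
        absurd (Nat.le_of_dvd hk hd) (not_le.2 hkp))
      have hb : (1 : ℤ) = (k : ℤ) * k.gcdA p + (p : ℤ) * k.gcdB p := by
        have := Nat.gcd_eq_gcd_ab k p
        rwa [hco.gcd_eq_one, Nat.cast_one] at this
      rw [← zpow_one u, hb, zpow_add, zpow_mul, zpow_mul, zpow_natCast, zpow_natCast]
      exact mul_mem (zpow_mem h2 _) (zpow_mem h1 _)
  obtain ⟨x₀, hx₀⟩ : ∃ x₀ : G, x₀ ∉ center G := by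
    by_contra h
    push Not at h
    exact S.nonabelian (eq_top_iff.2 fun x _ => h x)
  by_cases hcase : ∃ w ∈ center G, w ^ p = 1 ∧ w ∉ zpowers S.z
  · obtain ⟨w, hwc, hwp, hwD⟩ := hcase
    refine ⟨_, w, hcle x₀, S.index_centralizer hx₀, hcle x₀ hwc,
      fun m _ => (mem_center_iff.1 hwc m).symm, fun k hk hkp h => hwD ?_, fun g _ => ?_⟩
    · exact hkk w _ k hk hkp (hwp ▸ one_mem _) h
    · rw [Commute.mul_pow (mem_center_iff.1 hwc g), hwp, mul_one]
  push Not at hcase
  have key : ∀ u : G, u ∉ center G → (∀ g, g ∉ centralizer ({u} : Set G) → (g * u) ^ p = g ^ p) →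
      ∃ (M : Subgroup G) (u : G), center G ≤ M ∧ M.index = p ∧ u ∈ M ∧
        (∀ m ∈ M, Commute u m) ∧ (∀ k : ℕ, 0 < k → k < p → u ^ k ∉ zpowers S.z) ∧
        ∀ g, g ∉ M → (g * u) ^ p = g ^ p := fun u hu h =>
    ⟨_, u, hcle u, S.index_centralizer hu, mem_centralizer_singleton_iff.2 rfl,
      fun m hm => (mem_centralizer_singleton_iff.1 hm).symm,
      fun k hk hkp hk' => hu (hkk u _ k hk hkp (S.pow_mem_center u) (S.zpowers_le_center hk')), h⟩
  -- squares when `z` is not a `p`-th power of a central element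
  by_cases hA : p = 2 ∧ ∀ c ∈ center G, c ^ p ≠ S.z
  · obtain ⟨rfl, hA⟩ := hA
    obtain ⟨x, hx, c, hc, hxc⟩ : ∃ x, x ∉ center G ∧ ∃ c ∈ center G, x ^ 2 = S.z * c ^ 2 := by
      by_contra hcon
      push Not at hcon
      letI : CommGroup (center G) := { (center G).toGroup with
        mul_comm := fun a b => Subtype.ext (mem_center_iff.1 b.2 a) }
      let f : center G →* center G := powMonoidHom 2
      have hidx : f.range.index = 2 := by
        have h1 : Nat.card f.ker = 2 := by
          refine le_antisymm ?_ ?_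
          · calc Nat.card f.ker ≤ Nat.card (zpowers S.z) := Nat.card_le_card_of_injective
                  (fun c => (⟨((c : center G) : G), hcase _ (c : center G).2
                    (congrArg Subtype.val c.2)⟩ : zpowers S.z))
                  fun a b h => Subtype.ext (Subtype.ext (congrArg (Subtype.val (p := (· ∈ zpowers S.z))) h))
              _ = 2 := by rw [Nat.card_zpowers, S.order]
          · haveI : Nontrivial f.ker := ⟨⟨⟨⟨S.z, S.central⟩, Subtype.ext (S.pow_p_eq_one (mem_zpowers _))⟩, 1,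
              fun h => absurd (congrArg (fun e : f.ker => ((e : center G) : G)) h)
                fun h' => absurd (S.order) (by rw [show S.z = 1 from h', orderOf_one]; norm_num)⟩⟩
            exact Finite.one_lt_card
        have h2 := f.range.card_mul_index
        have h3 := f.ker.card_mul_index
        rw [index_ker, h1] at h3
        rw [← h3] at h2
        have h4 : 0 < Nat.card f.range := Nat.card_pos
        exact Nat.eq_of_mul_eq_mul_left h4 (by rw [h2, mul_comm])
      have hsq : ∀ x : G, ∃ c ∈ center G, x ^ 2 = c ^ 2 := by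
        intro x
        by_cases hxz : x ∈ center G
        · exact ⟨x, hxz, rfl⟩
        have h1 := S.pow_mem_center x
        by_cases hr : (⟨x ^ 2, h1⟩ : center G) ∈ f.range
        · obtain ⟨c, hc⟩ := hr
          exact ⟨c, c.2, (congrArg Subtype.val hc).symm⟩
        · exfalso
          have hz : (⟨S.z, S.central⟩ : center G) ∉ f.range := fun ⟨c, hc⟩ =>
            hA c c.2 (congrArg Subtype.val hc)
          obtain ⟨c, hc⟩ := (mul_mem_iff_of_index_two hidx (a := (⟨S.z, S.central⟩ : center G)⁻¹)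
            (b := ⟨x ^ 2, h1⟩)).2 (iff_of_false (fun h => hz (inv_mem_iff.1 h)) hr)
          have h2 : (c : G) ^ 2 = S.z⁻¹ * x ^ 2 := congrArg Subtype.val hc
          exact hcon x hxz c c.2 (by rw [h2, mul_inv_cancel_left])
      apply S.nonabelian
      refine eq_top_iff.2 fun a _ => mem_center_iff.2 fun b => ?_
      obtain ⟨c₁, h₁, e₁⟩ := hsq b
      obtain ⟨c₂, h₂, e₂⟩ := hsq (b⁻¹ * a)
      obtain ⟨c₃, h₃, e₃⟩ := hsq a⁻¹
      have hD := S.comm_mem b a
      have e : b * a * b⁻¹ * a⁻¹ = (c₁ * c₂ * c₃) ^ 2 := by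
        rw [Commute.mul_pow (mem_center_iff.1 h₃ _), Commute.mul_pow (mem_center_iff.1 h₂ _),
          ← e₁, ← e₂, ← e₃]
        simp only [pow_two]
        group
      by_contra hne
      have hne' : b * a * b⁻¹ * a⁻¹ ≠ 1 := fun h => hne (by
        rw [mul_inv_eq_one, mul_inv_eq_iff_eq_mul] at h; exact h)
      have hzmem : S.z ∈ zpowers (b * a * b⁻¹ * a⁻¹) := S.mem_zpowers_of_ne hD hne' ▸ mem_zpowers _
      obtain ⟨i, hi⟩ := mem_zpowers_iff.1 hzmem
      refine hA ((c₁ * c₂ * c₃) ^ i) (zpow_mem (mul_mem (mul_mem h₁ h₂) h₃) _) ?_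
      rw [← hi, e, ← zpow_natCast, ← zpow_natCast, zpow_comm]
    refine key (x * c⁻¹) (fun h => hx (by simpa using mul_mem h hc)) fun g hg => ?_
    have hu2 : (x * c⁻¹) ^ 2 = S.z := by
      rw [Commute.mul_pow (mem_center_iff.1 (inv_mem hc) x), hxc, inv_pow, mul_inv_cancel_right]
    have hd : (x * c⁻¹) * g * (x * c⁻¹)⁻¹ * g⁻¹ = S.z := by
      have hD := S.comm_mem (x * c⁻¹) g
      obtain ⟨i, hi⟩ := mem_zpowers_iff.1 hD
      rw [← zpow_mod_orderOf, S.order] at hi
      rcases Int.emod_two_eq i with h | h <;> simp only [Nat.cast_ofNat, h, zpow_zero, zpow_one] at hi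
      · exact absurd (mem_centralizer_singleton_iff.2 (by
          rw [eq_comm, mul_inv_eq_one, mul_inv_eq_iff_eq_mul] at hi; exact hi.symm)) hg
      · exact hi.symm
    rw [S.mul_pow_p, hu2, hd, Nat.choose_self, pow_one, mul_assoc]
    have h2 := S.pow_p_eq_one (mem_zpowers S.z)
    rw [pow_two] at h2
    rw [h2, mul_one]
  -- now `p`-th powers are multiplicative modulo `p`-th powers of central elements
  letI : CommGroup (center G) := { (center G).toGroup with
    mul_comm := fun a b => Subtype.ext (mem_center_iff.1 b.2 a) }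
  let f : center G →* center G := powMonoidHom p
  have hidx : f.range.index ≤ p := by
    have h1 : Nat.card f.ker ≤ p := by
      calc Nat.card f.ker ≤ Nat.card (zpowers S.z) := Nat.card_le_card_of_injective
            (fun c => (⟨((c : center G) : G), hcase _ (c : center G).2
              (congrArg Subtype.val c.2)⟩ : zpowers S.z))
            fun a b h => Subtype.ext (Subtype.ext (congrArg (Subtype.val (p := (· ∈ zpowers S.z))) h))
        _ = p := by rw [Nat.card_zpowers, S.order]
    have h2 := f.range.card_mul_index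
    have h3 := f.ker.card_mul_index
    rw [index_ker] at h3
    rw [← h3, mul_comm (Nat.card f.ker)] at h2
    have h5 : 0 < Nat.card f.range := Nat.card_pos
    rw [Nat.eq_of_mul_eq_mul_left h5 h2]
    exact h1
  have hchoose : ∀ d ∈ zpowers S.z, ∃ e ∈ center G, d ^ p.choose 2 = e ^ p := by
    intro d hd
    by_cases hp2 : p = 2
    · obtain ⟨c, hc, hcz⟩ : ∃ c ∈ center G, c ^ p = S.z := by
        by_contra h
        push Not at h
        exact hA ⟨hp2, h⟩
      obtain ⟨i, rfl⟩ := mem_zpowers_iff.1 hd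
      refine ⟨c ^ i, zpow_mem hc i, ?_⟩
      rw [← hcz, show p.choose 2 = 1 by rw [hp2]; rfl, pow_one, ← zpow_natCast, ← zpow_natCast, zpow_comm]
    · exact ⟨1, one_mem _, by rw [S.choose_two hp2 hd, one_pow]⟩
  let ν : G →* center G ⧸ f.range :=
    MonoidHom.mk' (fun x => QuotientGroup.mk (⟨x ^ p, S.pow_mem_center x⟩ : center G)) fun a b => by
      rw [← QuotientGroup.mk_mul]
      refine QuotientGroup.eq.2 ?_
      obtain ⟨e, he, hee⟩ := hchoose _ (S.comm_mem b a)
      refine ⟨(⟨e, he⟩ : center G)⁻¹, Subtype.ext ?_⟩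
      show e⁻¹ ^ p = ((a * b) ^ p)⁻¹ * (a ^ p * b ^ p)
      rw [S.mul_pow_p a b, hee, mul_inv_rev, inv_mul_cancel_right, inv_pow]
  obtain ⟨x, hxker, hx⟩ : ∃ x ∈ ν.ker, x ∉ center G := by
    by_contra hcon
    push Not at hcon
    have h1 : ν.ker ≤ center G := hcon
    have h2 := card_le_of_le h1
    have h3 := ν.ker.card_mul_index
    have h4 : ν.ker.index ≤ p := by
      rw [index_ker]
      exact (Subgroup.card_le_card_group _).trans (by rw [← index_eq_card]; exact hidx)
    have h6 := S.card_center_le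
    have h7 : Nat.card G ≤ Nat.card (center G) * p := h3 ▸ Nat.mul_le_mul h2 h4
    have h8 : 0 < Nat.card (center G) := Nat.card_pos
    have := hp.two_le
    nlinarith
  obtain ⟨c, hc⟩ : (⟨x ^ p, S.pow_mem_center x⟩ : center G) ∈ f.range :=
    (QuotientGroup.eq_one_iff _).1 hxker
  have hcx : (c : G) ^ p = x ^ p := congrArg Subtype.val hc
  have hux : ((x * (c : G)⁻¹)) ^ p = 1 := by
    rw [Commute.mul_pow (mem_center_iff.1 (inv_mem c.2) x), inv_pow, hcx, mul_inv_cancel]
  have hnu : x * (c : G)⁻¹ ∉ center G := fun h => hx (by simpa using mul_mem h c.2)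
  by_cases hp2 : p = 2
  · -- twist by a central element to make the square equal to `z`
    obtain ⟨e, he, hez⟩ : ∃ e ∈ center G, e ^ p = S.z := by
      by_contra h
      push Not at h
      exact hA ⟨hp2, h⟩
    refine key (x * (c : G)⁻¹ * e) (fun h => hnu (by simpa using mul_mem h (inv_mem he))) fun g hg => ?_
    have hu2 : (x * (c : G)⁻¹ * e) ^ p = S.z := by
      rw [Commute.mul_pow (mem_center_iff.1 he _), hux, hez, one_mul]
    have hd0 : (x * (c : G)⁻¹ * e) * g * (x * (c : G)⁻¹ * e)⁻¹ * g⁻¹ ≠ 1 := fun h =>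
      hg (mem_centralizer_singleton_iff.2 (by
        rw [mul_inv_eq_one, mul_inv_eq_iff_eq_mul] at h; exact h.symm))
    have hd : (x * (c : G)⁻¹ * e) * g * (x * (c : G)⁻¹ * e)⁻¹ * g⁻¹ = S.z := by
      obtain ⟨i, hi⟩ := mem_zpowers_iff.1 (S.comm_mem (x * (c : G)⁻¹ * e) g)
      rw [← zpow_mod_orderOf, S.order] at hi
      have hmod : i % (p : ℤ) = 0 ∨ i % (p : ℤ) = 1 := by rw [hp2]; exact Int.emod_two_eq i
      rcases hmod with h | h <;> simp only [h, zpow_zero, zpow_one] at hi
      · exact absurd hi.symm hd0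
      · exact hi.symm
    have h2 := S.pow_p_eq_one (mem_zpowers S.z)
    rw [S.mul_pow_p, hu2, hd, show p.choose 2 = 1 by rw [hp2]; rfl, pow_one, mul_assoc]
    have h2' : S.z * S.z = 1 := by
      rw [← pow_two]; exact (congrArg (S.z ^ ·) hp2.symm).trans h2
    rw [h2', mul_one]
  · refine key _ hnu fun g _ => ?_
    rw [S.mul_pow_p, S.choose_two hp2 (S.comm_mem _ _), hux, mul_one, mul_one]

theorem conj_mem_orbit {x : G} (hx : x ∉ center G) {d : G} (hd : d ∈ zpowers S.z) :
    x * d ∈ MulAction.orbit (MulAut G) x := by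
  obtain ⟨a, ha⟩ : ∃ a : G, a * x * a⁻¹ * x⁻¹ ≠ 1 := by
    by_contra h
    push Not at h
    exact hx (mem_center_iff.2 fun y => by
      have := h y
      rw [mul_inv_eq_one, mul_inv_eq_iff_eq_mul] at this; exact this)
  set e := a * x * a⁻¹ * x⁻¹ with he
  have hec : e ∈ center G := S.zpowers_le_center (S.comm_mem a x)
  have hd' : d ∈ zpowers e := by rw [S.mem_zpowers_of_ne (S.comm_mem a x) ha]; exact hd
  obtain ⟨n, rfl⟩ := mem_powers_iff_mem_zpowers.2 hd'
  refine ⟨MulAut.conj a ^ n, ?_⟩
  show (MulAut.conj a ^ n) x = _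
  rw [← map_pow, MulAut.conj_apply]
  induction n with
  | zero => simp
  | succ n ih =>
    have hstep : a * e ^ n * a⁻¹ = e ^ n := by
      rw [mem_center_iff.1 (pow_mem hec n) a, mul_inv_cancel_right]
    calc a ^ (n + 1) * x * (a ^ (n + 1))⁻¹ = a * (a ^ n * x * (a ^ n)⁻¹) * a⁻¹ := by
          rw [pow_succ']; group
      _ = (a * x * a⁻¹) * (a * e ^ n * a⁻¹) := by rw [ih (pow_mem hd' 0 |> fun _ => pow_mem (mem_zpowers e) n |> fun h => (S.mem_zpowers_of_ne (S.comm_mem a x) ha).le h) (pow_mem (mem_zpowers e) n)]; group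
      _ = e * x * e ^ n := by rw [hstep, he]; group
      _ = x * e ^ (n + 1) := by rw [← mem_center_iff.1 hec x, pow_succ', mul_assoc]

/-- The bound in this setting. -/
theorem orbits_le : p * Nat.card (MulAction.orbitRel.Quotient (MulAut G) G) ≤ Nat.card G := by
  classical
  have hp : p.Prime := Fact.out
  obtain ⟨M, u, hZM, hMi, huM, hucomm, huk, hupow⟩ := S.exists_shift
  haveI := S.normal_of_center_le hZM
  have hsize1 : ∀ x, x ∉ S.R → p ≤ Nat.card (MulAction.orbit (MulAut G) x) := by
    intro x hx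
    have hall : ∀ d ∈ zpowers S.z, x * d ∈ MulAction.orbit (MulAut G) x := by
      intro d hd
      by_cases hxc : x ∈ center G
      · obtain ⟨α, e, he, he1, hα⟩ := S.exists_central_aut hxc hx
        obtain ⟨n, rfl⟩ := mem_powers_iff_mem_zpowers.2 ((S.mem_zpowers_of_ne he he1).symm ▸ hd)
        exact ⟨α ^ n, hα n⟩
      · exact S.conj_mem_orbit hxc hd
    calc p = Nat.card (zpowers S.z) := by rw [Nat.card_zpowers, S.order]
      _ ≤ _ := Nat.card_le_card_of_injective
          (fun d : zpowers S.z => (⟨x * d, hall d d.2⟩ : MulAction.orbit (MulAut G) x))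
          fun a b h => Subtype.ext (mul_left_cancel (Subtype.ext_iff.1 h))
  have hsize2 : ∀ x, x ∉ M → p ^ 2 ≤ Nat.card (MulAction.orbit (MulAut G) x) := by
    intro x hx
    obtain ⟨α, hαx, hαM⟩ := exists_aut hMi hx huM hucomm (hupow x hx)
    have hk : ∀ k : ℕ, (α ^ k) x = x * u ^ k := by
      intro k
      induction k with
      | zero => simp
      | succ k ih =>
        rw [pow_succ', MulAut.mul_apply, ih, map_mul, hαx, hαM _ (pow_mem huM k), pow_succ' u, mul_assoc]
    have hall : ∀ (k : ℕ) (d : zpowers S.z), x * u ^ k * d ∈ MulAction.orbit (MulAut G) x := by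
      intro k d
      have h1 : x * u ^ k ∈ MulAction.orbit (MulAut G) x := ⟨α ^ k, hk k⟩
      rw [← MulAction.orbit_eq_iff.2 h1]
      refine S.conj_mem_orbit (fun h => hx ?_) d.2
      have := mul_mem (hZM h) (inv_mem (pow_mem huM k))
      rwa [mul_inv_cancel_right] at this
    calc p ^ 2 = Nat.card (Fin p × zpowers S.z) := by
          rw [Nat.card_prod, Nat.card_fin, Nat.card_zpowers, S.order, pow_two]
      _ ≤ _ := Nat.card_le_card_of_injective
          (fun kd : Fin p × zpowers S.z =>
            (⟨x * u ^ (kd.1 : ℕ) * kd.2, hall _ _⟩ : MulAction.orbit (MulAut G) x)) ?_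
    rintro ⟨k, d⟩ ⟨l, e⟩ h
    have h1 : u ^ (k : ℕ) * d = u ^ (l : ℕ) * e := by
      have := Subtype.ext_iff.1 h
      simp only [mul_assoc, mul_right_inj] at this
      exact this
    have key : ∀ (a b : Fin p) (d e : zpowers S.z), (a : ℕ) < b → u ^ (a : ℕ) * d ≠ u ^ (b : ℕ) * e := by
      intro a b d e hab heq
      refine huk ((b : ℕ) - a) (by omega) (by omega) ?_
      have h2 : u ^ ((b : ℕ) - a) = d * (e : G)⁻¹ := by
        rw [eq_mul_inv_iff_mul_eq]
        refine mul_left_cancel (a := u ^ (a : ℕ)) ?_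
        rw [← mul_assoc, ← pow_add, Nat.add_sub_cancel' hab.le, heq]
      rw [h2]
      exact mul_mem d.2 (inv_mem e.2)
    rcases lt_trichotomy (k : ℕ) l with hlt | heq | hgt
    · exact absurd h1 (key k l d e hlt)
    · rw [heq] at h1
      exact Prod.ext (Fin.ext heq) (Subtype.ext (mul_left_cancel h1))
    · exact absurd h1.symm (key l k e d hgt)
  haveI := Fintype.ofFinite G
  let w : G → ℕ := fun x => if x ∈ S.R then p ^ 2 else if x ∈ M then p else 1
  haveI := Fintype.ofFinite (MulAction.orbitRel.Quotient (MulAut G) G)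
  have hw1 : ∀ x, 1 ≤ w x := fun x => by
    show 1 ≤ ite _ _ _
    split_ifs <;> have := hp.pos <;> nlinarith
  have hwM : ∀ x ∈ M, p ≤ w x := fun x hx => by
    show p ≤ ite _ _ _
    split_ifs
    · nlinarith [hp.two_le]
    · exact le_rfl
  have horb : ∀ q : MulAction.orbitRel.Quotient (MulAut G) G,
      p ^ 2 ≤ ∑ x ∈ Finset.univ.filter (fun x => Quotient.mk'' x = q), w x := by
    intro q
    induction q using Quotient.inductionOn' with
    | h a =>
      set O := Finset.univ.filter
        (fun x : G => (Quotient.mk'' x : MulAction.orbitRel.Quotient (MulAut G) G) = Quotient.mk'' a)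
      have hO : ∀ x, x ∈ O ↔ x ∈ MulAction.orbit (MulAut G) a := fun x => by
        rw [Finset.mem_filter, Quotient.eq'', MulAction.orbitRel_apply]
        simp
      have hcard : ∀ x ∈ O, O.card = Nat.card (MulAction.orbit (MulAut G) x) := fun x hx => by
        rw [MulAction.orbit_eq_iff.2 ((hO x).1 hx), Nat.card_eq_fintype_card,
          Fintype.card_of_subtype O hO]
      by_cases hout : ∃ x ∈ O, x ∉ M
      · obtain ⟨x, hxO, hx⟩ := hout
        calc p ^ 2 ≤ O.card := by rw [hcard x hxO]; exact hsize2 x hx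
          _ = ∑ _x ∈ O, 1 := Finset.card_eq_sum_ones O
          _ ≤ _ := Finset.sum_le_sum fun x _ => hw1 x
      push Not at hout
      by_cases hR : ∃ x ∈ O, x ∉ S.R
      · obtain ⟨x, hxO, hx⟩ := hR
        calc p ^ 2 ≤ O.card * p := by
              rw [hcard x hxO, pow_two]; exact Nat.mul_le_mul_right p (hsize1 x hx)
          _ = ∑ _x ∈ O, p := by rw [Finset.sum_const, smul_eq_mul]
          _ ≤ _ := Finset.sum_le_sum fun x hx => hwM x (hout x hx)
      push Not at hR
      have ha : a ∈ O := (hO a).2 (MulAction.mem_orbit_self a)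
      calc p ^ 2 = w a := (if_pos (hR a ha)).symm
        _ ≤ _ := Finset.single_le_sum (fun x _ => Nat.zero_le _) ha
  have htot : p ^ 2 * Nat.card (MulAction.orbitRel.Quotient (MulAut G) G) ≤ ∑ x, w x := by
    rw [← Finset.sum_fiberwise_of_maps_to (g := fun x : G =>
      (Quotient.mk'' x : MulAction.orbitRel.Quotient (MulAut G) G)) (t := Finset.univ) (by simp) w]
    calc p ^ 2 * Nat.card _ = ∑ _q : MulAction.orbitRel.Quotient (MulAut G) G, p ^ 2 := by
          rw [Finset.sum_const, smul_eq_mul, Nat.card_eq_fintype_card, Finset.card_univ, mul_comm]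
      _ ≤ _ := Finset.sum_le_sum fun q _ => horb q
  have hsum : ∑ x, w x + p * Nat.card S.R ≤
      p ^ 2 * Nat.card S.R + p * Nat.card M + (Nat.card G - Nat.card M) := by
    have hcnt : ∀ (H : Subgroup G) (c : ℕ), ∑ x : G, (if x ∈ H then c else 0) = c * Nat.card H := by
      intro H c
      rw [← Finset.sum_filter, Finset.sum_const, smul_eq_mul, ← Fintype.card_subtype,
        Nat.card_eq_fintype_card, mul_comm]
    calc ∑ x, w x + p * Nat.card S.R
          = ∑ x, (w x + if x ∈ S.R then p else 0) := by rw [Finset.sum_add_distrib, hcnt]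
      _ ≤ ∑ x, ((if x ∈ S.R then p ^ 2 else 0) + (if x ∈ M then p else 0) +
          (if x ∈ M then 0 else 1)) := Finset.sum_le_sum fun x _ => by
            have hRM : x ∈ S.R → x ∈ M := fun h => hZM (S.R_le_center h)
            show ite _ _ _ + _ ≤ _
            split_ifs <;> first | omega | (exfalso; tauto)
      _ = _ := by
        rw [Finset.sum_add_distrib, Finset.sum_add_distrib, hcnt, hcnt]
        congr 1
        have h1 : ∑ x : G, (if x ∈ M then 0 else 1) + ∑ x : G, (if x ∈ M then 1 else 0) = Nat.card G := by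
          rw [← Finset.sum_add_distrib, Nat.card_eq_fintype_card, ← Finset.card_univ, Finset.card_eq_sum_ones]
          exact Finset.sum_congr rfl fun x _ => by split_ifs <;> rfl
        rw [hcnt, one_mul] at h1
        omega
  have h1 : Nat.card M * p = Nat.card G := by rw [← hMi]; exact M.card_mul_index
  have h2 : p ^ 2 * Nat.card S.R ≤ Nat.card G :=
    (Nat.mul_le_mul_left _ (Subgroup.card_le_of_le S.R_le_center)).trans S.card_center_le
  have h3 : p ^ 2 * Nat.card (MulAction.orbitRel.Quotient (MulAut G) G) ≤ p * Nat.card G := by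
    have hM0 : 0 < Nat.card M := Nat.card_pos
    have := hp.two_le
    have h4 : Nat.card G - Nat.card M = Nat.card M * (p - 1) := by
      rw [← h1, Nat.mul_sub_one]
    rcases this.lt_or_eq with hp3 | hp2
    · have : 3 ≤ p := hp3
      have h5 : Nat.card G * 3 ≤ p * Nat.card G := by rw [mul_comm]; exact Nat.mul_le_mul_right _ this
      have h6 : p * Nat.card M = Nat.card G := by rw [mul_comm]; exact h1
      omega
    · subst hp2
      omega
  rw [pow_two, mul_assoc] at h3
  exact Nat.le_of_mul_le_mul_left h3 hp.pos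

end Setting

theorem card_orbits_le (hna : ¬ IsMulCommutative G) :
    Nat.card (MulAction.orbitRel.Quotient (MulAut G) G) ≤ Nat.card G / (Nat.card G).minFac := by
  set p := (Nat.card G).minFac with hpdef
  have hG1 : Nat.card G ≠ 1 := fun h => hna ⟨⟨fun a b => by
    haveI := (Nat.card_eq_one_iff_unique.1 h).1
    exact Subsingleton.elim _ _⟩⟩
  have hp : p.Prime := Nat.minFac_prime hG1
  haveI : Fact p.Prime := ⟨hp⟩
  have hmin : ∀ d, d ∣ Nat.card G → d ≠ 1 → p ≤ d := fun d hd hd1 => by
    have hd0 : 0 < d := Nat.pos_of_dvd_of_pos hd Nat.card_pos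
    exact Nat.minFac_le_of_dvd (by omega) hd
  rw [Nat.le_div_iff_mul_le hp.pos, mul_comm]
  by_cases hk : p * Nat.card (ConjClasses G) ≤ Nat.card G
  · exact (Nat.mul_le_mul_left p orbits_le_classes).trans hk
  have hb := classes_bound hmin
  have hI := (commutator G).card_mul_index
  have hD1 : Nat.card (commutator G) ≠ 1 := fun h => hna ⟨⟨fun a b => by
    have := mem_bot.1 ((card_eq_one.1 h).le (commutator_mem_commutator (mem_top a) (mem_top b)))
    exact commutatorElement_eq_one_iff_mul_comm.1 this⟩⟩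
  have hDle : Nat.card (commutator G) ≤ p := by
    set D := Nat.card (commutator G) with hDdef
    set I := (commutator G).index with hIdef
    by_contra hlt
    have hDI : (p + 1) * I ≤ Nat.card G := by
      rw [← hI]; exact Nat.mul_le_mul_right I (by omega)
    apply hk
    have h2 := hp.two_le
    refine Nat.le_of_mul_le_mul_left ?_ hp.pos
    obtain ⟨q, hq⟩ : ∃ q, p = q + 1 := ⟨p - 1, by omega⟩
    rw [hq] at hb hDI ⊢
    nlinarith
  have hD : Nat.card (commutator G) = p :=
    le_antisymm hDle (hmin _ (card_subgroup_dvd_card _) hD1)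
  obtain ⟨⟨z, hzD⟩, hz⟩ := exists_prime_orderOf_dvd_card' (G := commutator G) p (by rw [hD])
  rw [Subgroup.orderOf_mk] at hz
  have hzp : zpowers z = commutator G :=
    eq_of_le_of_card_ge (zpowers_le.2 hzD) (by rw [hD, Nat.card_zpowers, hz])
  have hcen : z ∈ center G := by
    set C := centralizer ({z} : Set G)
    have hlt : C.index < p := by
      rw [index_eq_card]
      have hmem : ∀ q : G ⧸ C, q.out * z * q.out⁻¹ ∈ (commutator G : Set G) \ {1} := fun q =>
        ⟨(inferInstance : (commutator G).Normal).conj_mem z hzD _, fun h => by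
          have : z = 1 := conj_eq_one_iff.1 h
          rw [this, orderOf_one] at hz
          exact hp.one_lt.ne hz⟩
      calc Nat.card (G ⧸ C) ≤ Nat.card ↥((commutator G : Set G) \ {1}) :=
            Nat.card_le_card_of_injective (fun q => ⟨_, hmem q⟩) fun a b hab => by
              have h1 : a.out * z * a.out⁻¹ = b.out * z * b.out⁻¹ := Subtype.ext_iff.1 hab
              rw [← Quotient.out_eq' a, ← Quotient.out_eq' b]
              refine QuotientGroup.eq.2 (mem_centralizer_singleton_iff.2 ?_)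
              calc a.out⁻¹ * b.out * z = a.out⁻¹ * (b.out * z * b.out⁻¹) * b.out := by group
                _ = a.out⁻¹ * (a.out * z * a.out⁻¹) * b.out := by rw [← h1]
                _ = z * (a.out⁻¹ * b.out) := by group
        _ < Nat.card (commutator G : Set G) :=
            Set.ncard_diff_singleton_lt_of_mem (one_mem _) (Set.toFinite _)
        _ = p := hD
    have h1 : C.index = 1 := by
      by_contra h
      exact absurd (hmin _ (index_dvd_card C) h) (not_le.2 hlt)
    exact mem_center_iff.2 fun y =>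
      mem_centralizer_singleton_iff.1 (show y ∈ C from index_eq_one.1 h1 ▸ mem_top y)
  exact Setting.orbits_le
    { z := z, order := hz, central := hcen, minimal := hmin
      comm_mem := fun a b => hzp.symm ▸ commutator_mem_commutator (mem_top a) (mem_top b)
      nonabelian := fun h => hna ⟨⟨fun a b => mem_center_iff.1 (h ▸ mem_top b) a⟩⟩ }

end Cfsg.Agent.GStructB.AutOrbits
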