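import Cfsg.Agent.Lib.Characters.Burnside
import Mathlib

/-!
Automorphism groups of cyclic and generalized quaternion groups are solvable.
-/

set_option autoImplicit false

namespace Cfsg.Agent.GStructB.AutQuaternion

open scoped commutatorElement

universe u

/-- A group whose order divides `24` is solvable. -/
theorem isSolvable_of_dvd_24 {X : Type u} [Group X] [Finite X] (h : Nat.card X ∣ 24) : Group.IsSolvable X := by
  obtain ⟨a, b, ha, hb, hab⟩ := exists_dvd_and_dvd_of_dvd_mul (show Nat.card X ∣ 2 ^ 3 * 3 by norm_num; exact h)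
  obtain ⟨i, -, rfl⟩ := (Nat.dvd_prime_pow Nat.prime_two).mp ha
  rcases (Nat.dvd_prime Nat.prime_three).mp hb with rfl | rfl
  · exact Characters.burnside_pa_qb (a := i) (b := 0) Nat.prime_two Nat.prime_three (by rw [pow_zero]; exact hab)
  · exact Characters.burnside_pa_qb (a := i) (b := 1) Nat.prime_two Nat.prime_three (by rw [pow_one]; exact hab)

theorem mulAut_eight : Group.IsSolvable (MulAut (QuaternionGroup 2)) := by
  classical
  let Q := QuaternionGroup 2
  let z : Q := QuaternionGroup.a 2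
  have hz : ∀ g : Q, g ≠ 1 → g * g = 1 → g = z := by decide
  have hzc : ∀ g : Q, g * z = z * g := by decide
  have hzz : z * z = 1 := by decide
  have hz1 : z ≠ 1 := by decide
  have hfix : ∀ φ : MulAut Q, φ z = z := fun φ => hz _
    (fun h => hz1 (φ.injective (h.trans (map_one φ).symm))) (by rw [← map_mul, hzz, map_one])
  have hcz : Nat.card (Subgroup.zpowers z) = 2 := by
    rw [Nat.card_zpowers]; exact orderOf_eq_prime (by rw [pow_two, hzz]) hz1
  have hmem : ∀ g : Q, g ∈ Subgroup.zpowers z ↔ g = 1 ∨ g = z := by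
    intro g
    refine ⟨fun hg => ?_, ?_⟩
    · by_cases h1 : g = 1
      · exact Or.inl h1
      · refine Or.inr (hz g h1 ?_)
        have := orderOf_dvd_iff_pow_eq_one.mp (hcz ▸ Subgroup.orderOf_dvd_natCard _ hg)
        rwa [pow_two] at this
    · rintro (rfl | rfl)
      · exact one_mem _
      · exact Subgroup.mem_zpowers z
  haveI hN : (Subgroup.zpowers z).Normal := ⟨fun n hn g => by
    rcases (hmem n).mp hn with rfl | rfl
    · simp
    · rw [hzc, mul_inv_cancel_right]; exact Subgroup.mem_zpowers z⟩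
  let ρ : MulAut Q →* Equiv.Perm (Q ⧸ Subgroup.zpowers z) :=
    { toFun := fun φ => (QuotientGroup.congr (Subgroup.zpowers z) (Subgroup.zpowers z) φ
        (by rw [MonoidHom.map_zpowers]; exact congrArg Subgroup.zpowers (hfix φ))).toEquiv
      map_one' := Equiv.ext fun x => by induction x using QuotientGroup.induction_on; rfl
      map_mul' := fun φ ψ => Equiv.ext fun x => by induction x using QuotientGroup.induction_on; rfl }
  have hker : ∀ φ : ρ.ker, ∀ g : Q, ∃ c : Q, (c = 1 ∨ c = z) ∧ φ.1 g = g * c := by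
    intro φ g
    have h1 : QuotientGroup.mk (s := Subgroup.zpowers z) (φ.1 g) = QuotientGroup.mk g :=
      congrArg (fun e : Equiv.Perm (Q ⧸ Subgroup.zpowers z) => e (QuotientGroup.mk g)) φ.2
    exact ⟨g⁻¹ * φ.1 g, (hmem _).mp (QuotientGroup.eq.mp h1.symm), by group⟩
  haveI hkc : Group.IsSolvable ρ.ker := by
    refine Group.isSolvable_of_comm fun φ ψ => Subtype.ext (MulEquiv.ext fun g => ?_)
    obtain ⟨c, hc, hφ⟩ := hker φ g
    obtain ⟨d, hd, hψ⟩ := hker ψ g
    have hcd : ∀ (χ : MulAut Q) (e : Q), (e = 1 ∨ e = z) → χ e = e := fun χ e he => by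
      rcases he with rfl | rfl
      · exact map_one χ
      · exact hfix χ
    show φ.1 (ψ.1 g) = ψ.1 (φ.1 g)
    rw [hψ, map_mul, hφ, hcd φ.1 d hd, map_mul ψ.1, hψ, hcd ψ.1 c hc, mul_assoc, mul_assoc]
    congr 1
    rcases hc with rfl | rfl <;> rcases hd with rfl | rfl <;> simp
  haveI : Group.IsSolvable ρ.range := by
    refine isSolvable_of_dvd_24 ((Subgroup.card_subgroup_dvd_card _).trans ?_)
    rw [Nat.card_perm, ← Subgroup.index_eq_card]
    have h := (Subgroup.zpowers z).card_mul_index
    rw [hcz, Nat.card_eq_fintype_card (α := Q), QuaternionGroup.card] at h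
    rw [show (Subgroup.zpowers z).index = 4 by omega]
    decide
  exact Group.isSolvable_of_ker_le_range ρ.ker.subtype ρ.rangeRestrict
    (by rw [MonoidHom.ker_rangeRestrict, Subgroup.range_subtype])

theorem mulAut_large (n : ℕ) (hn : 2 ≤ n) : Group.IsSolvable (MulAut (QuaternionGroup (2 ^ n))) := by
  classical
  haveI : NeZero (2 ^ n) := ⟨by positivity⟩
  let Q := QuaternionGroup (2 ^ n)
  let e : Q := QuaternionGroup.a 1
  have hA : ∀ φ : MulAut Q, ∃ k : ℕ, φ e = e ^ k := by
    intro φ
    have ho : orderOf (φ e) = 2 * 2 ^ n := by rw [MulEquiv.orderOf_eq]; exact QuaternionGroup.orderOf_a_one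
    cases h : φ e with
    | a j =>
      haveI : NeZero (2 * 2 ^ n) := ⟨by positivity⟩
      exact ⟨j.val, by rw [QuaternionGroup.a_one_pow, ZMod.natCast_zmod_val]⟩
    | xa j =>
      exfalso
      rw [h, QuaternionGroup.orderOf_xa] at ho
      have : 2 ^ 2 ≤ 2 ^ n := Nat.pow_le_pow_right two_pos hn
      omega
  let S : Subgroup (MulAut Q) :=
    { carrier := {φ | φ e = e}
      one_mem' := rfl
      mul_mem' := fun {φ ψ} hφ hψ => by
        show φ (ψ e) = e
        rw [show ψ e = e from hψ]; exact hφ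
      inv_mem' := fun {φ} hφ => by
        show φ⁻¹ e = e
        conv_lhs => rw [← (show φ e = e from hφ)]
        exact φ.symm_apply_apply e }
  have hcomm : ∀ (φ ψ : MulAut Q) (i : ℕ), φ (ψ (e ^ i)) = ψ (φ (e ^ i)) := by
    intro φ ψ i
    obtain ⟨k, hk⟩ := hA φ
    obtain ⟨l, hl⟩ := hA ψ
    simp only [map_pow, hk, hl, ← pow_mul]
    rw [show k * (l * i) = l * (k * i) by ring]
  have hle : commutator (MulAut Q) ≤ S := by
    rw [commutator_def, Subgroup.commutator_le]
    intro φ _ ψ _
    show φ (ψ (φ⁻¹ (ψ⁻¹ e))) = e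
    obtain ⟨k, hk⟩ := hA (φ⁻¹ * ψ⁻¹)
    rw [show φ⁻¹ (ψ⁻¹ e) = e ^ k from hk, hcomm φ ψ k, ← hk]
    show ψ (φ (φ⁻¹ (ψ⁻¹ e))) = e
    rw [show φ (φ⁻¹ (ψ⁻¹ e)) = ψ⁻¹ e from φ.apply_symm_apply _]
    exact ψ.apply_symm_apply e
  haveI : Group.IsSolvable S := by
    refine Group.isSolvable_of_comm fun φ ψ => Subtype.ext (MulEquiv.ext fun g => ?_)
    have hfixa : ∀ (χ : S) (j : ℕ), χ.1 (e ^ j) = e ^ j := fun χ j => by
      rw [map_pow, show χ.1 e = e from χ.2]
    haveI : NeZero (2 * 2 ^ n) := ⟨by positivity⟩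
    have hxa : ∀ χ : S, ∃ i : ℕ, χ.1 (QuaternionGroup.xa 0) = QuaternionGroup.xa 0 * e ^ i := by
      intro χ
      cases h : χ.1 (QuaternionGroup.xa 0) with
      | a j =>
        exfalso
        have h1 : χ.1 (QuaternionGroup.xa 0) = χ.1 (e ^ j.val) := by
          rw [hfixa, h, QuaternionGroup.a_one_pow, ZMod.natCast_zmod_val]
        rw [QuaternionGroup.a_one_pow] at h1
        exact absurd (χ.1.injective h1) (by simp)
      | xa j =>
        exact ⟨j.val, by rw [QuaternionGroup.a_one_pow, ZMod.natCast_zmod_val, QuaternionGroup.xa_mul_a, zero_add]⟩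
    show φ.1 (ψ.1 g) = ψ.1 (φ.1 g)
    obtain ⟨i, hi⟩ := hxa φ
    obtain ⟨j, hj⟩ := hxa ψ
    cases g with
    | a k => rw [show (QuaternionGroup.a k : Q) = e ^ k.val by rw [QuaternionGroup.a_one_pow, ZMod.natCast_zmod_val],
        hfixa, hfixa, hfixa]
    | xa k =>
      rw [show (QuaternionGroup.xa k : Q) = QuaternionGroup.xa 0 * e ^ k.val by
        rw [QuaternionGroup.a_one_pow, ZMod.natCast_zmod_val, QuaternionGroup.xa_mul_a, zero_add]]
      simp only [map_mul, hi, hj, hfixa, mul_assoc, ← pow_add]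
      congr 2
      ring
  haveI : Group.IsSolvable (MulAut Q ⧸ commutator (MulAut Q)) :=
    Group.isSolvable_of_comm fun a b => @mul_comm (Abelianization (MulAut Q)) _ a b
  haveI : Group.IsSolvable (commutator (MulAut Q)) :=
    Group.isSolvable_of_isSolvable_injective (Subgroup.inclusion_injective hle)
  exact (Group.isSolvable_iff_subgroup_quotient (commutator (MulAut Q))).mpr ⟨inferInstance, inferInstance⟩

/-- Automorphism groups of cyclic and of generalized quaternion groups are solvable. -/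
theorem isSolvable_mulAut {P : Type u} [Group P] [Finite P]
    (h : IsCyclic P ∨ ∃ n : ℕ, Nonempty (P ≃* QuaternionGroup (2 ^ n))) : Group.IsSolvable (MulAut P) := by
  have hcyc : ∀ (X : Type u) [Group X], IsCyclic X → Group.IsSolvable (MulAut X) := by
    intro X _ hX
    exact Group.isSolvable_of_isSolvable_injective (f := (IsCyclic.mulAutMulEquiv X).toMonoidHom)
      (IsCyclic.mulAutMulEquiv X).injective
  rcases h with h | ⟨n, ⟨f⟩⟩
  · exact hcyc P h
  rcases n with _ | _ | n
  · refine hcyc P ?_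
    haveI : IsCyclic (QuaternionGroup (2 ^ 0)) := isCyclic_of_orderOf_eq_card (QuaternionGroup.xa 0) (by
      rw [QuaternionGroup.orderOf_xa, Nat.card_eq_fintype_card, QuaternionGroup.card]; norm_num)
    exact f.isCyclic.mpr inferInstance
  · haveI := mulAut_eight
    exact Group.isSolvable_of_isSolvable_injective (G' := MulAut (QuaternionGroup (2 ^ 1)))
      (f := (MulAut.congr f).toMonoidHom) (MulAut.congr f).injective
  · haveI := mulAut_large (n + 2) (by omega)
    exact Group.isSolvable_of_isSolvable_injective (f := (MulAut.congr f).toMonoidHom) (MulAut.congr f).injective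

end Cfsg.Agent.GStructB.AutQuaternion
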