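import Cfsg.Agent.GStructB.PElements
import Cfsg.Agent.Lib.Transfer.SmallSylow
import Mathlib

/-!
Coprime automizers of abelian `p`-subgroups of bounded rank.
-/

set_option autoImplicit false

namespace Cfsg.Agent.GStructB.AutomizerRank

/-- An automorphism of prime order `r ≠ p` of an abelian `p`-group generated by `d` elements is
trivial if `r` divides no `p ^ i - 1` with `1 ≤ i ≤ d`. -/
theorem mulAut_eq_one {T : Type*} [CommGroup T] [Finite T] {p r : ℕ} [hp : Fact p.Prime] [hr : Fact r.Prime]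
    (hT : IsPGroup p T) (hrp : r ≠ p) {d : ℕ} (hd : Group.rank T ≤ d)
    (hri : ∀ i, 1 ≤ i → i ≤ d → ¬ r ∣ p ^ i - 1) (φ : MulAut T) (hφ : φ ^ r = 1) : φ = 1 := by
  set U := (powMonoidHom p : T →* T).range with hU
  have hmemU : ∀ z : T, z ^ p ∈ U := fun z => ⟨z, rfl⟩
  have hV : ∀ v : T ⧸ U, v ^ p = 1 := fun v => by
    induction v using QuotientGroup.induction_on with
    | _ z => exact (QuotientGroup.eq_one_iff _).mpr (hmemU z)
  have hcard : Nat.card (T ⧸ U) ∣ p ^ d :=
    (card_dvd_exponent_pow_rank' (T ⧸ U) hV).trans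
      (pow_dvd_pow p ((Group.rank_le_of_surjective _ (QuotientGroup.mk'_surjective U)).trans hd))
  obtain ⟨a, had, ha⟩ := (Nat.dvd_prime_pow hp.out).mp hcard
  have hmap : U.map φ.toMonoidHom = U := by
    ext z
    constructor
    · rintro ⟨_, ⟨w, rfl⟩, rfl⟩; exact ⟨φ w, (map_pow φ w p).symm⟩
    · rintro ⟨w, rfl⟩
      exact ⟨_, ⟨φ.symm w, rfl⟩, by simp [powMonoidHom]⟩
  let ψ : MulAut (T ⧸ U) := QuotientGroup.congr U U φ hmap
  have hψj : ∀ (j : ℕ) (z : T), (ψ ^ j) (z : T ⧸ U) = ((φ ^ j) z : T) := by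
    intro j
    induction j with
    | zero => intro z; simp
    | succ j ih =>
      intro z
      rw [pow_succ', pow_succ', MulAut.mul_apply, MulAut.mul_apply, ih]
      rfl
  have hψ : ψ = 1 := by
    refine Transfer.SmallSylow.mulAut_eq_one (p := p) (r := r) ha (fun e he hdvd => ?_) ψ
      (MulEquiv.ext fun v => QuotientGroup.induction_on v fun z => by rw [hψj, hφ]; rfl)
    rw [show p ^ a - p ^ e = p ^ e * (p ^ (a - e) - 1) by
      rw [Nat.mul_sub, mul_one, ← pow_add, Nat.add_sub_cancel' he.le]] at hdvd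
    rcases hr.out.dvd_mul.mp hdvd with h | h
    · exact hrp ((Nat.prime_dvd_prime_iff_eq hr.out hp.out).mp (hr.out.dvd_of_dvd_pow h))
    · exact hri (a - e) (by omega) (by omega) h
  -- `φ z = z * δ z` with `δ z` in every `U`-power
  have key : ∀ (k : ℕ) (z : T), ∃ w : T, φ z = z * w ^ p ^ k := by
    intro k
    induction k with
    | zero => intro z; exact ⟨z⁻¹ * φ z, by simp⟩
    | succ k ih =>
      intro z
      set Uk := (powMonoidHom (p ^ (k + 1)) : T →* T).range with hUk
      obtain ⟨w, hw⟩ := ih z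
      -- modulo `Uk` the element `w ^ p ^ k` is fixed
      have hfix : ∃ u ∈ Uk, φ (w ^ p ^ k) = w ^ p ^ k * u := by
        have h1 : ((φ w : T) : T ⧸ U) = (w : T ⧸ U) := by
          have h2 := hψj 1 w
          rw [hψ, one_pow, pow_one] at h2
          exact h2.symm
        obtain ⟨v, hv⟩ := QuotientGroup.eq.mp h1.symm
        refine ⟨v ^ p ^ (k + 1), ⟨v, rfl⟩, ?_⟩
        rw [map_pow, show φ w = w * v ^ p by rw [show v ^ p = w⁻¹ * φ w from hv]; group,
          mul_pow, ← pow_mul, pow_succ']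
      obtain ⟨u, hu, huw⟩ := hfix
      have hUkφ : ∀ v ∈ Uk, φ v ∈ Uk := by rintro _ ⟨v, rfl⟩; exact ⟨φ v, (map_pow φ v _).symm⟩
      have hiter : ∀ j : ℕ, ∃ v ∈ Uk, (φ ^ j) z = z * (w ^ p ^ k) ^ j * v := by
        intro j
        induction j with
        | zero => exact ⟨1, one_mem _, by simp⟩
        | succ j ihj =>
          obtain ⟨v, hv, hvz⟩ := ihj
          refine ⟨u ^ j * φ v, mul_mem (pow_mem hu j) (hUkφ v hv), ?_⟩
          rw [pow_succ' φ, MulAut.mul_apply, hvz, map_mul, map_mul, map_pow φ (w ^ p ^ k) j, huw, hw,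
            mul_pow, pow_succ']
          simp only [mul_comm, mul_left_comm, mul_assoc]
      obtain ⟨v, hv, hvz⟩ := hiter r
      rw [hφ, MulAut.one_apply, mul_assoc, eq_comm, mul_eq_left, mul_eq_one_iff_eq_inv] at hvz
      obtain ⟨b, hb⟩ := IsPGroup.iff_orderOf.mp hT (w ^ p ^ k)
      have h3 : w ^ p ^ k ∈ Uk := GStructB.PElements.mem_of_pow_mem_coprime (a := r) (b := p ^ b)
        (((Nat.coprime_primes hr.out hp.out).mpr hrp).pow_right b) (hvz ▸ inv_mem hv)
        (by rw [← hb, pow_orderOf_eq_one]; exact one_mem _)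
      obtain ⟨w', hw'⟩ := h3
      exact ⟨w', by rw [hw]; congr 1; exact hw'.symm⟩
  ext z
  obtain ⟨k, hk⟩ := IsPGroup.iff_card.mp hT
  obtain ⟨w, hw⟩ := key k z
  rw [hw, ← hk, pow_card_eq_one', mul_one]
  rfl

/-- An element normalizing an abelian `p`-subgroup `T` of rank at most `d` centralizes it when no
prime divisor of its order is `p` or divides a `p ^ i - 1` with `1 ≤ i ≤ d`. -/
theorem mem_centralizer {G : Type*} [Group G] [Finite G] {p : ℕ} [Fact p.Prime] {T : Subgroup G}
    (hT : IsPGroup p T) (hab : IsMulCommutative T) {d : ℕ} (hd : Group.rank T ≤ d) {g : G}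
    (hg : g ∈ Subgroup.normalizer (T : Set G))
    (hr : ∀ r : ℕ, r.Prime → r ∣ orderOf g → r ≠ p ∧ ∀ i, 1 ≤ i → i ≤ d → ¬ r ∣ p ^ i - 1) :
    g ∈ Subgroup.centralizer (T : Set G) := by
  have key : ∀ m : ℕ, m ∣ orderOf g → ∀ h ∈ Subgroup.normalizer (T : Set G), h ^ m = 1 →
      h ∈ Subgroup.centralizer (T : Set G) := by
    intro m
    induction m using Nat.strong_induction_on with
    | _ m ih =>
      intro hm h hh hpow
      have hm0 : m ≠ 0 := ne_zero_of_dvd_ne_zero (orderOf_pos g).ne' hm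
      by_cases hm1 : m = 1
      · rw [hm1, pow_one] at hpow
        rw [hpow]
        exact one_mem _
      obtain ⟨r, hrp, hrm⟩ := Nat.exists_prime_and_dvd hm1
      have := Fact.mk hrp
      have h1 := ih (m / r) (Nat.div_lt_self (Nat.pos_of_ne_zero hm0) hrp.one_lt)
        ((Nat.div_dvd_of_dvd hrm).trans hm) (h ^ r) (pow_mem hh r)
        (by rw [← pow_mul, Nat.mul_div_cancel' hrm, hpow])
      let φ : MulAut T := T.normalizerMonoidHom ⟨h, hh⟩
      have hφ : φ ^ r = 1 := by
        rw [← map_pow]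
        refine MonoidHom.mem_ker.mp ?_
        rw [Subgroup.normalizerMonoidHom_ker, Subgroup.mem_subgroupOf]
        exact h1
      have h2 : (⟨h, hh⟩ : Subgroup.normalizer (T : Set G)) ∈ T.normalizerMonoidHom.ker := by
        refine MonoidHom.mem_ker.mpr ?_
        open scoped IsMulCommutative in
        exact mulAut_eq_one hT (hr r hrp (hrm.trans hm)).1 hd (hr r hrp (hrm.trans hm)).2 φ hφ
      rw [Subgroup.normalizerMonoidHom_ker, Subgroup.mem_subgroupOf] at h2
      exact h2
  exact key _ dvd_rfl g hg (pow_orderOf_eq_one g)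

/-- Burnside's criterion with the arithmetic hypothesis on the rank of an abelian Sylow subgroup. -/
theorem hasNormalPComplement {G : Type*} [Group G] [Finite G] {p : ℕ} [Fact p.Prime] (P : Sylow p G)
    (hab : IsMulCommutative (P : Subgroup G)) {d : ℕ} (hd : Group.rank (P : Subgroup G) ≤ d)
    (h : ∀ r : ℕ, r.Prime → r ∣ Nat.card G → r ≠ p → ∀ i, 1 ≤ i → i ≤ d → ¬ r ∣ p ^ i - 1) :
    Cfsg.HasNormalPComplement p G := by
  refine Transfer.NormalPComplement.hasNormalPComplement_of_normalizer_le_centralizer P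
    (Transfer.SmallSylow.normalizer_le_centralizer_of_forall P fun g hg hgo =>
      mem_centralizer P.2 hab hd hg fun r hr hrd => ?_)
  have hne : r ≠ p := fun h => hr.ne_one (Nat.eq_one_of_dvd_coprimes hgo hrd (dvd_of_eq h))
  exact ⟨hne, h r hr (hrd.trans (orderOf_dvd_natCard g)) hne⟩

end Cfsg.Agent.GStructB.AutomizerRank
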