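import Mathlib
import Cfsg.Agent.Lib.Cores.Nilpotent
import Cfsg.Agent.GStructB.Cover

/-!
Chen's lemma: a centreless group with the class sizes of a centreless group with disconnected prime
graph has the same order.
-/

namespace Cfsg.Agent.GStructB.ClassSizeOrder

open Subgroup

variable {G M : Type*} [Group G] [Finite G] [Group M] [Finite M]

/-- The class size of `g`. -/
noncomputable def cs (g : G) : ℕ := (centralizer ({g} : Set G)).index

/-- `n` carries the full `p`-part of `m` for all primes `p` in `A`. -/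
def Full (A : Set ℕ) (m n : ℕ) : Prop :=
  ∀ p ∈ A, p.Prime → p ^ m.factorization p ∣ n

theorem dvd_of_forall_prime_pow {m n : ℕ} (hm : m ≠ 0) (hn : n ≠ 0)
    (h : ∀ p : ℕ, p.Prime → p ^ m.factorization p ∣ n) : m ∣ n := by
  rw [← Nat.factorization_le_iff_dvd hm hn, Finsupp.le_iff]
  intro p hp
  have hp' : p.Prime := Nat.prime_of_mem_primeFactors (by rwa [Nat.support_factorization] at hp)
  exact (hp'.pow_dvd_iff_le_factorization hn).1 (h p hp')

theorem cs_ne_zero (g : G) : cs g ≠ 0 := index_ne_zero_of_finite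

theorem not_both (A : Set ℕ) {g : M} (h1 : Full A (Nat.card M) (cs g))
    (h2 : Full Aᶜ (Nat.card M) (cs g)) [Nontrivial M] : False := by
  have hd : Nat.card M ∣ cs g := dvd_of_forall_prime_pow Nat.card_pos.ne' (cs_ne_zero g)
    fun p hp => by
      by_cases hpA : p ∈ A
      · exact h1 p hpA hp
      · exact h2 p hpA hp
  have hmul := (centralizer ({g} : Set M)).card_mul_index
  have hle := Nat.le_of_dvd (Nat.pos_of_ne_zero (cs_ne_zero g)) hd
  have hc1 : Nat.card (centralizer ({g} : Set M)) = 1 := by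
    by_contra hne
    have hp := Nat.card_pos (α := centralizer ({g} : Set M))
    have : 2 * cs g ≤ Nat.card M := by
      rw [← hmul]
      exact Nat.mul_le_mul_right _ (by omega)
    have := Nat.pos_of_ne_zero (cs_ne_zero g)
    omega
  have hbot := card_eq_one.1 hc1
  have hg : g ∈ centralizer ({g} : Set M) := mem_centralizer_singleton_iff.2 rfl
  rw [hbot, mem_bot] at hg
  subst hg
  have htop : centralizer ({(1 : M)} : Set M) = ⊤ :=
    eq_top_iff.2 fun x _ => mem_centralizer_singleton_iff.2 (by simp)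
  rw [htop, card_top] at hc1
  have := Finite.one_lt_card (α := M)
  omega

/-- In `M` a nontrivial class size is full on one side. -/
theorem full_or (A : Set ℕ)
    (hdisc : ∀ a ∈ A, ∀ b ∉ A, a.Prime → b.Prime → a ∣ Nat.card M → b ∣ Nat.card M →
      ¬ ∃ x : M, orderOf x = a * b) {g : M} (hg : g ≠ 1) :
    Full A (Nat.card M) (cs g) ∨ Full Aᶜ (Nat.card M) (cs g) := by
  set C := centralizer ({g} : Set M)
  obtain ⟨r, hr, hrg⟩ := Nat.exists_prime_and_dvd (show orderOf g ≠ 1 from fun e => hg (orderOf_eq_one_iff.1 e))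
  set x := g ^ (orderOf g / r) with hx
  have hxo : orderOf x = r := by
    rw [hx, orderOf_pow_of_dvd (Nat.div_pos (Nat.le_of_dvd (orderOf_pos g) hrg) hr.pos).ne'
      (Nat.div_dvd_of_dvd hrg), Nat.div_div_self hrg (orderOf_pos g).ne']
  have key : ∀ q : ℕ, q.Prime → q ∣ Nat.card C → ¬ (q ∈ A ↔ r ∈ A) → False := by
    intro q hq hqC hne
    haveI : Fact q.Prime := ⟨hq⟩
    obtain ⟨⟨y, hyC⟩, hy⟩ := exists_prime_orderOf_dvd_card' (G := C) q hqC
    rw [Subgroup.orderOf_mk] at hy
    have hcomm : Commute y x := by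
      have h0 : Commute y g := mem_centralizer_singleton_iff.1 hyC
      exact h0.pow_right _
    have hqr : q ≠ r := fun e => hne (e ▸ Iff.rfl)
    have hord : orderOf (y * x) = q * r := by
      rw [hcomm.orderOf_mul_eq_mul_orderOf_of_coprime (by rw [hy, hxo]; exact (Nat.coprime_primes hq hr).2 hqr),
        hy, hxo]
    have hqM : q ∣ Nat.card M := hy ▸ orderOf_dvd_natCard y
    have hrM : r ∣ Nat.card M := hxo ▸ orderOf_dvd_natCard x
    by_cases hqA : q ∈ A
    · exact hdisc q hqA r (fun e => hne (iff_of_true hqA e)) hq hr hqM hrM ⟨_, hord⟩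
    · exact hdisc r (by by_contra e; exact hne (iff_of_false hqA e)) q hqA hr hq hrM hqM
        ⟨y * x, by rw [hord, mul_comm]⟩
  have full : ∀ q : ℕ, q.Prime → ¬ (q ∈ A ↔ r ∈ A) → q ^ (Nat.card M).factorization q ∣ cs g := by
    intro q hq hne
    have hco : (q ^ (Nat.card M).factorization q).Coprime (Nat.card C) :=
      Nat.Coprime.pow_left _ ((Nat.Prime.coprime_iff_not_dvd hq).2 fun h => key q hq h hne)
    refine hco.dvd_of_dvd_mul_left ?_
    show _ ∣ Nat.card C * C.index
    rw [C.card_mul_index]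
    exact Nat.ordProj_dvd _ _
  by_cases hrA : r ∈ A
  · exact Or.inr fun q hq hqp => full q hqp fun e => hq (e.2 hrA)
  · exact Or.inl fun q hq hqp => full q hqp fun e => hrA (e.1 hq)

/-- The `p`-part of `G` is at most that of `M`, for `p ∈ A`. -/
theorem factorization_le (A : Set ℕ) (hZ : center G = ⊥)
    (hor : ∀ g : G, g ≠ 1 → Full A (Nat.card M) (cs g) ∨ Full Aᶜ (Nat.card M) (cs g))
    (hboth : ∀ g : G, Full A (Nat.card M) (cs g) → Full Aᶜ (Nat.card M) (cs g) → False)
    (hMG : Nat.card M ∣ Nat.card G) (hdvd : ∀ g : G, cs g ∣ Nat.card M)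
    {p : ℕ} (hp : p.Prime) (hpA : p ∈ A) (hpM : p ∣ Nat.card M)
    {q : ℕ} (hq : q.Prime) (hqA : q ∉ A) (hqM : q ∣ Nat.card M) :
    (Nat.card G).factorization p ≤ (Nat.card M).factorization p := by
  classical
  haveI : Fact p.Prime := ⟨hp⟩
  haveI : Fact q.Prime := ⟨hq⟩
  by_contra hlt
  push Not at hlt
  have hpart : ∀ {r : ℕ}, r.Prime → r ∣ Nat.card M → r ∣ r ^ (Nat.card M).factorization r := fun hr hrM =>
    dvd_pow_self _ (hr.factorization_pos_of_dvd Nat.card_pos.ne' hrM).ne'
  -- a central element of a Sylow `q`-subgroup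
  obtain ⟨Q⟩ : Nonempty (Sylow q G) := inferInstance
  haveI : Nontrivial (Q : Subgroup G) := by
    rw [← Finite.one_lt_card_iff_nontrivial]
    exact lt_of_lt_of_le hq.one_lt (Nat.le_of_dvd Nat.card_pos (Q.dvd_card_of_dvd_card (hqM.trans hMG)))
  haveI := Q.2.center_nontrivial
  obtain ⟨⟨z, hz⟩, hz1⟩ := exists_ne (1 : center (Q : Subgroup G))
  have hzne : (z : G) ≠ 1 := fun e => hz1 (Subtype.ext (Subtype.ext e))
  have hQC : (Q : Subgroup G) ≤ centralizer ({(z : G)} : Set G) := fun y hy =>
    mem_centralizer_singleton_iff.2 (congrArg Subtype.val (mem_center_iff.1 hz ⟨y, hy⟩))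
  have hzA : Full A (Nat.card M) (cs (z : G)) := by
    refine (hor _ hzne).resolve_right fun h => ?_
    exact Q.not_dvd_index ((hpart hq hqM).trans ((h q hqA hq).trans (index_dvd_of_le hQC)))
  set C := centralizer ({(z : G)} : Set G)
  -- a Sylow `p`-subgroup of `C(z)` and one of `G` above it
  obtain ⟨R₀⟩ : Nonempty (Sylow p C) := inferInstance
  set R := (R₀ : Subgroup C).map C.subtype with hR
  have hRp : IsPGroup p R := R₀.2.map _
  have hRC : R ≤ C := map_subtype_le _
  obtain ⟨P, hRP⟩ := hRp.exists_le_sylow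
  have hRcard : Nat.card R = p ^ (Nat.card C).factorization p := by
    rw [hR, card_map_of_injective C.subtype_injective]
    exact R₀.card_eq_multiplicity
  have hCp : (Nat.card C).factorization p + (cs (z : G)).factorization p = (Nat.card G).factorization p := by
    rw [← C.card_mul_index, Nat.factorization_mul Nat.card_pos.ne' index_ne_zero_of_finite]
    rfl
  have hzp : (Nat.card M).factorization p ≤ (cs (z : G)).factorization p :=
    (hp.pow_dvd_iff_le_factorization (cs_ne_zero _)).1 (hzA p hpA hp)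
  have hRlt : R < P := by
    refine lt_of_le_of_ne hRP fun e => ?_
    have h1 : Nat.card R = p ^ (Nat.card G).factorization p := by
      rw [e]; exact P.card_eq_multiplicity
    rw [hRcard] at h1
    have := Nat.pow_right_injective hp.two_le h1
    have := hp.factorization_pos_of_dvd Nat.card_pos.ne' hpM
    omega
  have hcs : (cs (z : G)).factorization p ≤ (Nat.card M).factorization p :=
    (Nat.factorization_le_iff_dvd (cs_ne_zero _) Nat.card_pos.ne').2 (hdvd _) p
  -- `R` is nontrivial
  have hRne : R ≠ ⊥ := fun e => by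
    rw [e, Subgroup.card_bot] at hRcard
    have := (Nat.pow_eq_one.1 hRcard.symm).resolve_left hp.one_lt.ne'
    omega
  -- the normalizer of `R` in `P`
  haveI := P.2.isNilpotent
  have hncond := Group.normalizerCondition_of_isNilpotent (G := (P : Subgroup G))
  have hlt' : R.subgroupOf P < ⊤ := lt_top_iff_ne_top.2 fun e => hRlt.not_ge (subgroupOf_eq_top.1 e)
  have hn := hncond _ hlt'
  set N0 := normalizer (R.subgroupOf (P : Subgroup G) : Set (P : Subgroup G)) with hN0
  haveI hnorm : ((R.subgroupOf (P : Subgroup G)).subgroupOf N0).Normal := inferInstance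
  haveI : Nontrivial ((R.subgroupOf (P : Subgroup G)).subgroupOf N0) := by
    rw [nontrivial_iff_ne_bot]
    intro e
    rw [subgroupOf_eq_bot, disjoint_iff, inf_eq_left.2 hn.le] at e
    rw [subgroupOf_eq_bot, disjoint_iff, inf_eq_left.2 hRP] at e
    exact hRne e
  obtain ⟨u, huR, huZ, hu1⟩ : ∃ u : N0, u ∈ (R.subgroupOf (P : Subgroup G)).subgroupOf N0 ∧
      u ∈ center N0 ∧ u ≠ 1 := by
    haveI := (P.2.to_subgroup N0).isNilpotent
    have hne := Cores.inf_center_ne_bot (N := (R.subgroupOf (P : Subgroup G)).subgroupOf N0)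
      ((nontrivial_iff_ne_bot _).1 inferInstance)
    obtain ⟨u, hu1⟩ := (ne_bot_iff_exists_ne_one.1 hne)
    exact ⟨u.1, u.2.1, u.2.2, fun e => hu1 (Subtype.ext e)⟩
  set w : G := ((u : (P : Subgroup G)) : G) with hw
  have hwR : w ∈ R := huR
  have hw1 : w ≠ 1 := fun e => hu1 (Subtype.ext (Subtype.ext e))
  -- the centralizer of `w` has a larger `p`-part
  set N1 := N0.map (P : Subgroup G).subtype with hN1
  have hN1w : N1 ≤ centralizer ({w} : Set G) := by
    rintro _ ⟨v, hv, rfl⟩
    exact mem_centralizer_singleton_iff.2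
      (congrArg (fun y : N0 => ((y : (P : Subgroup G)) : G)) (mem_center_iff.1 huZ ⟨v, hv⟩))
  obtain ⟨j, hj⟩ := IsPGroup.iff_card.1 ((P.2.to_subgroup N0).map (P : Subgroup G).subtype)
  have hgt : (Nat.card C).factorization p < j := by
    by_contra hle
    push Not at hle
    have hsub : R ≤ N1 := fun x hx => ⟨⟨x, hRP hx⟩, hn.le (by simpa [mem_subgroupOf] using hx), rfl⟩
    have heq : R = N1 := eq_of_le_of_card_ge hsub (by
      rw [hRcard, hN1, hj]; exact Nat.pow_le_pow_right hp.pos hle)
    refine hn.not_ge fun x hx => ?_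
    rw [mem_subgroupOf, heq]
    exact ⟨x, hx, rfl⟩
  have hwA : ¬ Full A (Nat.card M) (cs w) := by
    intro h
    have h1 := (hp.pow_dvd_iff_le_factorization (cs_ne_zero w)).1 (h p hpA hp)
    have h2 : p ^ j ∣ Nat.card (centralizer ({w} : Set G)) := hj ▸ Subgroup.card_dvd_of_le hN1w
    have h3 := (hp.pow_dvd_iff_le_factorization Nat.card_pos.ne').1 h2
    have h4 : (Nat.card (centralizer ({w} : Set G))).factorization p + (cs w).factorization p =
        (Nat.card G).factorization p := by
      rw [← (centralizer ({w} : Set G)).card_mul_index,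
        Nat.factorization_mul Nat.card_pos.ne' index_ne_zero_of_finite]
      rfl
    omega
  have hwB := (hor w hw1).resolve_left hwA
  -- `w z` has both kinds of parts
  have hwz : Commute w (z : G) := mem_centralizer_singleton_iff.1 (hRC hwR)
  have hco : (orderOf w).Coprime (orderOf (z : G)) := by
    obtain ⟨a, ha⟩ := IsPGroup.iff_orderOf.1 hRp ⟨w, hwR⟩
    obtain ⟨b, hb⟩ := IsPGroup.iff_orderOf.1 Q.2 z
    rw [← orderOf_coe] at ha hb
    rw [ha, hb]
    exact Nat.Coprime.pow _ _ ((Nat.coprime_primes hp hq).2 fun e => hqA (e ▸ hpA))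
  have hle1 : ∀ a b : G, Commute a b → (orderOf a).Coprime (orderOf b) →
      centralizer ({a * b} : Set G) ≤ centralizer ({a} : Set G) := by
    intro a b hab hco x hx
    have h1 : Commute x (a * b) := mem_centralizer_singleton_iff.1 hx
    obtain ⟨m, hm⟩ := exists_pow_eq_self_of_coprime (x := a) (n := orderOf b) hco.symm
    have h2 := (h1.pow_right (orderOf b)).pow_right m
    rw [hab.mul_pow, pow_orderOf_eq_one, mul_one, hm] at h2
    exact mem_centralizer_singleton_iff.2 h2
  refine hboth (w * z) (fun r hr hrp => (hzA r hr hrp).trans (index_dvd_of_le ?_))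
    (fun r hr hrp => (hwB r hr hrp).trans (index_dvd_of_le (hle1 w z hwz hco)))
  rw [hwz.eq]
  exact hle1 (z : G) w hwz.symm hco.symm

/-- Chen's lemma. -/
theorem card_eq (hZG : center G = ⊥) (hZM : center M = ⊥)
    (h : Set.range (fun g : G => cs g) = Set.range (fun g : M => cs g))
    (A : Set ℕ) (a b : ℕ) (haA : a ∈ A) (hbA : b ∉ A) (ha : a.Prime) (hb : b.Prime)
    (haM : a ∣ Nat.card M) (hbM : b ∣ Nat.card M)
    (hdisc : ∀ a ∈ A, ∀ b ∉ A, a.Prime → b.Prime → a ∣ Nat.card M → b ∣ Nat.card M →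
      ¬ ∃ x : M, orderOf x = a * b) :
    Nat.card G = Nat.card M := by
  haveI : Nontrivial M := Finite.one_lt_card_iff_nontrivial.1
    (lt_of_lt_of_le ha.one_lt (Nat.le_of_dvd Nat.card_pos haM))
  have htr : ∀ g : G, ∃ m : M, cs g = cs m := fun g => by
    obtain ⟨m, hm⟩ : cs g ∈ Set.range (fun g : M => cs g) := h ▸ ⟨g, rfl⟩
    exact ⟨m, hm.symm⟩
  have htr' : ∀ m : M, ∃ g : G, cs m = cs g := fun m => by
    obtain ⟨g, hg⟩ : cs m ∈ Set.range (fun g : G => cs g) := h.symm ▸ ⟨m, rfl⟩
    exact ⟨g, hg.symm⟩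
  have hne : ∀ g : G, g ≠ 1 → cs g ≠ 1 := by
    intro g hg e
    apply hg
    have : g ∈ center G := mem_center_iff.2 fun x => mem_centralizer_singleton_iff.1
      (index_eq_one.1 e ▸ mem_top x)
    rwa [hZG, mem_bot] at this
  have hor : ∀ g : G, g ≠ 1 → Full A (Nat.card M) (cs g) ∨ Full Aᶜ (Nat.card M) (cs g) := by
    intro g hg
    obtain ⟨m, hm⟩ := htr g
    rw [hm]
    refine full_or A hdisc fun e => hne g hg ?_
    subst e
    rw [hm]
    exact index_eq_one.2 (eq_top_iff.2 fun x _ => mem_centralizer_singleton_iff.2 (by simp))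
  have hboth : ∀ g : G, Full A (Nat.card M) (cs g) → Full Aᶜ (Nat.card M) (cs g) → False := by
    intro g h1 h2
    obtain ⟨m, hm⟩ := htr g
    rw [hm] at h1 h2
    exact not_both A h1 h2
  have hdvd : ∀ g : G, cs g ∣ Nat.card M := fun g => by
    obtain ⟨m, hm⟩ := htr g
    rw [hm]; exact index_dvd_card _
  -- `|M|` divides `|G|`
  have hMG : Nat.card M ∣ Nat.card G := by
    refine dvd_of_forall_prime_pow Nat.card_pos.ne' Nat.card_pos.ne' fun r hr => ?_
    by_cases hrM : r ∣ Nat.card M
    swap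
    · rw [Nat.factorization_eq_zero_of_not_dvd hrM, pow_zero]; exact one_dvd _
    obtain ⟨e, he, heM, hre⟩ : ∃ e, e.Prime ∧ e ∣ Nat.card M ∧ ¬ (r ∈ A ↔ e ∈ A) := by
      by_cases hrA : r ∈ A
      · exact ⟨b, hb, hbM, fun e => hbA (e.1 hrA)⟩
      · exact ⟨a, ha, haM, fun e => hrA (e.2 haA)⟩
    haveI : Fact e.Prime := ⟨he⟩
    obtain ⟨m, hm⟩ := exists_prime_orderOf_dvd_card' (G := M) e heM
    obtain ⟨g, hg⟩ := htr' m
    have hco : (r ^ (Nat.card M).factorization r).Coprime (Nat.card (centralizer ({m} : Set M))) := by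
      refine Nat.Coprime.pow_left _ ((Nat.Prime.coprime_iff_not_dvd hr).2 fun hd => ?_)
      haveI : Fact r.Prime := ⟨hr⟩
      obtain ⟨⟨y, hyC⟩, hy⟩ := exists_prime_orderOf_dvd_card' (G := centralizer ({m} : Set M)) r hd
      rw [Subgroup.orderOf_mk] at hy
      have hc : Commute y m := mem_centralizer_singleton_iff.1 hyC
      have hre' : r ≠ e := fun e' => hre (e' ▸ Iff.rfl)
      have hord : orderOf (y * m) = r * e := by
        rw [hc.orderOf_mul_eq_mul_orderOf_of_coprime (by rw [hy, hm]; exact (Nat.coprime_primes hr he).2 hre'),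
          hy, hm]
      by_cases hrA : r ∈ A
      · exact hdisc r hrA e (fun e' => hre (iff_of_true hrA e')) hr he hrM heM ⟨_, hord⟩
      · exact hdisc e (by by_contra e'; exact hre (iff_of_false hrA e')) r hrA he hr heM hrM
          ⟨y * m, by rw [hord, mul_comm]⟩
    have h1 : r ^ (Nat.card M).factorization r ∣ cs m := by
      refine hco.dvd_of_dvd_mul_left ?_
      show _ ∣ Nat.card (centralizer ({m} : Set M)) * (centralizer ({m} : Set M)).index
      rw [card_mul_index]
      exact Nat.ordProj_dvd _ _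
    rw [hg] at h1
    exact h1.trans (index_dvd_card _)
  refine Nat.dvd_antisymm (dvd_of_forall_prime_pow Nat.card_pos.ne' Nat.card_pos.ne' fun r hr => ?_) hMG
  by_cases hrG : r ∣ Nat.card G
  swap
  · rw [Nat.factorization_eq_zero_of_not_dvd hrG, pow_zero]; exact one_dvd _
  haveI : Fact r.Prime := ⟨hr⟩
  -- `r` divides `|M|`
  have hrM : r ∣ Nat.card M := by
    by_contra hrM
    obtain ⟨g, hg⟩ := exists_prime_orderOf_dvd_card' (G := G) r hrG
    obtain ⟨R⟩ : Nonempty (Sylow r G) := inferInstance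
    have hg' : ∀ x : G, ¬ r ∣ cs x := fun x hx => hrM (hx.trans (hdvd x))
    -- every centralizer contains a Sylow subgroup
    have hall : ∀ x : G, ∃ k : G, ∀ y ∈ (R : Subgroup G), k * y * k⁻¹ ∈ centralizer ({x} : Set G) := by
      intro x
      obtain ⟨R'⟩ : Nonempty (Sylow r (centralizer ({x} : Set G))) := inferInstance
      obtain ⟨T, hT⟩ := (R'.2.map (centralizer ({x} : Set G)).subtype).exists_le_sylow
      obtain ⟨k, hk⟩ := MulAction.exists_smul_eq G R T
      have hcard : Nat.card ((R' : Subgroup _).map (centralizer ({x} : Set G)).subtype) = Nat.card T := by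
        rw [card_map_of_injective (subtype_injective _)]
        rw [R'.card_eq_multiplicity, T.card_eq_multiplicity]
        congr 1
        rw [← (centralizer ({x} : Set G)).card_mul_index,
          Nat.factorization_mul Nat.card_pos.ne' index_ne_zero_of_finite]
        have := Nat.factorization_eq_zero_of_not_dvd (hg' x)
        simp only [cs] at this
        simp [this]
      refine ⟨k, fun y hy => ?_⟩
      have hyT : k * y * k⁻¹ ∈ (T : Subgroup G) := by
        rw [← hk, Sylow.smul_def, Sylow.pointwise_smul_def]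
        exact ⟨y, hy, rfl⟩
      rw [← eq_of_le_of_card_ge hT (ge_of_eq hcard)] at hyT
      exact map_subtype_le _ hyT
    haveI : Nontrivial (R : Subgroup G) := by
      rw [← Finite.one_lt_card_iff_nontrivial]
      exact lt_of_lt_of_le hr.one_lt (Nat.le_of_dvd Nat.card_pos (R.dvd_card_of_dvd_card hrG))
    obtain ⟨⟨y, hy⟩, hy1⟩ := exists_ne (1 : (R : Subgroup G))
    have htop : centralizer ({y} : Set G) = ⊤ :=
      Cover.eq_top_of_forall_conj _ fun x => by
        obtain ⟨k, hk⟩ := hall x
        refine ⟨k, mem_centralizer_singleton_iff.2 ?_⟩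
        have := mem_centralizer_singleton_iff.1 (hk y hy)
        calc k⁻¹ * x * k * y = k⁻¹ * (x * (k * y * k⁻¹)) * k := by group
          _ = k⁻¹ * ((k * y * k⁻¹) * x) * k := by rw [this]
          _ = y * (k⁻¹ * x * k) := by group
    apply hy1
    have : y ∈ center G := mem_center_iff.2 fun x => mem_centralizer_singleton_iff.1 (htop ▸ mem_top x)
    rw [hZG, mem_bot] at this
    exact Subtype.ext this
  refine (pow_dvd_pow r ?_).trans (Nat.ordProj_dvd _ r)
  by_cases hrA : r ∈ A
  · exact factorization_le A hZG hor hboth hMG hdvd hr hrA hrM hb hbA hbM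
  · refine factorization_le Aᶜ hZG (fun g hg => ?_) (fun g h1 h2 => ?_) hMG hdvd hr hrA hrM ha
      (fun e => e haA) haM
    · rw [compl_compl]; exact (hor g hg).symm
    · rw [compl_compl] at h2; exact hboth g h2 h1

end Cfsg.Agent.GStructB.ClassSizeOrder
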