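import Cfsg.Agent.Lib.Cores.Basic
import Cfsg.Agent.Lib.Hall.MinimalNormal
import Cfsg.Agent.Lib.PGroups.UniqueSubgroup
import Cfsg.Agent.Lib.Coprime.Basic
import Mathlib

/-!
Groups in which `p`-subgroups of equal order are conjugate.
-/

set_option autoImplicit false

namespace Cfsg.Agent.GStructB.ConjPSubgroups

open Cfsg
open scoped Pointwise

universe u

variable {G : Type u} [Group G] [Finite G] {p : ℕ} [Fact p.Prime]

/-- Any two `p`-subgroups of the same order are conjugate. -/
def ConjP (p : ℕ) (G : Type u) [Group G] : Prop :=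
  ∀ H K : Subgroup G, IsPGroup p H → IsPGroup p K → Nat.card H = Nat.card K →
    ∃ g : G, K = H.map (MulAut.conj g).toMonoidHom

theorem exists_lift (N : Subgroup G) [N.Normal] (X : Subgroup (G ⧸ N)) (hX : IsPGroup p X) :
    ∃ S : Subgroup G, IsPGroup p S ∧ S.map (QuotientGroup.mk' N) = X ∧
      Nat.card S = p ^ (Nat.card N * Nat.card X).factorization p := by
  set L := X.comap (QuotientGroup.mk' N) with hL
  obtain ⟨Q⟩ : Nonempty (Sylow p L) := inferInstance
  refine ⟨(Q : Subgroup L).map L.subtype, Q.2.map _, ?_, ?_⟩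
  · have hle : ((Q : Subgroup L).map L.subtype).map (QuotientGroup.mk' N) ≤ X :=
      Subgroup.map_le_iff_le_comap.mpr (Subgroup.map_subtype_le _)
    refine Subgroup.eq_of_le_of_card_ge hle ?_
    let f : L →* X := (QuotientGroup.mk' N).subgroupComap X
    have hf : Function.Surjective f := by
      rintro ⟨x, hx⟩
      obtain ⟨g, rfl⟩ := QuotientGroup.mk'_surjective N x
      exact ⟨⟨g, hx⟩, rfl⟩
    have e1 : ((Q : Subgroup L).map L.subtype).map (QuotientGroup.mk' N) =
        ((Q : Subgroup L).map f).map X.subtype := by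
      rw [Subgroup.map_map, Subgroup.map_map]; rfl
    rw [e1, Subgroup.card_map_of_injective X.subtype_injective]
    have htop : ((Sylow.mapSurjective hf Q : Sylow p X) : Subgroup X) = ⊤ :=
      ((Sylow.mapSurjective hf Q).3 (hX.of_equiv Subgroup.topEquiv.symm) le_top).symm
    rw [Sylow.coe_mapSurjective] at htop
    rw [htop, Subgroup.card_top]
  · rw [Subgroup.card_map_of_injective L.subtype_injective, Q.card_eq_multiplicity, hL,
      Cores.card_comap_mk']

theorem quotient (h : ConjP p G) (N : Subgroup G) [N.Normal] : ConjP p (G ⧸ N) := by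
  intro X Y hX hY hXY
  obtain ⟨S, hS, rfl, hSc⟩ := exists_lift N X hX
  obtain ⟨T, hT, rfl, hTc⟩ := exists_lift N Y hY
  obtain ⟨g, rfl⟩ := h S T hS hT (by rw [hSc, hTc, hXY])
  refine ⟨QuotientGroup.mk' N g, ?_⟩
  rw [Subgroup.map_map, Subgroup.map_map]
  congr 1

theorem eq_of_normal (h : ConjP p G) {V W : Subgroup G} [V.Normal] (hV : IsPGroup p V)
    (hW : IsPGroup p W) (hc : Nat.card W = Nat.card V) : W = V := by
  obtain ⟨g, rfl⟩ := h V W hV hW hc.symm
  exact (Coprime.conj_smul_eq_map g V).symm.trans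
    (Coprime.conj_smul_eq_self_iff.mpr (by rw [Subgroup.normalizer_eq_top]; exact Subgroup.mem_top _))

/-- A normal elementary abelian `p`-subgroup is the whole Sylow subgroup or has order `p`. -/
theorem dichotomy (h : ConjP p G) {V : Subgroup G} [V.Normal] (hV : IsPGroup p V)
    (hexp : ∀ a ∈ V, a ^ p = 1) (hV1 : V ≠ ⊥) :
    Nat.card V = p ∨ ∀ P : Sylow p G, (P : Subgroup G) = V := by
  obtain ⟨v, hv⟩ := hV.exists_card_eq
  have hv0 : v ≠ 0 := fun h0 => hV1 (Subgroup.card_eq_one.mp (by rw [hv, h0, pow_zero]))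
  rcases (show v = 1 ∨ 2 ≤ v by omega) with rfl | hv2
  · exact Or.inl (by rw [hv, pow_one])
  refine Or.inr fun P => ?_
  have hVP : V ≤ (P : Subgroup G) := hV.le_sylow_of_normal P
  refine le_antisymm (fun x hx => ?_) hVP
  obtain ⟨j, hj⟩ := IsPGroup.iff_orderOf.mp P.2 ⟨x, hx⟩
  have hxc : Nat.card (Subgroup.zpowers x) = p ^ j := by
    rw [Nat.card_zpowers, ← hj, Subgroup.orderOf_mk]
  rcases le_or_gt j v with hjv | hjv
  · obtain ⟨K, hK, hle⟩ := Sylow.exists_subgroup_card_pow_prime_le p (m := v)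
      (hv ▸ Subgroup.card_subgroup_dvd_card V) (Subgroup.zpowers x) hxc hjv
    rw [← eq_of_normal h hV (IsPGroup.of_card hK) (hK.trans hv.symm)]
    exact hle (Subgroup.mem_zpowers x)
  · exfalso
    have ho : orderOf (x ^ p ^ (j - v)) = p ^ v := by
      have h1 : orderOf x = p ^ j := by rw [← Nat.card_zpowers, hxc]
      rw [orderOf_pow' x (pow_ne_zero _ (Fact.out : p.Prime).ne_zero), h1, Nat.gcd_eq_right
        (pow_dvd_pow p (Nat.sub_le j v)), Nat.pow_div (Nat.sub_le j v) (Fact.out : p.Prime).pos]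
      congr 1; omega
    have hc : Nat.card (Subgroup.zpowers (x ^ p ^ (j - v))) = p ^ v := by rw [Nat.card_zpowers, ho]
    have heq := eq_of_normal h hV (IsPGroup.of_card hc) (hc.trans hv.symm)
    have hmem : x ^ p ^ (j - v) ∈ V := heq ▸ Subgroup.mem_zpowers _
    have hdvd := orderOf_dvd_of_pow_eq_one (hexp _ hmem)
    rw [ho] at hdvd
    have := Nat.le_of_dvd (Fact.out : p.Prime).pos hdvd
    have h2 : p ^ 2 ≤ p ^ v := Nat.pow_le_pow_right (Fact.out : p.Prime).pos hv2
    nlinarith [(Fact.out : p.Prime).two_le, sq p]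

/-- A normal subgroup of order `p` contains every element of order `p`. -/
theorem mem_of_pow_eq_one (h : ConjP p G) {V : Subgroup G} [V.Normal] (hc : Nat.card V = p)
    {x : G} (hx : x ^ p = 1) : x ∈ V := by
  by_cases hx1 : x = 1
  · exact hx1 ▸ V.one_mem
  have hVp : IsPGroup p V := IsPGroup.of_card (n := 1) (by rw [hc, pow_one])
  have hcx : Nat.card (Subgroup.zpowers x) = p := by rw [Nat.card_zpowers, orderOf_eq_prime hx hx1]
  rw [← eq_of_normal h hVp (IsPGroup.of_card (n := 1) (by rw [hcx, pow_one])) (hcx.trans hc.symm)]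
  exact Subgroup.mem_zpowers x

end Cfsg.Agent.GStructB.ConjPSubgroups
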