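import Cfsg.Agent.GStructB.ConjPSubgroups
import Cfsg.Agent.Lib.Hall.Solvable
import Cfsg.Agent.Lib.Coprime.Basic
import Mathlib

/-!
Solvable groups in which subgroups of equal order are conjugate.
-/

set_option autoImplicit false

namespace Cfsg.Agent.GStructB.ConjSameOrder

open Cfsg
open scoped Pointwise

universe u

variable {G : Type u} [Group G] [Finite G]

theorem hall_conj_le [Group.IsSolvable G] (X : Subgroup G) (π : Set ℕ) :
    ∃ Y : Subgroup G, Y ≤ X ∧ Cores.IsPi π Y ∧
      ∀ U : Subgroup G, U ≤ X → Cores.IsPi π U → ∃ x ∈ X, MulAut.conj x • U ≤ Y := by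
  obtain ⟨Y, hY, hdom⟩ := Hall.exists_hall_dominating π X
  refine ⟨Y.map X.subtype, Subgroup.map_subtype_le _, fun p hp hd => hY.1 p hp (by
    rwa [Subgroup.card_map_of_injective X.subtype_injective] at hd), fun U hUX hU => ?_⟩
  obtain ⟨x, hx⟩ := Hall.exists_conj_le_hall hY (U := U.subgroupOf X) (fun p hp hd => hU p hp (by
    rwa [Nat.card_congr (Subgroup.subgroupOfEquivOfLe hUX).toEquiv] at hd))
  refine ⟨(x : G)⁻¹, X.inv_mem x.2, fun y hy => ?_⟩
  rw [Coprime.mem_conj_smul, inv_inv] at hy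
  have hyX : y ∈ X := by
    have := X.mul_mem (X.mul_mem (X.inv_mem x.2) (hUX hy)) x.2
    simpa [mul_assoc] using this
  have h1 := hx (Subgroup.mem_subgroupOf.mpr (show (((⟨(x : G) * y * (x : G)⁻¹, X.mul_mem (X.mul_mem x.2 hyX) (X.inv_mem x.2)⟩ : X)) : G) ∈ U from hy))
  rw [Coprime.mem_conj_smul] at h1
  exact ⟨_, h1, by simp [mul_assoc]⟩

/-- Complements of a normal `q`-subgroup in the same product are conjugate. -/
theorem conj_of_sup_eq [Group.IsSolvable G] {V H K : Subgroup G} [V.Normal] {q : ℕ} [Fact q.Prime]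
    (hV : IsPGroup q V) (hH : ¬ q ∣ Nat.card H) (hHK : H ⊔ V = K ⊔ V) (hc : Nat.card H = Nat.card K) :
    ∃ g : G, MulAut.conj g • H = K := by
  set L := K ⊔ V with hL
  obtain ⟨v, hv⟩ := hV.exists_card_eq
  let π : Set ℕ := {p | p ≠ q}
  have key : ∀ A : Subgroup G, A ⊔ V = L → ¬ q ∣ Nat.card A → IsPiHall π (A.subgroupOf L) := by
    intro A hA hqA
    have hAL : A ≤ L := hA ▸ le_sup_left
    refine ⟨fun p hp hd he => ?_, fun p hp hπ hd => hπ ?_⟩
    · rw [Nat.card_congr (Subgroup.subgroupOfEquivOfLe hAL).toEquiv] at hd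
      exact hqA (he ▸ hd)
    · have h1 : (A.subgroupOf L).index ∣ Nat.card V := by
        rw [← hA]
        refine ⟨Nat.card ↥(A ⊓ V), Nat.eq_of_mul_eq_mul_left (Nat.card_pos (α := A)) ?_⟩
        have h2 := (A.subgroupOf (A ⊔ V)).card_mul_index
        rw [Nat.card_congr (Subgroup.subgroupOfEquivOfLe (le_sup_left : A ≤ A ⊔ V)).toEquiv] at h2
        rw [← mul_assoc, h2, Cores.card_sup_mul_card_inf]
      rw [hv] at h1
      exact (Nat.prime_dvd_prime_iff_eq hp Fact.out).mp (hp.dvd_of_dvd_pow (hd.trans h1))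
  obtain ⟨g, hg⟩ := Hall.exists_conj_eq_of_isPiHall (key H hHK hH) (key K rfl (hc ▸ hH))
  refine ⟨(g : G), ?_⟩
  have hHL : H ≤ L := hHK ▸ le_sup_left
  have h2 := congrArg (fun M : Subgroup L => M.map L.subtype) hg
  simpa only [Coprime.map_conj_smul, Subgroup.map_subgroupOf_eq_of_le hHL,
    Subgroup.map_subgroupOf_eq_of_le (le_sup_left : K ≤ K ⊔ V), Subgroup.map_subgroupOf_eq_of_le (hL ▸ le_sup_left : K ≤ L), Subgroup.coe_subtype] using h2

theorem conjP_of_cyclic {p : ℕ} [Fact p.Prime] (hcyc : ∀ P : Sylow p G, IsCyclic P) :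
    ConjPSubgroups.ConjP p G := by
  intro H K hH hK hc
  obtain ⟨P, hHP⟩ := hH.exists_le_sylow
  obtain ⟨Q, hKQ⟩ := hK.exists_le_sylow
  obtain ⟨g, rfl⟩ := MulAction.exists_smul_eq G P Q
  refine ⟨g, ?_⟩
  have hgH : MulAut.conj g • H ≤ ((g • P : Sylow p G) : Subgroup G) := by
    rw [Sylow.coe_subgroup_smul]
    exact Subgroup.pointwise_smul_le_pointwise_smul_iff.mpr hHP
  haveI := hcyc (g • P)
  refine (?_ : K = MulAut.conj g • H)
  set S := ((g • P : Sylow p G) : Subgroup G)
  have hcard : Nat.card (K.subgroupOf S) = Nat.card ((MulAut.conj g • H).subgroupOf S) := by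
    rw [Nat.card_congr (Subgroup.subgroupOfEquivOfLe hKQ).toEquiv,
      Nat.card_congr (Subgroup.subgroupOfEquivOfLe hgH).toEquiv, Coprime.card_conj_smul, hc]
  have heq : K.subgroupOf S = (MulAut.conj g • H).subgroupOf S := by
    have hmem : ∀ A : Subgroup S, ∀ x : S, x ∈ A ↔ x ^ Nat.card A = 1 := by
      intro A
      classical
      have := Fintype.ofFinite S
      intro x
      refine ⟨fun hx => congrArg Subtype.val (pow_card_eq_one' (x := (⟨x, hx⟩ : A))), fun hx => ?_⟩
      have hle : (Finset.univ.filter fun y => y ∈ A) ⊆ (Finset.univ.filter fun y : S => y ^ Nat.card A = 1) := fun y hy => by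
        simp only [Finset.mem_filter, Finset.mem_univ, true_and] at hy ⊢
        exact congrArg Subtype.val (pow_card_eq_one' (x := (⟨y, hy⟩ : A)))
      have hcardA : (Finset.univ.filter fun y => y ∈ A).card = Nat.card A := by
        rw [Nat.card_eq_fintype_card, Fintype.card_subtype]
      have heq := Finset.eq_of_subset_of_card_le hle
        ((IsCyclic.card_pow_eq_one_le Nat.card_pos).trans hcardA.ge)
      have : x ∈ Finset.univ.filter fun y : S => y ^ Nat.card A = 1 := Finset.mem_filter.mpr ⟨Finset.mem_univ _, hx⟩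
      rw [← heq] at this
      exact (Finset.mem_filter.mp this).2
    ext x
    rw [hmem, hmem, hcard]
  have h2 := congrArg (fun M : Subgroup S => M.map S.subtype) heq
  simpa only [Subgroup.map_subgroupOf_eq_of_le hKQ, Subgroup.map_subgroupOf_eq_of_le hgH] using h2

theorem main : ∀ (n : ℕ) (G : Type u) [Group G] [Finite G] [Group.IsSolvable G], Nat.card G = n →
    (∀ p : ℕ, p.Prime → ConjPSubgroups.ConjP p G) → ∀ r : ℕ,
    (∀ p : ℕ, p.Prime → p ≠ r → ∀ P : Sylow p G, IsCyclic P) →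
    ∀ H K : Subgroup G, Nat.card H = Nat.card K → ∃ g : G, MulAut.conj g • H = K := by
  intro n
  induction n using Nat.strong_induction_on with
  | _ n ih =>
  intro G _ _ _ hn hD r hcyc H K hHK
  rcases subsingleton_or_nontrivial G with hs | hs
  · exact ⟨1, Subgroup.ext fun x => by rw [Subsingleton.elim x 1]; exact ⟨fun _ => K.one_mem, fun _ => one_mem _⟩⟩
  obtain ⟨V, hVn, -, hVb, hVmin⟩ := Hall.exists_minimal_normal (⊤ : Subgroup G) top_ne_bot
  haveI := hVn
  obtain ⟨q, hq, hqV, hVp, hel⟩ := Hall.minimal_normal_isElementaryAbelian hVb hVmin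
  haveI := Fact.mk hq
  set f := QuotientGroup.mk' V with hf
  have hQlt : Nat.card (G ⧸ V) < n := by
    rw [← hn, Subgroup.card_eq_card_quotient_mul_card_subgroup V]
    exact lt_mul_of_one_lt_right Nat.card_pos ((Subgroup.one_lt_card_iff_ne_bot V).mpr hVb)
  have hQ : ∀ A B : Subgroup G, Nat.card (A.map f) = Nat.card (B.map f) →
      ∃ g : G, MulAut.conj g • A ⊔ V = B ⊔ V := by
    intro A B hAB
    obtain ⟨g', hg'⟩ := ih _ hQlt (G ⧸ V) rfl
      (fun p hp => by haveI := Fact.mk hp; exact ConjPSubgroups.quotient (hD p hp) V) r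
      (fun p hp hpr P => by
        haveI := Fact.mk hp
        obtain ⟨Q, rfl⟩ := Sylow.mapSurjective_surjective (QuotientGroup.mk'_surjective V) p P
        haveI := hcyc p hp hpr Q
        exact isCyclic_of_surjective (f.subgroupMap (Q : Subgroup G)) (f.subgroupMap_surjective _))
      (A.map f) (B.map f) hAB
    obtain ⟨g, rfl⟩ := QuotientGroup.mk'_surjective V g'
    refine ⟨g, ?_⟩
    rw [← Coprime.map_conj_smul] at hg'
    have h2 := congrArg (Subgroup.comap f) hg'
    rwa [Subgroup.comap_map_eq, Subgroup.comap_map_eq, QuotientGroup.ker_mk'] at h2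
  have hcontain : V ≤ H → V ≤ K → ∃ g : G, MulAut.conj g • H = K := by
    intro hVH hVK
    have e : ∀ A : Subgroup G, V ≤ A → Nat.card A = Nat.card V * Nat.card (A.map f) := by
      intro A hA
      rw [← Cores.card_comap_mk', Subgroup.comap_map_eq, QuotientGroup.ker_mk', sup_eq_left.mpr hA]
    obtain ⟨g, hg⟩ := hQ H K (Nat.eq_of_mul_eq_mul_left (Nat.card_pos (α := V))
      ((e H hVH).symm.trans (hHK.trans (e K hVK))))
    refine ⟨g, ?_⟩
    have hVg : V ≤ MulAut.conj g • H := by
      calc V = MulAut.conj g • V := (Coprime.conj_smul_eq_self_iff.mpr (by rw [Subgroup.normalizer_eq_top]; trivial)).symm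
        _ ≤ _ := Subgroup.pointwise_smul_le_pointwise_smul_iff.mpr hVH
    rwa [sup_eq_left.mpr hVg, sup_eq_left.mpr hVK] at hg
  have hcoprime : ¬ q ∣ Nat.card H → ∃ g : G, MulAut.conj g • H = K := by
    intro hqH
    have e : ∀ A : Subgroup G, ¬ q ∣ Nat.card A → Nat.card (A.map f) = Nat.card A := by
      intro A hA
      have hd : Disjoint A V := by
        rw [disjoint_iff]
        obtain ⟨v, hv⟩ := hVp.exists_card_eq
        exact Subgroup.inf_eq_bot_of_coprime (by rw [hv]; exact ((hq.coprime_iff_not_dvd.mpr hA).symm).pow_right v)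
      refine (Nat.card_congr (Equiv.ofBijective (f.subgroupMap A) ⟨?_, f.subgroupMap_surjective A⟩)).symm
      intro a b hab
      have h1 : (a : G)⁻¹ * b ∈ A ⊓ V := ⟨A.mul_mem (A.inv_mem a.2) b.2, QuotientGroup.eq.mp (congrArg Subtype.val hab)⟩
      rw [hd.eq_bot, Subgroup.mem_bot, inv_mul_eq_one] at h1
      exact Subtype.ext h1
    obtain ⟨g, hg⟩ := hQ H K (by rw [e H hqH, e K (hHK ▸ hqH), hHK])
    obtain ⟨l, hl⟩ := conj_of_sup_eq hVp (H := MulAut.conj g • H) (by rwa [Coprime.card_conj_smul]) hg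
      (by rw [Coprime.card_conj_smul, hHK])
    exact ⟨l * g, by rw [Coprime.conj_smul_mul, hl]⟩
  rcases ConjPSubgroups.dichotomy (hD q hq) hVp hel.2 hVb with hVq | hall
  · by_cases hqH : q ∣ Nat.card H
    · have hsub : ∀ A : Subgroup G, q ∣ Nat.card A → V ≤ A := by
        intro A hA
        obtain ⟨a, ha⟩ := exists_prime_orderOf_dvd_card' q hA
        have hpow : (a : G) ^ q = 1 := by
          rw [← ha, ← Subgroup.orderOf_coe, pow_orderOf_eq_one]
        have hle : Subgroup.zpowers (a : G) ≤ V :=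
          Subgroup.zpowers_le.mpr (ConjPSubgroups.mem_of_pow_eq_one (hD q hq) hVq hpow)
        rw [← Subgroup.eq_of_le_of_card_ge hle (by rw [Nat.card_zpowers, Subgroup.orderOf_coe, ha, hVq])]
        exact Subgroup.zpowers_le.mpr a.2
      exact hcontain (hsub H hqH) (hsub K (hHK ▸ hqH))
    · exact hcoprime hqH
  obtain ⟨P₀⟩ : Nonempty (Sylow q G) := inferInstance
  by_cases hqr : q ≠ r
  · haveI := hcyc q hq hqr P₀
    have hVc : IsCyclic V := hall P₀ ▸ (inferInstance : IsCyclic (P₀ : Subgroup G))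
    obtain ⟨v, hv⟩ := hVc.exists_generator
    have hVq : Nat.card V = q := by
      have h1 : orderOf v = Nat.card V := orderOf_eq_card_of_forall_mem_zpowers hv
      rw [← h1]
      refine orderOf_eq_prime (Subtype.ext (hel.2 v v.2)) fun h => hVb (Subgroup.card_eq_one.mp ?_)
      rw [← h1, h, orderOf_one]
    have hsub : ∀ A : Subgroup G, q ∣ Nat.card A → V ≤ A := by
      intro A hA
      obtain ⟨a, ha⟩ := exists_prime_orderOf_dvd_card' q hA
      have hpow : (a : G) ^ q = 1 := by
        rw [← ha, ← Subgroup.orderOf_coe, pow_orderOf_eq_one]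
      have hle : Subgroup.zpowers (a : G) ≤ V :=
        Subgroup.zpowers_le.mpr (ConjPSubgroups.mem_of_pow_eq_one (hD q hq) hVq hpow)
      rw [← Subgroup.eq_of_le_of_card_ge hle (by rw [Nat.card_zpowers, Subgroup.orderOf_coe, ha, hVq])]
      exact Subgroup.zpowers_le.mpr a.2
    by_cases hqH : q ∣ Nat.card H
    · exact hcontain (hsub H hqH) (hsub K (hHK ▸ hqH))
    · exact hcoprime hqH
  push Not at hqr
  have hpart : ∀ A : Subgroup G, Nat.card ↥(A ⊓ V) = q ^ (Nat.card A).factorization q := by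
    intro A
    obtain ⟨S⟩ : Nonempty (Sylow q A) := inferInstance
    rw [← S.card_eq_multiplicity, ← Subgroup.card_map_of_injective (K := (S : Subgroup A)) A.subtype_injective]
    refine congrArg (fun X : Subgroup G => Nat.card X) (le_antisymm ?_ ?_)
    · have hp' : IsPGroup q ((A ⊓ V).subgroupOf A) :=
        (hVp.to_le inf_le_right).comap_of_injective A.subtype A.subtype_injective
      haveI : ((A ⊓ V).subgroupOf A).Normal := by
        rw [Subgroup.inf_subgroupOf_left]; exact Subgroup.Normal.subgroupOf hVn A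
      intro x hx
      exact ⟨⟨x, hx.1⟩, hp'.le_sylow_of_normal S (Subgroup.mem_subgroupOf.mpr hx), rfl⟩
    · obtain ⟨P, hP⟩ := (S.2.map A.subtype).exists_le_sylow
      exact le_inf (Subgroup.map_subtype_le _) (hP.trans (hall P).le)
  obtain ⟨g, hg⟩ := hD q hq (H ⊓ V) (K ⊓ V) (hVp.to_le inf_le_right) (hVp.to_le inf_le_right)
    (by rw [hpart, hpart, hHK])
  rw [← Coprime.conj_smul_eq_map, Subgroup.smul_inf,
    Coprime.conj_smul_eq_self_iff.mpr (show g ∈ Subgroup.normalizer (V : Set G) by rw [Subgroup.normalizer_eq_top]; trivial)] at hg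
  set H' := MulAut.conj g • H with hH'
  suffices hfin : ∃ x : G, MulAut.conj x • H' = K by
    obtain ⟨x, hx⟩ := hfin
    exact ⟨x * g, by rw [Coprime.conj_smul_mul, hx]⟩
  set R₀ := K ⊓ V with hR₀
  set X := Subgroup.normalizer (R₀ : Set G) with hX
  have hnorm : ∀ A : Subgroup G, A ⊓ V = R₀ → A ≤ X := by
    intro A hA a ha
    rw [hX, ← Coprime.conj_smul_eq_self_iff, ← hA, Subgroup.smul_inf,
      Coprime.conj_smul_eq_self_iff.mpr (Subgroup.le_normalizer ha),
      Coprime.conj_smul_eq_self_iff.mpr (show a ∈ Subgroup.normalizer (V : Set G) by rw [Subgroup.normalizer_eq_top]; trivial)]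
  let π : Set ℕ := {p | p ≠ q}
  obtain ⟨Y, hYX, hYπ, hdom⟩ := hall_conj_le X π
  have hqY : ¬ q ∣ Nat.card Y := fun h => hYπ q hq h rfl
  have hYlt : Nat.card Y < n := by
    rw [← hn]
    refine lt_of_le_of_ne (Nat.le_of_dvd Nat.card_pos (Subgroup.card_subgroup_dvd_card Y)) fun h => hqY ?_
    rw [h]; exact hqV.trans (Subgroup.card_subgroup_dvd_card V)
  have hYcyc : ∀ p : ℕ, p.Prime → ∀ P : Sylow p Y, IsCyclic P := by
    intro p hp P
    haveI := Fact.mk hp
    by_cases hpq : p = q
    · subst hpq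
      obtain ⟨k, hk⟩ := P.2.exists_card_eq
      rcases Nat.eq_zero_or_pos k with hk0 | hk0
      · subst hk0
        haveI : Subsingleton P := (Nat.card_eq_one_iff_unique.mp (by rw [hk, pow_zero])).1
        infer_instance
      · exact absurd ((dvd_pow_self p hk0.ne').trans (hk ▸ Subgroup.card_subgroup_dvd_card (P : Subgroup Y))) hqY
    · obtain ⟨Q, hQ⟩ := (P.2.map Y.subtype).exists_le_sylow
      haveI := hcyc p hp (fun h => hpq (h.trans hqr.symm)) Q
      exact isCyclic_of_injective ((Subgroup.inclusion hQ).comp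
        ((P : Subgroup Y).equivMapOfInjective Y.subtype Y.subtype_injective).toMonoidHom)
        ((Subgroup.inclusion_injective hQ).comp (MulEquiv.injective _))
  have hsplit : ∀ A : Subgroup G, A ⊓ V = R₀ → ∃ A₁ : Subgroup G, Cores.IsPi π A₁ ∧ A₁ ≤ A ∧ R₀ ⊔ A₁ = A ∧
      Nat.card R₀ * Nat.card A₁ = Nat.card A := by
    intro A hA
    obtain ⟨M, hM⟩ := Hall.exists_hall π A
    refine ⟨M.map A.subtype, fun p hp hd => hM.1 p hp (by
      rwa [Subgroup.card_map_of_injective A.subtype_injective] at hd), Subgroup.map_subtype_le _, ?_, ?_⟩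
    all_goals
      have hcard : Nat.card R₀ * Nat.card (M.map A.subtype) = Nat.card A := by
        rw [Subgroup.card_map_of_injective A.subtype_injective, ← hA, hpart]
        refine Nat.eq_of_factorization_eq (mul_ne_zero (pow_ne_zero _ hq.ne_zero) Nat.card_pos.ne') Nat.card_pos.ne' fun p => ?_
        rw [Nat.factorization_mul (pow_ne_zero _ hq.ne_zero) Nat.card_pos.ne', Finsupp.add_apply,
          hq.factorization_pow]
        by_cases hp : p.Prime
        · by_cases hpq : p = q
          · subst hpq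
            rw [Finsupp.single_eq_same, Nat.factorization_eq_zero_of_not_dvd (fun h => hM.1 p hp h rfl), add_zero]
          · rw [Finsupp.single_eq_of_ne hpq, zero_add, ← M.card_mul_index,
              Nat.factorization_mul Nat.card_pos.ne' Subgroup.index_ne_zero_of_finite, Finsupp.add_apply,
              Nat.factorization_eq_zero_of_not_dvd (hM.2 p hp hpq), add_zero]
        · simp [Nat.factorization_eq_zero_of_not_prime _ hp,
            Finsupp.single_eq_of_ne (show p ≠ q from fun h => hp (h ▸ hq))]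
    · have hle : R₀ ⊔ M.map A.subtype ≤ A := sup_le (hA ▸ inf_le_left) (Subgroup.map_subtype_le _)
      refine Subgroup.eq_of_le_of_card_ge hle (Nat.le_of_dvd Nat.card_pos ?_)
      rw [← hcard]
      refine Nat.Coprime.mul_dvd_of_dvd_of_dvd ?_ (Subgroup.card_dvd_of_le le_sup_left) (Subgroup.card_dvd_of_le le_sup_right)
      obtain ⟨k, hk⟩ := (hVp.to_le (inf_le_right : R₀ ≤ V)).exists_card_eq
      rw [hk, Subgroup.card_map_of_injective A.subtype_injective]
      exact (hq.coprime_iff_not_dvd.mpr fun h => hM.1 q hq h rfl).pow_left k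
    · exact hcard
  obtain ⟨H₁, hH₁, hH₁le, hH₁s, hH₁c⟩ := hsplit H' hg.symm
  obtain ⟨K₁, hK₁, hK₁le, hK₁s, hK₁c⟩ := hsplit K rfl
  obtain ⟨a, ha, haH⟩ := hdom H₁ (hH₁le.trans (hnorm H' hg.symm)) hH₁
  obtain ⟨b, hb, hbK⟩ := hdom K₁ (hK₁le.trans (hnorm K rfl)) hK₁
  obtain ⟨y, hy⟩ := ih _ hYlt Y rfl
    (fun p hp => by haveI := Fact.mk hp; exact conjP_of_cyclic (hYcyc p hp)) r
    (fun p hp _ => hYcyc p hp) ((MulAut.conj a • H₁).subgroupOf Y) ((MulAut.conj b • K₁).subgroupOf Y)
    (by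
      rw [Nat.card_congr (Subgroup.subgroupOfEquivOfLe haH).toEquiv,
        Nat.card_congr (Subgroup.subgroupOfEquivOfLe hbK).toEquiv, Coprime.card_conj_smul, Coprime.card_conj_smul]
      refine Nat.eq_of_mul_eq_mul_left (Nat.card_pos (α := R₀)) (hH₁c.trans ?_)
      rw [hH', Coprime.card_conj_smul, hHK, hK₁c])
  have hy' := congrArg (fun M : Subgroup Y => M.map Y.subtype) hy
  simp only [Coprime.map_conj_smul, Subgroup.map_subgroupOf_eq_of_le haH,
    Subgroup.map_subgroupOf_eq_of_le hbK, Subgroup.coe_subtype] at hy'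
  refine ⟨b⁻¹ * ((y : G) * a), ?_⟩
  have hx : b⁻¹ * ((y : G) * a) ∈ X := X.mul_mem (X.inv_mem hb) (X.mul_mem (hYX y.2) ha)
  rw [← hH₁s, Subgroup.smul_sup, Coprime.conj_smul_eq_self_iff.mpr hx, Coprime.conj_smul_mul, Coprime.conj_smul_mul,
    hy', Coprime.conj_inv_smul_smul, hK₁s]

end Cfsg.Agent.GStructB.ConjSameOrder
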