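import Cfsg.Agent.Lib.Coprime.Sylow
import Cfsg.Agent.Lib.Coprime.Action
import Mathlib

/-!
A bound on the product of the fixed-point orders in coprime action of a `p`-group.
-/

set_option autoImplicit false

namespace Cfsg.Agent.GStructB.CoprimeFixedProduct

open scoped Pointwise
open Coprime

universe u v

/-- Fixed points of `x ζ ^ i` for distinct `i` are independent. -/
theorem prod_eq_one {W : Type*} [CommGroup W] {p : ℕ} (x ζ : W ≃* W)
    (hcomm : Commute x ζ) (hfix : ∀ i j : Fin p, ∀ v : W, i ≠ j →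
      (ζ ^ (i : ℕ)).symm v = (ζ ^ (j : ℕ)).symm v → v = 1) :
    ∀ (s : Finset (Fin p)) (v : Fin p → W), (∀ i ∈ s, x ((ζ ^ (i : ℕ)) (v i)) = v i) →
      ∏ i ∈ s, v i = 1 → ∀ i ∈ s, v i = 1 := by
  classical
  intro s
  induction s using Finset.induction_on with
  | empty => exact fun v _ _ i hi => absurd hi (Finset.notMem_empty i)
  | @insert j s hjs ih =>
    intro v hv hprod
    have hval : ∀ i ∈ insert j s, x (v i) = (ζ ^ (i : ℕ)).symm (v i) := by
      intro i hi
      rw [MulEquiv.eq_symm_apply]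
      have h1 : (ζ ^ (i : ℕ)) * x = x * ζ ^ (i : ℕ) := ((hcomm.symm).pow_left (i : ℕ)).eq
      exact (DFunLike.congr_fun h1 (v i)).trans (hv i hi)
    let δ : W → W := fun w => x w / (ζ ^ (j : ℕ)).symm w
    have hδmul : ∀ a b, δ (a * b) = δ a * δ b := fun a b => by
      simp only [δ, map_mul]; rw [mul_div_mul_comm]
    let δh : W →* W := MonoidHom.mk' δ hδmul
    have h1 : ∀ i ∈ s, δ (v i) = 1 := by
      refine ih (fun i => δ (v i)) (fun i hi => ?_) ?_
      · simp only [δ, map_div]
        have hi' := hv i (Finset.mem_insert_of_mem hi)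
        have e1 : ∀ (y : W ≃* W), Commute (x * ζ ^ (i : ℕ)) y → x ((ζ ^ (i : ℕ)) (y (v i))) = y (v i) :=
          fun y hy => (DFunLike.congr_fun hy.eq (v i)).trans (congrArg y hi')
        rw [e1 x ((Commute.refl x).mul_left (hcomm.symm.pow_left _)),
          e1 (ζ ^ (j : ℕ)).symm ((((hcomm.pow_right (j : ℕ)).mul_left ((Commute.refl ζ).pow_pow _ _)).inv_right))]
      · show ∏ i ∈ s, δh (v i) = 1
        rw [← map_prod]
        rw [Finset.prod_insert hjs] at hprod
        have : δh (v j) = 1 := by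
          show x (v j) / (ζ ^ (j : ℕ)).symm (v j) = 1
          rw [hval j (Finset.mem_insert_self j s), div_self']
        have h2 := congrArg δh hprod
        rw [map_mul, this, one_mul, map_one] at h2
        exact h2
    have h2 : ∀ i ∈ s, v i = 1 := fun i hi => by
      refine hfix i j (v i) (fun e => hjs (e ▸ hi)) ?_
      rw [← hval i (Finset.mem_insert_of_mem hi)]
      exact div_eq_one.mp (h1 i hi)
    intro i hi
    rcases Finset.mem_insert.mp hi with rfl | hi
    · rw [Finset.prod_insert hjs, Finset.prod_eq_one h2, mul_one] at hprod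
      exact hprod
    · exact h2 i hi

variable {p : ℕ} [Fact p.Prime]

/-- The inequality for an action `φ` on `V`. -/
def Bound (p : ℕ) {A : Type u} [Group A] {Q : Type v} [Group Q] [Fintype Q] (φ : Q →* A) (V : Subgroup A) : Prop :=
  ∏ x : Q, Nat.card ↥(V ⊓ Subgroup.centralizer ({φ x} : Set A)) ^ p ≤
    Nat.card V ^ Fintype.card Q *
      Nat.card ↥(V ⊓ Subgroup.centralizer (φ.range : Set A)) ^ ((p - 1) * Fintype.card Q)

theorem centralizer_zpowers {A : Type*} [Group A] (a : A) :
    Subgroup.centralizer ((Subgroup.zpowers a : Subgroup A) : Set A) = Subgroup.centralizer ({a} : Set A) := by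
  rw [Subgroup.zpowers_eq_closure, Subgroup.centralizer_closure]

/-- Splitting along a kernel. -/
theorem card_split {A A' : Type*} [Group A] [Finite A] [Group A'] (f : A →* A') {B R : Subgroup A}
    (hBR : B ≤ Subgroup.normalizer (R : Set A)) (hB : IsPGroup p B) (hR : (Nat.card R).Coprime p)
    (hker : f.ker ≤ R) :
    Nat.card ↥(R ⊓ Subgroup.centralizer (B : Set A)) =
      Nat.card ↥(f.ker ⊓ Subgroup.centralizer (B : Set A)) *
        Nat.card ↥(R.map f ⊓ Subgroup.centralizer ((B.map f : Subgroup A') : Set A')) := by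
  obtain ⟨n, hn⟩ := hB.exists_card_eq
  have := hB.isNilpotent
  rw [← map_inf_centralizer f hBR (by rw [hn]; exact (hR.pow_right n).symm) (Or.inl inferInstance)]
  set X := R ⊓ Subgroup.centralizer (B : Set A) with hX
  have hinf : f.ker ⊓ Subgroup.centralizer (B : Set A) = f.ker ⊓ X := by
    rw [hX, ← inf_assoc, inf_eq_left.mpr hker]
  rw [hinf, ← Nat.card_congr (Subgroup.subgroupOfEquivOfLe (inf_le_right : f.ker ⊓ X ≤ X)).toEquiv,
    Subgroup.inf_subgroupOf_right, show X.map f = (f.comp X.subtype).range by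
      rw [MonoidHom.range_comp, Subgroup.range_subtype],
    show f.ker.subgroupOf X = (f.comp X.subtype).ker from rfl, ← Subgroup.index_ker]
  exact (f.comp X.subtype).ker.card_mul_index.symm

theorem bound_of_injective {A A' : Type u} [Group A] [Group A'] [Finite A'] {Q : Type v} [Group Q] [Fintype Q]
    (f : A →* A') (hf : Function.Injective f) (φ : Q →* A) (V : Subgroup A) (h : Bound p φ V) :
    Bound p (f.comp φ) (V.map f) := by
  have key : ∀ S : Set A, Nat.card ↥(V.map f ⊓ Subgroup.centralizer (f '' S)) =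
      Nat.card ↥(V ⊓ Subgroup.centralizer S) := by
    intro S
    rw [← Subgroup.card_map_of_injective (K := V ⊓ Subgroup.centralizer S) hf]
    refine congrArg (fun K : Subgroup A' => Nat.card K) ?_
    ext y
    constructor
    · rintro ⟨⟨v, hv, rfl⟩, hc⟩
      exact ⟨v, ⟨hv, fun s hs => hf (by
        rw [map_mul, map_mul]; exact hc (f s) ⟨s, hs, rfl⟩)⟩, rfl⟩
    · rintro ⟨v, ⟨hv, hc⟩, rfl⟩
      refine ⟨⟨v, hv, rfl⟩, ?_⟩
      rintro _ ⟨s, hs, rfl⟩
      rw [← map_mul, ← map_mul, hc s hs]
  have e1 : ((f.comp φ).range : Set A') = f '' (φ.range : Set A) := by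
    rw [MonoidHom.range_comp, Subgroup.coe_map]
  unfold Bound at h ⊢
  rw [e1, key, Subgroup.card_map_of_injective hf]
  refine le_of_eq_of_le (Finset.prod_congr rfl fun x _ => ?_) h
  rw [← key, Set.image_singleton]
  rfl

/-- The irreducible case. -/
theorem bound_irreducible {A : Type u} [Group A] [Finite A] {Q : Type v} [Group Q] [Fintype Q]
    (hQ : IsPGroup p Q) (φ : Q →* A) (W : Subgroup A) (hab : ∀ a ∈ W, ∀ b ∈ W, a * b = b * a)
    (hn : φ.range ≤ Subgroup.normalizer (W : Set A))
    (hmin : ∀ U : Subgroup A, U ≤ W → φ.range ≤ Subgroup.normalizer (U : Set A) → U = ⊥ ∨ U = W) :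
    Bound p φ W := by
  classical
  letI : CommGroup W :=
    { (inferInstance : Group W) with mul_comm := fun a b => Subtype.ext (hab a.1 a.2 b.1 b.2) }
  let ρ : Q →* MulAut W := W.normalizerMonoidHom.comp (φ.codRestrict _ fun x => hn ⟨x, rfl⟩)
  have hρ : ∀ (x : Q) (w : W), ((ρ x w : W) : A) = φ x * w * (φ x)⁻¹ := fun x w => rfl
  have hfix : ∀ (x : Q) (w : A) (hw : w ∈ W), w ∈ Subgroup.centralizer ({φ x} : Set A) ↔ ρ x ⟨w, hw⟩ = ⟨w, hw⟩ := by
    intro x w hw
    rw [Subgroup.mem_centralizer_singleton_iff, Subtype.ext_iff, hρ, mul_inv_eq_iff_eq_mul]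
    exact eq_comm
  have hCinv : φ.range ≤ Subgroup.normalizer
      ((W ⊓ Subgroup.centralizer (φ.range : Set A) : Subgroup A) : Set A) :=
    le_normalizer_sup_inf_centralizer hn
  unfold Bound
  rcases hmin _ inf_le_left hCinv with hC | hC
  swap
  · have hall : ∀ x : Q, W ⊓ Subgroup.centralizer ({φ x} : Set A) = W := fun x =>
      inf_eq_left.mpr fun w hw => Subgroup.mem_centralizer_singleton_iff.mpr
        ((Subgroup.mem_centralizer_iff.mp (hC.ge hw).2) (φ x) ⟨x, rfl⟩).symm
    simp only [hC, hall, Finset.prod_const, Finset.card_univ, ← pow_mul, ← pow_add]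
    refine le_of_eq (congrArg _ ?_)
    have := (Fact.out : p.Prime).pos
    obtain ⟨r, rfl⟩ : ∃ r, p = r + 1 := ⟨p - 1, by omega⟩
    rw [Nat.add_sub_cancel]; ring
  by_cases hW : W = ⊥
  · subst hW
    simp
  -- the image has a central element of order `p`
  have hne : ρ.range ≠ ⊥ := by
    intro h
    apply hW
    rw [← le_bot_iff, ← hC]
    refine le_inf le_rfl fun w hw => ?_
    rintro _ ⟨x, rfl⟩
    have h1 : ρ x = 1 := by
      have hx : ρ x ∈ ρ.range := ⟨x, rfl⟩
      rwa [h, Subgroup.mem_bot] at hx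
    have := congrArg Subtype.val (DFunLike.congr_fun h1 (⟨w, hw⟩ : W))
    rw [hρ, MulAut.one_apply, mul_inv_eq_iff_eq_mul] at this
    exact this
  have hRp : IsPGroup p ρ.range := hQ.of_surjective ρ.rangeRestrict ρ.rangeRestrict_surjective
  haveI : Nontrivial ρ.range := (Subgroup.nontrivial_iff_ne_bot _).mpr hne
  haveI := hRp.center_nontrivial
  obtain ⟨c, hc⟩ : ∃ c : Subgroup.center ρ.range, orderOf c = p := by
    refine exists_prime_orderOf_dvd_card' p ?_
    obtain ⟨k, hk0, hk⟩ := (hRp.to_subgroup (Subgroup.center ρ.range)).nontrivial_iff_card.mp inferInstance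
    exact hk ▸ dvd_pow_self p hk0.ne'
  obtain ⟨z, hz⟩ := c.1.2
  have hzp : (ρ z) ^ p = 1 := by
    rw [hz]
    have := congrArg (fun d : Subgroup.center ρ.range => ((d : ρ.range) : MulAut W)) (orderOf_dvd_iff_pow_eq_one.mp hc.dvd)
    simpa using this
  have hz1 : ρ z ≠ 1 := by
    intro h
    rw [hz] at h
    have : c = 1 := Subtype.ext (Subtype.ext h)
    rw [this, orderOf_one] at hc
    exact (Fact.out : p.Prime).ne_one hc.symm
  have hzc : ∀ x, Commute (ρ x) (ρ z) := fun x => by
    rw [hz]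
    exact congrArg Subtype.val (Subgroup.mem_center_iff.mp c.2 ⟨ρ x, x, rfl⟩)
  have hCz : ∀ (w : W), ρ z w = w → w = 1 := by
    let U : Subgroup A := W ⊓ Subgroup.centralizer ({φ z} : Set A)
    have hUn : φ.range ≤ Subgroup.normalizer (U : Set A) := by
      rintro _ ⟨x, rfl⟩
      rw [← Coprime.conj_smul_eq_self_iff]
      refine Subgroup.eq_of_le_of_card_ge ?_ (le_of_eq (card_conj_smul _ _).symm)
      rintro _ hy
      obtain ⟨w, hw, rfl⟩ := (Subgroup.mem_smul_pointwise_iff_exists _ _ _).mp hy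
      have hmem : MulAut.conj (φ x) • w ∈ W :=
        (Subgroup.mem_normalizer_iff.mp (hn ⟨x, rfl⟩) w).mp hw.1
      refine ⟨hmem, (hfix z _ hmem).mpr ?_⟩
      have h1 := DFunLike.congr_fun (hzc x).eq (⟨w, hw.1⟩ : W)
      rw [MulAut.mul_apply, MulAut.mul_apply, (hfix z w hw.1).mp hw.2] at h1
      exact h1.symm
    rcases hmin U inf_le_left hUn with hU | hU
    · intro w hw
      have h1 : (w : A) ∈ U := ⟨w.2, (hfix z _ w.2).mpr hw⟩
      rw [hU, Subgroup.mem_bot] at h1
      exact Subtype.ext h1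
    · exfalso
      refine hz1 (MulEquiv.ext fun w => ?_)
      obtain ⟨w, hw⟩ := w
      exact (hfix z w hw).mp (hU.ge hw).2
  have hfixz : ∀ i j : Fin p, ∀ v : W, i ≠ j →
      ((ρ z) ^ (i : ℕ)).symm v = ((ρ z) ^ (j : ℕ)).symm v → v = 1 := by
    intro i j v hij hv
    have key : ∀ a b : ℕ, a < b → b < p → ((ρ z) ^ a).symm v = ((ρ z) ^ b).symm v → v = 1 := by
      intro a b hab hb hv
      apply hCz
      have h1 : ((ρ z) ^ (b - a)) v = v := by
        have h2 := congrArg ((ρ z) ^ b) hv
        rw [MulEquiv.apply_symm_apply] at h2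
        conv_lhs at h2 => rw [show b = (b - a) + a by omega, pow_add, MulAut.mul_apply, MulEquiv.apply_symm_apply]
        exact h2
      have hcop : (b - a).Coprime p := ((Fact.out : p.Prime).coprime_iff_not_dvd.mpr
        fun hd => absurd (Nat.le_of_dvd (by omega) hd) (by omega)).symm
      obtain ⟨t, ht⟩ := Nat.exists_mul_mod_eq_one_of_coprime hcop (Fact.out : p.Prime).one_lt
      have h3 : ∀ t : ℕ, (((ρ z) ^ (b - a)) ^ t) v = v := by
        intro t
        induction t with
        | zero => rfl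
        | succ t ih => rw [pow_succ, MulAut.mul_apply, h1, ih]
      have h4 := h3 t
      rwa [← pow_mul, ← Nat.mod_add_div ((b - a) * t) p, ht.2, pow_add, pow_one, pow_mul, hzp, one_pow,
        mul_one] at h4
    rcases lt_or_gt_of_ne (fun e => hij (Fin.ext e)) with h | h
    · exact key i j h j.2 hv
    · exact key j i h i.2 hv.symm
  let f : Q → ℕ := fun x => Nat.card ↥(W ⊓ Subgroup.centralizer ({φ x} : Set A))
  have hsum : ∀ x : Q, ∏ i : Fin p, f (x * z ^ (i : ℕ)) ≤ Nat.card W := by
    intro x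
    rw [← Nat.card_pi]
    refine Nat.card_le_card_of_injective (fun v => ∏ i, (⟨(v i).1, (v i).2.1⟩ : W)) fun v v' h => ?_
    have h1 := prod_eq_one (ρ x) (ρ z) (hzc x) hfixz Finset.univ
      (fun i => (⟨(v i).1, (v i).2.1⟩ : W) / ⟨(v' i).1, (v' i).2.1⟩) (fun i _ => by
        simp only [map_div]
        have e : ∀ w : W, ρ x ((ρ z ^ (i : ℕ)) w) = ρ (x * z ^ (i : ℕ)) w := fun w => by
          rw [map_mul, map_pow]; rfl
        rw [e, e, (hfix _ _ _).mp (v i).2.2, (hfix _ _ _).mp (v' i).2.2])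
      (by rw [Finset.prod_div_distrib]; exact div_eq_one.mpr h)
    funext i
    exact Subtype.ext (congrArg Subtype.val (div_eq_one.mp (h1 i (Finset.mem_univ i))) :)
  have hCP : Nat.card ↥(W ⊓ Subgroup.centralizer (φ.range : Set A)) = 1 := by
    rw [hC, Subgroup.card_bot]
  rw [hCP, one_pow, mul_one]
  calc ∏ x : Q, f x ^ p = ∏ i : Fin p, ∏ x : Q, f (x * z ^ (i : ℕ)) := by
        rw [Finset.prod_pow, Finset.prod_congr rfl (fun (i : Fin p) _ =>
          Fintype.prod_equiv (Equiv.mulRight (z ^ (i : ℕ))) (fun x => f (x * z ^ (i : ℕ))) f fun x => rfl),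
          Finset.prod_const, Finset.card_univ, Fintype.card_fin]
    _ = ∏ x : Q, ∏ i : Fin p, f (x * z ^ (i : ℕ)) := Finset.prod_comm
    _ ≤ ∏ _x : Q, Nat.card W := Finset.prod_le_prod' fun x _ => hsum x
    _ = Nat.card W ^ Fintype.card Q := by rw [Finset.prod_const, Finset.card_univ]

/-- Invariant `r`-subgroups of a `p'`-group. -/
theorem bound_rGroup : ∀ (n : ℕ) {A : Type u} [Group A] [Finite A] {Q : Type v} [Group Q] [Fintype Q]
    (_hQ : IsPGroup p Q) {r : ℕ} [Fact r.Prime] (φ : Q →* A) (R : Subgroup A), IsPGroup r R →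
    φ.range ≤ Subgroup.normalizer (R : Set A) → (Nat.card R).Coprime p → Nat.card R = n → Bound p φ R := by
  intro n
  induction n using Nat.strong_induction_on with
  | _ n ih =>
  intro A _ _ Q _ _ hQ r _ φ₀ R₀ hR₀ hn₀ hcop₀ hcard₀
  let L := Subgroup.normalizer (R₀ : Set A)
  let φ : Q →* L := φ₀.codRestrict L fun x => hn₀ ⟨x, rfl⟩
  set R : Subgroup L := R₀.subgroupOf L with hRdef
  have hRmap : R.map L.subtype = R₀ := Subgroup.map_subgroupOf_eq_of_le Subgroup.le_normalizer
  suffices h : Bound p φ R by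
    have h2 := bound_of_injective L.subtype L.subtype_injective φ R h
    rwa [hRmap] at h2
  haveI hRn : R.Normal := Subgroup.normal_in_normalizer
  have hcardR : Nat.card R = n := by
    rw [← hcard₀, ← hRmap, Subgroup.card_map_of_injective L.subtype_injective]
  have hR : IsPGroup r R := hR₀.comap_of_injective L.subtype L.subtype_injective
  have hcop : (Nat.card R).Coprime p := by rw [hcardR, ← hcard₀]; exact hcop₀
  by_cases hbot : R = ⊥
  · simp [Bound, hbot]
  haveI : Nontrivial R := (Subgroup.nontrivial_iff_ne_bot R).mpr hbot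
  haveI := hR.center_nontrivial
  let Z := (Subgroup.center R).map R.subtype
  have hZn : Z.Normal := ConjAct.normal_of_characteristic_of_normal
  have hZb : Z ≠ ⊥ := by
    rw [← Subgroup.nontrivial_iff_ne_bot]
    exact ((Subgroup.center R).equivMapOfInjective _ R.subtype_injective).toEquiv.symm.nontrivial
  obtain ⟨W, hWmin⟩ := (Set.toFinite {W : Subgroup L | W ≤ Z ∧ W ≠ ⊥ ∧ φ.range ≤ Subgroup.normalizer (W : Set L)}).exists_minimal
    ⟨Z, le_rfl, hZb, le_top.trans (Subgroup.normalizer_eq_top (H := _)).ge⟩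
  obtain ⟨hWZ, hWb, hWinv⟩ := hWmin.prop
  have hZR : Z ≤ R := Subgroup.map_subtype_le _
  have hWR : W ≤ R := hWZ.trans hZR
  have hWab : ∀ a ∈ W, ∀ b ∈ W, a * b = b * a := by
    intro a ha b hb
    obtain ⟨a', ha', rfl⟩ := hWZ ha
    exact (congrArg Subtype.val (Subgroup.mem_center_iff.mp ha' ⟨b, hWR hb⟩)).symm
  have hirr : Bound p φ W := by
    refine bound_irreducible hQ φ W hWab hWinv fun U hU hUn => ?_
    by_cases hUb : U = ⊥
    · exact Or.inl hUb
    · exact Or.inr (le_antisymm hU (hWmin.le_of_le ⟨hU.trans hWZ, hUb, hUn⟩ hU))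
  -- pass to the normalizer of `W`
  let M := Subgroup.normalizer (W : Set L)
  have hRM : R ≤ M := fun x hx => by
    rw [show M = Subgroup.normalizer (W : Set L) from rfl, ← Coprime.conj_smul_eq_self_iff]
    refine Subgroup.eq_of_le_of_card_ge ?_ (le_of_eq (card_conj_smul _ _).symm)
    rintro _ hy
    obtain ⟨w, hw, rfl⟩ := (Subgroup.mem_smul_pointwise_iff_exists _ _ _).mp hy
    obtain ⟨w', hw', rfl⟩ := hWZ hw
    rw [MulAut.smul_def, MulAut.conj_apply,
      show x * R.subtype w' = R.subtype w' * x from congrArg Subtype.val (Subgroup.mem_center_iff.mp hw' ⟨x, hx⟩),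
      mul_inv_cancel_right]
    exact hw
  let φM : Q →* M := φ.codRestrict M fun x => hWinv ⟨x, rfl⟩
  set RM : Subgroup M := R.subgroupOf M with hRMdef
  set WM : Subgroup M := W.subgroupOf M with hWMdef
  haveI : WM.Normal := Subgroup.normal_in_normalizer
  let f := QuotientGroup.mk' WM
  have hkf : f.ker = WM := QuotientGroup.ker_mk' _
  have hWRM : WM ≤ RM := fun x hx => hWR hx
  have hRMmap : RM.map M.subtype = R := Subgroup.map_subgroupOf_eq_of_le hRM
  have hWMmap : WM.map M.subtype = W := Subgroup.map_subgroupOf_eq_of_le Subgroup.le_normalizer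
  suffices h : Bound p φM RM by
    have h2 := bound_of_injective M.subtype M.subtype_injective φM RM h
    rwa [hRMmap] at h2
  haveI : RM.Normal := Subgroup.Normal.subgroupOf hRn M
  have hcardRM : Nat.card RM = n := by
    rw [← hcardR, ← hRMmap, Subgroup.card_map_of_injective M.subtype_injective]
  have hcopM : (Nat.card RM).Coprime p := by rw [hcardRM, ← hcardR]; exact hcop
  have hnormRM : ∀ B : Subgroup M, B ≤ Subgroup.normalizer (RM : Set M) := fun B =>
    le_top.trans (Subgroup.normalizer_eq_top (H := _)).ge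
  have hlt : Nat.card (RM.map f) < n := by
    have h0 := card_split f (B := ⊥) (hnormRM ⊥) IsPGroup.of_bot hcopM (hkf.trans_le hWRM)
    have hC : ∀ (X : Type u) [Group X], Subgroup.centralizer ((⊥ : Subgroup X) : Set X) = ⊤ := fun X _ => by
      rw [Subgroup.coe_bot]
      exact Subgroup.centralizer_eq_top_iff_subset.mpr (by simp [Subgroup.one_mem])
    rw [Subgroup.map_bot, hC, hC, inf_top_eq, inf_top_eq, inf_top_eq, hkf, hcardRM] at h0
    have hW1 : 1 < Nat.card WM := by
      rw [← Subgroup.card_map_of_injective (f := M.subtype) (K := WM) M.subtype_injective, hWMmap]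
      exact (Subgroup.one_lt_card_iff_ne_bot W).mpr hWb
    rw [h0]
    exact lt_mul_of_one_lt_left Nat.card_pos hW1
  have hIH : Bound p (f.comp φM) (RM.map f) :=
    ih _ hlt hQ (r := r) (f.comp φM) (RM.map f)
      (((hR.comap_of_injective M.subtype M.subtype_injective : IsPGroup r RM)).map f)
      (by
        haveI : (RM.map f).Normal := Subgroup.Normal.map inferInstance f (QuotientGroup.mk'_surjective _)
        exact le_top.trans (Subgroup.normalizer_eq_top (H := _)).ge)
      (by
        refine Nat.Coprime.coprime_dvd_left ?_ hcopM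
        exact Subgroup.card_map_dvd RM f) rfl
  have hBW : ∀ x : Q, IsPGroup p (Subgroup.zpowers (φM x)) := fun x =>
    (hQ.to_subgroup (Subgroup.zpowers x)).map φM |>.to_le (by rw [MonoidHom.map_zpowers])
  have e1 : ∀ x : Q, Nat.card ↥(RM ⊓ Subgroup.centralizer ({φM x} : Set M)) =
      Nat.card ↥(WM ⊓ Subgroup.centralizer ({φM x} : Set M)) *
        Nat.card ↥(RM.map f ⊓ Subgroup.centralizer ({f (φM x)} : Set (M ⧸ WM))) := by
    intro x
    have h0 := card_split f (hnormRM _) (hBW x) hcopM (hkf.trans_le hWRM)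
    rwa [hkf, MonoidHom.map_zpowers, centralizer_zpowers, centralizer_zpowers] at h0
  have e2 : Nat.card ↥(RM ⊓ Subgroup.centralizer (φM.range : Set M)) =
      Nat.card ↥(WM ⊓ Subgroup.centralizer (φM.range : Set M)) *
        Nat.card ↥(RM.map f ⊓ Subgroup.centralizer ((f.comp φM).range : Set (M ⧸ WM))) := by
    have h0 := card_split f (hnormRM _) (hQ.of_surjective φM.rangeRestrict φM.rangeRestrict_surjective) hcopM (hkf.trans_le hWRM)
    rwa [hkf, MonoidHom.map_range] at h0
  have e3 : Nat.card RM = Nat.card WM * Nat.card (RM.map f) := by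
    have h0 := card_split f (B := ⊥) (hnormRM ⊥) IsPGroup.of_bot hcopM (hkf.trans_le hWRM)
    have hC : ∀ (X : Type u) [Group X], Subgroup.centralizer ((⊥ : Subgroup X) : Set X) = ⊤ := fun X _ => by
      rw [Subgroup.coe_bot]
      exact Subgroup.centralizer_eq_top_iff_subset.mpr (by simp [Subgroup.one_mem])
    rwa [Subgroup.map_bot, hC, hC, inf_top_eq, inf_top_eq, inf_top_eq, hkf] at h0
  have hirrM : Bound p φM WM := by
    have hc : ∀ (S : Set M), Nat.card ↥(WM ⊓ Subgroup.centralizer S) =
        Nat.card ↥(W ⊓ Subgroup.centralizer (M.subtype '' S)) := by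
      intro S
      rw [← Subgroup.card_map_of_injective (f := M.subtype) (K := WM ⊓ Subgroup.centralizer S) M.subtype_injective]
      refine congrArg (fun K : Subgroup L => Nat.card K) ?_
      ext y
      constructor
      · rintro ⟨⟨a, ha'⟩, ⟨ha, hc⟩, rfl⟩
        refine ⟨ha, ?_⟩
        rintro _ ⟨s, hs, rfl⟩
        exact congrArg Subtype.val (hc s hs)
      · rintro ⟨hy, hc⟩
        exact ⟨⟨y, Subgroup.le_normalizer hy⟩, ⟨hy, fun s hs => Subtype.ext (hc _ ⟨s, hs, rfl⟩)⟩, rfl⟩
    unfold Bound at hirr ⊢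
    rw [hc, ← Subgroup.card_map_of_injective (f := M.subtype) (K := WM) M.subtype_injective, hWMmap,
      show M.subtype '' (φM.range : Set M) = (φ.range : Set L) from by
        rw [← Subgroup.coe_map, MonoidHom.map_range]; rfl]
    refine le_of_eq_of_le (Finset.prod_congr rfl fun x _ => ?_) hirr
    rw [hc, Set.image_singleton]
    rfl
  unfold Bound at hirrM hIH ⊢
  rw [Finset.prod_congr rfl (fun x _ => by rw [e1 x, mul_pow]), Finset.prod_mul_distrib, e2, e3, mul_pow, mul_pow]
  refine (Nat.mul_le_mul hirrM hIH).trans (le_of_eq ?_)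
  ring

end Cfsg.Agent.GStructB.CoprimeFixedProduct
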