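import Mathlib
import Cfsg.Agent.GStructB.TwoSizes

/-!
Groups whose two largest class sizes are coprime: the product of two classes.
-/

set_option autoImplicit false
set_option linter.unusedSectionVars false
set_option linter.style.haveILetI false

namespace Cfsg.Agent.GStructB.CoprimeLargest

open Subgroup
open Cfsg.Agent.GStructB.TwoSizes
open scoped Pointwise

universe u

variable {G : Type u} [Group G] [Finite G]

/-- The class size of `w`. -/
noncomputable abbrev ix (w : G) : ℕ := (cent w).index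

theorem ix_pos (w : G) : 0 < ix w := Nat.pos_of_ne_zero index_ne_zero_of_finite

theorem card_cent_mul (w : G) : Nat.card (cent w) * ix w = Nat.card G := card_mul_index _

theorem cent_eq_of_le {a b : G} (hle : cent a ≤ cent b) (h : ix a ≤ ix b) : cent a = cent b := by
  refine eq_of_le_of_card_ge hle ?_
  by_contra hlt
  have h1 := card_cent_mul a
  have h2 := card_cent_mul b
  have h3 : Nat.card (cent a) * ix a < Nat.card (cent b) * ix b :=
    Nat.mul_lt_mul_of_lt_of_le (not_le.1 hlt) h (ix_pos b)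
  omega

theorem mem_center_of_ix_one {w : G} (h : ix w = 1) : w ∈ center G :=
  mem_center_iff.2 fun z => mem_cent.1 (show z ∈ cent w from index_eq_one.1 h ▸ mem_top z)

theorem ix_ne_one {w : G} (h : w ∉ center G) : ix w ≠ 1 := fun h' => h (mem_center_of_ix_one h')

/-- The conjugacy class of `w`. -/
def cls (w : G) : Set G := Set.range fun g : G => g * w * g⁻¹

theorem mem_cls_self (w : G) : w ∈ cls w := ⟨1, by simp⟩

theorem card_cls (w : G) : Nat.card (cls w) = ix w := by
  have key : ∀ g h : G, g * w * g⁻¹ = h * w * h⁻¹ ↔ g⁻¹ * h ∈ cent w := by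
    intro g h
    constructor
    · intro e
      refine mem_cent.2 (?_ : g⁻¹ * h * w = w * (g⁻¹ * h))
      calc g⁻¹ * h * w = g⁻¹ * (h * w * h⁻¹) * h := by group
        _ = g⁻¹ * (g * w * g⁻¹) * h := by rw [e]
        _ = w * (g⁻¹ * h) := by group
    · intro e
      calc g * w * g⁻¹ = g * (w * (g⁻¹ * h)) * h⁻¹ := by group
        _ = g * (g⁻¹ * h * w) * h⁻¹ := by rw [(mem_cent.1 e).eq]
        _ = h * w * h⁻¹ := by group
  rw [ix, index_eq_card]
  refine (Nat.card_congr (Equiv.ofBijective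
    (fun q : G ⧸ cent w => (⟨q.out * w * q.out⁻¹, q.out, rfl⟩ : cls w)) ⟨fun a b h => ?_, ?_⟩)).symm
  · rw [← Quotient.out_eq' a, ← Quotient.out_eq' b]
    exact QuotientGroup.eq.2 ((key _ _).1 (congrArg Subtype.val h))
  · rintro ⟨_, g, rfl⟩
    refine ⟨QuotientGroup.mk g, Subtype.ext ?_⟩
    exact (key _ _).2 (QuotientGroup.eq.1 (Quotient.out_eq' (QuotientGroup.mk g : G ⧸ cent w)))

/-- Coprime indices give a factorisation. -/
theorem exists_factor {A B : Subgroup G} (h : A.index.Coprime B.index) (g : G) :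
    ∃ a ∈ A, ∃ b ∈ B, g = a * b := by
  have hdvd : A.index * B.index ∣ (A ⊓ B).index :=
    h.mul_dvd_of_dvd_of_dvd (index_dvd_of_le inf_le_left) (index_dvd_of_le inf_le_right)
  have heq : (A ⊓ B).relIndex A * A.index = (A ⊓ B).index := relIndex_mul_index inf_le_left
  rw [inf_relIndex_left] at heq
  have hpos : 0 < (A ⊓ B).index := Nat.pos_of_ne_zero index_ne_zero_of_finite
  have hge : Nat.card (G ⧸ B) ≤ Nat.card (↥A ⧸ B.subgroupOf A) := by
    rw [← index_eq_card, ← index_eq_card]
    refine Nat.le_of_mul_le_mul_right ?_ (Nat.pos_of_ne_zero (index_ne_zero_of_finite (H := A)))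
    calc B.index * A.index = A.index * B.index := mul_comm _ _
      _ ≤ (A ⊓ B).index := Nat.le_of_dvd hpos hdvd
      _ = B.relIndex A * A.index := heq.symm
  let f : ↥A ⧸ B.subgroupOf A → G ⧸ B := fun q => QuotientGroup.mk (q.out : G)
  have hf : Function.Injective f := fun a b hab => by
    rw [← Quotient.out_eq' a, ← Quotient.out_eq' b]
    refine QuotientGroup.eq.2 ?_
    exact (QuotientGroup.eq.1 hab :)
  obtain ⟨q, hq⟩ := (((Nat.bijective_iff_injective_and_card f).2
    ⟨hf, le_antisymm (Nat.card_le_card_of_injective f hf) hge⟩).2 (QuotientGroup.mk g))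
  exact ⟨q.out, q.out.2, _, QuotientGroup.eq.1 hq, by group⟩

theorem mul_cls {u v : G} (h : (ix u).Coprime (ix v)) {z w : G} (hz : z ∈ cls u) (hw : w ∈ cls v) :
    z * w ∈ cls (u * v) := by
  obtain ⟨g, rfl⟩ := hz
  obtain ⟨k, rfl⟩ := hw
  obtain ⟨a, ha, b, hb, hab⟩ := exists_factor h (g⁻¹ * k)
  refine ⟨g * a, ?_⟩
  show g * a * (u * v) * (g * a)⁻¹ = g * u * g⁻¹ * (k * v * k⁻¹)
  have hk : k = g * (a * b) := by rw [← hab, mul_inv_cancel_left]
  calc g * a * (u * v) * (g * a)⁻¹ = g * (a * u) * v * a⁻¹ * g⁻¹ := by group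
    _ = g * (u * a) * v * a⁻¹ * g⁻¹ := by rw [(mem_cent.1 ha).eq]
    _ = g * u * a * (b * v * b⁻¹) * a⁻¹ * g⁻¹ := by rw [(mem_cent.1 hb).eq, mul_inv_cancel_right]; group
    _ = g * u * g⁻¹ * ((g * (a * b)) * v * (g * (a * b))⁻¹) := by group
    _ = g * u * g⁻¹ * (k * v * k⁻¹) := by rw [← hk]

theorem ix_le_mul {u v : G} (h : (ix u).Coprime (ix v)) : ix u ≤ ix (u * v) := by
  rw [← card_cls, ← card_cls]
  exact Nat.card_le_card_of_injective (fun z : cls u => (⟨z * v, mul_cls h z.2 (mem_cls_self v)⟩ : cls (u * v)))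
    fun a b hab => Subtype.ext (mul_right_cancel (Subtype.ext_iff.1 hab))

theorem ix_mul_comm (u v : G) : ix (u * v) = ix (v * u) := by
  rw [← card_cls, ← card_cls]
  have : cls (u * v) = cls (v * u) := by
    ext z
    constructor
    · rintro ⟨g, rfl⟩; exact ⟨g * u, by group⟩
    · rintro ⟨g, rfl⟩; exact ⟨g * v, by group⟩
  rw [this]

theorem ix_mul_dvd {u v : G} (h : (ix u).Coprime (ix v)) : ix (u * v) ∣ ix u * ix v := by
  have h1 : cent u ⊓ cent v ≤ cent (u * v) := fun z hz =>
    mem_cent.2 ((mem_cent.1 hz.1).mul_right (mem_cent.1 hz.2))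
  refine (index_dvd_of_le h1).trans ?_
  have h2 : (cent u ⊓ cent v).relIndex (cent u) * ix u = (cent u ⊓ cent v).index := relIndex_mul_index inf_le_left
  have h3 : ix v ∣ (cent u ⊓ cent v).index := index_dvd_of_le inf_le_right
  have h4 : ix u * ix v ∣ (cent u ⊓ cent v).index :=
    h.mul_dvd_of_dvd_of_dvd (index_dvd_of_le inf_le_left) h3
  rw [inf_relIndex_left] at h2
  refine dvd_of_eq (le_antisymm ?_ (Nat.le_of_dvd (Nat.pos_of_ne_zero index_ne_zero_of_finite) h4))
  rw [← h2, mul_comm]
  refine Nat.mul_le_mul_left _ ?_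
  show (cent v).relIndex (cent u) ≤ (cent v).index
  rw [← relIndex_top_right (H := cent v)]
  exact relIndex_le_of_le_right le_top (by rw [relIndex_top_right]; exact index_ne_zero_of_finite)

/-- The subgroup generated by the quotients of conjugates of `v`. -/
def diff (v : G) : Subgroup G := closure (Set.range fun g : G => g * v * g⁻¹ * v⁻¹)

theorem diff_normal (v : G) : (diff v).Normal := by
  refine ⟨fun a ha c => ?_⟩
  have hle : (diff v).map (MulAut.conj c).toMonoidHom ≤ diff v := by
    rw [diff, MonoidHom.map_closure, closure_le]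
    rintro _ ⟨_, ⟨g, rfl⟩, rfl⟩
    show c * (g * v * g⁻¹ * v⁻¹) * c⁻¹ ∈ diff v
    have h1 : (c * g) * v * (c * g)⁻¹ * v⁻¹ ∈ diff v := Subgroup.subset_closure ⟨c * g, rfl⟩
    have h2 : c * v * c⁻¹ * v⁻¹ ∈ diff v := Subgroup.subset_closure ⟨c, rfl⟩
    have h3 := mul_mem h1 (inv_mem h2)
    rwa [show (c * g) * v * (c * g)⁻¹ * v⁻¹ * (c * v * c⁻¹ * v⁻¹)⁻¹ = c * (g * v * g⁻¹ * v⁻¹) * c⁻¹ by group] at h3
  exact hle ⟨a, ha, rfl⟩

/-- Absorption: if the product of two classes is no larger than the first factor. -/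
theorem absorb {u v : G} (h : (ix u).Coprime (ix v)) (hle : ix (u * v) ≤ ix u) :
    Nat.card (diff v) ∣ ix u ∧ (∀ a ∈ diff v, ∀ b ∈ diff v, Commute a b) ∧
      v ∈ center G ⊔ diff v ∧ (∀ a ∈ diff v, ∀ z ∈ cls u, z * a ∈ cls u) := by
  classical
  haveI := diff_normal v
  set T := diff v
  -- right translation by a quotient of conjugates preserves the class of `u`
  have htr : ∀ w ∈ cls v, ∀ z ∈ cls (u * v), z * w⁻¹ ∈ cls u := by
    intro w hw z hz
    let f : cls u → cls (u * v) := fun y => ⟨y * w, mul_cls h y.2 hw⟩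
    have hf : Function.Injective f := fun a b hab => Subtype.ext (mul_right_cancel (Subtype.ext_iff.1 hab))
    obtain ⟨y, hy⟩ := (((Nat.bijective_iff_injective_and_card f).2 ⟨hf, le_antisymm
      (Nat.card_le_card_of_injective f hf) (by rw [card_cls, card_cls]; exact hle)⟩).2 ⟨z, hz⟩)
    rw [← show (y : G) * w = z from congrArg Subtype.val hy, mul_inv_cancel_right]
    exact y.2
  have hstab : ∀ a ∈ T, ∀ z ∈ cls u, z * a ∈ cls u := by
    intro a ha
    induction ha using Subgroup.closure_induction with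
    | mem a ha =>
      obtain ⟨g, rfl⟩ := ha
      intro z hz
      rw [show z * (g * v * g⁻¹ * v⁻¹) = (z * (g * v * g⁻¹)) * v⁻¹ by group]
      exact htr v (mem_cls_self v) _ (mul_cls h hz ⟨g, rfl⟩)
    | one => intro z hz; rwa [mul_one]
    | mul a b _ _ iha ihb => intro z hz; rw [← mul_assoc]; exact ihb _ (iha z hz)
    | inv a _ iha =>
      intro z hz
      let f : cls u → cls u := fun y => ⟨y * a, iha y y.2⟩
      have hf : Function.Injective f := fun p q hpq => Subtype.ext (mul_right_cancel (Subtype.ext_iff.1 hpq))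
      obtain ⟨y, hy⟩ := (Finite.injective_iff_bijective.1 hf).2 ⟨z, hz⟩
      rw [← show (y : G) * a = z from congrArg Subtype.val hy, mul_inv_cancel_right]
      exact y.2
  have hdvd : Nat.card T ∣ ix u := by
    rw [← card_cls]
    have hpre : (QuotientGroup.mk ⁻¹' ((QuotientGroup.mk : G → G ⧸ T) '' cls u) : Set G) = cls u := by
      refine Set.Subset.antisymm (fun z hz => ?_) (Set.subset_preimage_image _ _)
      obtain ⟨y, hy, hyz⟩ := hz
      have h1 := hstab _ (QuotientGroup.eq.1 hyz) y hy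
      rwa [mul_inv_cancel_left] at h1
    rw [← hpre, Nat.card_congr (QuotientGroup.preimageMkEquivSubgroupProdSet T _), Nat.card_prod]
    exact dvd_mul_right _ _
  have hTv : ∀ g : G, T ≤ cent (g * v * g⁻¹) := by
    have h1 : T ≤ cent v := by
      have h2 : (cent v).relIndex T ∣ ix v := ClassGraph.relIndex_dvd_index T (cent v)
      have h3 : (cent v).relIndex T ∣ ix u := (((cent v).subgroupOf T).index_dvd_card).trans hdvd
      exact relIndex_eq_one.1 (Nat.eq_one_of_dvd_coprimes h h3 h2)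
    intro g a ha
    have h4 := conj_mem_cent (c := g) (h1 ((diff_normal v).conj_mem a ha g⁻¹))
    rwa [show g * (g⁻¹ * a * g⁻¹⁻¹) * g⁻¹ = a by group] at h4
  have hcomm : ∀ a ∈ T, ∀ b ∈ T, Commute a b := by
    intro a ha
    have h1 : T ≤ cent a := by
      rw [show T = diff v from rfl, diff, closure_le]
      rintro _ ⟨g, rfl⟩
      refine mem_cent.2 (Commute.symm ?_)
      exact (mem_cent.1 (hTv g ha)).mul_right (mem_cent.1 (by simpa using hTv 1 ha)).inv_right
    exact fun b hb => (mem_cent.1 (h1 hb)).symm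
  refine ⟨hdvd, hcomm, ?_, hstab⟩
  letI : CommGroup T := { T.toGroup with mul_comm := fun a b => Subtype.ext (hcomm a a.2 b b.2) }
  haveI := Fintype.ofFinite (G ⧸ cent v)
  let τ : G → T := fun g => ⟨g * v * g⁻¹ * v⁻¹, Subgroup.subset_closure ⟨g, rfl⟩⟩
  let c : G → (T →* T) := fun g => ((MulAut.conjNormal g : MulAut T) : T →* T)
  have hc : ∀ g (t : T), ((c g t : T) : G) = g * t * g⁻¹ := fun g t => MulAut.conjNormal_apply _ _
  have hτmul : ∀ g k : G, τ (g * k) = c g (τ k) * τ g := fun g k => Subtype.ext (by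
    rw [Subgroup.coe_mul, hc]; simp only [τ]; group)
  have hτcoset : ∀ g k : G, g⁻¹ * k ∈ cent v → τ g = τ k := fun g k hgk => Subtype.ext (by
    simp only [τ]
    congr 1
    calc g * v * g⁻¹ = g * (v * (g⁻¹ * k)) * k⁻¹ := by group
      _ = g * (g⁻¹ * k * v) * k⁻¹ := by rw [(mem_cent.1 hgk).eq]
      _ = k * v * k⁻¹ := by group)
  set P : T := ∏ q : G ⧸ cent v, τ q.out with hP
  have hPg : ∀ g, c g P * τ g ^ ix v = P := by
    intro g
    have e : ix v = Fintype.card (G ⧸ cent v) := by rw [ix, index_eq_card, Nat.card_eq_fintype_card]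
    rw [hP, map_prod, e, ← Finset.card_univ, ← Finset.prod_const, ← Finset.prod_mul_distrib]
    refine Fintype.prod_equiv (MulAction.toPerm g) _ _ fun q => ?_
    rw [← hτmul]
    refine hτcoset _ _ (QuotientGroup.eq.1 ?_)
    calc (QuotientGroup.mk (g * q.out) : G ⧸ cent v) = g • QuotientGroup.mk q.out := rfl
      _ = g • q := congrArg (g • ·) (Quotient.out_eq' q)
      _ = _ := (Quotient.out_eq' (g • q)).symm
  have hco : (Nat.card T).Coprime (ix v) := h.coprime_dvd_left hdvd
  set a := (powCoprime hco).symm P with hadef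
  have hapow : a ^ ix v = P := (powCoprime hco).apply_symm_apply P
  have hag : ∀ g, c g a * τ g = a := fun g => (powCoprime hco).injective (by
    show (c g a * τ g) ^ ix v = a ^ ix v
    rw [mul_pow, ← map_pow, hapow, hPg])
  have hva : v * (a : G) ∈ center G := mem_center_iff.2 fun g => by
    have h1 : g * (a : G) * g⁻¹ * (g * v * g⁻¹ * v⁻¹) = a := by
      have := congrArg Subtype.val (hag g)
      rwa [Subgroup.coe_mul, hc] at this
    have hav : ∀ t ∈ T, Commute t v := fun t ht => mem_cent.1 (by simpa using hTv 1 ht)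
    have h2 : g * (v * a) * g⁻¹ = v * a := by
      calc g * (v * a) * g⁻¹ = g * ((a : G) * v) * g⁻¹ := by rw [(hav a a.2).eq]
        _ = (g * a * g⁻¹ * (g * v * g⁻¹ * v⁻¹)) * v := by group
        _ = v * a := by rw [h1, (hav a a.2).eq]
    exact mul_inv_eq_iff_eq_mul.1 h2
  have := mul_mem (mem_sup_left (T := T) hva) (mem_sup_right (S := center G) (inv_mem a.2))
  rwa [mul_inv_cancel_right] at this

end Cfsg.Agent.GStructB.CoprimeLargest
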