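import Mathlib
import Cfsg.Agent.GStructB.CoprimeLargest
import Cfsg.Agent.Lib.Frobenius.Basic

/-!
Groups whose two largest class sizes are coprime: structure.
-/

set_option autoImplicit false
set_option linter.unusedSectionVars false
set_option linter.style.haveILetI false

namespace Cfsg.Agent.GStructB.CoprimeLargest

open Subgroup
open Cfsg.Agent.GStructB.TwoSizes
open scoped Pointwise

universe u

variable {G : Type u} [Group G] [Finite G] {m n q : ℕ} {b z : G}

/-- The numerical hypotheses, with `b` a representative of index `n` lying in an abelian normal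
subgroup and `z` a representative of index `m` of order `q` modulo the centre. -/
structure Base (m n : ℕ) (b z : G) : Prop where
  lt : n < m
  one_lt : 1 < n
  cop : m.Coprime n
  top : ∀ w : G, ix w ≤ m
  second : ∀ w : G, ix w < m → ix w ≤ n
  ixb : ix b = n
  ixz : ix z = m
  mem : b ∈ diff b

/-- Moreover `z` has order `q` modulo the centre, `q ∣ n`. -/
structure Core (m n q : ℕ) (b z : G) : Prop extends Base m n b z where
  prime : q.Prime
  qdvd : q ∣ n
  zl : IsL q z
  zpow : z ^ q ∈ center G

theorem central_of_mem_sup {v : G} {T : Subgroup G} [T.Normal] (h : v ∈ center G ⊔ T)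
    (hcomm : ∀ a ∈ T, Commute v a) (hco : (orderOf v).Coprime (Nat.card T)) : v ∈ center G := by
  obtain ⟨c, hc, a, ha, rfl⟩ := mem_sup_of_normal_left.1 h
  have h1 : (c * a) ^ Nat.card T ∈ center G := by
    have h2 : Commute c a := (mem_center_iff.1 hc a).symm
    rw [h2.mul_pow, show a ^ Nat.card T = 1 from
      orderOf_dvd_iff_pow_eq_one.1 (T.orderOf_dvd_natCard ha), mul_one]
    exact pow_mem hc _
  obtain ⟨k, hk⟩ := exists_pow_eq_self_of_coprime (x := c * a) (n := Nat.card T) hco.symm
  exact hk ▸ pow_mem h1 k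

theorem isL_coprime_of_dvd {l k : ℕ} (hl : l.Prime) {w : G} (hw : IsL l w) (hk : ¬ l ∣ k) :
    (orderOf w).Coprime k := by
  obtain ⟨i, hi⟩ := hw
  rw [hi]
  exact (hl.coprime_iff_not_dvd.2 hk).pow_left i

theorem dvd_of_primary {l k : ℕ} {w : G} {i : ℕ} (hwl : IsL l (w ^ i)) (hwc : w ^ i ∉ center G)
    (hd : orderOf w ∣ k) : l ∣ k := by
  obtain ⟨e, he⟩ := hwl
  rcases e with _ | e
  · rw [pow_zero, orderOf_eq_one_iff] at he
    exact absurd (he ▸ one_mem (center G)) hwc
  · exact ((dvd_pow_self l e.succ_ne_zero).trans he.symm.dvd).trans ((orderOf_pow_dvd i).trans hd)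

theorem le_of_lp_le {X Y : Subgroup G} (hXY : X ≤ Y)
    (h : ∀ l : ℕ, l.Prime → lp l Y ≤ lp l X) : X = Y := by
  refine eq_of_le_of_card_ge hXY (Nat.le_of_dvd Nat.card_pos ?_)
  rw [← Nat.factorization_le_iff_dvd Nat.card_pos.ne' Nat.card_pos.ne']
  intro l
  by_cases hl : l.Prime
  · exact (Nat.pow_le_pow_iff_right hl.one_lt).1 (h l hl)
  · simp [Nat.factorization_eq_zero_of_not_prime _ hl]

namespace Base

variable (S : Base m n b z)
include S

theorem m_pos : 0 < m := lt_trans (lt_trans one_pos S.one_lt) S.lt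

theorem not_m_dvd_n : ¬ m ∣ n := fun h =>
  absurd (Nat.le_of_dvd (lt_trans one_pos S.one_lt) h) (not_le.2 S.lt)

theorem not_center_b : b ∉ center G := fun h => by
  have : ix b = 1 := index_eq_one.2 (eq_top_iff.2 fun g _ => mem_cent.2 (mem_center_iff.1 h g))
  have h1 := S.ixb
  have h2 := S.one_lt
  omega

theorem not_center_z : z ∉ center G := fun h => by
  have : ix z = 1 := index_eq_one.2 (eq_top_iff.2 fun g _ => mem_cent.2 (mem_center_iff.1 h g))
  have h1 := S.ixz
  have h2 := S.one_lt
  have h3 := S.lt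
  omega

theorem absorb_b : Nat.card (diff b) ∣ m ∧ (∀ a ∈ diff b, ∀ c ∈ diff b, Commute a c) ∧
    (∀ a ∈ diff b, ∀ w ∈ cls z, w * a ∈ cls z) := by
  obtain ⟨h1, h2, -, h3⟩ := absorb (u := z) (v := b) (by rw [S.ixz, S.ixb]; exact S.cop)
    (by rw [S.ixz]; exact S.top _)
  exact ⟨S.ixz ▸ h1, h2, h3⟩

theorem cop_T : (Nat.card (diff b)).Coprime n := S.cop.coprime_dvd_left S.absorb_b.1

/-- An `l`-element, `l ∣ n`, centralising `b` is central. -/
theorem pi_central {l : ℕ} (hl : l.Prime) (hln : l ∣ n) {w : G} (hw : IsL l w) (hwb : w ∈ cent b) :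
    w ∈ center G := by
  have hco : (orderOf w).Coprime (Nat.card (diff b)) :=
    isL_coprime_of_dvd hl hw fun hd => hl.not_dvd_one (S.cop_T ▸ Nat.dvd_gcd hd hln)
  have hcob : (orderOf b).Coprime (orderOf w) :=
    (hco.coprime_dvd_right ((diff b).orderOf_dvd_natCard S.mem)).symm
  have hcomm : Commute b w := (mem_cent.1 hwb).symm
  have h1 : cent (b * w) ≤ cent b := ClassGraph.centralizer_mul_le hcomm hcob
  have h2 : cent (b * w) ≤ cent w := by
    rw [hcomm.eq]; exact ClassGraph.centralizer_mul_le hcomm.symm hcob.symm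
  have hn : n ∣ ix (b * w) := S.ixb ▸ index_dvd_of_le h1
  have hlt : ix (b * w) < m := lt_of_le_of_ne (S.top _) fun he =>
    Nat.ne_of_gt S.one_lt (Nat.eq_one_of_dvd_coprimes S.cop (he ▸ hn) dvd_rfl)
  have heq : cent (b * w) = cent b := cent_eq_of_le h1 ((S.second _ hlt).trans S.ixb.ge)
  have hk : ix w ∣ n := S.ixb ▸ index_dvd_of_le (heq ▸ h2)
  have hcop' : m.Coprime (ix w) := S.cop.coprime_dvd_right hk
  obtain ⟨hT, -, hmem, -⟩ := absorb (u := z) (v := w) (by rw [S.ixz]; exact hcop')
    (by rw [S.ixz]; exact S.top _)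
  haveI := diff_normal w
  by_contra hwc
  refine hwc (central_of_mem_sup hmem (fun a ha => ?_) (isL_coprime_of_dvd hl hw fun hd => ?_))
  · obtain ⟨-, hcm, -, -⟩ := absorb (u := z) (v := w) (by rw [S.ixz]; exact hcop')
      (by rw [S.ixz]; exact S.top _)
    obtain ⟨c, hc, t, ht, rfl⟩ := mem_sup_of_normal_left.1 hmem
    have hca : Commute c a := (mem_center_iff.1 hc a).symm
    exact hca.mul_left (hcm t ht a ha)
  · exact hl.not_dvd_one (S.cop ▸ Nat.dvd_gcd (hd.trans (S.ixz ▸ hT)) hln)

/-- A normal subgroup of order dividing `n` is central. -/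
theorem normal_central {A : Subgroup G} [A.Normal] (hA : Nat.card A ∣ n) : A ≤ center G := by
  haveI := diff_normal b
  intro a ha
  by_contra hac
  obtain ⟨l, hl, i, hil, hic⟩ := exists_primary hac
  refine hic (S.pi_central hl (dvd_of_primary hil hic ((A.orderOf_dvd_natCard ha).trans hA)) hil ?_)
  have hdisj : Disjoint A (diff b) := disjoint_of_coprime_natCard
    ((S.cop_T.coprime_dvd_right hA).symm)
  exact mem_cent.2 (Subgroup.commute_of_normal_of_disjoint A (diff b) inferInstance inferInstance hdisj _ _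
    (pow_mem ha i) S.mem)

/-- An element of index prime to `n` has index `m`. -/
theorem index_m {v : G} (hv : v ∉ center G) (hco : (ix v).Coprime n) : ix v = m := by
  by_contra hne
  have h1 := ix_mul_dvd (u := b) (v := v) (by rw [S.ixb]; exact hco.symm)
  rw [S.ixb] at h1
  by_cases hj : ix (b * v) = m
  · rw [hj] at h1
    exact hne (le_antisymm (S.top v) (Nat.le_of_dvd (ix_pos v) (S.cop.dvd_of_dvd_mul_left h1)))
  · have hle := S.second _ (lt_of_le_of_ne (S.top _) hj)
    obtain ⟨hT, hcm, hmem, -⟩ := absorb (u := b) (v := v) (by rw [S.ixb]; exact hco.symm)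
      (by rw [S.ixb]; exact hle)
    haveI := diff_normal v
    have hsup : center G ⊔ diff v ≤ center G :=
      sup_le le_rfl (S.normal_central (S.ixb ▸ hT))
    exact hv (hsup hmem)

end Base

namespace Core

variable (S : Core m n q b z)
include S

/-- `cent z ∩ cent b` is central. -/
theorem inter_central {d : G} (h1 : d ∈ cent z) (h2 : d ∈ cent b) : d ∈ center G := by
  have key : ∀ {w : G} {l : ℕ}, l.Prime → IsL l w → w ∈ cent z → w ∈ cent b → w ∉ center G →
      cent w = cent z := by
    intro w l hl hwl hwz hwb hwc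
    have hln : ¬ l ∣ n := fun h => hwc (S.toBase.pi_central hl h hwl hwb)
    have hne : l ≠ q := fun h => hln (h ▸ S.qdvd)
    have hco := coprime_of_isL S.prime hl (Ne.symm hne) S.zl hwl
    have hcm : Commute z w := (mem_cent.1 hwz).symm
    have hle : cent (z * w) ≤ cent z := ClassGraph.centralizer_mul_le hcm hco
    have hle' : cent (z * w) ≤ cent w := by
      rw [hcm.eq]; exact ClassGraph.centralizer_mul_le hcm.symm hco.symm
    have heq : cent (z * w) = cent z := cent_eq_of_le hle ((S.top _).trans S.ixz.ge)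
    rw [heq] at hle'
    have hdvd : ix w ∣ m := S.ixz ▸ index_dvd_of_le hle'
    exact (cent_eq_of_le hle' (by rw [S.ixz, S.toBase.index_m hwc (S.cop.coprime_dvd_left hdvd)])).symm
  by_contra hdc
  obtain ⟨l, hl, i, hil, hic⟩ := exists_primary hdc
  have hd := key hl hil (pow_mem h1 i) (pow_mem h2 i) hic
  have hbz : b ∈ cent z := hd ▸ mem_cent.2 ((mem_cent.1 (pow_mem h2 i)).symm)
  obtain ⟨l', hl', j, hjl, hjc⟩ := exists_primary S.toBase.not_center_b
  have hb := key hl' hjl (pow_mem hbz j) (pow_mem (self_mem_cent b) j) hjc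
  have hle : cent b ≤ cent z := hb ▸ cent_le_pow b j
  exact S.toBase.not_m_dvd_n (S.ixb ▸ S.ixz ▸ index_dvd_of_le hle)

theorem card_cent_z : Nat.card (cent z) = n * Nat.card (center G) := by
  have hinf : cent z ⊓ cent b = center G := le_antisymm (fun d hd => S.inter_central hd.1 hd.2)
    (le_inf (center_le_centralizer _) (center_le_centralizer _))
  have hdvd : m * n ∣ (center G).index := by
    rw [← hinf]
    exact S.cop.mul_dvd_of_dvd_of_dvd (S.ixz ▸ index_dvd_of_le inf_le_left) (S.ixb ▸ index_dvd_of_le inf_le_right)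
  have hle : (center G).index ≤ m * n := by
    have h2 := ix_mul_dvd (u := z) (v := b) (by rw [S.ixz, S.ixb]; exact S.cop)
    have h3 : (cent z ⊓ cent b).relIndex (cent z) * ix z = (cent z ⊓ cent b).index := relIndex_mul_index inf_le_left
    rw [← hinf, ← h3, inf_relIndex_left, S.ixz, mul_comm m n]
    refine Nat.mul_le_mul_right m ?_
    rw [← S.ixb]
    show (cent b).relIndex (cent z) ≤ (cent b).index
    rw [← relIndex_top_right (H := cent b)]
    exact relIndex_le_of_le_right le_top (by rw [relIndex_top_right]; exact index_ne_zero_of_finite)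
  have he : (center G).index = m * n :=
    le_antisymm hle (Nat.le_of_dvd (Nat.pos_of_ne_zero index_ne_zero_of_finite) hdvd)
  have h1 := card_cent_mul z
  rw [← (center G).card_mul_index, he, S.ixz] at h1
  exact Nat.eq_of_mul_eq_mul_right S.toBase.m_pos (by rw [h1]; ring)

theorem card_G : Nat.card G = n * Nat.card (center G) * m := by
  rw [← card_cent_mul z, S.card_cent_z, S.ixz]

theorem card_cent_b : Nat.card (cent b) = m * Nat.card (center G) := by
  refine Nat.eq_of_mul_eq_mul_right (lt_trans one_pos S.one_lt) ?_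
  have h := card_cent_mul b
  rw [S.ixb, S.card_G] at h
  rw [h]; ring

theorem pow_mem_center_of_card {C : Subgroup G} (hC : center G ≤ C)
    (hcard : Nat.card C = n * Nat.card (center G)) {w : G} (hw : w ∈ C) : w ^ n ∈ center G := by
  haveI : ((center G).subgroupOf C).Normal := inferInstance
  have h1 := ((center G).subgroupOf C).card_mul_index
  rw [Nat.card_congr (subgroupOfEquivOfLe hC).toEquiv, hcard, mul_comm n] at h1
  have h2 : ((center G).subgroupOf C).index = n := Nat.eq_of_mul_eq_mul_left Nat.card_pos h1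
  have h3 := ((center G).subgroupOf C).pow_index_mem ⟨w, hw⟩
  rw [h2] at h3
  exact h3

theorem T_inter {a : G} (ha : a ∈ diff b) (haz : a ∈ cent z) : a = 1 := by
  obtain ⟨g, hg⟩ := S.toBase.absorb_b.2.2 a ha z (mem_cls_self z)
  have h1 : orderOf (z * a) = orderOf z := by
    rw [← hg]; exact orderOf_injective (MulAut.conj g).toMonoidHom (MulAut.conj g).injective z
  have hcm : Commute z a := (mem_cent.1 haz).symm
  have h2 : a ^ orderOf z = 1 := by
    have := pow_orderOf_eq_one (z * a)
    rwa [h1, hcm.mul_pow, pow_orderOf_eq_one, one_mul] at this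
  refine orderOf_eq_one_iff.1 (Nat.eq_one_of_dvd_coprimes ?_ (orderOf_dvd_of_pow_eq_one h2)
    ((diff b).orderOf_dvd_natCard ha))
  exact isL_coprime_of_dvd S.prime S.zl fun hd => S.prime.not_dvd_one (S.toBase.cop_T ▸ Nat.dvd_gcd hd S.qdvd)

theorem n_lt_T : n < Nat.card (diff b) := by
  classical
  haveI := diff_normal b
  haveI := Fintype.ofFinite (diff b)
  have h1 : Nat.card (cls b) ≤ Nat.card {a : diff b // a ≠ 1} := by
    refine Nat.card_le_card_of_injective (fun w : cls b => (⟨⟨w, ?_⟩, ?_⟩ : {a : diff b // a ≠ 1})) ?_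
    · obtain ⟨g, hg⟩ := w.2
      exact hg ▸ (diff_normal b).conj_mem b S.mem g
    · intro h
      obtain ⟨g, hg⟩ := w.2
      have h1 : g * b * g⁻¹ = 1 := by
        have := congrArg Subtype.val h
        exact hg.trans this
      exact S.toBase.not_center_b ((conj_eq_one_iff.1 h1) ▸ one_mem _)
    · intro a c hac
      exact Subtype.ext (congrArg (fun e : {a : diff b // a ≠ 1} => ((e : diff b) : G)) hac)
  rw [card_cls, S.ixb, Nat.card_eq_fintype_card, Fintype.card_subtype_compl, Fintype.card_subtype_eq] at h1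
  rw [Nat.card_eq_fintype_card]
  have := Fintype.card_pos (α := diff b)
  omega

end Core

end Cfsg.Agent.GStructB.CoprimeLargest
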