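import Mathlib
import Cfsg.Agent.GStructB.CoprimeLargestCore

/-!
Groups whose two largest class sizes are coprime: conclusion.
-/

set_option autoImplicit false
set_option linter.unusedSectionVars false
set_option linter.style.haveILetI false

namespace Cfsg.Agent.GStructB.CoprimeLargest

open Subgroup
open Cfsg.Agent.GStructB.TwoSizes
open scoped Pointwise

universe u

variable {G : Type u} [Group G] [Finite G] {m n q : ℕ} {b z : G}

namespace Core

variable (S : Core m n q b z)
include S

theorem eq_z_of_le {d : G} (hd : d ∉ center G) (h : cent z ≤ cent d) : cent d = cent z := by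
  have hdvd : ix d ∣ m := S.ixz ▸ index_dvd_of_le h
  exact (cent_eq_of_le h (by rw [S.ixz, S.toBase.index_m hd (S.cop.coprime_dvd_left hdvd)])).symm

/-- The key step: an element of order `q` modulo the centre that commutes with `z` has the same
centraliser. -/
theorem key {d : G} (hdl : IsL q d) (hdq : d ^ q ∈ center G) (hdc : d ∉ center G) (hdz : d ∈ cent z)
    (hne : cent d ≠ cent z) : False := by
  classical
  haveI : Fact q.Prime := ⟨S.prime⟩
  haveI := diff_normal b
  haveI := Fintype.ofFinite (center G)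
  set T := diff b
  obtain ⟨hTm, hTcomm, -⟩ := S.toBase.absorb_b
  letI : CommGroup T := { T.toGroup with mul_comm := fun a c => Subtype.ext (hTcomm a a.2 c c.2) }
  have hdzc : Commute d z := mem_cent.1 hdz
  let φ : G →* MulAut T := MulAut.conjNormal
  have hφ : ∀ g (t : T), ((φ g t : T) : G) = g * t * g⁻¹ := fun g t => MulAut.conjNormal_apply _ _
  have hφc : ∀ g, g ∈ center G → φ g = 1 := fun g hg => MulEquiv.ext fun t => Subtype.ext (by
    rw [hφ, MulAut.one_apply, ← mem_center_iff.1 hg t, mul_inv_cancel_right])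
  have hfix : ∀ g (t : T), φ g t = t ↔ (t : G) ∈ cent g := fun g t => by
    rw [Subtype.ext_iff, hφ, mul_inv_eq_iff_eq_mul, mem_cent]
    exact ⟨fun h => h.symm, fun h => h.eq.symm⟩
  let di : ZMod q → G := fun i => d * z ^ i.val
  have hdi_z : ∀ i, Commute (di i) z := fun i => hdzc.mul_left ((Commute.refl z).pow_left _)
  have hdiq : ∀ i, di i ^ q ∈ center G := fun i => by
    rw [(hdzc.pow_right _).mul_pow, ← pow_mul, mul_comm i.val q, pow_mul]
    exact mul_mem hdq (pow_mem S.zpow _)
  have hnle : ∀ i, ¬ cent z ≤ cent (di i) := fun i h => hne (S.eq_z_of_le hdc fun w hw => by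
    have h1 : Commute w (di i) := mem_cent.1 (h hw)
    have h2 := h1.mul_right ((mem_cent.1 hw).pow_right i.val).inv_right
    rw [mul_inv_cancel_right] at h2
    exact mem_cent.2 h2)
  have hdic : ∀ i, di i ∉ center G := fun i h => hnle i fun w _ => mem_cent.2 (mem_center_iff.1 h w)
  have hper : ∀ g : G, g ^ q ∈ center G → ∀ k, φ (g ^ (k % q)) = φ (g ^ k) := fun g hg k => by
    conv_rhs => rw [← Nat.mod_add_div k q, pow_add, pow_mul, map_mul, hφc _ (pow_mem hg _), mul_one]
  have hNfix : ∀ g : G, g ^ q ∈ center G → ∀ t : T,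
      φ g (∏ j : ZMod q, φ (g ^ j.val) t) = ∏ j : ZMod q, φ (g ^ j.val) t := by
    intro g hg t
    rw [map_prod]
    refine Fintype.prod_equiv (Equiv.addRight (1 : ZMod q)) _ _ fun j => ?_
    show φ g (φ (g ^ j.val) t) = φ (g ^ (j + 1).val) t
    rw [ZMod.val_add, ZMod.val_one, hper g hg, pow_succ', map_mul, MulAut.mul_apply]
  have hNz : ∀ t : T, ∏ j : ZMod q, φ (z ^ j.val) t = 1 := fun t =>
    Subtype.ext (S.T_inter (SetLike.coe_mem _) ((hfix z _).1 (hNfix z S.zpow t)))
  have hNz' : ∀ (t : T) (j : ZMod q), j ≠ 0 → ∏ i : ZMod q, φ (z ^ (i.val * j.val)) t = 1 := by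
    intro t j hj
    rw [← hNz t]
    refine Fintype.prod_equiv (Equiv.mulRight₀ j hj) _ _ fun i => ?_
    show φ (z ^ (i.val * j.val)) t = φ (z ^ (i * j).val) t
    rw [ZMod.val_mul, hper z S.zpow]
  have hbT : b ∈ T := S.mem
  set β : T := ⟨b, hbT⟩
  let a : ZMod q → T := fun i => ∏ j : ZMod q, φ (di i ^ j.val) β
  have hafix : ∀ i, (a i : G) ∈ cent (di i) := fun i => (hfix _ _).1 (hNfix _ (hdiq i) β)
  have hprod : ∏ i, a i = β ^ q := by
    simp only [a]
    rw [Finset.prod_comm, ← Finset.mul_prod_erase Finset.univ _ (Finset.mem_univ (0 : ZMod q))]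
    rw [Finset.prod_eq_one (s := Finset.univ.erase (0 : ZMod q)), mul_one]
    · simp [ZMod.card]
    intro j hj
    have h1 : ∀ i : ZMod q, φ (di i ^ j.val) β = φ (d ^ j.val) (φ (z ^ (i.val * j.val)) β) := fun i => by
      rw [(hdzc.pow_right _).mul_pow, ← pow_mul, map_mul, MulAut.mul_apply]
    rw [Finset.prod_congr rfl (fun i _ => h1 i), ← map_prod, hNz' β j (Finset.ne_of_mem_erase hj), map_one]
  have hqT : (Nat.card T).Coprime q := S.toBase.cop_T.coprime_dvd_right S.qdvd
  set H := cent d ⊓ cent z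
  have hH : ∀ i, ∀ h ∈ H, Commute h (di i) := fun i h hh =>
    (mem_cent.1 hh.1).mul_right ((mem_cent.1 hh.2).pow_right _)
  set Zc := Nat.card (center G)
  let C : ZMod q → Subgroup G := fun i => T ⊓ cent (di i)
  have hCfix : ∀ i (c : C i), φ (di i) ⟨c, c.2.1⟩ = ⟨c, c.2.1⟩ := fun i c => (hfix _ _).2 c.2.2
  -- the orbit bound
  have hbound : ∀ i, a i ≠ 1 → Zc * Nat.card T ≤
      Nat.card (H ⊓ cent ((a i : T) : G) : Subgroup G) * Nat.card (C i) := by
    intro i hai
    set A : G := ((a i : T) : G)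
    have hAT : A ∈ T := (a i).2
    have hco : (orderOf (di i)).Coprime (orderOf A) := by
      obtain ⟨e, he⟩ : ∃ e, orderOf (di i) ∣ q ^ e := by
        obtain ⟨e₁, he₁⟩ := hdl
        obtain ⟨e₂, he₂⟩ := S.zl
        refine ⟨e₁ + e₂, (hdzc.pow_right _).orderOf_mul_dvd_mul_orderOf.trans ?_⟩
        rw [pow_add, ← he₁, ← he₂]
        exact Nat.mul_dvd_mul dvd_rfl (orderOf_pow_dvd _)
      exact (((hqT.coprime_dvd_left (T.orderOf_dvd_natCard hAT)).pow_right e).coprime_dvd_right he).symm
    have hcm : Commute (di i) A := (mem_cent.1 (hafix i)).symm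
    set g := di i * A
    have hR1 : cent g ≤ cent (di i) := ClassGraph.centralizer_mul_le hcm hco
    have hR2 : cent g ≤ cent A := by
      rw [show g = A * di i from hcm.eq]; exact ClassGraph.centralizer_mul_le hcm.symm hco.symm
    have hne_m : ix g ≠ m := by
      intro he
      have hcard : Nat.card (cent g) = n * Zc := by
        have h := card_cent_mul g
        rw [he, S.card_G] at h
        exact Nat.eq_of_mul_eq_mul_right S.toBase.m_pos h
      have hAc := S.pow_mem_center_of_card (center_le_centralizer _) hcard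
        (mem_cent.2 (hcm.symm.mul_right (Commute.refl A)))
      have hAc' : A ∈ center G := by
        obtain ⟨k, hk⟩ := exists_pow_eq_self_of_coprime (x := A) (n := n)
          ((S.toBase.cop_T.coprime_dvd_left (T.orderOf_dvd_natCard hAT)).symm)
        exact hk ▸ pow_mem hAc k
      exact hai (Subtype.ext (S.T_inter hAT (center_le_centralizer _ hAc')))
    have hle := S.second g (lt_of_le_of_ne (S.top g) hne_m)
    have hRcard : m * Zc ≤ Nat.card (cent g) := by
      have h := card_cent_mul g
      rw [S.card_G] at h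
      refine Nat.le_of_mul_le_mul_right (c := n) ?_ (lt_trans one_pos S.one_lt)
      calc m * Zc * n = n * Zc * m := by ring
        _ = Nat.card (cent g) * ix g := h.symm
        _ ≤ _ := Nat.mul_le_mul_left _ hle
    set U := cent z ⊔ T
    have hUcard : n * Zc * Nat.card T ≤ Nat.card U := by
      rw [← S.card_cent_z, ← Nat.card_prod]
      refine Nat.card_le_card_of_injective (fun p : cent z × T => (⟨(p.1 : G) * p.2,
        mul_mem (mem_sup_left p.1.2) (mem_sup_right p.2.2)⟩ : U)) ?_
      exact fun p p' hp => mul_injective_of_disjoint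
        (disjoint_def.2 fun {x} h1 h2 => S.T_inter h2 h1) (Subtype.ext_iff.1 hp)
    have hcap : Nat.card (cent g ⊓ U : Subgroup G) ≤
        Nat.card (H ⊓ cent A : Subgroup G) * Nat.card (C i) := by
      rw [← Nat.card_prod]
      have hdec : ∀ w : (cent g ⊓ U : Subgroup G), ∃ p : (H ⊓ cent A : Subgroup G) × C i,
          (p.1 : G) * p.2 = w := by
        rintro ⟨w, hwg, hwU⟩
        obtain ⟨h, hh, t, ht, rfl⟩ := mem_sup_of_normal_right.1 hwU
        have hd : Commute (h * t) (di i) := mem_cent.1 (hR1 hwg)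
        have hdiz : di i ∈ cent z := mem_cent.2 (hdi_z i)
        set h' := di i * h * (di i)⁻¹
        set t' := di i * t * (di i)⁻¹
        have heq : h' * t' = h * t := by
          rw [show h' * t' = di i * (h * t) * (di i)⁻¹ by simp only [h', t']; group, ← hd.eq,
            mul_inv_cancel_right]
        have h1 : h⁻¹ * h' ∈ cent z := mul_mem (inv_mem hh) (mul_mem (mul_mem hdiz hh) (inv_mem hdiz))
        have h2 : h⁻¹ * h' = t * t'⁻¹ := by
          calc h⁻¹ * h' = h⁻¹ * (h' * t') * t'⁻¹ := by group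
            _ = t * t'⁻¹ := by rw [heq]; group
        have h3 : h⁻¹ * h' = 1 := S.T_inter (h2 ▸ mul_mem ht (inv_mem ((diff_normal b).conj_mem t ht _))) h1
        have h4 : t * t'⁻¹ = 1 := h2 ▸ h3
        rw [inv_mul_eq_one] at h3
        rw [mul_inv_eq_one] at h4
        have hhd : Commute h (di i) := (mul_inv_eq_iff_eq_mul.1 h3.symm).symm
        have htd : Commute t (di i) := (mul_inv_eq_iff_eq_mul.1 h4.symm).symm
        have hhd' : h ∈ cent d := by
          have h5 := hhd.mul_right ((mem_cent.1 hh).pow_right i.val).inv_right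
          rw [mul_inv_cancel_right] at h5
          exact mem_cent.2 h5
        have hhA : h ∈ cent A := by
          have h5 : Commute (h * t) A := mem_cent.1 (hR2 hwg)
          have h6 := h5.mul_left (hTcomm t ht A hAT).inv_left
          rw [mul_inv_cancel_right] at h6
          exact mem_cent.2 h6
        exact ⟨(⟨h, ⟨⟨hhd', hh⟩, hhA⟩⟩, ⟨t, ⟨ht, mem_cent.2 htd⟩⟩), rfl⟩
      choose p hp using hdec
      exact Nat.card_le_card_of_injective p fun x y hxy => Subtype.ext (by rw [← hp x, ← hp y, hxy])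
    have h := TwoSizes.card_mul_card_le (le_top : cent g ≤ ⊤) (le_top : U ≤ ⊤)
    rw [card_top, S.card_G] at h
    refine le_trans ?_ hcap
    refine Nat.le_of_mul_le_mul_left (c := m * Zc * n) ?_
      (Nat.mul_pos (Nat.mul_pos S.toBase.m_pos Nat.card_pos) (lt_trans one_pos S.one_lt))
    calc m * Zc * n * (Zc * Nat.card T) = m * Zc * (n * Zc * Nat.card T) := by ring
      _ ≤ Nat.card (cent g) * Nat.card U := Nat.mul_le_mul hRcard hUcard
      _ ≤ n * Zc * m * Nat.card (cent g ⊓ U : Subgroup G) := h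
      _ = _ := by ring
  set I := Finset.univ.filter fun i => a i ≠ 1 with hI
  have hprodI : ∏ i ∈ I, a i = β ^ q := by rw [hI, Finset.prod_filter_ne_one, hprod]
  have hβinj : ∀ x y : T, x ^ q = y ^ q → x = y := fun x y h => (powCoprime hqT).injective h
  have hI0 : I.Nonempty := by
    rw [Finset.nonempty_iff_ne_empty]
    intro h
    rw [h, Finset.prod_empty, ← one_pow q] at hprodI
    have hb1 : b = 1 := congrArg Subtype.val (hβinj _ _ hprodI.symm)
    exact S.toBase.not_center_b (by rw [hb1]; exact one_mem _)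
  have hbb : ∀ h : G, (∀ i ∈ I, h ∈ cent ((a i : T) : G)) → h ∈ cent b := by
    intro h hh
    have h1 : φ h (β ^ q) = β ^ q := by
      rw [← hprodI, map_prod]
      exact Finset.prod_congr rfl fun i hi => (hfix _ _).2 (mem_cent.2 (mem_cent.1 (hh i hi)).symm)
    rw [map_pow] at h1
    exact mem_cent.2 (mem_cent.1 ((hfix _ _).1 (hβinj _ _ h1))).symm
  by_cases hk1 : I.card = 1
  · obtain ⟨i, hi⟩ := Finset.card_eq_one.1 hk1
    refine hdic i (S.inter_central (mem_cent.2 (hdi_z i)) (hbb _ fun j hj => ?_))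
    rw [hi, Finset.mem_singleton] at hj
    subst hj
    exact mem_cent.2 (mem_cent.1 (hafix _)).symm
  have hk : 2 ≤ I.card := by have := hI0.card_pos; omega
  -- independence
  let N : ZMod q → (T →* T) := fun i => ∏ j : ZMod q, (φ (di i ^ j.val) : T →* T)
  have hNself : ∀ i (c : C i), N i ⟨c, c.2.1⟩ = (⟨c, c.2.1⟩ : T) ^ q := fun i c => by
    simp only [N, MonoidHom.finsetProd_apply, MonoidHom.coe_coe]
    rw [Finset.prod_congr rfl (g := fun _ => (⟨c, c.2.1⟩ : T)) fun j _ => ?_, Finset.prod_const, Finset.card_univ,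
      ZMod.card]
    exact (hfix _ _).2 (mem_cent.2 ((mem_cent.1 c.2.2).pow_right _))
  have hNother : ∀ i j (c : C i), i ≠ j → N j ⟨c, c.2.1⟩ = 1 := fun i j c hij => by
    simp only [N, MonoidHom.finsetProd_apply, MonoidHom.coe_coe]
    rw [← hNz' ⟨c, c.2.1⟩ (j - i) (sub_ne_zero.2 (Ne.symm hij))]
    refine Finset.prod_congr rfl fun t _ => ?_
    have h1 : φ (di i ^ t.val) ⟨c, c.2.1⟩ = ⟨c, c.2.1⟩ :=
      (hfix _ _).2 (mem_cent.2 ((mem_cent.1 c.2.2).pow_right _))
    have h2 : φ (di j ^ t.val) = φ (z ^ (t.val * (j - i).val)) * φ (di i ^ t.val) := by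
      have e : φ (di j) = φ (z ^ (j - i).val * di i) := by
        have e1 : z ^ (j - i).val * di i = d * z ^ ((j - i).val + i.val) := by
          simp only [di]; rw [← mul_assoc, ← (hdzc.pow_right _).eq, mul_assoc, ← pow_add]
        rw [e1, map_mul, map_mul, ← hper z S.zpow ((j - i).val + i.val), ← ZMod.val_add, sub_add_cancel]
      rw [map_pow, e, ← map_pow, (((hdi_z i).symm.pow_left _)).mul_pow, ← pow_mul, map_mul, mul_comm t.val]
    rw [h2, MulAut.mul_apply, h1]
  let Φ : (∀ i : I, C i) → T := fun c => ∏ i : I, (⟨c i, (c i).2.1⟩ : T)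
  have hΦ : Function.Injective Φ := by
    intro c c' h
    funext i
    have key1 : ∀ c : (∀ i : I, C i), N i (Φ c) = (⟨c i, (c i).2.1⟩ : T) ^ q := fun c => by
      rw [map_prod, Finset.prod_eq_single i (fun j _ hj => hNother _ _ _ fun e => hj (Subtype.ext e))
        (fun h => absurd (Finset.mem_univ _) h), hNself]
    have h1 := key1 c
    rw [h, key1 c'] at h1
    exact Subtype.ext (congrArg Subtype.val (hβinj _ _ h1.symm) :)
  have hprodC : ∏ i ∈ I, Nat.card (C i) ≤ Nat.card T := by
    rw [← Finset.prod_coe_sort, ← Nat.card_pi]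
    exact Nat.card_le_card_of_injective Φ hΦ
  set h₀ := (center G).relIndex H
  have hHc : center G ≤ H := le_inf (center_le_centralizer _) (center_le_centralizer _)
  have hHcard : Nat.card H = Zc * h₀ := by
    have h1 := ((center G).subgroupOf H).card_mul_index
    rw [Nat.card_congr (subgroupOfEquivOfLe hHc).toEquiv] at h1
    exact h1.symm
  have hh0n : h₀ ≤ n := by
    have h1 := Subgroup.card_le_of_le (inf_le_right : H ≤ cent z)
    rw [hHcard, S.card_cent_z, mul_comm n] at h1
    exact Nat.le_of_mul_le_mul_left h1 Nat.card_pos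
  have hh0 : 0 < h₀ := Nat.pos_of_ne_zero ((center G).subgroupOf H).index_ne_zero_of_finite
  have hterm : ∀ i ∈ I, (cent ((a i : T) : G)).relIndex H * Nat.card T ≤ h₀ * Nat.card (C i) := by
    intro i hi
    have h1 := hbound i (Finset.mem_filter.1 hi).2
    have h2 := ((cent ((a i : T) : G)).subgroupOf H).card_mul_index
    rw [← inf_subgroupOf_left, Nat.card_congr (subgroupOfEquivOfLe inf_le_left).toEquiv,
      inf_subgroupOf_left] at h2
    refine Nat.le_of_mul_le_mul_left (c := Zc) ?_ Nat.card_pos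
    calc Zc * ((cent ((a i : T) : G)).relIndex H * Nat.card T)
        = (cent ((a i : T) : G)).relIndex H * (Zc * Nat.card T) := by ring
      _ ≤ (cent ((a i : T) : G)).relIndex H * (Nat.card (H ⊓ cent ((a i : T) : G) : Subgroup G) * Nat.card (C i)) :=
          Nat.mul_le_mul_left _ h1
      _ = Nat.card H * Nat.card (C i) := by rw [← h2]; simp only [relIndex]; ring
      _ = _ := by rw [hHcard]; ring
  have hrel : h₀ ≤ ∏ i ∈ I, (cent ((a i : T) : G)).relIndex H := by
    rw [← Finset.prod_coe_sort]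
    refine le_trans ?_ (relIndex_iInf_le (fun i : I => cent ((a i : T) : G)) (L := H))
    rw [← inf_relIndex_right (⨅ i : I, cent ((a i : T) : G)) H]
    refine relIndex_le_of_le_left (fun w hw => ?_) (subgroupOf _ H).index_ne_zero_of_finite
    refine S.inter_central hw.2.2 (hbb w fun i hi => ?_)
    exact (mem_iInf.1 hw.1) ⟨i, hi⟩
  have hfinal : h₀ * Nat.card T ^ I.card ≤ h₀ ^ I.card * Nat.card T := by
    calc h₀ * Nat.card T ^ I.card ≤ (∏ i ∈ I, (cent ((a i : T) : G)).relIndex H) * Nat.card T ^ I.card :=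
          Nat.mul_le_mul_right _ hrel
      _ = ∏ i ∈ I, ((cent ((a i : T) : G)).relIndex H * Nat.card T) := by
          rw [Finset.prod_mul_distrib, Finset.prod_const]
      _ ≤ ∏ i ∈ I, h₀ * Nat.card (C i) := Finset.prod_le_prod (fun _ _ => Nat.zero_le _) hterm
      _ = h₀ ^ I.card * ∏ i ∈ I, Nat.card (C i) := by rw [Finset.prod_mul_distrib, Finset.prod_const]
      _ ≤ _ := Nat.mul_le_mul_left _ hprodC
  obtain ⟨e, he⟩ : ∃ e, I.card = e + 1 := ⟨I.card - 1, by omega⟩
  rw [he, pow_succ, pow_succ, mul_comm (Nat.card T ^ e), ← mul_assoc, mul_comm (h₀ ^ e) h₀,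
    mul_assoc h₀ (h₀ ^ e), mul_assoc h₀ (Nat.card T), mul_comm (h₀ ^ e)] at hfinal
  have h5 := Nat.le_of_mul_le_mul_left (Nat.le_of_mul_le_mul_left hfinal hh0) (Nat.card_pos (α := T))
  exact absurd h5 (not_le.2 (Nat.pow_lt_pow_left (lt_of_le_of_lt hh0n S.n_lt_T) (by omega)))

end Core

end Cfsg.Agent.GStructB.CoprimeLargest
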