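import Mathlib
import Cfsg.Agent.GStructB.CoprimeLargestMain
import Cfsg.Agent.GStructB.TwoSizesCore
import Cfsg.Agent.Lib.Frobenius.Basic

/-!
Groups whose two largest class sizes are coprime: the Frobenius structure.
-/

set_option autoImplicit false
set_option linter.unusedSectionVars false
set_option linter.style.haveILetI false

namespace Cfsg.Agent.GStructB.CoprimeLargest

open Subgroup
open Cfsg.Agent.GStructB.TwoSizes
open scoped Pointwise

universe u

variable {G : Type u} [Group G] [Finite G] {m n q : ℕ} {b z : G}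

theorem pow_orderOf_mk {l : ℕ} (hl : l.Prime) {w : G} (hwl : IsL l w) (hwc : w ∉ center G) :
    ∃ j : ℕ, w ^ l ^ j ∉ center G ∧ (w ^ l ^ j) ^ l ∈ center G := by
  obtain ⟨i, hi⟩ := hwl
  obtain ⟨j, -, hj⟩ := (Nat.dvd_prime_pow hl).1 (hi ▸ orderOf_map_dvd (QuotientGroup.mk' (center G)) w)
  rcases j with _ | j
  · exact absurd ((QuotientGroup.eq_one_iff w).1 (orderOf_eq_one_iff.1 (by simpa using hj))) hwc
  refine ⟨j, fun h => ?_, ?_⟩
  · have h2 := orderOf_dvd_of_pow_eq_one (x := (QuotientGroup.mk w : G ⧸ center G))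
      (by rw [← QuotientGroup.mk_pow]; exact (QuotientGroup.eq_one_iff _).2 h)
    change orderOf (QuotientGroup.mk' (center G) w) ∣ _ at h2
    rw [hj] at h2
    exact absurd (Nat.le_of_dvd (pow_pos hl.pos _) h2)
      (not_le.2 (Nat.pow_lt_pow_right hl.one_lt (Nat.lt_succ_self j)))
  · rw [← pow_mul, ← pow_succ]
    refine (QuotientGroup.eq_one_iff _).1 ?_
    show QuotientGroup.mk' (center G) (w ^ l ^ (j + 1)) = 1
    rw [map_pow, ← hj]
    exact pow_orderOf_eq_one _

namespace Core

variable (S : Core m n q b z)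
include S

theorem cent_eq {d : G} (hdz : d ∈ cent z) (hdc : d ∉ center G) : cent d = cent z := by
  have prim : ∀ {l : ℕ} {w : G}, l.Prime → IsL l w → w ∈ cent z → w ∉ center G → cent w = cent z := by
    intro l w hl hwl hwz hwc
    by_cases hlq : l = q
    · subst hlq
      obtain ⟨j, hj1, hj2⟩ := pow_orderOf_mk hl hwl hwc
      have h1 : cent (w ^ l ^ j) = cent z := by
        by_contra hne
        obtain ⟨e, he⟩ := hwl
        refine S.key ?_ hj2 hj1 (pow_mem hwz _) hne
        obtain ⟨e', -, he'⟩ := (Nat.dvd_prime_pow hl).1 (he ▸ orderOf_pow_dvd (l ^ j))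
        exact ⟨e', he'⟩
      have h3 : m ∣ ix w := by
        rw [← S.ixz]; exact index_dvd_of_le (h1 ▸ cent_le_pow w (l ^ j))
      have h4 : ix w ≤ ix z := (S.top w).trans S.ixz.ge
      exact cent_eq_of_le (h1 ▸ cent_le_pow w (l ^ j)) h4
    · have hco := coprime_of_isL S.prime hl (Ne.symm hlq) S.zl hwl
      have hcm : Commute z w := (mem_cent.1 hwz).symm
      have hle' : cent (z * w) ≤ cent w := by
        rw [hcm.eq]; exact ClassGraph.centralizer_mul_le hcm.symm hco.symm
      have heq : cent (z * w) = cent z :=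
        cent_eq_of_le (ClassGraph.centralizer_mul_le hcm hco) ((S.top _).trans S.ixz.ge)
      exact S.eq_z_of_le hwc (heq ▸ hle')
  obtain ⟨l, hl, i, hil, hic⟩ := exists_primary hdc
  have h1 := prim hl hil (pow_mem hdz i) hic
  exact cent_eq_of_le (h1 ▸ cent_le_pow d i) ((S.top d).trans S.ixz.ge)

theorem comm_z {a c : G} (ha : a ∈ cent z) (hc : c ∈ cent z) : Commute a c := by
  by_cases hac : a ∈ center G
  · exact (mem_center_iff.1 hac c).symm
  · exact (mem_cent.1 ((S.cent_eq ha hac).symm ▸ hc)).symm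

theorem lp_center_mul {l : ℕ} [Fact l.Prime] (hl : ¬ l ∣ m) : lp l (cent z) = lp l (⊤ : Subgroup G) := by
  rw [TwoSizes.lp, TwoSizes.lp, card_top, ← card_cent_mul z, S.ixz, Nat.factorization_mul Nat.card_pos.ne' S.toBase.m_pos.ne',
    Finsupp.add_apply, Nat.factorization_eq_zero_of_not_dvd hl, add_zero]

theorem card_cent_pi {l : ℕ} (hl : l.Prime) (hln : l ∣ n) {w : G} (hwl : IsL l w) (hwc : w ∉ center G) :
    Nat.card (cent w) = n * Nat.card (center G) := by
  haveI : Fact l.Prime := ⟨hl⟩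
  obtain ⟨T, hT, hTp, hTc⟩ := exists_sylow_in (l := l) (cent z)
  rw [S.lp_center_mul fun h => hl.not_dvd_one (S.cop ▸ Nat.dvd_gcd h hln)] at hTc
  obtain ⟨Q, hQ⟩ := hTp.exists_le_sylow
  have hQT : T = (Q : Subgroup G) := eq_of_le_of_card_ge hQ (by rw [hTc, card_sylow])
  obtain ⟨i, hi⟩ := hwl
  obtain ⟨R, hR⟩ := PElements.exists_mem_sylow hi
  obtain ⟨c, hc⟩ := MulAction.exists_smul_eq G R Q
  have hw' : c * w * c⁻¹ ∈ cent z := by
    refine hT ?_
    rw [hQT, ← hc]
    show c * w * c⁻¹ ∈ MulAut.conj c • (R : Subgroup G)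
    rw [PElements.mem_conj_smul]
    simp only [mul_assoc, inv_mul_cancel_left, inv_mul_cancel, mul_one]
    exact hR
  have hwc' : c * w * c⁻¹ ∉ center G := fun h => hwc (by
    rwa [(show (center G).Normal from inferInstance).mem_comm_iff, inv_mul_cancel_left] at h)
  rw [← S.card_cent_z, ← card_cent_conj w c, S.cent_eq hw' hwc']

/-- Facts about a non-central element of prime power order prime to `n`. -/
theorem index_n {l : ℕ} (hl : l.Prime) (hln : ¬ l ∣ n) {g : G} (hgl : IsL l g) (hgc : g ∉ center G) :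
    ix g = n ∧ ∀ w ∈ cent g, ∀ l' : ℕ, l'.Prime → l' ∣ n → IsL l' w → w ∈ center G := by
  have hpow : ∀ C : Subgroup G, center G ≤ C → Nat.card C = n * Nat.card (center G) → g ∈ C → False := by
    intro C h1 h2 h3
    obtain ⟨k, hk⟩ := exists_pow_eq_self_of_coprime (x := g) (n := n) (isL_coprime_of_dvd hl hgl hln).symm
    exact hgc (hk ▸ pow_mem (S.pow_mem_center_of_card h1 h2 h3) k)
  have hw : ∀ w ∈ cent g, ∀ l' : ℕ, l'.Prime → l' ∣ n → IsL l' w → w ∈ center G := by
    intro w hw l' hl' hl'n hwl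
    by_contra hwc
    exact hpow _ (center_le_centralizer _) (S.card_cent_pi hl' hl'n hwl hwc)
      (mem_cent.2 (mem_cent.1 hw).symm)
  refine ⟨?_, hw⟩
  have hne : ix g ≠ m := fun he => by
    have h := card_cent_mul g
    rw [he, S.card_G] at h
    exact hpow _ (center_le_centralizer _) (Nat.eq_of_mul_eq_mul_right S.toBase.m_pos h) (self_mem_cent g)
  have hle := S.second g (lt_of_le_of_ne (S.top g) hne)
  have hn0 : n ≠ 0 := by have := S.one_lt; omega
  have hdvd : n ∣ ix g := by
    rw [← Nat.factorization_le_iff_dvd hn0 (ix_pos g).ne']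
    intro p
    by_cases hp : p.Prime
    · by_cases hpn : p ∣ n
      · haveI : Fact p.Prime := ⟨hp⟩
        obtain ⟨T, hT, hTp, hTc⟩ := exists_sylow_in (l := p) (cent g)
        have h1 : lp p (cent g) ≤ lp p (center G) := by
          rw [← hTc]
          exact card_le_lp hTp fun w hwT => hw w (hT hwT) p hp hpn (isL_of_mem hTp hwT)
        have h2 : (Nat.card (cent g)).factorization p ≤ (Nat.card (center G)).factorization p :=
          (Nat.pow_le_pow_iff_right hp.one_lt).1 h1
        have h3 := congrArg (fun k => k.factorization p) (card_cent_mul g)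
        simp only [Nat.factorization_mul Nat.card_pos.ne' (ix_pos g).ne', Finsupp.add_apply, S.card_G,
          Nat.factorization_mul (Nat.mul_ne_zero hn0 Nat.card_pos.ne') S.toBase.m_pos.ne',
          Nat.factorization_mul hn0 Nat.card_pos.ne',
          Nat.factorization_eq_zero_of_not_dvd (fun h => hp.not_dvd_one (S.cop ▸ Nat.dvd_gcd h hpn) : ¬ p ∣ m)] at h3
        omega
      · rw [Nat.factorization_eq_zero_of_not_dvd hpn]; exact Nat.zero_le _
    · rw [Nat.factorization_eq_zero_of_not_prime _ hp]; exact Nat.zero_le _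
  exact le_antisymm hle (Nat.le_of_dvd (ix_pos g) hdvd)

/-- `cent b` is normal and abelian, and contains every element of order prime to `n`. -/
theorem cent_b_props : (cent b).Normal ∧ (∀ a ∈ cent b, a ∉ center G → cent a = cent b) := by
  classical
  haveI := Fintype.ofFinite (Subgroup G)
  let fam : Finset (Subgroup G) := Finset.univ.filter fun A => A.Normal ∧ (Nat.card A).Coprime n
  have hne : fam.Nonempty := ⟨⊥, Finset.mem_filter.2 ⟨Finset.mem_univ _, inferInstance, by simp⟩⟩
  obtain ⟨M, hM, hmax⟩ := fam.exists_max_image (fun A => Nat.card A) hne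
  obtain ⟨hMn, hMc⟩ := (Finset.mem_filter.1 hM).2
  haveI := hMn
  have habs : ∀ T : Subgroup G, T.Normal → (Nat.card T).Coprime n → T ≤ M := by
    intro T hT hTc
    haveI := hT
    have hsup : T ⊔ M ∈ fam := by
      refine Finset.mem_filter.2 ⟨Finset.mem_univ _, inferInstance, ?_⟩
      refine Nat.Coprime.coprime_dvd_left ?_ (hTc.mul_left hMc)
      have h1 := Hall.card_mul_inf T M
      rw [← Subgroup.normal_mul T M, SetLike.coe_sort_coe] at h1
      exact Dvd.intro _ h1
    have := eq_of_le_of_card_ge (le_sup_right : M ≤ T ⊔ M) (hmax _ hsup)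
    rw [this]; exact le_sup_left
  set F := center G ⊔ M
  haveI hFn : F.Normal := inferInstance
  have hprim : ∀ {l : ℕ} {g : G}, l.Prime → ¬ l ∣ n → IsL l g → g ∈ F := by
    intro l g hl hln hgl
    by_cases hgc : g ∈ center G
    · exact mem_sup_left hgc
    obtain ⟨hix, -⟩ := S.index_n hl hln hgl hgc
    obtain ⟨h1, -, h2, -⟩ := absorb (u := z) (v := g) (by rw [S.ixz, hix]; exact S.cop)
      (by rw [S.ixz]; exact S.top _)
    exact (sup_le le_sup_left ((habs _ (diff_normal g) (S.cop.coprime_dvd_left (S.ixz ▸ h1))).trans le_sup_right)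
      : center G ⊔ diff g ≤ F) h2
  have hcard : Nat.card F ∣ Nat.card (center G) * Nat.card M := by
    have h1 := Hall.card_mul_inf (center G) M
    rw [← Subgroup.normal_mul (center G) M, SetLike.coe_sort_coe] at h1
    exact Dvd.intro _ h1
  have hsub : ∀ X : Subgroup G, (∀ l : ℕ, l.Prime → l ∣ n → ∀ w ∈ X, IsL l w → w ∈ center G) → X ≤ F := by
    intro X hX
    have h := le_of_lp_le (inf_le_left : X ⊓ F ≤ X) fun l hl => by
      haveI : Fact l.Prime := ⟨hl⟩
      obtain ⟨T, hT, hTp, hTc⟩ := exists_sylow_in (l := l) X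
      rw [← hTc]
      refine card_le_lp hTp fun w hw => ⟨hT hw, ?_⟩
      by_cases hln : l ∣ n
      · exact mem_sup_left (hX l hl hln w (hT hw) (isL_of_mem hTp hw))
      · exact hprim hl hln (isL_of_mem hTp hw)
    exact inf_eq_left.1 h
  have hbF : cent b ≤ F := hsub _ fun l hl hln w hw hwl => S.toBase.pi_central hl hln hwl hw
  have hFb : F = cent b := by
    refine (le_of_lp_le hbF fun l hl => ?_).symm
    haveI : Fact l.Prime := ⟨hl⟩
    by_cases hln : l ∣ n
    · refine le_trans ?_ (lp_le_of_le (center_le_centralizer _))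
      refine Nat.pow_le_pow_right hl.pos ?_
      have h2 := (Nat.factorization_le_iff_dvd Nat.card_pos.ne'
        (Nat.mul_ne_zero Nat.card_pos.ne' Nat.card_pos.ne')).2 hcard l
      rw [Nat.factorization_mul Nat.card_pos.ne' Nat.card_pos.ne', Finsupp.add_apply,
        Nat.factorization_eq_zero_of_not_dvd
          (fun h => hl.not_dvd_one (hMc ▸ Nat.dvd_gcd h hln) : ¬ l ∣ Nat.card M), add_zero] at h2
      exact h2
    · refine (lp_le_of_le le_top).trans (le_of_eq ?_)
      rw [TwoSizes.lp, TwoSizes.lp, card_top, ← card_cent_mul b, S.ixb, Nat.factorization_mul Nat.card_pos.ne'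
        (Nat.ne_of_gt (lt_trans one_pos S.one_lt)), Finsupp.add_apply, Nat.factorization_eq_zero_of_not_dvd hln,
        add_zero]
  refine ⟨hFb ▸ hFn, fun a ha hac => ?_⟩
  obtain ⟨l, hl, i, hil, hic⟩ := exists_primary hac
  by_cases hln : l ∣ n
  · exact absurd (S.toBase.pi_central hl hln hil (pow_mem ha i)) hic
  obtain ⟨hix, hw⟩ := S.index_n hl hln hil hic
  have h1 : cent (a ^ i) ≤ cent b := hFb ▸ hsub _ fun l' hl' hl'n w hwm hwl => hw w hwm l' hl' hl'n hwl
  have h2 : cent (a ^ i) = cent b := cent_eq_of_le h1 (by rw [hix, S.ixb])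
  have h3 : cent a ≤ cent b := h2 ▸ cent_le_pow a i
  have hlt : ix a < m := lt_of_le_of_ne (S.top a) fun he =>
    Nat.ne_of_gt S.one_lt (Nat.eq_one_of_dvd_coprimes S.cop (he ▸ S.ixb ▸ index_dvd_of_le h3) dvd_rfl)
  exact cent_eq_of_le h3 ((S.second a hlt).trans S.ixb.ge)

theorem comm_b {a c : G} (ha : a ∈ cent b) (hc : c ∈ cent b) : Commute a c := by
  by_cases hac : a ∈ center G
  · exact (mem_center_iff.1 hac c).symm
  · exact (mem_cent.1 ((S.cent_b_props.2 a ha hac).symm ▸ hc)).symm

/-- The Frobenius structure of `G / Z(G)`. -/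
theorem frobenius : Cfsg.IsFrobeniusComplement ((cent z).map (QuotientGroup.mk' (center G))) ∧
    Cfsg.frobeniusKernel ((cent z).map (QuotientGroup.mk' (center G))) =
      ((cent b).map (QuotientGroup.mk' (center G)) : Set (G ⧸ center G)) := by
  haveI := S.cent_b_props.1
  set f := QuotientGroup.mk' (center G)
  have hf : Function.Surjective f := QuotientGroup.mk'_surjective _
  haveI : ((cent b).map f).Normal := S.cent_b_props.1.map f hf
  have hker : f.ker = center G := QuotientGroup.ker_mk' _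
  refine Frobenius.Basic.isFrobeniusComplement_of_fixedPointFree _ _ ?_ ?_ ?_ ?_ ?_
  · rw [eq_bot_iff]
    rintro _ ⟨⟨a, ha, rfl⟩, ⟨c, hc, hca⟩⟩
    have h1 : a⁻¹ * c ∈ center G := by rw [← hker, MonoidHom.mem_ker, map_mul, map_inv, hca, inv_mul_cancel]
    have haz : a ∈ cent z := by
      have h3 : c * (a⁻¹ * c)⁻¹ ∈ cent z := mul_mem hc (inv_mem (center_le_centralizer _ h1))
      rwa [show c * (a⁻¹ * c)⁻¹ = a by group] at h3
    exact mem_bot.2 ((QuotientGroup.eq_one_iff a).2 (S.inter_central haz ha))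
  · rw [← Subgroup.map_sup]
    refine (congrArg (Subgroup.map f) (eq_top_of_card_eq _ ?_)).trans (Subgroup.map_top_of_surjective f hf)
    have h1 := Hall.card_mul_inf (cent b) (cent z)
    rw [← Subgroup.normal_mul (cent b) (cent z), SetLike.coe_sort_coe] at h1
    have h2 : cent b ⊓ cent z = center G := le_antisymm (fun d hd => S.inter_central hd.2 hd.1)
      (le_inf (center_le_centralizer _) (center_le_centralizer _))
    rw [h2, S.card_cent_b, S.card_cent_z] at h1
    rw [S.card_G]
    refine Nat.eq_of_mul_eq_mul_right (Nat.card_pos (α := center G)) ?_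
    rw [h1]; ring
  · intro h
    rw [Subgroup.map_eq_bot_iff, hker] at h
    exact S.toBase.not_center_b (h (self_mem_cent b))
  · intro h
    rw [Subgroup.map_eq_bot_iff, hker] at h
    exact S.toBase.not_center_z (h (self_mem_cent z))
  · rintro _ ⟨c, hc, rfl⟩ hc1 _ ⟨a, ha, rfl⟩ hac
    by_contra ha1
    have hcc : c ∉ center G := fun h => hc1 ((QuotientGroup.eq_one_iff c).2 h)
    have hac' : a ∉ center G := fun h => ha1 ((QuotientGroup.eq_one_iff a).2 h)
    obtain ⟨l, hl, i, hil, hic⟩ := exists_primary hcc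
    obtain ⟨l', hl', j, hjl, hjc⟩ := exists_primary hac'
    have hln : l ∣ n := by
      by_contra hln
      have h1 := S.pow_mem_center_of_card (center_le_centralizer _) S.card_cent_z (pow_mem hc i)
      obtain ⟨k, hk⟩ := exists_pow_eq_self_of_coprime (x := c ^ i) (n := n) (isL_coprime_of_dvd hl hil hln).symm
      exact hic (hk ▸ pow_mem h1 k)
    have hl'n : ¬ l' ∣ n := fun h => hjc (S.toBase.pi_central hl' h hjl (pow_mem ha j))
    have hcomm : Commute (f c) (f a) := hac.symm
    have hmod : c ^ i * a ^ j * (c ^ i)⁻¹ * (a ^ j)⁻¹ ∈ center G := by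
      rw [← hker, MonoidHom.mem_ker, map_mul, map_mul, map_mul, map_inv, map_inv, map_pow, map_pow,
        (hcomm.pow_pow i j).eq, mul_inv_cancel_right, mul_inv_cancel]
    have h2 : Commute (c ^ i) (a ^ j) :=
      commute_of_mod_center hl' hl (fun h => hl'n (h ▸ hln)) hil hjl hmod
    have h3 : a ^ j ∈ cent z := by
      rw [← S.cent_eq (pow_mem hc i) hic]
      exact mem_cent.2 h2.symm
    exact hjc (S.inter_central h3 (pow_mem ha j))

end Core

/-- Groups whose two largest class sizes are coprime. -/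
theorem coprime_largest (m n : ℕ) (hmn : n < m) (hn : 1 < n) (hcop : m.Coprime n)
    (htop : ∀ w : G, ix w ≤ m) (hsecond : ∀ w : G, ix w < m → ix w ≤ n) (x y : G) (hx : ix x = n)
    (hy : ix y = m) :
    IsMulCommutative (cent x) ∧ IsMulCommutative (cent y) ∧
    Cfsg.IsFrobeniusComplement ((cent y).map (QuotientGroup.mk' (center G))) ∧
    Cfsg.frobeniusKernel ((cent y).map (QuotientGroup.mk' (center G))) =
      ((cent x).map (QuotientGroup.mk' (center G)) : Set (G ⧸ center G)) := by
  obtain ⟨-, -, hmem, -⟩ := absorb (u := y) (v := x) (by rw [hy, hx]; exact hcop) (by rw [hy]; exact htop _)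
  haveI := diff_normal x
  obtain ⟨c, hc, b, hb, hcb⟩ := mem_sup_of_normal_left.1 hmem
  have hcc : ∀ g : G, Commute c g := fun g => (mem_center_iff.1 hc g).symm
  have hdiff : diff b = diff x := by
    rw [diff, diff]
    congr 1
    refine congrArg Set.range (funext fun g => ?_)
    rw [← hcb, show g * (c * b) * g⁻¹ * (c * b)⁻¹ = (g * c * g⁻¹) * (g * b * g⁻¹ * b⁻¹) * c⁻¹ by group,
      ← (hcc g).eq, mul_inv_cancel_right, (hcc _).eq, mul_inv_cancel_right]
  have hcent : cent b = cent x := by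
    ext g
    rw [mem_cent, mem_cent, ← hcb]
    refine ⟨fun h => ((hcc g).symm).mul_right h, fun h => ?_⟩
    have h2 := ((hcc g).symm.inv_right).mul_right h
    rwa [inv_mul_cancel_left] at h2
  have B : Base m n b y :=
    ⟨hmn, hn, hcop, htop, hsecond, by rw [ix, hcent]; exact hx, hy, hdiff.symm ▸ hb⟩
  -- choose a suitable representative for `y`
  have hprime : ∀ {l : ℕ} {w : G}, w ∉ center G → cent y ≤ cent w → IsL l w → cent w = cent y := by
    intro l w hwc hle _
    have hd : ix w ∣ m := hy ▸ index_dvd_of_le hle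
    exact (cent_eq_of_le hle (by rw [hy, B.index_m hwc (hcop.coprime_dvd_left hd)])).symm
  obtain ⟨q, z, hq, hqn, hzl, hzeq⟩ : ∃ (q : ℕ) (z : G), q.Prime ∧ q ∣ n ∧ IsL q z ∧ cent z = cent y := by
    obtain ⟨l, hl, i, hil, hic⟩ := exists_primary B.not_center_z
    have h1 := hprime hic (cent_le_pow y i) hil
    by_cases hln : l ∣ n
    · exact ⟨l, _, hl, hln, hil, h1⟩
    obtain ⟨q, hq, hqn⟩ := Nat.exists_prime_and_dvd (show n ≠ 1 by omega)
    haveI : Fact q.Prime := ⟨hq⟩
    have hlt : lp q (center G) < lp q (cent y) := by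
      have e1 : lp q (cent y) = lp q (⊤ : Subgroup G) := by
        rw [TwoSizes.lp, TwoSizes.lp, card_top, ← card_cent_mul y, hy, Nat.factorization_mul Nat.card_pos.ne' B.m_pos.ne',
          Finsupp.add_apply, Nat.factorization_eq_zero_of_not_dvd
            (fun h => hq.not_dvd_one (hcop ▸ Nat.dvd_gcd h hqn) : ¬ q ∣ m), add_zero]
      rw [e1]
      refine lt_of_le_of_lt (lp_le_of_le (center_le_centralizer ({b} : Set G))) ?_
      rw [TwoSizes.lp, TwoSizes.lp, card_top, ← card_cent_mul b, B.ixb, Nat.factorization_mul Nat.card_pos.ne' (by omega),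
        Finsupp.add_apply]
      exact Nat.pow_lt_pow_right hq.one_lt (Nat.lt_add_of_pos_right
        (hq.factorization_pos_of_dvd (by omega) hqn))
    obtain ⟨h, hh, hhl, hhc⟩ := full_of_lt hlt
    refine ⟨q, h, hq, hqn, hhl, hprime hhc ?_ hhl⟩
    have hcm : Commute (y ^ i) h := ((mem_cent.1 hh).symm).pow_left i
    have hco := coprime_of_isL hl hq (fun e => hln (e ▸ hqn)) hil hhl
    have hle2 : cent (y ^ i * h) ≤ cent h := by
      rw [hcm.eq]; exact ClassGraph.centralizer_mul_le hcm.symm hco.symm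
    have hle1 : cent (y ^ i * h) ≤ cent (y ^ i) := ClassGraph.centralizer_mul_le hcm hco
    rw [h1] at hle1
    rw [← cent_eq_of_le hle1 (hy.symm ▸ htop _)]
    exact hle2
  have hzc : z ∉ center G := fun h => B.not_center_z (mem_center_iff.2 fun g =>
    mem_cent.1 (hzeq ▸ mem_cent.2 (mem_center_iff.1 h g)))
  obtain ⟨j, hj1, hj2⟩ := pow_orderOf_mk hq hzl hzc
  have hzl' : IsL q (z ^ q ^ j) := by
    obtain ⟨e, he⟩ := hzl
    obtain ⟨e', -, he'⟩ := (Nat.dvd_prime_pow hq).1 (he ▸ orderOf_pow_dvd (q ^ j))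
    exact ⟨e', he'⟩
  have hzeq' : cent (z ^ q ^ j) = cent y := hprime hj1 (hzeq ▸ cent_le_pow z _) hzl'
  have S : Core m n q b (z ^ q ^ j) := by
    refine ⟨⟨B.lt, B.one_lt, B.cop, B.top, B.second, B.ixb, ?_, B.mem⟩, hq, hqn, hzl', hj2⟩
    show (cent (z ^ q ^ j)).index = m
    rw [hzeq']; exact hy
  rw [← hcent, ← hzeq']
  exact ⟨⟨⟨fun a d => Subtype.ext (S.comm_b a.2 d.2)⟩⟩, ⟨⟨fun a d => Subtype.ext (S.comm_z a.2 d.2)⟩⟩,
    S.frobenius⟩

end Cfsg.Agent.GStructB.CoprimeLargest
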