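import Cfsg.Agent.GenA.Schur.Cover
import Mathlib

/-!
Uniqueness of Schur covers over the group.
-/

set_option autoImplicit false

namespace Cfsg.Agent.GStructB.CoverUnique

open scoped commutatorElement

universe u v

variable {Q : Type u} [Group Q] [Finite Q]

theorem map_mem_commutator {G H : Type*} [Group G] [Group H] (f : G →* H) {z : G} (hz : z ∈ commutator G) :
    f z ∈ commutator H := by
  have := Subgroup.mem_map_of_mem f hz
  rw [_root_.commutator_def, Subgroup.map_commutator] at this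
  exact Subgroup.commutator_mono le_top le_top this

/-- Coprime commutator quotient: covers are isomorphic over the group. -/
theorem exists_iso {A : Type v} [CommGroup A] (hA : Cfsg.HasSchurMultiplier Q A)
    (hcop : Nat.Coprime (Nat.card (Abelianization Q)) (Nat.card A))
    {Γ₁ Γ₂ : Type u} [Group Γ₁] [Finite Γ₁] [Group Γ₂] [Finite Γ₂] (σ₁ : Γ₁ →* Q) (σ₂ : Γ₂ →* Q)
    (h₁ : Cfsg.IsStemExtension σ₁) (h₂ : Cfsg.IsStemExtension σ₂) (e₁ : σ₁.ker ≃* A) (e₂ : σ₂.ker ≃* A) :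
    ∃ e : Γ₁ ≃* Γ₂, σ₂.comp e.toMonoidHom = σ₁ := by
  classical
  obtain ⟨eM⟩ := GenA.Schur.mulEquiv_M hA
  set n := Nat.card (Abelianization Q) with hn
  let X : Subgroup (Γ₁ × Γ₂) := (σ₁.comp (MonoidHom.fst Γ₁ Γ₂)).eqLocus (σ₂.comp (MonoidHom.snd Γ₁ Γ₂))
  let ξ : X →* Q := (σ₁.comp (MonoidHom.fst Γ₁ Γ₂)).comp X.subtype
  have hξ2 : ∀ x : X, σ₂ x.1.2 = ξ x := fun x => x.2.symm
  have hξsurj : Function.Surjective ξ := fun q => by
    obtain ⟨a, ha⟩ := h₁.1 q
    obtain ⟨b, hb⟩ := h₂.1 q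
    exact ⟨⟨(a, b), show σ₁ a = σ₂ b by rw [ha, hb]⟩, ha⟩
  have hξc : ξ.ker ≤ Subgroup.center X := fun x hx => Subgroup.mem_center_iff.mpr fun y => Subtype.ext (Prod.ext
    (Subgroup.mem_center_iff.mp (h₁.2.1 hx) _)
    (Subgroup.mem_center_iff.mp (h₂.2.1 (show σ₂ x.1.2 = 1 by rw [hξ2]; exact hx)) _))
  obtain ⟨η, hη⟩ := GenA.Schur.exists_lift ξ hξsurj hξc (MonoidHom.id Q)
  rw [MonoidHom.id_comp] at hη
  have hD := GenA.Schur.map_M ξ hξc η hη
  let π₁ : X →* Γ₁ := (MonoidHom.fst Γ₁ Γ₂).comp X.subtype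
  let π₂ : X →* Γ₂ := (MonoidHom.snd Γ₁ Γ₂).comp X.subtype
  have hσπ₂ : σ₂.comp π₂ = ξ := MonoidHom.ext hξ2
  -- the projections are bijective on the derived part of the kernel
  have hproj : ∀ {Γ : Type u} [Group Γ] [Finite Γ] (σ : Γ →* Q) (_ : Cfsg.IsStemExtension σ) (_ : σ.ker ≃* A)
      (π : X →* Γ), σ.comp π = ξ →
      (∀ d ∈ ξ.ker ⊓ commutator X, π d = 1 → d = 1) ∧ ∀ z ∈ σ.ker, ∃ d ∈ ξ.ker ⊓ commutator X, π d = z := by
    intro Γ _ _ σ hσ e π hπ
    obtain ⟨hmap, -⟩ := GenA.Schur.map_M_stem σ hσ (π.comp η) (by rw [← MonoidHom.comp_assoc, hπ, hη])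
    let f : GenA.Schur.M Q →* σ.ker := ((π.comp η).comp (GenA.Schur.M Q).subtype).codRestrict σ.ker
      fun a => hmap ▸ Subgroup.mem_map_of_mem (π.comp η) a.2
    have hf : Function.Surjective f := fun z => by
      obtain ⟨m, hm, hmz⟩ := hmap.ge z.2
      exact ⟨⟨m, hm⟩, Subtype.ext hmz⟩
    have hbij := (Nat.bijective_iff_surjective_and_card f).mpr ⟨hf, Nat.card_congr (eM.symm.trans e.symm).toEquiv⟩
    refine ⟨fun d hd hd1 => ?_, fun z hz => ?_⟩
    · obtain ⟨m, hm, rfl⟩ := hD.ge hd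
      have : (⟨m, hm⟩ : GenA.Schur.M Q) = 1 := hbij.1 (Subtype.ext (by rw [map_one]; exact hd1))
      rw [show m = 1 from congrArg Subtype.val this, map_one]
    · obtain ⟨⟨m, hm⟩, hmz⟩ := hf ⟨z, hz⟩
      exact ⟨η m, hD.le (Subgroup.mem_map_of_mem η hm), congrArg Subtype.val hmz⟩
  obtain ⟨hinj₁, hsurj₁⟩ := hproj σ₁ h₁ e₁ π₁ rfl
  obtain ⟨hinj₂, hsurj₂⟩ := hproj σ₂ h₂ e₂ π₂ hσπ₂
  let C : Subgroup X := (commutator (X)).comap (MonoidHom.id X) ⊔
    Subgroup.closure {x : X | x ^ n ∈ commutator X}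
  have hC : ∀ x ∈ C, x ^ n ∈ commutator X := by
    intro x hx
    have hab : ∀ y : X, y ^ n ∈ commutator X ↔ Abelianization.of y ^ n = 1 := fun y => by
      rw [← map_pow, ← MonoidHom.mem_ker, Abelianization.ker_of]
    have hle : C ≤ ((powMonoidHom n).comp (Abelianization.of (G := X))).ker := by
      refine sup_le ?_ ((Subgroup.closure_le _).mpr fun y hy => ?_)
      · intro y hy
        have h0 : Abelianization.of y = 1 := by
          rw [← MonoidHom.mem_ker, Abelianization.ker_of]; exact hy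
        simp [MonoidHom.mem_ker, h0]
      · exact (hab y).mp hy
    exact (hab x).mpr (hle hx)
  have hcommC : commutator X ≤ C := le_sup_left
  -- `C` meets the kernel in its derived part
  have hCK : ∀ x ∈ C, x ∈ ξ.ker → x ∈ ξ.ker ⊓ commutator X := by
    intro x hx hk
    refine ⟨hk, ?_⟩
    obtain ⟨d, hd, hd1⟩ := hsurj₁ (π₁ x) hk
    have hd2 : d⁻¹ * x ∈ ξ.ker := mul_mem (inv_mem hd.1) hk
    have hd3 : (d⁻¹ * x) ^ n ∈ ξ.ker ⊓ commutator X :=
      ⟨pow_mem hd2 n, hC _ (mul_mem (inv_mem (hcommC hd.2)) hx)⟩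
    have h1 : (d⁻¹ * x) ^ n = 1 := hinj₁ _ hd3 (by rw [map_pow, map_mul, map_inv, hd1, inv_mul_cancel, one_pow])
    have h2 : (d⁻¹ * x) ^ Nat.card A = 1 := by
      refine Subtype.ext (Prod.ext ?_ ?_)
      · rw [SubmonoidClass.coe_pow, Prod.pow_fst]
        show (π₁ (d⁻¹ * x)) ^ Nat.card A = 1
        rw [map_mul, map_inv, hd1, inv_mul_cancel, one_pow]
      · rw [SubmonoidClass.coe_pow, Prod.pow_snd]
        have hm : π₂ (d⁻¹ * x) ∈ σ₂.ker := by
          rw [MonoidHom.mem_ker, ← MonoidHom.comp_apply, hσπ₂]; exact hd2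
        have := congrArg Subtype.val (pow_card_eq_one' (x := (⟨_, hm⟩ : σ₂.ker)))
        rw [Nat.card_congr e₂.toEquiv] at this
        exact this
    have h3 : d⁻¹ * x = 1 := orderOf_eq_one_iff.mp
      (Nat.eq_one_of_dvd_coprimes hcop (orderOf_dvd_of_pow_eq_one h1) (orderOf_dvd_of_pow_eq_one h2))
    rw [show x = d from (inv_mul_eq_one.mp h3).symm]
    exact hd.2
  -- `C` covers `Q`
  have hCQ : ∀ q : Q, ∃ x ∈ C, ξ x = q := by
    intro q
    obtain ⟨x, hx⟩ := hξsurj q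
    obtain ⟨m, hm⟩ : ∃ m : ℕ, Nat.card A * m ≡ 1 [MOD n] := by
      rcases Nat.eq_zero_or_pos (Nat.card A) with h | h
      · exact ⟨0, by rw [h, Nat.coprime_zero_right] at hcop; rw [hcop]; exact Nat.modEq_one⟩
      by_cases hn1 : n = 1
      · exact ⟨0, by rw [hn1]; exact Nat.modEq_one⟩
      exact ⟨_, (Nat.exists_mul_mod_eq_one_of_coprime hcop.symm (by
        have : 0 < n := Nat.card_pos
        omega)).choose_spec.2.trans (Nat.one_mod_eq_one.mpr hn1).symm⟩
    have hxn : ξ (x ^ n) ∈ commutator Q := by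
      rw [← Abelianization.ker_of, MonoidHom.mem_ker, map_pow, map_pow, pow_card_eq_one']
    obtain ⟨c, hc, hcx⟩ : ∃ c ∈ commutator X, ξ c = ξ (x ^ n) := by
      have : commutator Q ≤ (commutator X).map ξ := by
        rw [_root_.commutator_def Q, _root_.commutator_def X, Subgroup.map_commutator,
          Subgroup.map_top_of_surjective ξ hξsurj]
      exact this hxn
    have hk : c⁻¹ * x ^ n ∈ ξ.ker := by rw [MonoidHom.mem_ker, map_mul, map_inv, hcx, inv_mul_cancel]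
    have hA' : ∀ z ∈ ξ.ker, z ^ Nat.card A = 1 := fun z hz => Subtype.ext (Prod.ext
      (by
        rw [SubmonoidClass.coe_pow, Prod.pow_fst]
        have := congrArg Subtype.val (pow_card_eq_one' (x := (⟨z.1.1, hz⟩ : σ₁.ker)))
        rw [Nat.card_congr e₁.toEquiv] at this
        exact this)
      (by
        rw [SubmonoidClass.coe_pow, Prod.pow_snd]
        have := congrArg Subtype.val (pow_card_eq_one' (x := (⟨z.1.2, show σ₂ z.1.2 = 1 by rw [hξ2]; exact hz⟩ : σ₂.ker)))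
        rw [Nat.card_congr e₂.toEquiv] at this
        exact this))
    set y := x ^ (Nat.card A * m) with hy
    have hyC : y ∈ C := by
      refine Subgroup.mem_sup_right (Subgroup.subset_closure ?_)
      show y ^ n ∈ commutator X
      have h1 : Abelianization.of (c⁻¹ * x ^ n) ^ (Nat.card A * m) = 1 := by
        rw [← map_pow, pow_mul, hA' _ hk, one_pow, map_one]
      have h2 : Abelianization.of c = 1 := by rw [← MonoidHom.mem_ker, Abelianization.ker_of]; exact hc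
      rw [map_mul, map_inv, h2, inv_one, one_mul, ← map_pow] at h1
      rw [← Abelianization.ker_of, MonoidHom.mem_ker, hy, ← pow_mul, mul_comm, pow_mul]
      exact h1
    have hyq : Abelianization.of (q⁻¹ * ξ y) = 1 := by
      rw [map_mul, map_inv, hy, map_pow, map_pow, hx, inv_mul_eq_one]
      refine ((pow_eq_pow_mod _ (pow_card_eq_one' (x := Abelianization.of q))).trans ?_).symm
      show Abelianization.of q ^ (Nat.card A * m % n) = _
      rw [show Nat.card A * m % n = 1 % n from hm, ← pow_eq_pow_mod _ (pow_card_eq_one' (x := Abelianization.of q)), pow_one]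
    have : commutator Q ≤ (commutator X).map ξ := by
      rw [_root_.commutator_def Q, _root_.commutator_def X, Subgroup.map_commutator,
        Subgroup.map_top_of_surjective ξ hξsurj]
    obtain ⟨c', hc', hc'q⟩ := this (show q⁻¹ * ξ y ∈ commutator Q by
      rw [← Abelianization.ker_of]; exact hyq)
    exact ⟨y * c'⁻¹, mul_mem hyC (inv_mem (hcommC hc')), by rw [map_mul, map_inv, hc'q]; group⟩
  -- both projections of `C` are isomorphisms
  have hiso : ∀ {Γ : Type u} [Group Γ] [Finite Γ] (σ : Γ →* Q) (π : X →* Γ), σ.comp π = ξ →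
      (∀ d ∈ ξ.ker ⊓ commutator X, π d = 1 → d = 1) → (∀ z ∈ σ.ker, ∃ d ∈ ξ.ker ⊓ commutator X, π d = z) →
      Function.Bijective (π.comp C.subtype) := by
    intro Γ _ _ σ π hπ hi hs
    have hπ' : ∀ x, σ (π x) = ξ x := DFunLike.congr_fun hπ
    refine ⟨(injective_iff_map_eq_one _).mpr fun x hx => Subtype.ext ?_, fun g => ?_⟩
    · refine hi _ (hCK x x.2 ?_) hx
      rw [MonoidHom.mem_ker, ← hπ', show π (x : X) = 1 from hx, map_one]
    · obtain ⟨x, hx, hxq⟩ := hCQ (σ g)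
      obtain ⟨d, hd, hdz⟩ := hs ((π x)⁻¹ * g) (by rw [MonoidHom.mem_ker, map_mul, map_inv, hπ', hxq, inv_mul_cancel])
      exact ⟨⟨x * d, mul_mem hx (hcommC hd.2)⟩, by
        show π (x * d) = g
        rw [map_mul, hdz, mul_inv_cancel_left]⟩
  let f₁ := MulEquiv.ofBijective _ (hiso σ₁ π₁ rfl hinj₁ hsurj₁)
  let f₂ := MulEquiv.ofBijective _ (hiso σ₂ π₂ hσπ₂ hinj₂ hsurj₂)
  refine ⟨f₁.symm.trans f₂, MonoidHom.ext fun g => ?_⟩
  obtain ⟨c, rfl⟩ := f₁.surjective g
  show σ₂ (f₂ (f₁.symm (f₁ c))) = σ₁ (f₁ c)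
  rw [MulEquiv.symm_apply_apply]
  exact hξ2 c.1

/-- Not coprime: a twisted cover. -/
theorem exists_not_iso {A : Type v} [CommGroup A] (hA : Cfsg.HasSchurMultiplier Q A)
    (hcop : ¬ Nat.Coprime (Nat.card (Abelianization Q)) (Nat.card A)) :
    ∃ (Γ₁ Γ₂ : Type u) (_ : Group Γ₁) (_ : Finite Γ₁) (_ : Group Γ₂) (_ : Finite Γ₂) (σ₁ : Γ₁ →* Q) (σ₂ : Γ₂ →* Q),
      Cfsg.IsStemExtension σ₁ ∧ Cfsg.IsStemExtension σ₂ ∧ Nonempty (σ₁.ker ≃* A) ∧ Nonempty (σ₂.ker ≃* A) ∧
      ∀ e : Γ₁ ≃* Γ₂, σ₂.comp e.toMonoidHom ≠ σ₁ := by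
  classical
  obtain ⟨⟨Γ, _, _, σ, hσ, ⟨eA⟩⟩, -⟩ := hA
  obtain ⟨p, hp, hpQ, hpA⟩ := Nat.Prime.not_coprime_iff_dvd.mp hcop
  haveI := Fact.mk hp
  haveI : Finite A := Finite.of_equiv _ eA.toEquiv
  -- a central element which is no `p`-th power
  obtain ⟨a, ha⟩ : ∃ a : σ.ker, ∀ z : σ.ker, z ^ p ≠ a := by
    by_contra hcon
    push Not at hcon
    have hpk : p ∣ Nat.card σ.ker := by rwa [Nat.card_congr eA.toEquiv]
    obtain ⟨z, hz⟩ := exists_prime_orderOf_dvd_card' p hpk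
    have hinj : Function.Injective fun w : σ.ker => w ^ p := Finite.injective_iff_surjective.mpr hcon
    have : z = 1 := hinj (show z ^ p = 1 ^ p by rw [one_pow, ← hz, pow_orderOf_eq_one])
    rw [this, orderOf_one] at hz
    exact hp.ne_one hz.symm
  -- a cyclic quotient of `Q` of order divisible by `p`
  haveI : Finite (Abelianization Q) := Quotient.finite _
  obtain ⟨ι, i1, P, hP1, ⟨f⟩⟩ := CommGroup.equiv_prod_multiplicative_zmod_of_finite (Abelianization Q)
  obtain ⟨i, hi⟩ : ∃ i, p ∣ P i := by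
    have hpQ' : p ∣ ∏ i, P i := by
      rw [Nat.card_congr f.toEquiv, Nat.card_pi] at hpQ
      exact hpQ.trans (dvd_of_eq (Finset.prod_congr rfl fun i _ =>
        (Nat.card_congr Multiplicative.toAdd).trans (Nat.card_zmod _)))
    exact ((Nat.Prime.prime hp).dvd_finsetProd_iff _).mp hpQ' |>.imp fun i hi => hi.2
  haveI : NeZero (P i) := ⟨by have := hP1 i; omega⟩
  let θ : Γ →* Multiplicative (ZMod (P i)) :=
    ((Pi.evalMonoidHom (fun i => Multiplicative (ZMod (P i))) i).comp f.toMonoidHom).comp (Abelianization.of.comp σ)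
  obtain ⟨x₀, hx₀⟩ : ∃ x : Γ, Abelianization.of (σ x) = f.symm (Pi.mulSingle i (Multiplicative.ofAdd (1 : ZMod (P i)))) := by
    obtain ⟨q, hq⟩ := QuotientGroup.mk_surjective (f.symm (Pi.mulSingle i (Multiplicative.ofAdd (1 : ZMod (P i)))))
    obtain ⟨x, rfl⟩ := hσ.1 q
    exact ⟨x, hq⟩
  have hθx : θ x₀ = Multiplicative.ofAdd 1 := by simp [θ, hx₀]
  have hx₀P : x₀ ^ P i ∈ commutator Γ := by
    have h1 : Abelianization.of (σ (x₀ ^ P i)) = 1 := by
      rw [map_pow, map_pow, hx₀, ← map_pow, ← Pi.mulSingle_pow, ← ofAdd_nsmul, nsmul_one, ZMod.natCast_self,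
        ofAdd_zero, Pi.mulSingle_one, map_one]
    have h2 : commutator Q ≤ (commutator Γ).map σ := by
      rw [_root_.commutator_def Q, _root_.commutator_def Γ, Subgroup.map_commutator,
        Subgroup.map_top_of_surjective σ hσ.1]
    obtain ⟨c, hc, hcx⟩ := h2 (show σ (x₀ ^ P i) ∈ commutator Q by rw [← Abelianization.ker_of]; exact h1)
    have hk : c⁻¹ * x₀ ^ P i ∈ σ.ker := by rw [MonoidHom.mem_ker, map_mul, map_inv, hcx, inv_mul_cancel]
    have := mul_mem hc (hσ.2.2 hk)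
    rwa [mul_inv_cancel_left] at this
  let S : Subgroup (Γ × Multiplicative ℤ) :=
    (θ.comp (MonoidHom.fst Γ (Multiplicative ℤ))).eqLocus
      ((AddMonoidHom.toMultiplicative (Int.castAddHom (ZMod (P i)))).comp (MonoidHom.snd Γ (Multiplicative ℤ)))
  have hθk : ∀ z ∈ σ.ker, θ z = 1 := fun z hz => by simp [θ, MonoidHom.mem_ker.mp hz]
  have hS : ∀ (g : Γ) (w : ℤ), ((g, Multiplicative.ofAdd w) : Γ × Multiplicative ℤ) ∈ S ↔
      θ g = Multiplicative.ofAdd (w : ZMod (P i)) := fun g w => Iff.rfl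
  let r : S := ⟨((a : Γ), Multiplicative.ofAdd (-(P i : ℤ))), (hS _ _).mpr (by
    rw [hθk _ a.2]; simp)⟩
  haveI hR : (Subgroup.zpowers r).Normal := by
    refine ⟨fun z hz g => ?_⟩
    obtain ⟨k, rfl⟩ := Subgroup.mem_zpowers_iff.mp hz
    have hc : Commute g r := Subtype.ext (Prod.ext (Subgroup.mem_center_iff.mp (hσ.2.1 a.2) _) (mul_comm _ _))
    rw [(hc.zpow_right k).eq, mul_inv_cancel_right]
    exact hz
  let σS : S →* Q := (σ.comp (MonoidHom.fst Γ (Multiplicative ℤ))).comp S.subtype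
  let σ' : S ⧸ Subgroup.zpowers r →* Q := QuotientGroup.lift _ σS (Subgroup.zpowers_le.mpr a.2)
  have hnorm : ∀ y : S ⧸ Subgroup.zpowers r, ∃ g : Γ, y = QuotientGroup.mk
      (⟨(g, Multiplicative.ofAdd ((Multiplicative.toAdd (θ g)).val : ℤ)), (hS _ _).mpr (by simp)⟩ : S) := by
    intro y
    obtain ⟨⟨⟨g, w⟩, hgw⟩, rfl⟩ := QuotientGroup.mk_surjective y
    obtain ⟨w, rfl⟩ : ∃ v, Multiplicative.ofAdd v = w := ⟨_, rfl⟩
    have hw : θ g = Multiplicative.ofAdd (w : ZMod (P i)) := (hS _ _).mp hgw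
    set k := w / (P i : ℤ) with hk
    refine ⟨g * (a : Γ) ^ k, QuotientGroup.eq.mpr (Subgroup.mem_zpowers_iff.mpr ⟨k, Subtype.ext (Prod.ext ?_ ?_)⟩)⟩
    · show (a : Γ) ^ k = g⁻¹ * (g * (a : Γ) ^ k)
      rw [inv_mul_cancel_left]
    · show Multiplicative.ofAdd (-(P i : ℤ)) ^ k = (Multiplicative.ofAdd w)⁻¹ *
        Multiplicative.ofAdd ((Multiplicative.toAdd (θ (g * (a : Γ) ^ k))).val : ℤ)
      rw [map_mul, map_zpow, hθk _ a.2, one_zpow, mul_one, hw, toAdd_ofAdd, ZMod.val_intCast, ← ofAdd_zsmul,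
        ← ofAdd_neg, ← ofAdd_add]
      congr 1
      have := Int.mul_ediv_add_emod w (P i : ℤ)
      rw [smul_eq_mul, hk]
      linarith
  haveI : Finite (S ⧸ Subgroup.zpowers r) := Finite.of_surjective _ (fun y => (hnorm y).imp fun g h => h.symm)
  let φ : σ.ker →* σ'.ker :=
    MonoidHom.mk' (fun z => ⟨QuotientGroup.mk (⟨((z : Γ), Multiplicative.ofAdd 0), (hS _ _).mpr (by
      rw [hθk _ z.2]; simp)⟩ : S), z.2⟩) fun z z' => Subtype.ext (congrArg QuotientGroup.mk (Subtype.ext (Prod.ext rfl (by simp))))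
  have hφi : Function.Injective φ := (injective_iff_map_eq_one _).mpr fun z hz => by
    obtain ⟨k, hk⟩ := Subgroup.mem_zpowers_iff.mp ((QuotientGroup.eq_one_iff _).mp (congrArg Subtype.val hz))
    have h1 : Multiplicative.ofAdd (-(P i : ℤ)) ^ k = Multiplicative.ofAdd 0 :=
      congrArg (fun s : S => s.1.2) hk
    rw [← ofAdd_zsmul, Multiplicative.ofAdd.apply_eq_iff_eq, smul_eq_mul, mul_eq_zero] at h1
    have hk0 : k = 0 := h1.resolve_right (by simp [NeZero.ne (P i)])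
    have h2 := congrArg (fun s : S => s.1.1) hk
    simp only [hk0, zpow_zero] at h2
    exact Subtype.ext h2.symm
  have hφs : Function.Surjective φ := by
    rintro ⟨y, hy⟩
    obtain ⟨g, rfl⟩ := hnorm y
    exact ⟨⟨g, hy⟩, Subtype.ext (congrArg QuotientGroup.mk (Subtype.ext (Prod.ext rfl (by
      simp [hθk g hy]))))⟩
  let eφ := MulEquiv.ofBijective φ ⟨hφi, hφs⟩
  have hσ' : Cfsg.IsStemExtension σ' := by
    refine ⟨fun q => ?_, fun y hy => ?_, fun y hy => ?_⟩
    · obtain ⟨g, rfl⟩ := hσ.1 q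
      exact ⟨QuotientGroup.mk ⟨(g, Multiplicative.ofAdd ((Multiplicative.toAdd (θ g)).val : ℤ)), (hS _ _).mpr (by simp)⟩, rfl⟩
    · obtain ⟨y, rfl⟩ := QuotientGroup.mk_surjective y
      refine Subgroup.mem_center_iff.mpr fun z => ?_
      obtain ⟨z, rfl⟩ := QuotientGroup.mk_surjective z
      exact congrArg QuotientGroup.mk
        (Subtype.ext (Prod.ext (Subgroup.mem_center_iff.mp (hσ.2.1 hy) _) (mul_comm _ _)) : z * y = y * z)
    · obtain ⟨z, hz⟩ := hφs ⟨y, hy⟩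
      rw [show y = (φ z : S ⧸ Subgroup.zpowers r) from (congrArg Subtype.val hz).symm]
      -- a derived element of `Γ` lifts to a derived element
      have key : ∀ c ∈ commutator Γ, ∃ h : ((c, (1 : Multiplicative ℤ)) : Γ × Multiplicative ℤ) ∈ S,
          (⟨(c, 1), h⟩ : S) ∈ commutator S := by
        have hle : commutator Γ ≤ (commutator S).map ((MonoidHom.fst Γ (Multiplicative ℤ)).comp S.subtype) := by
          rw [_root_.commutator_def Γ, _root_.commutator_def S, Subgroup.map_commutator,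
            Subgroup.map_top_of_surjective _ (fun g => ⟨⟨(g, Multiplicative.ofAdd ((Multiplicative.toAdd (θ g)).val : ℤ)),
              (hS _ _).mpr (by simp)⟩, rfl⟩)]
        intro c hc
        obtain ⟨s, hs, rfl⟩ := hle hc
        have h2 : s.1.2 = 1 := by
          have := map_mem_commutator ((MonoidHom.snd Γ (Multiplicative ℤ)).comp S.subtype) hs
          exact MonoidHom.mem_ker.mp (Abelianization.commutator_subset_ker (MonoidHom.id (Multiplicative ℤ)) this)
        have e : ((s.1.1, (1 : Multiplicative ℤ)) : Γ × Multiplicative ℤ) = s.1 := by rw [← h2]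
        have hmem : ((s.1.1, (1 : Multiplicative ℤ)) : Γ × Multiplicative ℤ) ∈ S := e ▸ s.2
        have hs' : (⟨_, hmem⟩ : S) = s := Subtype.ext e
        refine ⟨hmem, ?_⟩
        show (⟨_, hmem⟩ : S) ∈ commutator S
        rw [hs']; exact hs
      obtain ⟨h, hh⟩ := key _ (hσ.2.2 z.2)
      exact map_mem_commutator (QuotientGroup.mk' (Subgroup.zpowers r)) hh
  refine ⟨Γ, S ⧸ Subgroup.zpowers r, inferInstance, inferInstance, inferInstance, inferInstance, σ, σ', hσ, hσ',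
    ⟨eA⟩, ⟨eφ.symm.trans eA⟩, fun e he => ?_⟩
  have he' : ∀ g, σ' (e g) = σ g := DFunLike.congr_fun he
  -- compare with the lift of derived elements
  let s₀ : S := ⟨(x₀, Multiplicative.ofAdd 1), (hS _ _).mpr (by rw [hθx, Int.cast_one])⟩
  obtain ⟨⟨z, hz⟩, hzφ⟩ := hφs ⟨(QuotientGroup.mk s₀)⁻¹ * e x₀, by
    rw [MonoidHom.mem_ker, map_mul, map_inv, he']
    exact inv_mul_cancel (σ x₀)⟩
  have hex : e x₀ = QuotientGroup.mk s₀ * (φ ⟨z, hz⟩ : S ⧸ Subgroup.zpowers r) := by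
    rw [hzφ]; exact (mul_inv_cancel_left _ _).symm
  -- `e` fixes derived elements
  have hfix : ∀ c ∈ commutator Γ, ∃ h : ((c, (1 : Multiplicative ℤ)) : Γ × Multiplicative ℤ) ∈ S,
      e c = QuotientGroup.mk (⟨(c, 1), h⟩ : S) := by
    intro c hc
    have hle : commutator Γ ≤ (commutator S).map ((MonoidHom.fst Γ (Multiplicative ℤ)).comp S.subtype) := by
      rw [_root_.commutator_def Γ, _root_.commutator_def S, Subgroup.map_commutator,
        Subgroup.map_top_of_surjective _ (fun g => ⟨⟨(g, Multiplicative.ofAdd ((Multiplicative.toAdd (θ g)).val : ℤ)),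
          (hS _ _).mpr (by simp)⟩, rfl⟩)]
    obtain ⟨s, hs, rfl⟩ := hle hc
    have h2 : s.1.2 = 1 := by
      have := map_mem_commutator ((MonoidHom.snd Γ (Multiplicative ℤ)).comp S.subtype) hs
      exact MonoidHom.mem_ker.mp (Abelianization.commutator_subset_ker (MonoidHom.id (Multiplicative ℤ)) this)
    have e1 : ((s.1.1, (1 : Multiplicative ℤ)) : Γ × Multiplicative ℤ) = s.1 := by rw [← h2]
    refine ⟨e1 ▸ s.2, ?_⟩
    have h3 := GenA.Schur.eq_on_commutator (e.toMonoidHom.comp ((MonoidHom.fst Γ (Multiplicative ℤ)).comp S.subtype))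
      (QuotientGroup.mk' (Subgroup.zpowers r)) (fun y => hσ'.2.1 (by
        rw [MonoidHom.mem_ker, map_mul, map_inv]
        show (σ' (e y.1.1))⁻¹ * σ y.1.1 = 1
        rw [he', inv_mul_cancel])) hs
    exact h3.trans (congrArg QuotientGroup.mk (Subtype.ext e1.symm))
  obtain ⟨hm, hval⟩ := hfix _ hx₀P
  rw [map_pow, hex, ← QuotientGroup.mk'_apply] at hval
  have h4 := QuotientGroup.eq.mp ((map_pow (QuotientGroup.mk' (Subgroup.zpowers r)) _ (P i)).trans
    (show (QuotientGroup.mk' (Subgroup.zpowers r) (s₀ * ⟨(z, Multiplicative.ofAdd 0), _⟩)) ^ P i = _ by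
      rw [map_mul]; exact hval))
  obtain ⟨k, hk⟩ := Subgroup.mem_zpowers_iff.mp h4
  have hcz : Commute x₀ z := Subgroup.mem_center_iff.mp (hσ.2.1 hz) x₀
  have h5 : (a : Γ) ^ k = ((x₀ * z) ^ P i)⁻¹ * x₀ ^ P i := congrArg (fun s : S => s.1.1) hk
  have h6 : Multiplicative.ofAdd (-(P i : ℤ)) ^ k =
      ((Multiplicative.ofAdd (1 : ℤ) * Multiplicative.ofAdd 0) ^ P i)⁻¹ * 1 := congrArg (fun s : S => s.1.2) hk
  rw [← ofAdd_zsmul, ofAdd_zero, mul_one, mul_one, ← ofAdd_nsmul, ← ofAdd_neg, Multiplicative.ofAdd.apply_eq_iff_eq,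
    smul_eq_mul, nsmul_one] at h6
  have hk1 : k = 1 := by
    have : (P i : ℤ) ≠ 0 := by simp [NeZero.ne (P i)]
    exact mul_right_cancel₀ this (by linarith)
  rw [hk1, zpow_one, hcz.mul_pow, mul_inv_rev, inv_mul_cancel_right] at h5
  obtain ⟨m, hm'⟩ := hi
  refine ha (⟨z, hz⟩⁻¹ ^ m) (Subtype.ext ?_)
  rw [SubmonoidClass.coe_pow, SubmonoidClass.coe_pow, Subgroup.coe_inv, inv_pow, inv_pow, ← pow_mul, mul_comm, ← hm']
  exact h5.symm

end Cfsg.Agent.GStructB.CoverUnique
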