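import Mathlib

/-!
Permutation groups containing a regular cyclic subgroup of prime power order: the functions on the
cyclic group which are constant on suborbits are closed under convolution.
-/

set_option autoImplicit false

namespace Cfsg.Agent.GStructB.CyclicRegular

open AddMonoidAlgebra

variable {Ω : Type*} {n : ℕ} (G : Subgroup (Equiv.Perm Ω))
  (coord : ZMod n ≃ Ω)

/-- Two points lie in the same orbit of the stabiliser of the base point. -/
def Mate (z z' : ZMod n) : Prop := ∃ a ∈ G, a (coord 0) = coord 0 ∧ a (coord z) = coord z'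

/-- The translations lie in `G`. -/
def Trans : Prop := ∀ k : ZMod n, ∃ t ∈ G, ∀ x, t (coord x) = coord (k + x)

variable {G coord}

theorem mate_symm {z z' : ZMod n} (h : Mate G coord z z') : Mate G coord z' z := by
  obtain ⟨a, ha, h0, hz⟩ := h
  exact ⟨a⁻¹, inv_mem ha, by rw [Equiv.Perm.inv_eq_iff_eq, h0], by rw [Equiv.Perm.inv_eq_iff_eq, hz]⟩

theorem mate_trans {x y z : ZMod n} (h : Mate G coord x y) (h' : Mate G coord y z) : Mate G coord x z := by
  obtain ⟨a, ha, ha0, hax⟩ := h
  obtain ⟨b, hb, hb0, hby⟩ := h'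
  exact ⟨b * a, mul_mem hb ha, by rw [Equiv.Perm.mul_apply, ha0, hb0], by rw [Equiv.Perm.mul_apply, hax, hby]⟩

theorem mate_refl (z : ZMod n) : Mate G coord z z := ⟨1, one_mem _, rfl, rfl⟩

theorem mate_zero {z : ZMod n} (h : Mate G coord 0 z) : z = 0 := by
  obtain ⟨a, -, h0, hz⟩ := h
  exact coord.injective (hz.symm.trans h0)

/-- The key shift. -/
theorem mate_sub (ht : Trans G coord) {a : Equiv.Perm Ω} (ha : a ∈ G) {z z' x x' : ZMod n}
    (hz : a (coord z) = coord z') (hx : a (coord x) = coord x') : Mate G coord (z - x) (z' - x') := by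
  obtain ⟨s, hs, hsx⟩ := ht x
  obtain ⟨t, htG, htx⟩ := ht (-x')
  refine ⟨t * a * s, mul_mem (mul_mem htG ha) hs, ?_, ?_⟩
  · rw [Equiv.Perm.mul_apply, Equiv.Perm.mul_apply, hsx, add_zero, hx, htx, neg_add_cancel]
  · rw [Equiv.Perm.mul_apply, Equiv.Perm.mul_apply, hsx, add_sub_cancel, hz, htx, neg_add_eq_sub]

theorem mate_neg (ht : Trans G coord) {z z' : ZMod n} (h : Mate G coord z z') : Mate G coord (-z) (-z') := by
  obtain ⟨a, ha, h0, hz⟩ := h
  simpa using mate_sub ht ha h0 hz

/-- Convolution. -/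
theorem mul_coeff {R : Type*} [Semiring R] [NeZero n] (P Q : AddMonoidAlgebra R (ZMod n)) (z : ZMod n) :
    (P * Q).coeff z = ∑ x : ZMod n, P.coeff x * Q.coeff (z - x) := by
  rw [AddMonoidAlgebra.coeff_mul_apply_left, Finsupp.sum_fintype _ _ (fun i => zero_mul _)]
  simp only [neg_add_eq_sub]

/-- Invariant elements are closed under convolution. -/
theorem inv_mul {R : Type*} [Semiring R] [NeZero n] (ht : Trans G coord) {P Q : AddMonoidAlgebra R (ZMod n)}
    (hP : ∀ z z', Mate G coord z z' → P.coeff z = P.coeff z') (hQ : ∀ z z', Mate G coord z z' → Q.coeff z = Q.coeff z')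
    {z z' : ZMod n} (h : Mate G coord z z') : (P * Q).coeff z = (P * Q).coeff z' := by
  obtain ⟨a, ha, h0, hz⟩ := h
  rw [mul_coeff, mul_coeff]
  refine Fintype.sum_equiv ((coord.trans a).trans coord.symm) _ _ fun x => ?_
  have hx : a (coord x) = coord (((coord.trans a).trans coord.symm) x) := by simp
  rw [hP x _ ⟨a, ha, h0, hx⟩, hQ (z - x) _ (mate_sub ht ha hz hx)]

theorem inv_pow {R : Type*} [CommSemiring R] [NeZero n] (ht : Trans G coord) {P : AddMonoidAlgebra R (ZMod n)}
    (hP : ∀ z z', Mate G coord z z' → P.coeff z = P.coeff z') (k : ℕ) {z z' : ZMod n} (h : Mate G coord z z') :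
    (P ^ (k + 1)).coeff z = (P ^ (k + 1)).coeff z' := by
  induction k generalizing z z' with
  | zero => rw [pow_one]; exact hP _ _ h
  | succ k ih => rw [pow_succ _ (k + 1)]; exact inv_mul ht (fun _ _ h => ih h) hP h

/-- The subgroup generated by an invariant set is invariant. -/
theorem closure_invariant [NeZero n] (ht : Trans G coord) (Y : Set (ZMod n))
    (hY : ∀ z z', Mate G coord z z' → z ∈ Y → z' ∈ Y) {z z' : ZMod n} (h : Mate G coord z z')
    (hz : z ∈ AddSubgroup.closure Y) : z' ∈ AddSubgroup.closure Y := by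
  induction hz using AddSubgroup.closure_induction generalizing z' with
  | mem x hx => exact AddSubgroup.subset_closure (hY _ _ h hx)
  | zero => rw [mate_zero h]; exact zero_mem _
  | add u v _ _ hu hv =>
    obtain ⟨a, ha, h0, huv⟩ := h
    obtain ⟨u', hu'⟩ : ∃ u', coord u' = a (coord u) := ⟨_, coord.apply_symm_apply _⟩
    have h1 := hv (z' := z' - u') (by simpa using mate_sub ht ha huv hu'.symm)
    have h2 := hu (z' := u') ⟨a, ha, h0, hu'.symm⟩
    simpa using add_mem h2 h1
  | neg u _ hu =>
    have := hu (z' := -z') (by simpa using mate_neg ht h)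
    simpa using neg_mem this

/-- A periodic function sums to zero in characteristic `p`. -/
theorem sum_periodic {p : ℕ} [NeZero n] (u : ZMod n) (hu : addOrderOf u = p)
    (F : ZMod n → ZMod p) (hF : ∀ x, F (x + u) = F x) : ∑ x, F x = 0 := by
  classical
  let U := AddSubgroup.zmultiples u
  have hFU : ∀ x v, v ∈ U → F (x + v) = F x := by
    intro x v hv
    obtain ⟨k, rfl⟩ := AddSubgroup.mem_zmultiples_iff.mp hv
    induction k with
    | zero => simp
    | succ k ih => rw [add_zsmul, one_zsmul, ← add_assoc, hF]; exact ih (AddSubgroup.zsmul_mem_zmultiples _ _)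
    | pred k ih =>
      rw [← hF (x + (-(k : ℤ) - 1) • u), sub_zsmul, one_zsmul, add_assoc, neg_add_cancel_right]
      exact ih (AddSubgroup.zsmul_mem_zmultiples _ _)
  rw [← Finset.sum_fiberwise Finset.univ (QuotientAddGroup.mk : ZMod n → ZMod n ⧸ U) F]
  refine Finset.sum_eq_zero fun q _ => ?_
  obtain ⟨q, rfl⟩ := QuotientAddGroup.mk_surjective q
  have hset : (Finset.univ.filter fun x : ZMod n => (x : ZMod n ⧸ U) = q) =
      (Finset.univ.filter fun v : ZMod n => v ∈ U).map (addLeftEmbedding q) := by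
    ext x
    simp only [Finset.mem_filter, Finset.mem_univ, true_and, Finset.mem_map, addLeftEmbedding_apply]
    refine ⟨fun h => ⟨-q + x, QuotientAddGroup.eq.mp h.symm, by abel⟩, ?_⟩
    rintro ⟨v, hv, rfl⟩
    exact (QuotientAddGroup.eq.mpr (by simpa using hv)).symm
  rw [hset, Finset.sum_map, Finset.sum_congr rfl (fun v hv => show F (addLeftEmbedding q v) = F q from
    hFU q v (Finset.mem_filter.mp hv).2), Finset.sum_const, ← Fintype.card_subtype, ← Nat.card_eq_fintype_card,
    show Nat.card {v : ZMod n // v ∈ U} = p from (Nat.card_zmultiples u).trans hu, ← Nat.cast_smul_eq_nsmul (ZMod p),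
    ZMod.natCast_self, zero_smul]

/-- A sparse function on `ZMod p` with square zero vanishes. -/
theorem sparse_square {p : ℕ} [hp : Fact p.Prime] (e : ZMod p → ZMod p)
    (hee : ∀ z, ∑ i, e i * e (z - i) = 0) (S : Finset (ZMod p)) (hS : 2 * S.card ≤ p + 1)
    (hsupp : ∀ i, i ∉ S → e i = 0) : e = 0 := by
  classical
  let M : ℕ → ZMod p := fun k => ∑ i, e i * i ^ k
  have hconv : ∀ N : ℕ, ∑ k ∈ Finset.range (N + 1), M k * M (N - k) * (N.choose k : ZMod p) = 0 := by
    intro N
    calc ∑ k ∈ Finset.range (N + 1), M k * M (N - k) * (N.choose k : ZMod p)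
        = ∑ i, ∑ j, e i * e j * (i + j) ^ N := by
          simp only [M, Finset.sum_mul, add_pow, Finset.mul_sum]
          rw [Finset.sum_comm]
          conv_rhs => rw [Finset.sum_comm]
          refine Finset.sum_congr rfl fun x _ => ?_
          rw [Finset.sum_comm]
          refine Finset.sum_congr rfl fun y _ => Finset.sum_congr rfl fun z _ => ?_
          ring
      _ = ∑ z, (∑ i, e i * e (z - i)) * z ^ N := by
          simp only [Finset.sum_mul]
          rw [Finset.sum_comm (γ := ZMod p) (f := fun z i => e i * e (z - i) * z ^ N)]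
          refine Finset.sum_congr rfl fun i _ => ?_
          refine Fintype.sum_equiv (Equiv.addLeft i) _ _ fun j => ?_
          simp
      _ = 0 := by simp [hee]
  have hmom : ∀ s, 2 * s < p → M s = 0 := by
    intro s
    induction s using Nat.strong_induction_on with
    | h s ih =>
      intro hs
      have h := hconv (2 * s)
      rw [Finset.sum_eq_single_of_mem s (Finset.mem_range.mpr (by omega)) (fun k hk hks => by
        rw [Finset.mem_range] at hk
        rcases lt_or_gt_of_ne hks with hlt | hgt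
        · rw [ih k hlt (by omega)]; ring
        · rw [ih (2 * s - k) (by omega) (by omega)]; ring), show 2 * s - s = s by omega] at h
      have hc : ((2 * s).choose s : ZMod p) ≠ 0 := by
        rw [Ne, ZMod.natCast_eq_zero_iff, ← Nat.Prime.coprime_iff_not_dvd hp.out]
        refine Nat.Coprime.coprime_dvd_right ?_ ((hp.out.coprime_factorial_of_lt hs))
        exact ⟨s.factorial * (2 * s - s).factorial, by rw [← mul_assoc, Nat.choose_mul_factorial_mul_factorial (by omega)]⟩
      exact mul_self_eq_zero.mp ((mul_eq_zero.mp h).resolve_right hc)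
  funext i
  by_cases hi : i ∈ S
  · let eq := S.equivFin.symm
    have h0 := Matrix.eq_zero_of_forall_pow_sum_mul_pow_eq_zero (f := fun j => (eq j : ZMod p))
      (v := fun j => e (eq j)) (fun a b h => eq.injective (Subtype.ext h)) (fun k => by
        have h1 := hmom (k : ℕ) (by have := k.2; omega)
        rw [show M k = ∑ i ∈ S, e i * i ^ (k : ℕ) from
          (Finset.sum_subset (Finset.subset_univ S) fun x _ hx => by rw [hsupp x hx, zero_mul]).symm] at h1
        rw [← h1, ← Finset.sum_coe_sort S]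
        exact (Fintype.sum_equiv eq (fun j => e (eq j) * (eq j : ZMod p) ^ (k : ℕ))
          (fun i : S => e i * (i : ZMod p) ^ (k : ℕ)) fun j => rfl))
    have := congrFun h0 (eq.symm ⟨i, hi⟩)
    simpa using this
  · exact hsupp i hi

/-- Schur: without an invariant subgroup the group is doubly transitive. -/
theorem exists_invariant_subgroup {p m : ℕ} [hp : Fact p.Prime] (hm : 2 ≤ m) (hn : n = p ^ m) (ht : Trans G coord)
    (hnot : ∃ z z' : ZMod n, z ≠ 0 ∧ z' ≠ 0 ∧ ¬ Mate G coord z z') :
    ∃ K : AddSubgroup (ZMod n), K ≠ ⊥ ∧ K ≠ ⊤ ∧ ∀ z z', Mate G coord z z' → z ∈ K → z' ∈ K := by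
  classical
  by_contra hno
  haveI : NeZero n := ⟨by rw [hn]; exact pow_ne_zero _ hp.out.ne_zero⟩
  have key : ∀ Y : Set (ZMod n), (∀ z z', Mate G coord z z' → z ∈ Y → z' ∈ Y) →
      ∀ y ∈ Y, y ≠ 0 → AddSubgroup.closure Y = ⊤ := by
    intro Y hY y hy hy0
    by_contra hne
    exact hno ⟨AddSubgroup.closure Y, fun h => hy0 (AddSubgroup.mem_bot.mp (h ▸ AddSubgroup.subset_closure hy)), hne,
      fun z z' h hz => closure_invariant ht Y hY h hz⟩
  obtain ⟨m, rfl⟩ : ∃ k, m = k + 2 := ⟨m - 2, by omega⟩
  set u : ZMod n := ((p ^ (m + 1) : ℕ) : ZMod n) with hu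
  have hpu : p • u = 0 := by rw [hu, nsmul_eq_mul, ← Nat.cast_mul, ← pow_succ', ← hn, ZMod.natCast_self]
  have hu0 : u ≠ 0 := by
    rw [hu, Ne, ZMod.natCast_eq_zero_iff, hn]
    exact Nat.not_dvd_of_pos_of_lt (pow_pos hp.out.pos _) (Nat.pow_lt_pow_right hp.out.one_lt (by omega))
  let ι : ZMod p →+ ZMod n := ZMod.lift p ⟨zmultiplesHom (ZMod n) u, by simp [← natCast_zsmul] at hpu ⊢; exact hpu⟩
  have hι1 : ι 1 = u := by
    rw [show (1 : ZMod p) = ((1 : ℤ) : ZMod p) by simp, ZMod.lift_coe]; simp
  have hinj : Function.Injective ι := (injective_iff_map_eq_zero ι).mpr fun i hi => by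
    by_contra hne
    refine hu0 ?_
    rw [← hι1, show (1 : ZMod p) = (i⁻¹).val • i by rw [nsmul_eq_mul, ZMod.natCast_zmod_val, inv_mul_cancel₀ hne],
      map_nsmul, hi, smul_zero]
  have hH : ∀ x : ZMod n, p • x = 0 ↔ ∃ i, ι i = x := by
    intro x
    refine ⟨fun hx => ?_, ?_⟩
    · rw [← ZMod.natCast_zmod_val x, nsmul_eq_mul, ← Nat.cast_mul, ZMod.natCast_eq_zero_iff] at hx
      have hx' : p * p ^ (m + 1) ∣ p * x.val := by rw [← pow_succ', ← hn]; exact hx
      obtain ⟨c, hc⟩ := Nat.dvd_of_mul_dvd_mul_left hp.out.pos hx'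
      refine ⟨c, ?_⟩
      rw [← nsmul_one c, map_nsmul, hι1, nsmul_eq_mul, hu, ← Nat.cast_mul, mul_comm, ← hc, ZMod.natCast_zmod_val]
    · rintro ⟨i, rfl⟩
      rw [← map_nsmul, nsmul_eq_mul, ZMod.natCast_self, zero_mul, map_zero]
  have hHadd : ∀ (x : ZMod n) (i : ZMod p), (∃ j, ι j = x + ι i) ↔ ∃ j, ι j = x := fun x i =>
    ⟨fun ⟨j, hj⟩ => ⟨j - i, by rw [map_sub, hj, add_sub_cancel_right]⟩, fun ⟨j, hj⟩ => ⟨j + i, by rw [map_add, hj]⟩⟩
  -- off the subgroup of order `p`, suborbits are unions of its cosets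
  have hper : ∀ t : ZMod n, t ≠ 0 → ∀ x, Mate G coord t x → (¬ ∃ j, ι j = x) → ∀ i, Mate G coord t (x + ι i) := by
    intro t _ x hx hxH i
    let f : AddMonoidAlgebra (ZMod p) (ZMod n) :=
      ∑ y ∈ Finset.univ.filter (Mate G coord t), AddMonoidAlgebra.single y 1
    have hf : ∀ z, f.coeff z = if Mate G coord t z then 1 else 0 := fun z => by
      simp [f, AddMonoidAlgebra.coeff_sum, Finsupp.finsetSum_apply, Finsupp.single_apply]
    haveI : CharP (AddMonoidAlgebra (ZMod p) (ZMod n)) p :=
      charP_of_injective_ringHom (f := (AddMonoidAlgebra.singleZeroRingHom : ZMod p →+* _))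
        (RingHom.injective _) p
    have hfp : ∀ z, (f ^ p).coeff z =
        (((Finset.univ.filter (Mate G coord t)).filter fun y => p • y = z).card : ZMod p) := fun z => by
      rw [sum_pow_char p, AddMonoidAlgebra.coeff_sum, Finsupp.finsetSum_apply]
      simp [AddMonoidAlgebra.single_pow, Finsupp.single_apply, Finset.sum_boole]
    have hinv : ∀ z z', Mate G coord z z' → (f ^ p).coeff z = (f ^ p).coeff z' := fun z z' h => by
      obtain ⟨k, hk⟩ : ∃ k, p = k + 1 := ⟨p - 1, by have := hp.out.pos; omega⟩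
      have h1 := inv_pow ht (P := f) (fun z z' h => by
        rw [hf, hf]
        exact if_congr ⟨fun h' => mate_trans h' h, fun h' => mate_trans h' (mate_symm h)⟩ rfl rfl) k h
      rwa [← hk] at h1
    by_cases hc : (f ^ p).coeff (p • x) = 0
    · rw [hfp, ZMod.natCast_eq_zero_iff] at hc
      set F := (Finset.univ.filter (Mate G coord t)).filter fun y => p • y = p • x with hF
      have hFle : F ⊆ Finset.univ.image fun j => x + ι j := fun y hy => by
        obtain ⟨j, hj⟩ := (hH (y - x)).mp (by rw [nsmul_sub, (Finset.mem_filter.mp hy).2, sub_self])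
        exact Finset.mem_image.mpr ⟨j, Finset.mem_univ _, by rw [hj, add_sub_cancel]⟩
      have hFx : x ∈ F := Finset.mem_filter.mpr ⟨Finset.mem_filter.mpr ⟨Finset.mem_univ _, hx⟩, rfl⟩
      have hFeq := Finset.eq_of_subset_of_card_le hFle (Finset.card_image_le.trans (by
        rw [Finset.card_univ, ZMod.card]
        exact Nat.le_of_dvd (Finset.card_pos.mpr ⟨x, hFx⟩) hc))
      have : x + ι i ∈ F := hFeq ▸ Finset.mem_image.mpr ⟨i, Finset.mem_univ _, rfl⟩
      exact (Finset.mem_filter.mp (Finset.mem_filter.mp this).1).2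
    · exfalso
      have hpx : p • x ≠ 0 := fun h => hxH ((hH x).mp h)
      have htop := key {z | z ≠ 0 ∧ (f ^ p).coeff z ≠ 0}
        (fun z z' h hz => ⟨fun e => hz.1 (mate_zero (mate_symm (e ▸ h : Mate G coord z 0))), hinv z z' h ▸ hz.2⟩)
        _ ⟨hpx, hc⟩ hpx
      have hle : AddSubgroup.closure {z | z ≠ 0 ∧ (f ^ p).coeff z ≠ 0} ≤ (nsmulAddMonoidHom p : ZMod n →+ ZMod n).range := by
        rw [AddSubgroup.closure_le]
        rintro z ⟨-, hz⟩
        rw [hfp] at hz
        obtain ⟨y, hy⟩ : ((Finset.univ.filter (Mate G coord t)).filter fun y => p • y = z).Nonempty :=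
          Finset.card_pos.mp (Nat.pos_of_ne_zero fun h => hz (by rw [h, Nat.cast_zero]))
        exact ⟨y, (Finset.mem_filter.mp hy).2⟩
      rw [htop, top_le_iff, AddMonoidHom.range_eq_top] at hle
      exact hu0 ((Finite.injective_iff_surjective.mpr hle) (hpu.trans (smul_zero p).symm))
  -- every suborbit meets the subgroup of order `p`
  have hmeet : ∀ t : ZMod n, t ≠ 0 → ∃ i : ZMod p, Mate G coord t (ι i) := by
    intro t ht0
    by_contra hcon
    push Not at hcon
    let Y : Set (ZMod n) := {h | ∀ x, Mate G coord t x → Mate G coord t (x - h)}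
    have hY : ∀ z z', Mate G coord z z' → z ∈ Y → z' ∈ Y := by
      rintro z z' ⟨a, ha, h0, hz⟩ hzY y hy
      set x := coord.symm (a⁻¹ (coord y)) with hx
      have hax : a (coord x) = coord y := by rw [hx]; simp
      have h1 := hzY x (mate_trans hy (mate_symm ⟨a, ha, h0, hax⟩))
      exact mate_trans h1 (mate_sub ht ha hax hz)
    have htop := key Y hY u (fun x hx => by
      have := hper t ht0 x hx (fun ⟨j, hj⟩ => hcon j (hj ▸ hx)) (-1)
      rwa [map_neg, hι1, ← sub_eq_add_neg] at this) hu0
    have hall : ∀ z ∈ AddSubgroup.closure Y, z ∈ Y := by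
      intro z hz
      rw [← AddSubgroup.mem_toAddSubmonoid, AddSubgroup.closure_toAddSubmonoid_of_finite] at hz
      induction hz using AddSubmonoid.closure_induction with
      | mem x hx => exact hx
      | zero => intro x hx; rwa [sub_zero]
      | add a b _ _ ha hb => intro x hx; rw [← sub_sub]; exact hb _ (ha _ hx)
    have := hall t (htop ▸ AddSubgroup.mem_top t) t (mate_refl t)
    rw [sub_self] at this
    exact ht0 (mate_zero (mate_symm this))
  -- and leaves it
  have hout : ∀ t : ZMod n, t ≠ 0 → ∃ y, Mate G coord t y ∧ ¬ ∃ j, ι j = y := by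
    intro t ht0
    by_contra hcon
    push Not at hcon
    have htop := key {y | Mate G coord t y} (fun z z' h hz => mate_trans hz h) t (mate_refl t) ht0
    have hle : AddSubgroup.closure {y | Mate G coord t y} ≤ ι.range := by
      rw [AddSubgroup.closure_le]
      exact fun y hy => hcon y hy
    rw [htop, top_le_iff, AddMonoidHom.range_eq_top] at hle
    have h1 := Nat.card_le_card_of_surjective ι hle
    rw [Nat.card_zmod, Nat.card_zmod, hn] at h1
    exact absurd h1 (not_le.mpr (by
      calc p = p ^ 1 := (pow_one p).symm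
        _ < p ^ (m + 2) := Nat.pow_lt_pow_right hp.out.one_lt (by omega)))
  -- a small suborbit
  obtain ⟨z₁, z₂, hz₁, hz₂, hz⟩ := hnot
  let A : ZMod n → Finset (ZMod p) := fun t => Finset.univ.filter fun i => Mate G coord t (ι i)
  obtain ⟨t, ht0, hsmall⟩ : ∃ t : ZMod n, t ≠ 0 ∧ 2 * (A t).card ≤ p - 1 := by
    have hsub : A z₁ ∪ A z₂ ⊆ Finset.univ.erase 0 := by
      intro i hi
      refine Finset.mem_erase.mpr ⟨fun h => ?_, Finset.mem_univ _⟩
      subst h
      rcases Finset.mem_union.mp hi with h | h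
      · exact hz₁ (mate_zero (mate_symm (by simpa [A] using h)))
      · exact hz₂ (mate_zero (mate_symm (by simpa [A] using h)))
    have hdisj : Disjoint (A z₁) (A z₂) := Finset.disjoint_left.mpr fun i h1 h2 =>
      hz (mate_trans (Finset.mem_filter.mp h1).2 (mate_symm (Finset.mem_filter.mp h2).2))
    have h3 := Finset.card_le_card hsub
    rw [Finset.card_union_of_disjoint hdisj, Finset.card_erase_of_mem (Finset.mem_univ _), Finset.card_univ, ZMod.card] at h3
    rcases le_total (A z₁).card (A z₂).card with h | h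
    · exact ⟨z₁, hz₁, by omega⟩
    · exact ⟨z₂, hz₂, by omega⟩
  let f : ZMod n → ZMod p := fun z => if Mate G coord t z then 1 else 0
  let P : AddMonoidAlgebra (ZMod p) (ZMod n) := AddMonoidAlgebra.ofCoeff (Finsupp.equivFunOnFinite.symm f)
  have hP : ∀ z, P.coeff z = f z := fun z => rfl
  have hfinv : ∀ z z', Mate G coord z z' → f z = f z' := fun z z' h =>
    if_congr ⟨fun h' => mate_trans h' h, fun h' => mate_trans h' (mate_symm h)⟩ rfl rfl
  have hfper : ∀ x, (¬ ∃ j, ι j = x) → ∀ i, f (x + ι i) = f x := fun x hx i => by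
    refine if_congr ⟨fun h => ?_, fun h => hper t ht0 x h hx i⟩ rfl rfl
    have := hper t ht0 _ h (fun hh => hx ((hHadd x i).mp hh)) (-i)
    rwa [map_neg, add_neg_cancel_right] at this
  set a : ZMod p := ∑ i, f (ι i) with ha
  have hP2 : ∀ z, (P * P).coeff z = ∑ x, f x * f (z - x) := fun z => by rw [mul_coeff]; simp only [hP]
  have hsplit : ∀ g : ZMod n → ZMod p, (∑ x, if ∃ j, ι j = x then g x else 0) = ∑ i, g (ι i) := fun g => by
    rw [← Finset.sum_filter]
    rw [show (Finset.univ.filter fun x => ∃ j, ι j = x) = Finset.univ.image ι by ext x; simp,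
      Finset.sum_image hinj.injOn]
  have hin : ∀ k, (P * P).coeff (ι k) = ∑ i, f (ι i) * f (ι (k - i)) := by
    intro k
    rw [hP2]
    have hzero : (∑ x, if ∃ j, ι j = x then 0 else f x * f (ι k - x)) = 0 := sum_periodic u
      (addOrderOf_eq_prime hpu hu0) _ fun x => by
        rw [← hι1]
        by_cases hx : ∃ j, ι j = x
        · rw [if_pos ((hHadd x 1).mpr hx), if_pos hx]
        · rw [if_neg (mt (hHadd x 1).mp hx), if_neg hx, hfper x hx 1, show ι k - (x + ι 1) = (ι k - x) + ι (-1) by
            rw [map_neg]; abel, hfper _ (fun ⟨j, hj⟩ => hx ⟨k - j, by rw [map_sub, hj]; abel⟩) (-1)]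
    calc ∑ x, f x * f (ι k - x)
        = ∑ x, ((if ∃ j, ι j = x then f x * f (ι k - x) else 0) + if ∃ j, ι j = x then 0 else f x * f (ι k - x)) :=
          Finset.sum_congr rfl fun x _ => by split_ifs <;> simp
      _ = _ := by
          rw [Finset.sum_add_distrib, hsplit (fun x => f x * f (ι k - x)), hzero, add_zero]
          exact Finset.sum_congr rfl fun i _ => by rw [map_sub]
  have hoff : ∀ y, (¬ ∃ j, ι j = y) → (P * P).coeff y = 2 * a * f y := by
    intro y hy
    rw [hP2]
    have hzero : (∑ x, if (∃ j, ι j = x) ∨ (∃ j, ι j = y - x) then 0 else f x * f (y - x)) = 0 := sum_periodic u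
      (addOrderOf_eq_prime hpu hu0) _ fun x => by
        have e : y - (x + ι 1) = (y - x) + ι (-1) := by rw [map_neg]; abel
        rw [← hι1]
        by_cases hx : (∃ j, ι j = x) ∨ (∃ j, ι j = y - x)
        · rw [if_pos (by rw [e, hHadd, hHadd]; exact hx), if_pos hx]
        · rw [if_neg (by rw [e, hHadd, hHadd]; exact hx), if_neg hx, hfper x (fun h => hx (Or.inl h)) 1, e,
            hfper _ (fun h => hx (Or.inr h)) (-1)]
    have hflip : (∑ x, if ∃ j, ι j = y - x then f x * f (y - x) else 0) = ∑ x, if ∃ j, ι j = x then f x * f (y - x) else 0 :=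
      Fintype.sum_equiv (Equiv.subLeft y) _ _ fun x => by simp [mul_comm]
    have hone : ∑ i, f (ι i) * f (y - ι i) = a * f y := by
      rw [ha, Finset.sum_mul]
      refine Finset.sum_congr rfl fun i _ => ?_
      rw [sub_eq_add_neg y, ← map_neg, hfper y hy]
    calc ∑ x, f x * f (y - x)
        = ∑ x, ((if ∃ j, ι j = x then f x * f (y - x) else 0) + ((if ∃ j, ι j = y - x then f x * f (y - x) else 0) +
          if (∃ j, ι j = x) ∨ (∃ j, ι j = y - x) then 0 else f x * f (y - x))) :=
          Finset.sum_congr rfl fun x _ => by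
            by_cases h1 : ∃ j, ι j = x
            · have h2 : ¬ ∃ j, ι j = y - x := fun ⟨j, hj⟩ => hy (by
                obtain ⟨i, hi⟩ := h1
                exact ⟨i + j, by rw [map_add, hi, hj, add_sub_cancel]⟩)
              simp [h1, h2]
            · by_cases h2 : ∃ j, ι j = y - x <;> simp [h1, h2]
      _ = 2 * a * f y := by
          rw [Finset.sum_add_distrib, Finset.sum_add_distrib, hflip, hzero, add_zero,
            hsplit (fun x => f x * f (y - x)), hone]
          ring
  let δ : ZMod p → ZMod p := fun i => if i = 0 then 1 else 0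
  let e : ZMod p → ZMod p := fun i => f (ι i) - a * δ i
  have hee : ∀ k ≠ 0, ∑ i, e i * e (k - i) = 0 := by
    intro k hk
    have hk0 : ι k ≠ 0 := fun h => hk (hinj (h.trans (map_zero ι).symm))
    obtain ⟨y, hy, hyH⟩ := hout (ι k) hk0
    have h1 : ∑ i, f (ι i) * f (ι (k - i)) = 2 * a * f (ι k) := by
      rw [← hin, hfinv _ _ hy, ← hoff y hyH]
      exact inv_mul ht (fun z z' h => by rw [hP, hP]; exact hfinv z z' h)
        (fun z z' h => by rw [hP, hP]; exact hfinv z z' h) hy
    calc ∑ i, e i * e (k - i)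
        = ∑ i, f (ι i) * f (ι (k - i)) - ∑ i, a * (f (ι i) * δ (k - i)) - ∑ i, a * (δ i * f (ι (k - i))) +
            ∑ i, a * a * (δ i * δ (k - i)) := by
          rw [← Finset.sum_sub_distrib, ← Finset.sum_sub_distrib, ← Finset.sum_add_distrib]
          exact Finset.sum_congr rfl fun i _ => by simp only [e]; ring
      _ = 0 := by
          rw [h1]
          simp [δ, sub_eq_zero, hk, eq_comm (a := k)]
          ring
  have hsum : ∑ i, e i = 0 := by simp [e, δ, Finset.sum_sub_distrib, ← ha]
  have h00 : ∑ i, e i * e (0 - i) = 0 := by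
    have htot : ∑ z, ∑ i, e i * e (z - i) = 0 := by
      rw [Finset.sum_comm]
      refine Finset.sum_eq_zero fun i _ => ?_
      rw [← Finset.mul_sum, Fintype.sum_equiv (Equiv.subRight i) (fun z => e (z - i)) e (fun z => rfl), hsum, mul_zero]
    rwa [Finset.sum_eq_single_of_mem (0 : ZMod p) (Finset.mem_univ _) (fun z _ hz => hee z hz)] at htot
  have hz0 := sparse_square e (fun z => (eq_or_ne z 0).elim (fun h => h ▸ h00) (hee z)) (insert 0 (A t))
    (by have := Finset.card_insert_le (0 : ZMod p) (A t); have := hp.out.two_le; omega)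
    (fun i hi => by
      have h1 : i ≠ 0 := fun h => hi (h ▸ Finset.mem_insert_self _ _)
      have h2 : ¬ Mate G coord t (ι i) := fun h => hi (Finset.mem_insert_of_mem (Finset.mem_filter.mpr ⟨Finset.mem_univ _, h⟩))
      simp [e, δ, f, h1, h2])
  obtain ⟨i, hi⟩ := hmeet t ht0
  have hi0 : i ≠ 0 := fun h => by
    rw [h, map_zero] at hi
    exact ht0 (mate_zero (mate_symm hi))
  have := congrFun hz0 i
  simp [e, δ, f, hi, hi0] at this

end Cfsg.Agent.GStructB.CyclicRegular
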