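import Cfsg.Agent.GStructB.StemExt

set_option autoImplicit false

namespace Cfsg.Agent.GStructB.DihedralStem

theorem gen_aux (n : ℕ) [NeZero n] :
    Subgroup.closure ({DihedralGroup.r 1, DihedralGroup.sr 0} : Set (DihedralGroup n)) = ⊤ := by
  rw [eq_top_iff]
  intro g _
  have ha : ∀ i : ZMod n, (DihedralGroup.r i) ∈
      Subgroup.closure ({DihedralGroup.r 1, DihedralGroup.sr 0} : Set (DihedralGroup n)) := by
    intro i
    have := pow_mem (Subgroup.subset_closure (k := ({DihedralGroup.r 1, DihedralGroup.sr 0} :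
      Set (DihedralGroup n))) (Set.mem_insert _ _)) i.val
    rwa [DihedralGroup.r_one_pow, ZMod.natCast_val, ZMod.cast_id] at this
  rcases g with i | i
  · exact ha i
  · have := mul_mem (Subgroup.subset_closure (k := ({DihedralGroup.r 1, DihedralGroup.sr 0} :
      Set (DihedralGroup n))) (Set.mem_insert_of_mem _ rfl)) (ha i)
    simpa using this
theorem bound_aux (n : ℕ) [NeZero n] {Γ : Type} [Group Γ] [Finite Γ] (σ : Γ →* DihedralGroup n)
    (hσ : Cfsg.IsStemExtension σ) :
    ∃ d : Γ, σ.ker ≤ Subgroup.zpowers d ∧ orderOf d ∣ Nat.gcd n 2 := by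
  have hn : 0 < n := Nat.pos_of_ne_zero (NeZero.ne n)
  rcases Nat.lt_or_ge n 2 with h1 | h2
  · obtain rfl : n = 1 := by omega
    have : IsCyclic (DihedralGroup 1) := DihedralGroup.isCyclic_iff.mpr rfl
    have hab := σ.isMulCommutative_of_isCyclic_of_ker_le_center hσ.2.1
    refine ⟨1, ?_, by simp⟩
    refine hσ.2.2.trans ?_
    rw [(commutator_eq_bot_iff Γ).mpr hab]
    exact bot_le
  have hsq : (n - 1) ^ 2 ≡ 1 [MOD n] := by
    rw [← ZMod.natCast_eq_natCast_iff, Nat.cast_pow, Nat.cast_sub (by omega), ZMod.natCast_self]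
    simp
  have hgcd : Nat.gcd n (n - 1 - 1) = Nat.gcd n 2 := by
    rw [show n - 1 - 1 = n - 2 by omega, Nat.gcd_self_sub_right h2]
  obtain ⟨d, hle, hd⟩ := GStructB.StemExt.ker_le_zpowers σ hσ (DihedralGroup.r 1)
    (DihedralGroup.sr 0) (gen_aux n) n 2 (n - 1) 0 DihedralGroup.orderOf_r_one
    hn (by omega) hsq
    (by
      rw [mul_inv_eq_iff_eq_mul, DihedralGroup.r_one_pow, DihedralGroup.sr_mul_r,
        DihedralGroup.r_mul_sr, Nat.cast_sub (by omega), ZMod.natCast_self]
      congr 1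
      simp)
    (by rw [sq, DihedralGroup.sr_mul_self, mul_zero, pow_zero])
  refine ⟨d, hle, ?_⟩
  rw [Nat.gcd_zero_left, hgcd, show ∑ i ∈ Finset.range 2, (n - 1) ^ i = n by
    simp [Finset.sum_range_succ]; omega, Nat.gcd_self, Nat.mul_div_cancel _ hn] at hd
  exact hd

end Cfsg.Agent.GStructB.DihedralStem
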