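import Cfsg.Agent.Lib.Cores.Fitting
import Mathlib

/-!
Normal subgroups `N` with all elements of every coset `xN ≠ N` of the same order.
-/

set_option autoImplicit false

namespace Cfsg.Agent.GStructB.EqualOrderCoset

open Cfsg

variable {G : Type*} [Group G] [Finite G]

/-- If `O_p(G)` is not inside `N` then `N` is a `p`-group. -/
theorem isPGroup_of_pCore (N : Subgroup G) [N.Normal]
    (heq : ∀ x : G, x ∉ N → ∀ n ∈ N, orderOf (x * n) = orderOf x) {p : ℕ} [hp : Fact p.Prime] {x : G}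
    (hxP : x ∈ pCore p G) (hxN : x ∉ N) : IsPGroup p N := by
  classical
  obtain ⟨a, ha⟩ : ∃ a, Nat.card N = p ^ a := by
    refine ⟨(Nat.card N).primeFactorsList.length, Nat.eq_prime_pow_of_unique_prime_dvd Nat.card_pos.ne' ?_⟩
    intro q hq hqd
    by_contra hqp
    haveI := Fact.mk hq
    obtain ⟨m, hm⟩ := exists_prime_orderOf_dvd_card' q hqd
    have hm' : orderOf (m : G) = q := by rw [Subgroup.orderOf_coe, hm]
    set n : G := (m : G) with hn
    set P := pCore p G
    let S := {y : G | y ∈ P ∧ x⁻¹ * y ∈ N}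
    have hinv : ∀ y ∈ S, n * y * n⁻¹ ∈ S := by
      intro y hy
      refine ⟨(inferInstance : P.Normal).conj_mem y hy.1 n, ?_⟩
      rw [show x⁻¹ * (n * y * n⁻¹) = (x⁻¹ * n * x) * (x⁻¹ * y) * n⁻¹ by group]
      have hc : x⁻¹ * n * x ∈ N := by
        have := (inferInstance : N.Normal).conj_mem n m.2 x⁻¹
        rwa [inv_inv] at this
      exact mul_mem (mul_mem hc hy.2) (inv_mem m.2)
    let Q := Subgroup.zpowers n
    have hQ : IsPGroup q Q := IsPGroup.of_card (n := 1) (by rw [Nat.card_zpowers, hm', pow_one])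
    have hQinv : ∀ g : Q, ∀ y ∈ S, (g : G) * y * (g : G)⁻¹ ∈ S := by
      intro g
      have hg : (g : G) ∈ Submonoid.powers n := mem_powers_iff_mem_zpowers.mpr g.2
      obtain ⟨k, hk⟩ := hg
      change n ^ k = (g : G) at hk
      rw [← hk]
      induction k generalizing g with
      | zero => intro y hy; simpa using hy
      | succ k ih =>
        intro y hy
        have h1 := hinv _ (ih ⟨n ^ k, Subgroup.pow_mem _ (Subgroup.mem_zpowers n) k⟩ rfl y hy)
        rwa [show n ^ (k + 1) * y * (n ^ (k + 1))⁻¹ = n * (n ^ k * y * (n ^ k)⁻¹) * n⁻¹ by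
          rw [pow_succ']; group]
    letI : MulAction Q S :=
      { smul := fun g y => ⟨(g : G) * y.1 * (g : G)⁻¹, hQinv g y.1 y.2⟩
        one_smul := fun y => Subtype.ext (show ((1 : Q) : G) * y.1 * ((1 : Q) : G)⁻¹ = y.1 by simp)
        mul_smul := fun g g' y => Subtype.ext (show ((g * g' : Q) : G) * y.1 * ((g * g' : Q) : G)⁻¹ =
          (g : G) * ((g' : G) * y.1 * (g' : G)⁻¹) * (g : G)⁻¹ by rw [Subgroup.coe_mul]; group) }
    have hS : ¬ q ∣ Nat.card S := by
      let e : S ≃ (P ⊓ N : Subgroup G) :=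
        { toFun := fun y => ⟨x⁻¹ * y.1, P.mul_mem (P.inv_mem hxP) y.2.1, y.2.2⟩
          invFun := fun d => ⟨x * d.1, mul_mem hxP d.2.1, by rw [inv_mul_cancel_left]; exact d.2.2⟩
          left_inv := fun y => Subtype.ext (mul_inv_cancel_left x y.1)
          right_inv := fun d => Subtype.ext (inv_mul_cancel_left x d.1) }
      rw [Nat.card_congr e]
      intro hd
      obtain ⟨j, hj⟩ := (Cores.pCore_isPGroup (G := G) p).exists_card_eq
      have := hd.trans ((Subgroup.card_dvd_of_le inf_le_left).trans (dvd_of_eq hj))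
      exact hqp ((Nat.prime_dvd_prime_iff_eq hq hp.out).mp (hq.dvd_of_dvd_pow this))
    obtain ⟨⟨y, hyP, hyx⟩, hy⟩ := hQ.nonempty_fixed_point_of_prime_not_dvd_card S hS
    have hcomm : Commute n y := by
      have := congrArg Subtype.val (hy ⟨n, Subgroup.mem_zpowers n⟩)
      exact mul_inv_eq_iff_eq_mul.mp this
    have hyN : y ∉ N := fun h => hxN (by
      have := mul_mem h (inv_mem hyx)
      rwa [mul_inv_rev, inv_inv, mul_inv_cancel_left] at this)
    obtain ⟨k, hk⟩ : ∃ k, orderOf y = p ^ k := by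
      obtain ⟨k, hk⟩ := IsPGroup.iff_orderOf.mp (Cores.pCore_isPGroup (G := G) p) ⟨y, hyP⟩
      exact ⟨k, by rwa [Subgroup.orderOf_mk] at hk⟩
    have h := heq y hyN n m.2
    rw [hcomm.symm.orderOf_mul_eq_mul_orderOf_of_coprime
      (by rw [hk, hm']; exact ((Nat.coprime_primes hp.out hq).mpr (Ne.symm hqp)).pow_left k), hm'] at h
    have h2 : q = 1 := by
      have := orderOf_pos y
      nlinarith
    exact hq.ne_one h2
  exact IsPGroup.of_card ha

/-- `N` is comparable with the Fitting subgroup, and below it only for `p`-groups. -/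
theorem fitting_cases (N : Subgroup G) [N.Normal]
    (heq : ∀ x : G, x ∉ N → ∀ n ∈ N, orderOf (x * n) = orderOf x)
    (h : ¬ fittingSubgroup G ≤ N) :
    ∃ p : ℕ, p.Prime ∧ IsPGroup p N ∧ N ≤ fittingSubgroup G ∧ (N ≠ ⊥ → IsPGroup p (fittingSubgroup G)) := by
  classical
  rw [Cores.fittingSubgroup_eq_iSup] at h ⊢
  simp only [iSup_le_iff, not_forall] at h
  obtain ⟨p, hp'⟩ := h
  have hp : (p : ℕ).Prime := Nat.prime_of_mem_primeFactors p.2
  haveI := Fact.mk hp
  obtain ⟨x, hx, hxN⟩ := SetLike.not_le_iff_exists.mp hp'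
  have hN := isPGroup_of_pCore N heq hx hxN
  refine ⟨p, hp, hN, (Cores.le_pCore hN).trans (le_iSup (fun q : (Nat.card G).primeFactors => pCore (q : ℕ) G) p), ?_⟩
  intro hN1
  refine (Cores.pCore_isPGroup (G := G) (p : ℕ)).to_le (iSup_le fun q => ?_)
  by_cases hqp : (q : ℕ) = p
  · rw [hqp]
  · haveI := Fact.mk (Nat.prime_of_mem_primeFactors q.2)
    refine le_trans ?_ bot_le
    intro z hz
    rw [Subgroup.mem_bot]
    by_cases hzN : z ∈ N
    · exact Subgroup.mem_bot.mp ((IsPGroup.disjoint_of_ne (q : ℕ) p hqp _ _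
        (Cores.pCore_isPGroup _) hN).le_bot ⟨hz, hzN⟩)
    · exfalso
      have h2 := isPGroup_of_pCore N heq hz hzN
      exact hN1 (disjoint_self.mp (IsPGroup.disjoint_of_ne (q : ℕ) p hqp _ _ h2 hN))

end Cfsg.Agent.GStructB.EqualOrderCoset
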