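import Cfsg.Agent.Lib.PGroups.UniqueSubgroup
import Cfsg.Agent.Lib.Coprime.Basic
import Mathlib

/-!
`p`-groups in which subgroups of equal order are isomorphic and have equal exponent data.
-/

set_option autoImplicit false

namespace Cfsg.Agent.GStructB.EqualOrderIso

open scoped Pointwise

universe u

variable {P : Type u} [Group P] [Finite P] {p : ℕ} [hp : Fact p.Prime]

theorem pow_eq_one_transfer {H K : Subgroup P} (e : H ≃* K) (n : ℕ) (h : ∀ x ∈ H, x ^ n = 1) :
    ∀ x ∈ K, x ^ n = 1 := by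
  intro x hx
  have h1 : (e.symm ⟨x, hx⟩) ^ n = 1 := Subtype.ext (h _ (e.symm ⟨x, hx⟩).2)
  rw [← map_pow, MulEquiv.map_eq_one_iff] at h1
  exact congrArg Subtype.val h1

theorem card_sup_zpowers_dvd {E : Subgroup P} {x : P} (hx : x ∈ Subgroup.normalizer (E : Set P)) :
    Nat.card ↥(E ⊔ Subgroup.zpowers x) ≤ Nat.card E * orderOf x := by
  rw [← Nat.card_zpowers, ← Nat.card_prod]
  refine Nat.card_le_card_of_surjective (fun a : E × Subgroup.zpowers x => ⟨a.1.1 * a.2.1,
    Subgroup.mul_mem _ (Subgroup.mem_sup_left a.1.2) (Subgroup.mem_sup_right a.2.2)⟩) ?_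
  rintro ⟨y, hy⟩
  obtain ⟨n, hn, m, hm, rfl⟩ :=
    (Coprime.mem_sup_of_le_normalizer (Subgroup.zpowers_le.mpr hx)).mp hy
  exact ⟨(⟨n, hn⟩, ⟨m, hm⟩), rfl⟩

theorem pow_succ_le_card (hP : IsPGroup p P) {S : Subgroup P} {k : ℕ}
    (h : p ^ k < Nat.card S) : p ^ (k + 1) ≤ Nat.card S := by
  obtain ⟨j, hj⟩ := (hP.to_subgroup S).exists_card_eq
  rw [hj] at h ⊢
  exact Nat.pow_le_pow_right hp.out.pos ((Nat.pow_lt_pow_iff_right hp.out.one_lt).mp h)

theorem exists_sub (hP : IsPGroup p P) {S : Subgroup P} {k : ℕ} (h : p ^ k ≤ Nat.card S) :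
    ∃ T : Subgroup P, T ≤ S ∧ Nat.card T = p ^ k := by
  obtain ⟨j, hj⟩ := (hP.to_subgroup S).exists_card_eq
  have hjk : k ≤ j := (Nat.pow_le_pow_iff_right hp.out.one_lt).mp (hj ▸ h)
  obtain ⟨T, hT⟩ := Sylow.exists_subgroup_card_pow_prime (G := S) p (hj ▸ pow_dvd_pow p hjk)
  exact ⟨T.map S.subtype, Subgroup.map_subtype_le _, by rw [Subgroup.card_map_of_injective S.subtype_injective, hT]⟩

theorem classify (hP : IsPGroup p P)
    (hiso : ∀ H K : Subgroup P, Nat.card H = Nat.card K → Nonempty (H ≃* K)) :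
    IsCyclic P ∨ ((∀ a b : P, a * b = b * a) ∧ ∀ a : P, a ^ p = 1) ∨
      (p = 2 ∧ Nonempty (P ≃* QuaternionGroup 2)) ∨
      (p ≠ 2 ∧ (∃ a b : P, a * b ≠ b * a) ∧ Nat.card P = p ^ 3 ∧ Monoid.exponent P = p) := by
  classical
  by_cases huniq : ∀ H K : Subgroup P, Nat.card H = p → Nat.card K = p → H = K
  · rcases PGroups.UniqueSubgroup.isCyclic_or_quaternion hP huniq with h | ⟨rfl, n, ⟨e⟩⟩
    · exact Or.inl h
    rcases Nat.lt_or_ge n 2 with hn | hn
    · interval_cases n
      · left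
        haveI : IsCyclic (QuaternionGroup (2 ^ 0)) := isCyclic_of_orderOf_eq_card (QuaternionGroup.xa 0) (by
          rw [QuaternionGroup.orderOf_xa, Nat.card_eq_fintype_card, QuaternionGroup.card]; norm_num)
        exact e.isCyclic.mpr inferInstance
      · exact Or.inr (Or.inr (Or.inl ⟨rfl, ⟨e⟩⟩))
    · exfalso
      have hcardP : Nat.card P = 4 * 2 ^ n := by
        rw [Nat.card_congr e.toEquiv, Nat.card_eq_fintype_card, QuaternionGroup.card]
      set g := e.symm (QuaternionGroup.a 1) with hg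
      have hgo : orderOf g = 2 * 2 ^ n := by
        rw [hg, MulEquiv.orderOf_eq, QuaternionGroup.orderOf_a_one]
      have h8g : 2 ^ 3 ≤ Nat.card (Subgroup.zpowers g) := by
        rw [Nat.card_zpowers, hgo, show 2 * 2 ^ n = 2 ^ (n + 1) by ring]
        exact Nat.pow_le_pow_right two_pos (by omega)
      obtain ⟨C, hCg, hC⟩ := exists_sub hP h8g
      set y := e.symm (QuaternionGroup.xa 0) with hy
      have hyo : orderOf y = 4 := by rw [hy, MulEquiv.orderOf_eq, QuaternionGroup.orderOf_xa]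
      obtain ⟨D, hD, hyD⟩ := Sylow.exists_subgroup_card_pow_prime_le 2 (m := 3)
        (hC ▸ Subgroup.card_subgroup_dvd_card C) (Subgroup.zpowers y) (n := 2)
        (by rw [Nat.card_zpowers, hyo]; norm_num) (by norm_num)
      obtain ⟨f⟩ := hiso C D (hC.trans hD.symm)
      haveI : IsCyclic C := isCyclic_of_injective (Subgroup.inclusion hCg) (Subgroup.inclusion_injective hCg)
      haveI : IsCyclic D := f.isCyclic.mp inferInstance
      obtain ⟨z, hz⟩ := IsCyclic.exists_generator (α := D)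
      have hzo : orderOf (z : P) = 8 := by
        rw [Subgroup.orderOf_coe, orderOf_eq_card_of_forall_mem_zpowers hz, hD]; norm_num
      obtain ⟨i, hi⟩ := hz ⟨y, hyD (Subgroup.mem_zpowers y)⟩
      have hzy : (z : P) ^ i = y := congrArg Subtype.val hi
      have hzo' : orderOf (e (z : P)) = 8 := by rw [MulEquiv.orderOf_eq, hzo]
      have h2 := congrArg e hzy
      rw [map_zpow, hy, MulEquiv.apply_symm_apply] at h2
      have hmem : ∀ w : QuaternionGroup (2 ^ n), w = e (z : P) → ∃ j, w = QuaternionGroup.a j := by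
        intro w hw
        cases w with
        | a j => exact ⟨j, rfl⟩
        | xa j => rw [← hw, QuaternionGroup.orderOf_xa] at hzo'; norm_num at hzo'
      obtain ⟨j, hj⟩ := hmem _ rfl
      have hj1 : (QuaternionGroup.a j : QuaternionGroup (2 ^ n)) ∈ Subgroup.zpowers (QuaternionGroup.a 1) := by
        haveI : NeZero (2 * 2 ^ n) := ⟨by positivity⟩
        refine ⟨j.val, ?_⟩
        show (QuaternionGroup.a 1 : QuaternionGroup (2 ^ n)) ^ ((j.val : ℕ) : ℤ) = _
        rw [zpow_natCast, QuaternionGroup.a_one_pow, ZMod.natCast_zmod_val]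
      rw [hj] at h2
      have h4 : QuaternionGroup.xa 0 ∈ Subgroup.zpowers (QuaternionGroup.a 1 : QuaternionGroup (2 ^ n)) :=
        h2 ▸ Subgroup.zpow_mem _ hj1 i
      obtain ⟨m, hm⟩ := mem_powers_iff_mem_zpowers.mpr h4
      simp only [QuaternionGroup.a_one_pow] at hm
      exact absurd hm (by simp)
  push Not at huniq
  obtain ⟨A, B, hA, hB, hAB⟩ := huniq
  have hnt : Nontrivial P := by
    obtain ⟨a, ha⟩ := exists_prime_orderOf_dvd_card' (G := A) p (hA ▸ dvd_rfl)
    exact nontrivial_of_ne (a : P) 1 fun h => hp.out.ne_one (by rw [← ha, ← Subgroup.orderOf_coe, h, orderOf_one])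
  haveI := hP.center_nontrivial
  obtain ⟨c, hc⟩ : ∃ c : Subgroup.center P, orderOf c = p := by
    refine exists_prime_orderOf_dvd_card' p ?_
    obtain ⟨k, hk0, hk⟩ := (hP.to_subgroup (Subgroup.center P)).nontrivial_iff_card.mp inferInstance
    exact hk ▸ dvd_pow_self p hk0.ne'
  have hco : orderOf (c : P) = p := by rw [Subgroup.orderOf_coe, hc]
  have hcc : ∀ x : P, Commute (c : P) x := fun x => (Subgroup.mem_center_iff.mp c.2 x).symm
  have hcp : (c : P) ^ p = 1 := orderOf_dvd_iff_pow_eq_one.mp (dvd_of_eq hco)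
  obtain ⟨x, hxp, hxc⟩ : ∃ x : P, x ^ p = 1 ∧ x ∉ Subgroup.zpowers (c : P) := by
    by_contra hno
    push Not at hno
    have key : ∀ S : Subgroup P, Nat.card S = p → S = Subgroup.zpowers (c : P) := by
      intro S hS
      refine Subgroup.eq_of_le_of_card_ge (fun s hs => hno s ?_) (by rw [Nat.card_zpowers, hco, hS])
      have h1 : orderOf s ∣ p := by
        rw [← hS, ← Subgroup.orderOf_mk s hs]; exact orderOf_dvd_natCard _
      exact orderOf_dvd_iff_pow_eq_one.mp h1
    exact hAB ((key A hA).trans (key B hB).symm)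
  have hNc : ∀ y : P, y ∈ Subgroup.normalizer ((Subgroup.zpowers (c : P)) : Set P) := by
    intro y
    haveI : (Subgroup.zpowers (c : P)).Normal := ⟨fun a ha g => by
      obtain ⟨i, rfl⟩ := ha
      show g * (c : P) ^ i * g⁻¹ ∈ _
      rw [← (hcc g).zpow_left i |>.eq, mul_inv_cancel_right]
      exact Subgroup.zpow_mem_zpowers _ i⟩
    rw [Subgroup.normalizer_eq_top]
    exact Subgroup.mem_top y
  -- an elementary abelian subgroup of order `p ^ 2`
  set E := Subgroup.zpowers (c : P) ⊔ Subgroup.zpowers x with hEdef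
  have hEp : ∀ y ∈ E, y ^ p = 1 := by
    intro y hy
    obtain ⟨n, ⟨i, rfl⟩, m, ⟨j, rfl⟩, rfl⟩ :=
      (Coprime.mem_sup_of_le_normalizer (Subgroup.zpowers_le.mpr (hNc x))).mp hy
    show ((c : P) ^ i * x ^ j) ^ p = 1
    rw [((hcc x).zpow_zpow i j).mul_pow, ← zpow_natCast, ← zpow_mul, mul_comm, zpow_mul, zpow_natCast,
      hcp, one_zpow, one_mul, ← zpow_natCast, ← zpow_mul, mul_comm, zpow_mul, zpow_natCast, hxp, one_zpow]
  have hEc : Nat.card E = p ^ 2 := by
    refine le_antisymm ?_ (pow_succ_le_card hP (k := 1) ?_)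
    · refine (card_sup_zpowers_dvd (hNc x)).trans ?_
      rw [Nat.card_zpowers, hco, pow_two]
      exact Nat.mul_le_mul_left _ (Nat.le_of_dvd hp.out.pos (orderOf_dvd_of_pow_eq_one hxp))
    · rw [pow_one]
      refine lt_of_le_of_ne ?_ fun h => hxc ?_
      · calc p = Nat.card (Subgroup.zpowers (c : P)) := by rw [Nat.card_zpowers, hco]
          _ ≤ _ := Subgroup.card_le_of_le le_sup_left
      · have he : Subgroup.zpowers (c : P) = E :=
          Subgroup.eq_of_le_of_card_ge le_sup_left (by rw [Nat.card_zpowers, hco, ← h])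
        rw [he]
        exact Subgroup.mem_sup_right (Subgroup.mem_zpowers x)
  have hexp : ∀ a : P, a ^ p = 1 := by
    intro a
    obtain ⟨k, hk⟩ := IsPGroup.iff_orderOf.mp hP a
    rcases Nat.lt_or_ge k 2 with hk2 | hk2
    · refine orderOf_dvd_iff_pow_eq_one.mp ?_
      rw [hk]
      calc p ^ k ∣ p ^ 1 := pow_dvd_pow p (by omega)
        _ = p := pow_one p
    exfalso
    have hb : orderOf (a ^ p ^ (k - 2)) = p ^ 2 := by
      rw [orderOf_pow' a (pow_ne_zero _ hp.out.ne_zero), hk, Nat.gcd_eq_right (pow_dvd_pow p (Nat.sub_le k 2)),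
        Nat.pow_div (Nat.sub_le k 2) hp.out.pos]
      congr 1; omega
    obtain ⟨f⟩ := hiso E (Subgroup.zpowers (a ^ p ^ (k - 2))) (by rw [hEc, Nat.card_zpowers, hb])
    have h1 := orderOf_dvd_of_pow_eq_one (pow_eq_one_transfer f p hEp _ (Subgroup.mem_zpowers _))
    rw [hb] at h1
    have := Nat.le_of_dvd hp.out.pos h1
    nlinarith [hp.out.two_le, sq p]
  by_cases hab : ∀ a b : P, a * b = b * a
  · exact Or.inr (Or.inl ⟨hab, hexp⟩)
  push Not at hab
  have hp2 : p ≠ 2 := by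
    rintro rfl
    obtain ⟨a, b, hab⟩ := hab
    refine hab ?_
    have hi : ∀ z : P, z⁻¹ = z := fun z => inv_eq_of_mul_eq_one_right (by rw [← pow_two, hexp])
    calc a * b = (a * b)⁻¹ := (hi _).symm
      _ = b * a := by rw [mul_inv_rev, hi, hi]
  refine Or.inr (Or.inr (Or.inr ⟨hp2, hab, ?_, ?_⟩))
  swap
  · refine ((Nat.dvd_prime hp.out).mp (Monoid.exponent_dvd_of_forall_pow_eq_one hexp)).resolve_left fun h => ?_
    haveI := Monoid.exp_eq_one_iff.mp h
    obtain ⟨a, b, hab⟩ := hab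
    exact hab (Subsingleton.elim _ _)
  -- the order
  obtain ⟨n, hn⟩ := hP.exists_card_eq
  have hn3 : 3 ≤ n := by
    by_contra h
    obtain ⟨a, b, hab'⟩ := hab
    have h2 : Nat.card P = p ^ 2 := by
      rcases (show n = 0 ∨ n = 1 ∨ n = 2 by omega) with rfl | rfl | rfl
      · exfalso
        haveI := (Nat.card_eq_one_iff_unique.mp (by rw [hn, pow_zero])).1
        exact hab' (Subsingleton.elim _ _)
      · exfalso
        haveI := isCyclic_of_prime_card (α := P) (hn.trans (pow_one p))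
        exact hab' (mul_comm' a b)
      · exact hn
    haveI := IsPGroup.isMulCommutative_of_card_eq_prime_sq h2
    exact hab' (mul_comm' a b)
  rcases eq_or_lt_of_le hn3 with rfl | hn4
  · exact hn
  exfalso
  -- second centre
  have hpZ0 : p ≤ Nat.card (Subgroup.center P) := Nat.le_of_dvd Nat.card_pos (hc ▸ orderOf_dvd_natCard c)
  set Z := Subgroup.center P with hZ
  have hZne : Z ≠ ⊤ := by
    intro h
    obtain ⟨a, b, hab'⟩ := hab
    exact hab' (Subgroup.mem_center_iff.mp (h ▸ Subgroup.mem_top b : b ∈ Z) a)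
  haveI : Nontrivial (P ⧸ Z) := QuotientGroup.nontrivial_iff.mpr hZne
  haveI := (hP.to_quotient Z).center_nontrivial
  obtain ⟨⟨e', he'⟩, hne⟩ := exists_ne (1 : Subgroup.center (P ⧸ Z))
  obtain ⟨e, rfl⟩ := QuotientGroup.mk_surjective e'
  have heZ : e ∉ Z := fun h => hne (Subtype.ext ((QuotientGroup.eq_one_iff e).mpr h))
  have hcomm : ∀ y : P, e * y * e⁻¹ * y⁻¹ ∈ Z := by
    intro y
    rw [← QuotientGroup.eq_one_iff]
    have h1 : (QuotientGroup.mk (s := Z) y) * (QuotientGroup.mk e) = (QuotientGroup.mk e) * (QuotientGroup.mk y) :=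
      Subgroup.mem_center_iff.mp he' _
    rw [QuotientGroup.mk_mul, QuotientGroup.mk_mul, QuotientGroup.mk_mul, ← h1, QuotientGroup.mk_inv, QuotientGroup.mk_inv]
    group
  -- an abelian subgroup of order `p ^ 3`
  obtain ⟨S, hS, hSab⟩ : ∃ S : Subgroup P, Nat.card S = p ^ 3 ∧ ∀ a ∈ S, ∀ b ∈ S, a * b = b * a := by
    suffices h : ∃ S : Subgroup P, p ^ 3 ≤ Nat.card S ∧ ∀ a ∈ S, ∀ b ∈ S, a * b = b * a by
      obtain ⟨S, hS, hSab⟩ := h
      obtain ⟨T, hTS, hT⟩ := exists_sub hP hS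
      exact ⟨T, hT, fun a ha b hb => hSab a (hTS ha) b (hTS hb)⟩
    have hjoin : ∀ (A : Subgroup P) (y : P), (∀ a ∈ A, ∀ b ∈ A, a * b = b * a) → (∀ a ∈ A, Commute y a) →
        ∀ a ∈ A ⊔ Subgroup.zpowers y, ∀ b ∈ A ⊔ Subgroup.zpowers y, a * b = b * a := by
      intro A y hA hy
      have hcl : A ⊔ Subgroup.zpowers y = Subgroup.closure ((A : Set P) ∪ {y}) := by
        rw [Subgroup.closure_union, Subgroup.closure_eq, Subgroup.zpowers_eq_closure]
      rw [hcl]
      haveI := Subgroup.isMulCommutative_closure (k := (A : Set P) ∪ {y}) (by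
        rintro a (ha | ha) b (hb | hb)
        · exact hA a ha b hb
        · rw [Set.mem_singleton_iff] at hb; rw [hb]; exact ((hy a ha).symm).eq
        · rw [Set.mem_singleton_iff] at ha; rw [ha]; exact (hy b hb).eq
        · rw [Set.mem_singleton_iff] at ha hb; rw [ha, hb])
      exact fun a ha b hb => congrArg Subtype.val (mul_comm' (⟨a, ha⟩ : Subgroup.closure ((A : Set P) ∪ {y})) ⟨b, hb⟩)
    have hZab : ∀ a ∈ Z, ∀ b ∈ Z, a * b = b * a := fun a _ b hb => Subgroup.mem_center_iff.mp hb a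
    set Z₂ := Z ⊔ Subgroup.zpowers e with hZ₂
    have hZ₂ab := hjoin Z e hZab fun a ha => Subgroup.mem_center_iff.mp ha e
    have hpZ : p ≤ Nat.card Z := hpZ0
    have hlt : Nat.card Z < Nat.card Z₂ := by
      refine lt_of_le_of_ne (Subgroup.card_le_of_le le_sup_left) fun h => heZ ?_
      have he : Z = Z₂ := Subgroup.eq_of_le_of_card_ge le_sup_left (le_of_eq h.symm)
      rw [he]; exact Subgroup.mem_sup_right (Subgroup.mem_zpowers e)
    by_cases h3 : p ^ 3 ≤ Nat.card Z₂
    · exact ⟨Z₂, h3, hZ₂ab⟩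
    have hZcard : Nat.card Z = p := by
      obtain ⟨i, hi⟩ := (hP.to_subgroup Z).exists_card_eq
      obtain ⟨j, hj⟩ := (hP.to_subgroup Z₂).exists_card_eq
      rw [hi] at hpZ hlt ⊢
      rw [hj] at h3 hlt
      have h1 : i < j := (Nat.pow_lt_pow_iff_right hp.out.one_lt).mp hlt
      have h2 : j < 3 := by
        by_contra h; exact h3 (Nat.pow_le_pow_right hp.out.pos (not_lt.mp h))
      have h0 : i ≠ 0 := fun h => by rw [h, pow_zero] at hpZ; exact absurd hpZ (not_le.mpr hp.out.one_lt)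
      rw [show i = 1 by omega, pow_one]
    set C := Subgroup.centralizer ({e} : Set P) with hC
    have hCidx : C.index ≤ p := by
      rw [← hZcard, Subgroup.index_eq_card]
      refine Nat.card_le_card_of_injective (fun q => (⟨e * q.out * e⁻¹ * q.out⁻¹, hcomm _⟩ : Z)) fun q q' h => ?_
      have h1 : e * q.out * e⁻¹ * q.out⁻¹ = e * q'.out * e⁻¹ * q'.out⁻¹ := congrArg Subtype.val h
      rw [← Quotient.out_eq q, ← Quotient.out_eq q']
      refine QuotientGroup.eq.mpr (Subgroup.mem_centralizer_singleton_iff.mpr ?_)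
      have h2 : q.out * e⁻¹ * q.out⁻¹ = q'.out * e⁻¹ * q'.out⁻¹ := by simpa [mul_assoc] using h1
      have h2' := congrArg (fun z => z⁻¹) h2
      simp only [mul_inv_rev, inv_inv] at h2'
      calc q.out⁻¹ * q'.out * e = q.out⁻¹ * (q'.out * (e * q'.out⁻¹)) * q'.out := by group
        _ = q.out⁻¹ * (q.out * (e * q.out⁻¹)) * q'.out := by rw [← h2']
        _ = e * (q.out⁻¹ * q'.out) := by group
    have hC3 : p ^ 3 ≤ Nat.card C := by
      have h1 := C.card_mul_index
      have h2 : p ^ 4 ≤ Nat.card C * C.index := by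
        rw [h1, hn]; exact Nat.pow_le_pow_right hp.out.pos hn4
      refine Nat.le_of_mul_le_mul_right ?_ hp.out.pos
      calc p ^ 3 * p = p ^ 4 := by ring
        _ ≤ Nat.card C * C.index := h2
        _ ≤ Nat.card C * p := Nat.mul_le_mul_left _ hCidx
    obtain ⟨y, hyC, hyZ⟩ : ∃ y ∈ C, y ∉ Z₂ := by
      by_contra hno
      push Not at hno
      exact h3 (hC3.trans (Subgroup.card_le_of_le hno))
    refine ⟨Z₂ ⊔ Subgroup.zpowers y, pow_succ_le_card hP ?_, hjoin Z₂ y hZ₂ab ?_⟩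
    · refine lt_of_le_of_lt (pow_succ_le_card hP (k := 1) (by rw [pow_one, ← hZcard]; exact hlt)) ?_
      refine lt_of_le_of_ne (Subgroup.card_le_of_le le_sup_left) fun h => hyZ ?_
      have he := Subgroup.eq_of_le_of_card_ge (le_sup_left : Z₂ ≤ Z₂ ⊔ Subgroup.zpowers y) (le_of_eq h.symm)
      rw [he]; exact Subgroup.mem_sup_right (Subgroup.mem_zpowers y)
    · intro a ha
      obtain ⟨z, hz, m, ⟨i, rfl⟩, rfl⟩ := (Coprime.mem_sup_of_le_normalizer
        (H := Subgroup.zpowers e) (N := Z) (by rw [Subgroup.normalizer_eq_top]; exact le_top)).mp ha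
      exact Commute.mul_right (Subgroup.mem_center_iff.mp hz y)
        ((show Commute y e from Subgroup.mem_centralizer_singleton_iff.mp hyC).zpow_right i)
  -- a nonabelian subgroup of order `p ^ 3`
  obtain ⟨w, hw⟩ : ∃ w : P, e * w ≠ w * e := by
    by_contra h
    push Not at h
    exact heZ (Subgroup.mem_center_iff.mpr fun g => (h g).symm)
  set d := e * w * e⁻¹ * w⁻¹ with hd
  have hdc : ∀ y : P, Commute d y := fun y => (Subgroup.mem_center_iff.mp (hcomm w) y).symm
  set S₀ := Subgroup.zpowers d ⊔ Subgroup.zpowers e with hS₀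
  have hdN : ∀ y : P, y ∈ Subgroup.normalizer ((Subgroup.zpowers d) : Set P) := by
    intro y
    haveI : (Subgroup.zpowers d).Normal := ⟨fun a ha g => by
      obtain ⟨i, rfl⟩ := ha
      show g * d ^ i * g⁻¹ ∈ _
      rw [← (hdc g).zpow_left i |>.eq, mul_inv_cancel_right]
      exact Subgroup.zpow_mem_zpowers _ i⟩
    rw [Subgroup.normalizer_eq_top]
    exact Subgroup.mem_top y
  have hwN : w ∈ Subgroup.normalizer (S₀ : Set P) := by
    rw [← Coprime.conj_smul_eq_self_iff]
    refine Subgroup.eq_of_le_of_card_ge ?_ (le_of_eq (Coprime.card_conj_smul _ _).symm)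
    rintro _ hy
    obtain ⟨a, ha, rfl⟩ := (Subgroup.mem_smul_pointwise_iff_exists _ _ _).mp hy
    obtain ⟨n, ⟨i, rfl⟩, m, ⟨j, rfl⟩, rfl⟩ :=
      (Coprime.mem_sup_of_le_normalizer (Subgroup.zpowers_le.mpr (hdN e))).mp ha
    show MulAut.conj w (d ^ i * e ^ j) ∈ S₀
    rw [map_mul, map_zpow, map_zpow, MulAut.conj_apply, MulAut.conj_apply, ← (hdc w).eq, mul_inv_cancel_right]
    refine S₀.mul_mem (Subgroup.mem_sup_left (Subgroup.zpow_mem_zpowers _ i)) (S₀.zpow_mem ?_ j)
    have : w * e * w⁻¹ = d⁻¹ * e := by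
      rw [hd]; group
    rw [this]
    exact S₀.mul_mem (Subgroup.mem_sup_left (Subgroup.inv_mem _ (Subgroup.mem_zpowers d)))
      (Subgroup.mem_sup_right (Subgroup.mem_zpowers e))
  set T := S₀ ⊔ Subgroup.zpowers w with hT
  have hord : ∀ a : P, orderOf a ≤ p := fun a => Nat.le_of_dvd hp.out.pos (orderOf_dvd_of_pow_eq_one (hexp a))
  have hT3 : Nat.card T ≤ p ^ 3 := by
    refine (card_sup_zpowers_dvd hwN).trans ?_
    rw [show p ^ 3 = p * p * p by ring]
    refine Nat.mul_le_mul ((card_sup_zpowers_dvd (hdN e)).trans ?_) (hord w)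
    rw [Nat.card_zpowers]
    exact Nat.mul_le_mul (hord d) (hord e)
  have heT : e ∈ T := Subgroup.mem_sup_left (Subgroup.mem_sup_right (Subgroup.mem_zpowers e))
  have hwT : w ∈ T := Subgroup.mem_sup_right (Subgroup.mem_zpowers w)
  obtain ⟨k, hk⟩ := (hP.to_subgroup T).exists_card_eq
  obtain ⟨T', hT', hle⟩ := Sylow.exists_subgroup_card_pow_prime_le p (m := 3) (by
    rw [hn]; exact pow_dvd_pow p hn3) T hk ((Nat.pow_le_pow_iff_right hp.out.one_lt).mp (hk ▸ hT3))
  obtain ⟨f⟩ := hiso S T' (hS.trans hT'.symm)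
  refine hw ?_
  have h1 : f.symm ⟨e, hle heT⟩ * f.symm ⟨w, hle hwT⟩ = f.symm ⟨w, hle hwT⟩ * f.symm ⟨e, hle heT⟩ :=
    Subtype.ext (hSab _ (f.symm _).2 _ (f.symm _).2)
  rw [← map_mul, ← map_mul] at h1
  exact congrArg Subtype.val (f.symm.injective h1)

end Cfsg.Agent.GStructB.EqualOrderIso
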