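import Cfsg.Agent.Lib.Involutions.ElementaryCentralizersPSL
import Cfsg.Agent.Lib.Involutions.ThompsonTransfer
import Cfsg.Agent.Lib.CN.Main
import Cfsg.Agent.Lib.Characters.Burnside
import Cfsg.Agent.Lib.Classical.GL2
import Mathlib

/-!
Nonsolvable groups whose element orders are `1` and three primes: the group `A₅`.
-/

set_option autoImplicit false

namespace Cfsg.Agent.GStructB.FourOrbits

open scoped MatrixGroups Pointwise

universe u

section SL

variable {F : Type u} [Field F] [CharP F 2]

theorem quad_of_pow_three {A : SL(2, F)} (h3 : A ^ 3 = 1) (h1 : A ≠ 1) :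
    (A : Matrix (Fin 2) (Fin 2) F) * A = (A : Matrix (Fin 2) (Fin 2) F) + 1 := by
  have h2 : (2 : F) = 0 := CharTwo.two_eq_zero
  set M : Matrix (Fin 2) (Fin 2) F := ↑A with hM
  have hdet : M 0 0 * M 1 1 - M 0 1 * M 1 0 = 1 := by rw [← Matrix.det_fin_two]; exact A.2
  set t := M 0 0 + M 1 1 with ht
  have hCH : M * M = t • M + 1 := by
    ext i j
    fin_cases i <;> fin_cases j <;>
      simp [Matrix.mul_apply, Fin.sum_univ_two, ht]
    · linear_combination (-1 : F) * hdet + (M 0 0 * 0) * h2 - h2 * 1 + h2 * (1 : F) - h2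
    · ring
    · ring
    · linear_combination (-1 : F) * hdet - h2
  have hcube : (t * t + 1) • M + t • (1 : Matrix (Fin 2) (Fin 2) F) = 1 := by
    have e : M * M * M = 1 := by
      have := congrArg (fun B : SL(2, F) => (B : Matrix (Fin 2) (Fin 2) F)) h3
      simpa [pow_succ, pow_zero, hM] using this
    rw [hCH, add_mul, Matrix.smul_mul, hCH, one_mul, smul_add, smul_smul] at e
    rw [add_smul, one_smul]
    calc (t * t) • M + M + t • (1 : Matrix (Fin 2) (Fin 2) F) = (t * t) • M + t • 1 + M := by abel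
      _ = 1 := e
  by_cases htt : t * t + 1 = 0
  · have hs : (t + 1) * (t + 1) = 0 := by linear_combination htt + t * h2
    have ht1 : t = 1 := by
      have := mul_self_eq_zero.mp hs
      linear_combination this - h2
    rw [hCH, ht1, one_smul]
  · exfalso
    apply h1
    have hsc : M = ((t * t + 1)⁻¹ * (1 - t)) • (1 : Matrix (Fin 2) (Fin 2) F) := by
      have h' : (t * t + 1) • M = (1 - t) • (1 : Matrix (Fin 2) (Fin 2) F) := by
        rw [sub_smul, one_smul]; exact eq_sub_of_add_eq hcube
      rw [← smul_smul, ← h', smul_smul, inv_mul_cancel₀ htt, one_smul]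
    set c := (t * t + 1)⁻¹ * (1 - t)
    have h00 : M 0 0 = c := by rw [hsc]; simp
    have h11 : M 1 1 = c := by rw [hsc]; simp
    have h01 : M 0 1 = 0 := by rw [hsc]; simp
    have h10 : M 1 0 = 0 := by rw [hsc]; simp
    rw [h00, h11, h01, zero_mul, sub_zero] at hdet
    have hs : (c + 1) * (c + 1) = 0 := by linear_combination hdet + (c + 1) * h2
    have hc : c = 1 := by
      have := mul_self_eq_zero.mp hs
      linear_combination this - h2
    refine Matrix.SpecialLinearGroup.ext _ _ fun i j => ?_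
    show M i j = (1 : Matrix (Fin 2) (Fin 2) F) i j
    rw [hsc, hc, one_smul]

/-- Commuting elements of order three in `SL(2, F)` in characteristic two. -/
theorem eq_or_eq_inv {x y : SL(2, F)} (hx : x ^ 3 = 1) (hx1 : x ≠ 1) (hy : y ^ 3 = 1) (hy1 : y ≠ 1)
    (hxy : Commute x y) (hne : x * y ≠ 1) : x = y := by
  have h2 : (2 : F) = 0 := CharTwo.two_eq_zero
  have e1 := quad_of_pow_three hx hx1
  have e2 := quad_of_pow_three hy hy1
  have e3 := quad_of_pow_three (A := x * y) (by rw [hxy.mul_pow, hx, hy, one_mul]) hne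
  rw [Matrix.SpecialLinearGroup.coe_mul] at e3
  set X : Matrix (Fin 2) (Fin 2) F := (x : Matrix (Fin 2) (Fin 2) F) with hX
  set Y : Matrix (Fin 2) (Fin 2) F := (y : Matrix (Fin 2) (Fin 2) F) with hY
  have hc : Y * X = X * Y := by
    have := congrArg (fun B : SL(2, F) => (B : Matrix (Fin 2) (Fin 2) F)) hxy.eq
    simpa [hX, hY] using this.symm
  have hsum : X + Y = 0 := by
    have h4 : X * Y * (X * Y) = X * X * (Y * Y) := by
      calc X * Y * (X * Y) = X * (Y * X) * Y := by simp only [mul_assoc]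
        _ = X * X * (Y * Y) := by rw [hc]; simp only [mul_assoc]
    rw [h4, e1, e2, add_mul, mul_add, mul_one, one_mul] at e3
    have : X + Y = (X * Y + X + (Y + 1)) - (X * Y + 1) := by abel
    rw [this, e3, sub_self]
  refine Matrix.SpecialLinearGroup.ext _ _ fun i j => ?_
  have h := congrFun (congrFun hsum i) j
  simp only [Matrix.add_apply, Matrix.zero_apply] at h
  show X i j = Y i j
  linear_combination h - (Y i j) * h2

end SL

variable {G : Type u} [Group G] [Finite G]

theorem eq_A5 (hns : ¬ Group.IsSolvable G) (horb : ((Set.range (orderOf : G → ℕ))).ncard ≤ 4) :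
    Nonempty (G ≃* alternatingGroup (Fin 5)) := by
  classical
  set S := Set.range (orderOf : G → ℕ) with hS
  have h1S : (1 : ℕ) ∈ S := ⟨1, orderOf_one⟩
  have hprimeS : ∀ q : ℕ, q.Prime → q ∣ Nat.card G → q ∈ S := fun q hq hd => by
    haveI := Fact.mk hq
    exact exists_prime_orderOf_dvd_card' q hd
  set P := (Nat.card G).primeFactors with hP
  have hP3 : 3 ≤ P.card := by
    by_contra hlt
    apply hns
    have hpr := Nat.prod_factorization_pow_eq_self (n := Nat.card G) Nat.card_pos.ne'
    rw [Finsupp.prod, Nat.support_factorization, ← hP] at hpr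
    rcases (show P.card = 0 ∨ P.card = 1 ∨ P.card = 2 by omega) with h | h | h
    · rw [Finset.card_eq_zero.mp h, Finset.prod_empty] at hpr
      exact Characters.burnside_pa_qb (a := 0) (b := 0) Nat.prime_two Nat.prime_three (by rw [← hpr]; simp)
    · obtain ⟨p, hp⟩ := Finset.card_eq_one.mp h
      rw [hp, Finset.prod_singleton] at hpr
      exact Characters.burnside_pa_qb (a := (Nat.card G).factorization p) (b := 0) (Nat.prime_of_mem_primeFactors (hP ▸ hp ▸ Finset.mem_singleton_self p : p ∈ (Nat.card G).primeFactors)) Nat.prime_three (by simp [hpr])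
    · obtain ⟨p, q, hpq, hp⟩ := Finset.card_eq_two.mp h
      rw [hp, Finset.prod_pair hpq] at hpr
      have hp' : p ∈ P := by rw [hp]; simp
      have hq' : q ∈ P := by rw [hp]; simp
      exact Characters.burnside_pa_qb (Nat.prime_of_mem_primeFactors hp') (Nat.prime_of_mem_primeFactors hq') hpr.symm
  have hsub : (↑(insert 1 P) : Set ℕ) ⊆ S := by
    intro q hq
    rcases Finset.mem_insert.mp hq with rfl | hq
    · exact h1S
    · exact hprimeS q (Nat.prime_of_mem_primeFactors hq) (Nat.dvd_of_mem_primeFactors hq)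
  have h1P : (1 : ℕ) ∉ P := fun h => Nat.not_prime_one (Nat.prime_of_mem_primeFactors h)
  have hSeq : (↑(insert 1 P) : Set ℕ) = S := by
    refine Set.eq_of_subset_of_ncard_le hsub ?_ (Set.toFinite _)
    rw [Set.ncard_coe_finset, Finset.card_insert_of_notMem h1P]; omega
  have hPcard : P.card = 3 := by
    have := congrArg Set.ncard hSeq
    rw [Set.ncard_coe_finset, Finset.card_insert_of_notMem h1P] at this; omega
  have hord : ∀ g : G, g ≠ 1 → (orderOf g).Prime := by
    intro g hg
    have : orderOf g ∈ (↑(insert 1 P) : Set ℕ) := hSeq.symm ▸ ⟨g, rfl⟩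
    rcases Finset.mem_insert.mp this with h | h
    · exact absurd (orderOf_eq_one_iff.mp h) hg
    · exact Nat.prime_of_mem_primeFactors h
  have hcent : ∀ g : G, g ≠ 1 → ∀ c ∈ Subgroup.centralizer ({g} : Set G), c ≠ 1 → orderOf c = orderOf g := by
    intro g hg c hc hc1
    by_contra hne
    have hcop : (orderOf c).Coprime (orderOf g) := (Nat.coprime_primes (hord c hc1) (hord g hg)).mpr hne
    have hcm : Commute c g := Subgroup.mem_centralizer_singleton_iff.mp hc
    have h1 := hcm.orderOf_mul_eq_mul_orderOf_of_coprime hcop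
    have h2 : c * g ≠ 1 := fun h => by
      rw [h, orderOf_one] at h1
      exact (hord c hc1).ne_one (mul_eq_one.mp h1.symm).1
    exact Nat.not_prime_mul (hord c hc1).ne_one (hord g hg).ne_one (h1 ▸ hord _ h2)
  have hCN : Cfsg.IsCNGroup G := by
    intro g hg
    haveI := Fact.mk (hord g hg)
    have : IsPGroup (orderOf g) (Subgroup.centralizer ({g} : Set G)) := by
      rw [IsPGroup.iff_orderOf]
      rintro ⟨c, hc⟩
      by_cases hc1 : c = 1
      · exact ⟨0, by simp [hc1]⟩
      · exact ⟨1, by rw [pow_one, Subgroup.orderOf_mk, hcent g hg c hc hc1]⟩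
    exact this.isNilpotent
  have hsolvOdd : ∀ H : Subgroup G, Odd (Nat.card H) → Group.IsSolvable H := fun H hH =>
    CN.isSolvable_of_odd_cn _ H rfl hH (CN.isCNGroup_subgroup hCN H)
  have heven : 2 ∣ Nat.card G := by
    by_contra h
    exact hns (CN.isSolvable_of_odd_cn _ G rfl (Nat.odd_iff.mpr (Nat.two_dvd_ne_zero.mp h)) hCN)
  haveI : Fact (Nat.Prime 2) := ⟨Nat.prime_two⟩
  obtain ⟨T⟩ : Nonempty (Sylow 2 G) := inferInstance
  have hT2 : ∀ t : (T : Subgroup G), t ^ 2 = 1 := by
    intro t
    by_cases ht : t = 1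
    · rw [ht, one_pow]
    · obtain ⟨k, hk⟩ := IsPGroup.iff_orderOf.mp T.2 t
      have hp := hord (t : G) fun h => ht (Subtype.ext h)
      rw [Subgroup.orderOf_coe, hk] at hp
      rw [← orderOf_dvd_iff_pow_eq_one, hk]
      rcases k with _ | _ | k
      · simp
      · simp
      · exact absurd hp (Nat.Prime.not_prime_pow (by omega))
  have hTab : ∀ a b : (T : Subgroup G), a * b = b * a := fun a b => by
    have hi : ∀ z : (T : Subgroup G), z⁻¹ = z := fun z => inv_eq_of_mul_eq_one_right (by rw [← pow_two, hT2])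
    calc a * b = (a * b)⁻¹ := (hi _).symm
      _ = b * a := by rw [mul_inv_rev, hi, hi]
  haveI : IsMulCommutative (T : Subgroup G) := ⟨⟨hTab⟩⟩
  have hTsol : Group.IsSolvable (T : Subgroup G) := by
    haveI := T.2.isNilpotent
    infer_instance
  have hH : Involutions.ElementaryCentralizers.Hyp T := by
    refine ⟨fun hcyc => ?_, fun hn => ?_, fun t ht => ?_⟩
    · obtain ⟨H, hH⟩ := Involutions.ThompsonTransfer.exists_index_two_of_isCyclic_sylow (even_iff_two_dvd.mpr heven) T hcyc
      have hTc : Nat.card (T : Subgroup G) = 2 := by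
        obtain ⟨g, hg⟩ := hcyc.exists_generator
        have h1 : orderOf g = Nat.card (T : Subgroup G) := orderOf_eq_card_of_forall_mem_zpowers hg
        have h2 : Nat.card (T : Subgroup G) ∣ 2 := h1 ▸ orderOf_dvd_of_pow_eq_one (hT2 g)
        have h3 : 2 ∣ Nat.card (T : Subgroup G) := T.dvd_card_of_dvd_card heven
        exact Nat.dvd_antisymm h2 h3
      have hHodd : Odd (Nat.card H) := by
        rw [Nat.odd_iff]
        by_contra h
        have h4 : 2 ^ 2 ∣ Nat.card G := by
          rw [← H.card_mul_index, hH, pow_two]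
          exact Nat.mul_dvd_mul (Nat.dvd_of_mod_eq_zero (by omega)) dvd_rfl
        have h5 := (Nat.Prime.pow_dvd_iff_le_factorization Nat.prime_two Nat.card_pos.ne').mp h4
        have h6 := T.card_eq_multiplicity
        rw [hTc] at h6
        have h7 : (Nat.card G).factorization 2 = 1 := (Nat.pow_right_injective le_rfl (h6.symm.trans (pow_one 2).symm))
        omega
      haveI := hsolvOdd H hHodd
      haveI : H.Normal := Subgroup.normal_of_index_eq_two hH
      haveI : Group.IsSolvable (G ⧸ H) := by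
        haveI : IsCyclic (G ⧸ H) := isCyclic_of_prime_card (p := 2) (by rw [← Subgroup.index_eq_card, hH])
        infer_instance
      exact hns (Group.isSolvable_of_ker_le_range H.subtype (QuotientGroup.mk' H)
        (by rw [QuotientGroup.ker_mk', Subgroup.range_subtype]))
    · obtain ⟨K, hK⟩ := Subgroup.exists_right_complement'_of_coprime T.card_coprime_index
      have hKodd : Odd (Nat.card K) := by
        rw [Nat.odd_iff, ← hK.symm.index_eq_card]
        have := T.not_dvd_index
        omega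
      haveI := hsolvOdd K hKodd
      haveI : Group.IsSolvable (G ⧸ (T : Subgroup G)) := by
        refine Group.isSolvable_of_surjective (f := (QuotientGroup.mk' (T : Subgroup G)).comp K.subtype) fun x => ?_
        induction x using QuotientGroup.induction_on with
        | _ g =>
        obtain ⟨⟨t, k⟩, rfl⟩ := hK.surjective g
        refine ⟨k, ?_⟩
        show QuotientGroup.mk (k : G) = QuotientGroup.mk ((t : G) * k)
        rw [QuotientGroup.mk_mul, (QuotientGroup.eq_one_iff (t : G)).mpr t.2, one_mul]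
      exact hns (Group.isSolvable_of_ker_le_range (T : Subgroup G).subtype (QuotientGroup.mk' (T : Subgroup G))
        (by rw [QuotientGroup.ker_mk', Subgroup.range_subtype]))
    · have ht1 : t ≠ 1 := fun h => by rw [h, orderOf_one] at ht; omega
      have hsq : ∀ c ∈ Subgroup.centralizer ({t} : Set G), c ^ 2 = 1 := by
        intro c hc
        by_cases hc1 : c = 1
        · rw [hc1, one_pow]
        · rw [← ht, ← hcent t ht1 c hc hc1, pow_orderOf_eq_one]
      refine ⟨⟨⟨fun a b => ?_⟩⟩, hsq⟩
      have hi : ∀ z : Subgroup.centralizer ({t} : Set G), z⁻¹ = z := fun z =>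
        inv_eq_of_mul_eq_one_right (Subtype.ext (by rw [Subgroup.coe_mul, ← pow_two]; exact hsq z z.2))
      calc a * b = (a * b)⁻¹ := (hi _).symm
        _ = b * a := by rw [mul_inv_rev, hi, hi]
  obtain ⟨K, iF, iK, hKT, hKeven, ⟨e⟩⟩ := hH.exists_pslTwo
  obtain ⟨m, hm⟩ := T.2.exists_card_eq
  have h4 : 4 ≤ Nat.card T := hH.four_le_card
  set q := Fintype.card K with hq
  have hq2 : q = 2 ^ m := hKT.trans hm
  have hm2 : 2 ≤ m := by
    by_contra h
    have h5 : (2:ℕ) ^ m ≤ 2 ^ 1 := Nat.pow_le_pow_right two_pos (by omega)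
    omega
  haveI : CharP K 2 := by
    have h : ringChar K = 2 := FiniteField.even_card_iff_char_two.mpr (by rw [show Fintype.card K = Nat.card T from hKT]; exact hKeven)
    exact h ▸ ringChar.charP K
  have hgcd : Nat.gcd 2 (q - 1) = 1 := by
    refine (Nat.prime_two.coprime_iff_not_dvd).mpr ?_
    have : 2 ∣ q := hq2 ▸ dvd_pow_self 2 (by omega)
    omega
  have hcardSL : Nat.card SL(2, K) = q * ((q - 1) * (q + 1)) := Classical.GL2.natCard_SL_two
  have hpsl := Classical.SmallIso.natCard_pslTwo K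
  rw [hgcd, one_mul] at hpsl
  haveI : Finite SL(2, K) := inferInstance
  have hbij : Function.Bijective (QuotientGroup.mk' (Subgroup.center SL(2, K))) :=
    (Nat.bijective_iff_surjective_and_card _).mpr ⟨QuotientGroup.mk'_surjective _, hpsl.symm⟩
  let f : SL(2, K) ≃* G := (MulEquiv.ofBijective _ hbij).trans e.symm
  have hGcard : Nat.card G = q * ((q - 1) * (q + 1)) := by rw [← hcardSL]; exact (Nat.card_congr f.toEquiv).symm
  by_cases hq4 : q = 4
  · obtain ⟨φ, hφ⟩ := Classical.SmallIso.exists_pslTwo_hom K 5 (by omega)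
    refine Classical.SmallIso.nonempty_mulEquiv_alternating (φ.comp e.toMonoidHom) (hφ.comp e.injective) ?_
    rw [hGcard, hq4, Fintype.card_fin]; rfl
  exfalso
  -- an element of order `q - 1`
  obtain ⟨u, hu⟩ := IsCyclic.exists_generator (α := Kˣ)
  have huo : orderOf u = q - 1 := by
    rw [orderOf_eq_card_of_forall_mem_zpowers hu, Nat.card_eq_fintype_card, Fintype.card_units]
  let D : Kˣ →* SL(2, K) :=
    { toFun := fun v => ⟨!![(v : K), 0; 0, ((v⁻¹ : Kˣ) : K)], by simp [Matrix.det_fin_two]⟩
      map_one' := by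
        refine Matrix.SpecialLinearGroup.ext _ _ fun i j => ?_
        fin_cases i <;> fin_cases j <;> simp
      map_mul' := fun a b => Subtype.ext (by
        show !![((a * b : Kˣ) : K), 0; 0, (((a * b)⁻¹ : Kˣ) : K)] =
          !![(a : K), 0; 0, ((a⁻¹ : Kˣ) : K)] * !![(b : K), 0; 0, ((b⁻¹ : Kˣ) : K)]
        ext i j
        fin_cases i <;> fin_cases j <;> simp [Matrix.mul_apply, Fin.sum_univ_two, mul_comm]) }
  have hD : Function.Injective D := by
    intro a b hab
    have := congrFun (congrFun (congrArg (fun B : SL(2, K) => (B : Matrix (Fin 2) (Fin 2) K)) hab) 0) 0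
    exact Units.ext this
  have hs : (q - 1).Prime := by
    have h1 : orderOf (f (D u)) = q - 1 := by rw [MulEquiv.orderOf_eq, orderOf_injective D hD, huo]
    refine h1 ▸ hord _ fun h => ?_
    rw [h, orderOf_one] at h1
    omega
  have h8 : 8 ≤ q := by
    rcases (show m = 2 ∨ 3 ≤ m by omega) with rfl | h
    · exact absurd hq2 hq4
    · rw [hq2]; exact Nat.pow_le_pow_right two_pos h
  have hmodd : m % 2 = 1 := by
    by_contra h
    have h3 : 3 ∣ q - 1 := by
      obtain ⟨k, rfl⟩ : ∃ k, m = 2 * k := ⟨m / 2, by omega⟩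
      have : 4 ^ k % 3 = 1 := by rw [Nat.pow_mod]; simp
      rw [hq2, pow_mul, show (2:ℕ) ^ 2 = 4 by norm_num]
      omega
    have := (Nat.prime_dvd_prime_iff_eq Nat.prime_three hs).mp h3
    omega
  have h3 : 3 ∣ q + 1 := by
    obtain ⟨k, rfl⟩ : ∃ k, m = 2 * k + 1 := ⟨m / 2, by omega⟩
    have : 4 ^ k % 3 = 1 := by rw [Nat.pow_mod]; simp
    rw [hq2, pow_succ, pow_mul, show (2:ℕ) ^ 2 = 4 by norm_num]
    omega
  have hPeq : P = {2, q - 1, 3} := by
    refine (Finset.eq_of_subset_of_card_le (fun r hr => ?_) ?_).symm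
    · have hG0 : Nat.card G ≠ 0 := Nat.card_pos.ne'
      simp only [Finset.mem_insert, Finset.mem_singleton] at hr
      rcases hr with rfl | rfl | rfl
      · exact Nat.mem_primeFactors.mpr ⟨Nat.prime_two, heven, hG0⟩
      · exact Nat.mem_primeFactors.mpr ⟨hs, hGcard ▸ dvd_mul_of_dvd_right (dvd_mul_right _ _) _, hG0⟩
      · exact Nat.mem_primeFactors.mpr ⟨Nat.prime_three, hGcard ▸ dvd_mul_of_dvd_right (h3.mul_left _) _, hG0⟩
    · rw [hPcard, Finset.card_insert_of_notMem, Finset.card_insert_of_notMem, Finset.card_singleton]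
      · simp only [Finset.mem_singleton]; omega
      · simp only [Finset.mem_insert, Finset.mem_singleton]; omega
  obtain ⟨k, hk⟩ : ∃ k, q + 1 = 3 ^ k := by
    refine ⟨(q + 1).factorization 3, ?_⟩
    conv_lhs => rw [← Nat.prod_factorization_pow_eq_self (n := q + 1) (by omega)]
    rw [Finsupp.prod]
    refine Finset.prod_eq_single 3 (fun r hr hne => ?_) (fun h => by
      rw [Finsupp.notMem_support_iff] at h; rw [h, pow_zero])
    exfalso
    rw [Nat.support_factorization] at hr
    have hr' : r ∈ P := Nat.mem_primeFactors.mpr ⟨Nat.prime_of_mem_primeFactors hr,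
      hGcard ▸ dvd_mul_of_dvd_right (Dvd.dvd.mul_left (Nat.dvd_of_mem_primeFactors hr) _) _, Nat.card_pos.ne'⟩
    rw [hPeq] at hr'
    simp only [Finset.mem_insert, Finset.mem_singleton] at hr'
    rcases hr' with rfl | rfl | rfl
    · have := Nat.dvd_of_mem_primeFactors hr
      have : 2 ∣ q := hq2 ▸ dvd_pow_self 2 (by omega)
      omega
    · have h9 : q - 1 ∣ 2 := by
        have := Nat.dvd_sub (Nat.dvd_of_mem_primeFactors hr) (dvd_refl (q - 1))
        rwa [show q + 1 - (q - 1) = 2 by omega] at this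
      have := Nat.le_of_dvd two_pos h9
      omega
    · exact hne rfl
  have hk2 : k % 2 = 0 := by
    by_contra h
    obtain ⟨j, rfl⟩ : ∃ j, k = 2 * j + 1 := ⟨k / 2, by omega⟩
    have h8d : 8 ∣ q := by
      rw [hq2, show (8:ℕ) = 2 ^ 3 by norm_num]
      refine pow_dvd_pow 2 ?_
      by_contra hlt
      have : m = 2 := by omega
      omega
    have : 9 ^ j % 8 = 1 := by rw [Nat.pow_mod]; simp
    rw [pow_succ, pow_mul, show (3:ℕ) ^ 2 = 9 by norm_num] at hk
    omega
  obtain ⟨j, rfl⟩ : ∃ j, k = j + j := ⟨k / 2, by omega⟩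
  rw [pow_add] at hk
  have hj1 : 2 ≤ 3 ^ j := by
    by_contra h
    have := Nat.one_le_pow j 3 (by norm_num)
    have : 3 ^ j = 1 := by omega
    rw [this] at hk; omega
  obtain ⟨a, -, ha⟩ := (Nat.dvd_prime_pow Nat.prime_two).mp (show 3 ^ j - 1 ∣ 2 ^ m by
    refine Dvd.intro (3 ^ j + 1) ?_
    rw [← hq2, mul_comm, ← Nat.sq_sub_sq, one_pow, pow_two, ← hk]; omega)
  obtain ⟨b, -, hb⟩ := (Nat.dvd_prime_pow Nat.prime_two).mp (show 3 ^ j + 1 ∣ 2 ^ m by
    refine Dvd.intro (3 ^ j - 1) ?_
    rw [← hq2, ← Nat.sq_sub_sq, one_pow, pow_two, ← hk]; omega)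
  have ha1 : a = 1 := by
    have hodd : 3 ^ j % 2 = 1 := by rw [Nat.pow_mod]; simp
    rcases a with _ | _ | a
    · rw [pow_zero] at ha; omega
    · rfl
    · exfalso
      have h1 : 4 ∣ 2 ^ (a + 1 + 1) := ⟨2 ^ a, by ring⟩
      rcases b with _ | _ | b
      · rw [pow_zero] at hb; omega
      · omega
      · have h2 : 4 ∣ 2 ^ (b + 1 + 1) := ⟨2 ^ b, by ring⟩
        omega
  subst ha1
  have hj3 : 3 ^ j = 3 := by omega
  rw [hj3] at hk
  have hq8 : q = 8 := by omega
  haveI : Fact (Nat.Prime 3) := ⟨Nat.prime_three⟩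
  obtain ⟨Q⟩ : Nonempty (Sylow 3 G) := inferInstance
  have hQc : Nat.card (Q : Subgroup G) = 3 ^ 2 := by
    rw [Q.card_eq_multiplicity, hGcard, hq8]
    congr 1
    rw [show 8 * ((8 - 1) * (8 + 1)) = 56 * 3 ^ 2 by norm_num, Nat.factorization_mul (by norm_num) (by norm_num),
      Finsupp.add_apply, Nat.factorization_eq_zero_of_not_dvd (by norm_num), Nat.Prime.factorization_pow Nat.prime_three,
      Finsupp.single_eq_same]
  haveI := IsPGroup.isMulCommutative_of_card_eq_prime_sq hQc
  have hQ3 : ∀ z : (Q : Subgroup G), z ^ 3 = 1 := by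
    intro z
    by_cases hz : z = 1
    · rw [hz, one_pow]
    · obtain ⟨i, hi⟩ := IsPGroup.iff_orderOf.mp Q.2 z
      have hp := hord (z : G) fun h => hz (Subtype.ext h)
      rw [Subgroup.orderOf_coe, hi] at hp
      rw [← orderOf_dvd_iff_pow_eq_one, hi]
      rcases i with _ | _ | i
      · simp
      · simp
      · exact absurd hp (Nat.Prime.not_prime_pow (by omega))
  have hQnt : Nontrivial (Q : Subgroup G) := Finite.one_lt_card_iff_nontrivial.mp (by omega)
  obtain ⟨x, hx1⟩ := exists_ne (1 : (Q : Subgroup G))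
  obtain ⟨y, hy⟩ : ∃ y : (Q : Subgroup G), y ∉ Subgroup.zpowers x := by
    by_contra hall
    push Not at hall
    have h1 := Subgroup.card_le_of_le (show (⊤ : Subgroup (Q : Subgroup G)) ≤ Subgroup.zpowers x from fun z _ => hall z)
    rw [Subgroup.card_top, Nat.card_zpowers, hQc] at h1
    have := Nat.le_of_dvd (by norm_num) (orderOf_dvd_of_pow_eq_one (hQ3 x))
    omega
  have hy1 : y ≠ 1 := fun h => hy (h ▸ Subgroup.one_mem _)
  have hxy1 : x * y ≠ 1 := fun h => hy (by
    rw [← inv_eq_of_mul_eq_one_right h]; exact Subgroup.inv_mem _ (Subgroup.mem_zpowers x))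
  let g : (Q : Subgroup G) →* SL(2, K) := f.symm.toMonoidHom.comp (Q : Subgroup G).subtype
  have hg : Function.Injective g := f.symm.injective.comp Subtype.val_injective
  have := eq_or_eq_inv (x := g x) (y := g y) (by rw [← map_pow, hQ3, map_one])
    (fun h => hx1 (hg (h.trans g.map_one.symm))) (by rw [← map_pow, hQ3, map_one])
    (fun h => hy1 (hg (h.trans g.map_one.symm)))
    ((show Commute x y from mul_comm' x y).map g) (fun h => hxy1 (hg (by rw [map_mul, h, map_one])))
  exact hy (hg this ▸ Subgroup.mem_zpowers x)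

end Cfsg.Agent.GStructB.FourOrbits
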