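import Mathlib

/-!
Frobenius's theorem: if `n` divides the order of a finite group, then `n` divides the number of
solutions of `x ^ n = 1`; counting pairs of commuting elements of coprime orders.
-/

set_option autoImplicit false

namespace Cfsg.Agent.GStructB.FrobeniusCount

universe u

/-- The number of elements killed by `n`. -/
noncomputable def numPowOne (G : Type u) [Group G] (n : ℕ) : ℕ := Nat.card {g : G // g ^ n = 1}

/-- `numPowOne` only depends on the gcd with the order. -/
theorem numPowOne_gcd {G : Type u} [Group G] [Finite G] (n : ℕ) :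
    numPowOne G (Nat.gcd (Nat.card G) n) = numPowOne G n := by
  refine Nat.card_congr (Equiv.subtypeEquivRight fun g => ?_)
  rw [← orderOf_dvd_iff_pow_eq_one, ← orderOf_dvd_iff_pow_eq_one, Nat.dvd_gcd_iff]
  exact and_iff_right (orderOf_dvd_natCard g)

/-- A group isomorphism preserves `numPowOne`. -/
theorem numPowOne_congr {G : Type*} {H : Type*} [Group G] [Group H] (e : G ≃* H) (n : ℕ) :
    numPowOne G n = numPowOne H n := by
  refine Nat.card_congr (e.toEquiv.subtypeEquiv fun g => ?_)
  simp [← map_pow]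

/-- Totient divides the number of elements with a given order. -/
theorem totient_dvd_card_orderOf {G : Type u} [Group G] [Finite G] (m : ℕ) :
    Nat.totient m ∣ Nat.card {g : G // orderOf g = m} := by
  classical
  have := Fintype.ofFinite G
  rw [Nat.card_eq_fintype_card, Fintype.card_subtype]
  rw [Finset.card_eq_sum_card_image (fun g => Subgroup.zpowers g)]
  refine Finset.dvd_sum fun C hC => ?_
  obtain ⟨g, hg, rfl⟩ := Finset.mem_image.mp hC
  rw [Finset.mem_filter] at hg
  have hm : 0 < m := hg.2 ▸ orderOf_pos g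
  have hcard : Fintype.card (Subgroup.zpowers g) = m := by
    rw [Fintype.card_zpowers, hg.2]
  rw [← IsCyclic.card_orderOf_eq_totient (α := Subgroup.zpowers g) (d := m) (by rw [hcard])]
  apply dvd_of_eq
  refine Finset.card_bij (fun a _ => (a : G)) ?_ ?_ ?_
  · intro a ha
    simp only [Finset.mem_filter, Finset.mem_univ, true_and] at ha ⊢
    have ho : orderOf (a : G) = m := by rw [Subgroup.orderOf_coe]; exact ha
    refine ⟨ho, ?_⟩
    apply Subgroup.eq_of_le_of_card_ge (Subgroup.zpowers_le.mpr a.2)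
    rw [Nat.card_zpowers, Nat.card_zpowers, ho, hg.2]
  · intro a _ b _ h
    exact Subtype.ext h
  · intro b hb
    simp only [Finset.mem_filter, Finset.mem_univ, true_and] at hb
    refine ⟨⟨b, hb.2 ▸ Subgroup.mem_zpowers b⟩, ?_, rfl⟩
    simp only [Finset.mem_filter, Finset.mem_univ, true_and, Subgroup.orderOf_mk]
    exact hb.1

/-- The number of pairs `(u, y)` with `u` in a conjugation invariant set and `y` a centralising
element killed by `s` is divisible by `s`, given Frobenius's theorem for the centralisers. -/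
theorem dvd_card_pairs {G : Type u} [Group G] [Finite G] (U : Set G)
    (hU : ∀ u ∈ U, ∀ g : G, g * u * g⁻¹ ∈ U) (s : ℕ)
    (h : ∀ u ∈ U, s ∣ (Subgroup.centralizer ({u} : Set G)).index *
      numPowOne (Subgroup.centralizer ({u} : Set G)) s) :
    s ∣ Nat.card {q : G × G // q.1 ∈ U ∧ Commute q.1 q.2 ∧ q.2 ^ s = 1} := by
  classical
  have := Fintype.ofFinite G
  have hfib : ∀ u, Nat.card {y : G // Commute u y ∧ y ^ s = 1} =
      numPowOne (Subgroup.centralizer ({u} : Set G)) s := by
    intro u
    exact Nat.card_congr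
      { toFun := fun y => ⟨⟨y.1, Subgroup.mem_centralizer_singleton_iff.mpr y.2.1.symm.eq⟩,
          Subtype.ext y.2.2⟩
        invFun := fun y => ⟨y.1.1, ⟨Commute.symm (Subgroup.mem_centralizer_singleton_iff.mp y.1.2),
          congrArg Subtype.val y.2⟩⟩ }
  let e : {q : G × G // q.1 ∈ U ∧ Commute q.1 q.2 ∧ q.2 ^ s = 1} ≃
      Σ u : U, {y : G // Commute u.1 y ∧ y ^ s = 1} :=
    { toFun := fun q => ⟨⟨q.1.1, q.2.1⟩, ⟨q.1.2, q.2.2⟩⟩
      invFun := fun q => ⟨(q.1.1, q.2.1), q.1.2, q.2.2⟩
      left_inv := fun q => rfl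
      right_inv := fun q => rfl }
  rw [Nat.card_congr e, Nat.card_sigma]
  simp only [hfib]
  rw [← Finset.sum_subtype U.toFinset (fun x => Set.mem_toFinset)
      (fun u : G => numPowOne (Subgroup.centralizer ({u} : Set G)) s),
    ← Finset.sum_fiberwise_of_maps_to (g := fun u : G => ConjClasses.mk u)
      (t := U.toFinset.image fun u => ConjClasses.mk u)
      (fun u hu => Finset.mem_image_of_mem _ hu)]
  refine Finset.dvd_sum fun C hC => ?_
  obtain ⟨u, hu, rfl⟩ := Finset.mem_image.mp hC
  rw [Set.mem_toFinset] at hu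
  have hconst : ∀ v ∈ U.toFinset.filter (fun v => ConjClasses.mk v = ConjClasses.mk u),
      numPowOne (Subgroup.centralizer ({v} : Set G)) s =
        numPowOne (Subgroup.centralizer ({u} : Set G)) s := by
    intro v hv
    obtain ⟨g, rfl⟩ : ∃ g, g * u * g⁻¹ = v :=
      isConj_iff.mp (ConjClasses.mk_eq_mk_iff_isConj.mp (Finset.mem_filter.mp hv).2).symm
    refine (numPowOne_congr ?_ s).symm
    exact
      { toFun := fun c => ⟨g * c * g⁻¹, by
          rw [Subgroup.mem_centralizer_singleton_iff]
          have := Subgroup.mem_centralizer_singleton_iff.mp c.2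
          calc g * c * g⁻¹ * (g * u * g⁻¹) = g * (c * u) * g⁻¹ := by group
            _ = _ := by rw [this]; group⟩
        invFun := fun c => ⟨g⁻¹ * c * g, by
          rw [Subgroup.mem_centralizer_singleton_iff]
          have := Subgroup.mem_centralizer_singleton_iff.mp c.2
          calc g⁻¹ * c * g * u = g⁻¹ * (c * (g * u * g⁻¹)) * g := by group
            _ = _ := by rw [this]; group⟩
        left_inv := fun c => Subtype.ext (by simp [mul_assoc])
        right_inv := fun c => Subtype.ext (by simp [mul_assoc])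
        map_mul' := fun a b => Subtype.ext (by simp [mul_assoc]) }
  rw [Finset.sum_congr rfl hconst, Finset.sum_const, smul_eq_mul]
  have hset : ((U.toFinset.filter (fun v => ConjClasses.mk v = ConjClasses.mk u)) : Set G) =
      MulAction.orbit (ConjAct G) u := by
    ext v
    rw [ConjAct.orbit_eq_carrier_conjClasses, ConjClasses.mem_carrier_iff_mk_eq]
    simp only [Finset.coe_filter, Set.mem_toFinset, Set.mem_ofPred_eq]
    constructor
    · exact fun hv => hv.2
    · intro hv
      refine ⟨?_, hv⟩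
      obtain ⟨g, rfl⟩ := isConj_iff.mp (ConjClasses.mk_eq_mk_iff_isConj.mp hv).symm
      exact hU u hu g
  have hc : (U.toFinset.filter (fun v => ConjClasses.mk v = ConjClasses.mk u)).card =
      (Subgroup.centralizer ({u} : Set G)).index := by
    rw [← Set.ncard_coe_finset, hset, ← Nat.card_coe_set_eq,
      Nat.card_congr (MulAction.orbitEquivQuotientStabilizer (ConjAct G) u),
      Subgroup.centralizer_eq_comap_stabilizer]
    exact (Subgroup.index_comap_of_surjective _ (MulEquiv.surjective _)).symm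
  rw [hc]
  exact h u hu

theorem dvd_index_mul {G : Type u} [Group G] [Finite G] {C : Subgroup G} {n a s : ℕ}
    (h : s * n ∣ Nat.card G) (hn : Nat.card C = n * a) {f : ℕ} (hf : Nat.gcd a s ∣ f) :
    s ∣ C.index * f := by
  have h1 : s * n ∣ C.index * a * n := by
    refine h.trans (dvd_of_eq ?_)
    rw [← C.index_mul_card, hn]; ring
  have hn0 : 0 < n := Nat.pos_of_ne_zero fun h0 => by
    rw [h0, zero_mul] at hn; exact Nat.card_pos.ne' hn
  refine (Nat.dvd_gcd (Nat.dvd_of_mul_dvd_mul_right hn0 h1) (dvd_mul_left s C.index)).trans ?_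
  rw [Nat.gcd_mul_left]
  exact mul_dvd_mul_left _ hf

/-- Frobenius's theorem, by induction on the group and downwards on `n`. -/
theorem frobenius_aux : ∀ (N : ℕ) (G : Type u) [Group G] [Finite G], Nat.card G = N →
    ∀ n, n ∣ Nat.card G → n ∣ numPowOne G n := by
  intro N
  induction N using Nat.strong_induction_on with
  | _ N ihN =>
  intro G _ _ hN n hn
  induction hk : Nat.card G / n using Nat.strong_induction_on generalizing n with
  | _ k ihk =>
  classical
  have hn0 : 0 < n := Nat.pos_of_dvd_of_pos hn Nat.card_pos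
  rcases eq_or_ne n (Nat.card G) with rfl | hne
  · apply dvd_of_eq
    exact (Nat.card_congr (Equiv.subtypeUnivEquiv fun g => pow_card_eq_one')).symm
  obtain ⟨q, hq⟩ := hn
  have hq1 : q ≠ 1 := fun h => hne (by rw [hq, h, mul_one])
  obtain ⟨p, hp, hpq⟩ := Nat.exists_prime_and_dvd hq1
  have : Fact p.Prime := ⟨hp⟩
  have hnp : n * p ∣ Nat.card G := hq ▸ mul_dvd_mul_left n hpq
  have hnp' : n * p ∣ numPowOne G (n * p) := by
    refine ihk _ ?_ (n * p) hnp rfl
    rw [← hk, ← Nat.div_div_eq_div_mul]
    apply Nat.div_lt_self _ hp.one_lt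
    exact Nat.div_pos (Nat.le_of_dvd Nat.card_pos (hq ▸ dvd_mul_right n q)) hn0
  obtain ⟨a, s, hs, rfl⟩ := Nat.exists_eq_pow_mul_and_not_dvd hn0.ne' p hp.ne_one
  -- the elements killed by `n * p` but not by `n`
  suffices h : p ^ a * s ∣ Nat.card {g : G // g ^ (p ^ a * s * p) = 1 ∧ ¬ g ^ (p ^ a * s) = 1} by
    have hsplit : numPowOne G (p ^ a * s * p) = numPowOne G (p ^ a * s) +
        Nat.card {g : G // g ^ (p ^ a * s * p) = 1 ∧ ¬ g ^ (p ^ a * s) = 1} := by
      have := Fintype.ofFinite G
      simp only [numPowOne, Nat.card_eq_fintype_card, Fintype.card_subtype]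
      rw [← Finset.card_union_of_disjoint (Finset.disjoint_filter.mpr fun x _ h1 h2 => h2.2 h1)]
      congr 1
      ext g
      simp only [Finset.mem_filter, Finset.mem_univ, true_and, Finset.mem_union]
      constructor
      · intro h; by_cases h' : g ^ (p ^ a * s) = 1
        · exact Or.inl h'
        · exact Or.inr ⟨h, h'⟩
      · rintro (h | h)
        · rw [pow_mul, h, one_pow]
        · exact h.1
    have h2 := dvd_of_mul_right_dvd hnp'
    rw [hsplit] at h2
    exact (Nat.dvd_add_left h).mp h2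
  have hs0 : 0 < s := Nat.pos_of_ne_zero fun h0 => hs (h0 ▸ dvd_zero p)
  have hps : (p ^ (a + 1)).Coprime s := (hp.coprime_iff_not_dvd.mpr hs).pow_left _
  -- they are the elements of order `p ^ (a + 1) * t` with `t ∣ s`
  have hiff : ∀ g : G, (g ^ (p ^ a * s * p) = 1 ∧ ¬ g ^ (p ^ a * s) = 1) ↔
      orderOf g ∣ p ^ (a + 1) * s ∧ p ^ (a + 1) ∣ orderOf g := by
    intro g
    rw [show p ^ a * s * p = p ^ (a + 1) * s by ring, ← orderOf_dvd_iff_pow_eq_one,
      ← orderOf_dvd_iff_pow_eq_one]
    refine and_congr_right fun h => ?_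
    obtain ⟨⟨d₁, hd₁⟩, ⟨d₂, hd₂⟩, hd⟩ :=
      Nat.dvd_mul.mp h |>.elim fun d₁ ⟨d₂, h1, h2, h3⟩ =>
        (⟨⟨d₁, h1⟩, ⟨d₂, h2⟩, h3⟩ : ∃ (x : {x // x ∣ p ^ (a + 1)}) (y : {y // y ∣ s}),
          x.1 * y.1 = orderOf g)
    simp only at hd
    obtain ⟨i, hi, rfl⟩ := (Nat.dvd_prime_pow hp).mp hd₁
    rw [← hd]
    rcases Nat.lt_or_eq_of_le hi with hlt | rfl
    · refine iff_of_false (fun hh => hh (mul_dvd_mul (pow_dvd_pow p (by omega)) hd₂)) fun hh => ?_
      have hc : (p ^ (a + 1)).Coprime d₂ := hps.coprime_dvd_right hd₂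
      have := Nat.le_of_dvd (pow_pos hp.pos i) (hc.dvd_of_dvd_mul_right hh)
      exact absurd this (not_le.mpr (pow_lt_pow_right₀ hp.one_lt hlt))
    · refine iff_of_true (fun hh => ?_) (dvd_mul_right _ _)
      have hh' := (Dvd.dvd.trans (dvd_mul_right _ d₂) hh)
      have := (hps.coprime_dvd_left dvd_rfl).dvd_of_dvd_mul_right hh'
      have := Nat.le_of_dvd (pow_pos hp.pos a) this
      exact absurd this (not_le.mpr (pow_lt_pow_right₀ hp.one_lt (Nat.lt_succ_self a)))
  rw [Nat.card_congr (Equiv.subtypeEquivRight hiff)]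
  apply Nat.Coprime.mul_dvd_of_dvd_of_dvd ((hp.coprime_iff_not_dvd.mpr hs).pow_left _)
  · -- divisibility by `p ^ a`, by counting the generators of cyclic subgroups
    have := Fintype.ofFinite G
    rw [Nat.card_eq_fintype_card, Fintype.card_subtype,
      Finset.card_eq_sum_card_image (fun g => orderOf g)]
    refine Finset.dvd_sum fun m hm => ?_
    obtain ⟨g, hg, rfl⟩ := Finset.mem_image.mp hm
    simp only [Finset.mem_filter, Finset.mem_univ, true_and] at hg
    have heq : {x ∈ Finset.univ.filter (fun g : G => orderOf g ∣ p ^ (a + 1) * s ∧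
        p ^ (a + 1) ∣ orderOf g) | orderOf x = orderOf g} =
        Finset.univ.filter (fun x : G => orderOf x = orderOf g) := by
      ext x
      simp only [Finset.mem_filter, Finset.mem_univ, true_and]
      exact ⟨fun h => h.2, fun h => ⟨by rw [h]; exact hg, h⟩⟩
    rw [heq, ← Fintype.card_subtype, ← Nat.card_eq_fintype_card]
    refine dvd_trans ?_ ((Nat.totient_dvd_of_dvd hg.2).trans (totient_dvd_card_orderOf _))
    rw [Nat.totient_prime_pow_succ hp]
    exact dvd_mul_right _ _
  · -- divisibility by `s`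
    let U : Set G := {u | orderOf u = p ^ (a + 1)}
    have hbij : Nat.card {g : G // orderOf g ∣ p ^ (a + 1) * s ∧ p ^ (a + 1) ∣ orderOf g} =
        Nat.card {q : G × G // q.1 ∈ U ∧ Commute q.1 q.2 ∧ q.2 ^ s = 1} := by
      refine (Nat.card_congr (Equiv.ofBijective (fun q => ⟨q.1.1 * q.1.2, ?_⟩) ⟨?_, ?_⟩)).symm
      rotate_right
      · obtain ⟨⟨u, y⟩, hu, hcomm, hy⟩ := q
        change orderOf u = p ^ (a + 1) at hu
        have hy' : orderOf y ∣ s := orderOf_dvd_of_pow_eq_one hy
        rw [hcomm.orderOf_mul_eq_mul_orderOf_of_coprime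
          (by rw [hu]; exact hps.coprime_dvd_right hy'), hu]
        exact ⟨mul_dvd_mul_left _ hy', dvd_mul_right _ _⟩
      · rintro ⟨⟨u, y⟩, hu, hc, hy⟩ ⟨⟨v, z⟩, hv, hd, hz⟩ h
        simp only [Subtype.mk.injEq] at h
        change orderOf u = p ^ (a + 1) at hu
        change orderOf v = p ^ (a + 1) at hv
        have e1 : u ^ s = v ^ s := by
          have := congrArg (· ^ s) h
          simp only [hc.mul_pow, hd.mul_pow, hy, hz, mul_one] at this
          exact this
        obtain ⟨m, -, hm⟩ := Nat.exists_mul_mod_eq_one_of_coprime (k := p ^ (a + 1)) (n := s)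
          hps.symm (Nat.one_lt_pow (by omega) hp.one_lt)
        have hback : ∀ w : G, orderOf w = p ^ (a + 1) → (w ^ s) ^ m = w := by
          intro w hw
          rw [← pow_mul, ← pow_mod_orderOf, hw, hm, pow_one]
        have huv : u = v := by rw [← hback u hu, e1, hback v hv]
        subst huv
        simp only [mul_right_inj] at h
        subst h
        rfl
      · rintro ⟨g, hg⟩
        obtain ⟨t, ht⟩ : ∃ t, orderOf g = p ^ (a + 1) * t := hg.2
        have hts : t ∣ s := Nat.dvd_of_mul_dvd_mul_left (pow_pos hp.pos _) (ht ▸ hg.1)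
        have hct : (p ^ (a + 1)).Coprime t := hps.coprime_dvd_right hts
        have h := Nat.gcd_eq_gcd_ab (p ^ (a + 1)) t
        rw [hct.gcd_eq_one, Nat.cast_one] at h
        set i := Nat.gcdA (p ^ (a + 1)) t
        set j := Nat.gcdB (p ^ (a + 1)) t
        have e1 : g = g ^ ((t : ℤ) * j) * g ^ (((p ^ (a + 1) : ℕ) : ℤ) * i) := by
          rw [← zpow_add, add_comm, ← h, zpow_one]
        have hy : (g ^ (((p ^ (a + 1) : ℕ) : ℤ) * i)) ^ s = 1 := by
          rw [← zpow_natCast, ← zpow_mul, ← orderOf_dvd_iff_zpow_eq_one, ht]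
          obtain ⟨w, hw⟩ := hts
          exact ⟨i * w, by rw [hw]; push_cast; ring⟩
        refine ⟨⟨(g ^ ((t : ℤ) * j), g ^ (((p ^ (a + 1) : ℕ) : ℤ) * i)), ?_,
          (Commute.refl g).zpow_zpow _ _, hy⟩, Subtype.ext e1.symm⟩
        set u := g ^ ((t : ℤ) * j) with hu
        set y := g ^ (((p ^ (a + 1) : ℕ) : ℤ) * i)
        have hu' : orderOf u ∣ p ^ (a + 1) := by
          rw [orderOf_dvd_iff_pow_eq_one, hu, ← zpow_natCast, ← zpow_mul,
            ← orderOf_dvd_iff_zpow_eq_one, ht]
          exact ⟨j, by push_cast; ring⟩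
        refine Nat.dvd_antisymm hu' ?_
        have hg2 : orderOf g ∣ orderOf u * orderOf y := by
          conv_lhs => rw [e1]
          exact ((Commute.refl g).zpow_zpow _ _).orderOf_mul_dvd_mul_orderOf
        exact (hps.coprime_dvd_right (orderOf_dvd_of_pow_eq_one hy)).dvd_of_dvd_mul_right
          (hg.2.trans hg2)
    rw [hbij]
    refine dvd_card_pairs U (fun u hu g => ?_) s fun u hu => ?_
    · change orderOf (g * u * g⁻¹) = p ^ (a + 1)
      exact (orderOf_injective (MulAut.conj g).toMonoidHom (MulAut.conj g).injective u).trans hu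
    change orderOf u = p ^ (a + 1) at hu
    set C := Subgroup.centralizer ({u} : Set G)
    let uC : C := ⟨u, Subgroup.mem_centralizer_singleton_iff.mpr rfl⟩
    let W := Subgroup.zpowers uC
    have hW : W ≤ Subgroup.center C := by
      rw [Subgroup.zpowers_le, Subgroup.mem_center_iff]
      exact fun c => Subtype.ext (Subgroup.mem_centralizer_singleton_iff.mp c.2)
    have : W.Normal :=
      ⟨fun w hw g => by rwa [Subgroup.mem_center_iff.mp (hW hw) g, mul_inv_cancel_right]⟩
    have hWcard : Nat.card W = p ^ (a + 1) := by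
      rw [Nat.card_zpowers, ← hu]; exact Subgroup.orderOf_mk _ _
    have hcC : Nat.card C = p ^ (a + 1) * Nat.card (C ⧸ W) := by
      rw [← hWcard, mul_comm]; exact (Subgroup.card_eq_card_quotient_mul_card_subgroup W)
    have hlt : Nat.card (C ⧸ W) < N := by
      have h1 : 0 < Nat.card (C ⧸ W) := Nat.card_pos
      have h2 : Nat.card C ≤ N := hN ▸ Nat.card_le_card_of_injective _ Subtype.val_injective
      have h3 : 2 ≤ p ^ (a + 1) := le_trans hp.two_le (Nat.le_self_pow (by omega) p)
      nlinarith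
    have hq := ihN _ hlt (C ⧸ W) rfl _ (Nat.gcd_dvd_left (Nat.card (C ⧸ W)) s)
    rw [numPowOne_gcd] at hq
    -- elements killed by `s` map bijectively
    have hb : numPowOne (C ⧸ W) s = numPowOne C s := by
      refine (Nat.card_congr (Equiv.ofBijective
        (fun y => ⟨QuotientGroup.mk' W y.1, by rw [← map_pow, y.2, map_one]⟩) ⟨?_, ?_⟩)).symm
      · rintro ⟨y, hy⟩ ⟨z, hz⟩ h
        simp only [Subtype.mk.injEq, QuotientGroup.mk'_eq_mk'] at h
        obtain ⟨w, hw, rfl⟩ := h
        have hc : Commute y w := Subgroup.mem_center_iff.mp (hW hw) y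
        rw [hc.mul_pow, hy, one_mul] at hz
        have h1 : orderOf w ∣ s := orderOf_dvd_of_pow_eq_one hz
        have h2 : orderOf w ∣ p ^ (a + 1) := hWcard ▸ W.orderOf_dvd_natCard hw
        have : w = 1 := orderOf_eq_one_iff.mp (Nat.eq_one_of_dvd_coprimes hps h2 h1)
        simp [this]
      · rintro ⟨x, hx⟩
        obtain ⟨x, rfl⟩ := QuotientGroup.mk'_surjective W x
        rw [← map_pow, QuotientGroup.mk'_apply, QuotientGroup.eq_one_iff] at hx
        rcases Nat.lt_or_ge 1 s with hs1 | hs1
        swap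
        · have hse : s = 1 := by omega
          rw [hse, pow_one] at hx
          refine ⟨⟨1, one_pow _⟩, Subtype.ext ?_⟩
          simp [(QuotientGroup.eq_one_iff x).mpr hx]
        obtain ⟨v, hv⟩ := Nat.exists_mul_mod_eq_one_of_coprime (k := s)
          (n := p ^ (a + 1)) hps hs1 |>.imp fun v hv => hv.2
        refine ⟨⟨x ^ (p ^ (a + 1) * v), ?_⟩, Subtype.ext ?_⟩
        · have hw1 : (x ^ s) ^ (p ^ (a + 1)) = 1 := by
            have h4 : (⟨_, hx⟩ : W) ^ Nat.card W = 1 := pow_card_eq_one'
            rw [hWcard] at h4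
            exact congrArg Subtype.val h4
          rw [← pow_mul, show p ^ (a + 1) * v * s = (s * p ^ (a + 1)) * v by ring, pow_mul,
            pow_mul, hw1, one_pow]
        · simp only [map_pow]
          rw [← Nat.mod_add_div (p ^ (a + 1) * v) s, hv, pow_add, pow_one, pow_mul,
            ← map_pow, show QuotientGroup.mk' W (x ^ s) = 1 from (QuotientGroup.eq_one_iff _).mpr hx,
            one_pow, mul_one]
    rw [hb] at hq
    refine dvd_index_mul (n := p ^ (a + 1)) ?_ hcC hq
    rw [show s * p ^ (a + 1) = p ^ a * s * p by ring]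
    exact hnp

/-- **Frobenius's theorem**: `n ∣ |G|` implies that `n` divides the number of solutions of
`x ^ n = 1`. -/
theorem dvd_numPowOne {G : Type u} [Group G] [Finite G] {n : ℕ} (hn : n ∣ Nat.card G) :
    n ∣ numPowOne G n :=
  frobenius_aux _ G rfl n hn

end Cfsg.Agent.GStructB.FrobeniusCount
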