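import Cfsg.Agent.GStructB.LinearPGroup
import Cfsg.Agent.Lib.Classical.Linear
import Mathlib

/-!
Derived length of `p`-groups in `GL(n, q)` in cross characteristic.
-/

set_option autoImplicit false

namespace Cfsg.Agent.GStructB.GLDerived

open Module Matrix

variable {F : Type*} [Field F] [Fintype F]

/-- An eigenspace of a matrix over `F` for a nontrivial `p`-power root of unity is small. -/
theorem mul_eigen_le {p : ℕ} [hp : Fact p.Prime] (hpq : ¬ p ∣ Fintype.card F) {n : ℕ}
    {P : Type*} [Group P] [Finite P] (hP : IsPGroup p P) (σ : P →* Matrix.GeneralLinearGroup (Fin n) F)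
    {K : Type*} [Field K] [IsAlgClosed K] [Algebra F K] (z : P) (μ : K) (hμ : μ ≠ 1) :
    orderOf (Fintype.card F : ZMod p) * finrank K
      (Module.End.eigenspace (Matrix.toLin' ((σ z : Matrix (Fin n) (Fin n) F).map (algebraMap F K))) μ) ≤ n := by
  classical
  set q := Fintype.card F with hq
  set A := (σ z : Matrix (Fin n) (Fin n) F).map (algebraMap F K) with hA
  set f := Matrix.toLin' A with hf
  set E := fun μ : K => Module.End.eigenspace f μ
  by_cases hE : E μ = ⊥
  · rw [show Module.End.eigenspace f μ = ⊥ from hE, finrank_bot, mul_zero]; exact Nat.zero_le _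
  obtain ⟨b, hb⟩ := hP z
  have hfpow : f ^ p ^ b = 1 := by
    rw [hf, ← Matrix.toLin'_pow, hA, ← Matrix.map_pow, ← Units.val_pow_eq_pow_val, ← map_pow, hb, map_one,
      Units.val_one, Matrix.map_one _ (map_zero _) (map_one _), Matrix.toLin'_one]
    rfl
  have hμpow : μ ^ p ^ b = 1 := by
    obtain ⟨v, hv, hv0⟩ := Submodule.exists_mem_ne_zero_of_ne_bot hE
    have h1 : (f ^ p ^ b) v = μ ^ p ^ b • v := Module.End.HasEigenvector.pow_apply ⟨hv, hv0⟩ _
    rw [hfpow, Module.End.one_apply] at h1
    exact smul_left_injective K hv0 (h1.symm.trans (one_smul K v).symm)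
  obtain ⟨e, he, hord⟩ := (Nat.dvd_prime_pow hp.out).mp (orderOf_dvd_of_pow_eq_one hμpow)
  have he0 : e ≠ 0 := fun h => hμ (orderOf_eq_one_iff.mp (by rw [hord, h, pow_zero]))
  obtain ⟨r, hr⟩ := CharP.exists F
  obtain ⟨a, hrp, hra⟩ := FiniteField.card F r
  haveI := Fact.mk hrp
  haveI : CharP K r := (RingHom.charP_iff_charP (algebraMap F K) r).mp hr
  let φ : K →+* K := iterateFrobenius K r a
  have hφ : ∀ x : K, φ x = x ^ q := fun x => by
    rw [iterateFrobenius_def, hq, hra]
  have hφF : ∀ x : F, φ (algebraMap F K x) = algebraMap F K x := fun x => by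
    rw [hφ, ← map_pow, hq, FiniteField.pow_card]
  have hshift : ∀ ν : K, finrank K (E ν) ≤ finrank K (E (ν ^ q)) := by
    intro ν
    let bE := Module.finBasis K (E ν)
    let j : (Fin n → K) →+ (Fin n → K) :=
      { toFun := fun v => φ ∘ v
        map_zero' := funext fun i => map_zero φ
        map_add' := fun v w => funext fun i => map_add φ _ _ }
    have hjs : ∀ (c : K) (v : Fin n → K), j (c • v) = φ c • j v := fun c v => funext fun i => map_mul φ _ _
    have hjE : ∀ v ∈ E ν, j v ∈ E (ν ^ q) := by
      intro v hv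
      rw [Module.End.mem_eigenspace_iff] at hv ⊢
      have h1 := congrArg j hv
      rw [hjs, hφ] at h1
      rw [← h1]
      funext i
      show (A *ᵥ (φ ∘ v)) i = φ ((A *ᵥ v) i)
      simp only [Matrix.mulVec, dotProduct, map_sum, map_mul, Function.comp_apply, hA, Matrix.map_apply, hφF]
    have hsurj : Function.Surjective φ := by
      intro y
      obtain ⟨x, hx⟩ := IsAlgClosed.exists_pow_nat_eq y (n := q) Fintype.card_pos
      exact ⟨x, (hφ x).trans hx⟩
    have hli : LinearIndependent K (fun i => j (bE i : Fin n → K)) :=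
      (bE.linearIndependent.map' (E ν).subtype (Submodule.ker_subtype _)).map_of_surjective_injective
        φ j hsurj (fun v hv => funext fun i => φ.injective (by simpa [j] using congrFun hv i)) (fun c v => hjs c v)
    have := LinearIndependent.of_comp (v := fun i => (⟨j (bE i : Fin n → K), hjE _ (bE i).2⟩ : E (ν ^ q)))
      (E (ν ^ q)).subtype hli
    simpa using this.fintype_card_le_finrank
  have hiter : ∀ i : ℕ, finrank K (E μ) ≤ finrank K (E (μ ^ q ^ i)) := by
    intro i
    induction i with
    | zero => rw [pow_zero, pow_one]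
    | succ i ih => rw [pow_succ, pow_mul]; exact ih.trans (hshift _)
  set o := orderOf (q : ZMod p) with ho
  have hinj : Set.InjOn (fun i : ℕ => μ ^ q ^ i) (Finset.range o) := by
    intro i hi j hj hij
    simp only at hij
    have h1 := (isOfFinOrder_iff_pow_eq_one.mpr ⟨p ^ b, pow_pos hp.out.pos b, hμpow⟩ : IsOfFinOrder μ).pow_eq_pow_iff_modEq.mp hij
    rw [hord] at h1
    have h2 : ((q ^ i : ℕ) : ZMod p) = ((q ^ j : ℕ) : ZMod p) :=
      (ZMod.natCast_eq_natCast_iff _ _ _).mpr (h1.of_dvd (dvd_pow_self p he0))
    push_cast at h2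
    exact pow_injOn_Iio_orderOf (Set.mem_Iio.mpr (Finset.mem_range.mp hi)) (Set.mem_Iio.mpr (Finset.mem_range.mp hj)) h2
  have h := LinearPGroup.card_mul_le_finrank f ((Finset.range o).image fun i : ℕ => μ ^ q ^ i) (d := finrank K (E μ))
    (by intro ν hν; obtain ⟨i, -, rfl⟩ := Finset.mem_image.mp hν; exact hiter i)
  rwa [Finset.card_image_of_injOn hinj, Finset.card_range, Module.finrank_fin_fun] at h

omit [Fintype F] in
/-- Wreath products act on functions. -/
theorem exists_wreath_rep {D Q : Type*} [Group D] [Group Q] [Finite Q] [DecidableEq Q] {W : Type*} [AddCommGroup W] [Module F W]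
    [Nontrivial W] (ρ : D →* Module.End F W) (hρ : Function.Injective ρ) :
    ∃ σ : RegularWreathProduct D Q →* Module.End F (Q → W), Function.Injective σ := by
  refine ⟨{ toFun := fun a =>
              { toFun := fun f x => ρ (a.left x) (f (a.right⁻¹ * x))
                map_add' := fun f g => funext fun x => by simp
                map_smul' := fun c f => funext fun x => by simp }
            map_one' := LinearMap.ext fun f => funext fun x => by simp
            map_mul' := fun a b => LinearMap.ext fun f => funext fun x => by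
              simp [mul_assoc] }, ?_⟩
  intro a b hab
  have h : ∀ (f : Q → W) (x : Q), ρ (a.left x) (f (a.right⁻¹ * x)) = ρ (b.left x) (f (b.right⁻¹ * x)) :=
    fun f x => congrFun (LinearMap.congr_fun hab f) x
  obtain ⟨w, hw⟩ := exists_ne (0 : W)
  have hr : a.right = b.right := by
    by_contra hne
    have h1 := h (Pi.single (a.right⁻¹ * a.right) w) a.right
    rw [Pi.single_eq_same, Pi.single_eq_of_ne (fun e => hne (by
      have e' := mul_right_cancel e
      exact (inv_injective e').symm)), map_zero] at h1
    have h2 := congrArg (ρ (a.left a.right)⁻¹) h1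
    rw [← Module.End.mul_apply, ← map_mul, inv_mul_cancel, map_one, Module.End.one_apply, map_zero] at h2
    exact hw h2
  refine RegularWreathProduct.ext (funext fun x => hρ (LinearMap.ext fun v => ?_)) hr
  have h1 := h (Pi.single (a.right⁻¹ * x) v) x
  rwa [hr, Pi.single_eq_same] at h1

omit [Fintype F] in
theorem exists_iterated_rep (G : Type) [Group G] [Finite G] {e : ℕ} (he : 0 < e)
    (ρ : G →* Module.End F (Fin e → F)) (hρ : Function.Injective ρ) :
    ∀ j : ℕ, ∃ σ : IteratedWreathProduct G (j + 1) →* Module.End F (Fin (Nat.card G ^ j * e) → F),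
      Function.Injective σ := by
  classical
  haveI := Fintype.ofFinite G
  intro j
  induction j with
  | zero =>
    let r : IteratedWreathProduct G 1 →* G := RegularWreathProduct.rightHom
    have hr : Function.Injective r := fun a b h => RegularWreathProduct.ext (funext fun _ => rfl) h
    let ε := LinearEquiv.funCongrLeft F F (finCongr (show Nat.card G ^ 0 * e = e by simp))
    exact ⟨(ε.conjRingEquiv.toMonoidHom).comp (ρ.comp r), ε.conjRingEquiv.injective.comp (hρ.comp hr)⟩
  | succ j ih =>
    obtain ⟨σ, hσ⟩ := ih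
    haveI : Nontrivial (Fin (Nat.card G ^ j * e) → F) := by
      have : 0 < Nat.card G ^ j * e := Nat.mul_pos (pow_pos Nat.card_pos j) he
      exact Function.nontrivial (h := ⟨⟨0, this⟩⟩)
    obtain ⟨τ, hτ⟩ := exists_wreath_rep (F := F) (Q := G) σ hσ
    have hc : Nat.card (G × Fin (Nat.card G ^ j * e)) = Nat.card G ^ (j + 1) * e := by
      rw [Nat.card_prod, Nat.card_fin, pow_succ]; ring
    let ε : (G → Fin (Nat.card G ^ j * e) → F) ≃ₗ[F] (Fin (Nat.card G ^ (j + 1) * e) → F) :=
      (LinearEquiv.curry F F G (Fin (Nat.card G ^ j * e))).symm.trans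
        (LinearEquiv.funCongrLeft F F (Finite.equivFinOfCardEq hc).symm)
    exact ⟨(ε.conjRingEquiv.toMonoidHom).comp τ, ε.conjRingEquiv.injective.comp hτ⟩

omit [Fintype F] in
theorem exists_extend {X : Type*} [Group X] {m n : ℕ} (hmn : m ≤ n)
    (σ : X →* Module.End F (Fin m → F)) (hσ : Function.Injective σ) :
    ∃ τ : X →* Matrix.GeneralLinearGroup (Fin n) F, Function.Injective τ := by
  let ε : ((Fin m → F) × (Fin (n - m) → F)) ≃ₗ[F] (Fin n → F) :=
    (LinearEquiv.sumArrowLequivProdArrow _ _ F F).symm.trans
      (LinearEquiv.funCongrLeft F F ((finCongr (by omega : n = m + (n - m))).trans finSumFinEquiv.symm))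
  let pm : X →* Module.End F ((Fin m → F) × (Fin (n - m) → F)) :=
    { toFun := fun x => (σ x).prodMap 1
      map_one' := LinearMap.ext fun v => by simp
      map_mul' := fun x y => LinearMap.ext fun v => by simp }
  have hpm : Function.Injective pm := fun x y h => hσ (LinearMap.ext fun v =>
    congrArg Prod.fst (LinearMap.congr_fun h (v, 0)))
  let t : X →* Matrix (Fin n) (Fin n) F :=
    (Matrix.toLinAlgEquiv' (R := F) (n := Fin n)).symm.toMonoidHom.comp (ε.conjRingEquiv.toMonoidHom.comp pm)
  exact ⟨t.toHomUnits, fun x y h =>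
    hpm (ε.conjRingEquiv.injective ((Matrix.toLinAlgEquiv' (R := F) (n := Fin n)).symm.injective (congrArg Units.val h)))⟩

end Cfsg.Agent.GStructB.GLDerived
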