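import Cfsg.Agent.GStructB.PElements
import Cfsg.Agent.Lib.Coprime.SchurZassenhaus
import Cfsg.Agent.Lib.Cores.Basic
import Cfsg.Agent.Lib.Involutions.BaerSuzuki
import Mathlib

/-!
A group without a normal Sylow 2-subgroup has a 2-element inducing a nontrivial automorphism on a
cyclic subgroup of odd order.
-/

set_option autoImplicit false

namespace Cfsg.Agent.GStructB.InvertedOdd

/-- The group has a normal Sylow 2-subgroup or an element of odd order whose automizer has even
order. -/
theorem normal_or_exists {G : Type*} [Group G] [Finite G] (P : Sylow 2 G) :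
    (P : Subgroup G).Normal ∨ ∃ x u : G, Odd (orderOf x) ∧ x ≠ 1 ∧ (∃ k, orderOf u = 2 ^ k) ∧
      u ∈ Subgroup.normalizer ((Subgroup.zpowers x : Subgroup G) : Set G) ∧ u * x ≠ x * u := by
  classical
  have : Fact (Nat.Prime 2) := ⟨Nat.prime_two⟩
  set O := Cfsg.pCore 2 G with hO
  set π := QuotientGroup.mk' O
  by_cases hev : 2 ∣ O.index
  swap
  · left
    have hle : O ≤ (P : Subgroup G) := Cores.pCore_le_sylow P
    have : O = (P : Subgroup G) := by
      refine le_antisymm hle fun z hz => ?_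
      obtain ⟨k, hk⟩ := GStructB.PElements.exists_orderOf_eq P.2 hz
      refine (QuotientGroup.eq_one_iff z).mp (orderOf_eq_one_iff.mp ?_)
      exact Nat.eq_one_of_dvd_coprimes ((Nat.prime_two.coprime_iff_not_dvd.mpr hev).pow_left k)
        ((orderOf_map_dvd π z).trans (dvd_of_eq hk))
        (by rw [Subgroup.index_eq_card]; exact orderOf_dvd_natCard _)
    rw [← this]; infer_instance
  right
  obtain ⟨t, ht⟩ := exists_prime_orderOf_dvd_card' (G := G ⧸ O) 2 (by rwa [← Subgroup.index_eq_card])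
  obtain ⟨h, hh1, hhodd, hth⟩ := Involutions.BaerSuzuki.exists_inverted_odd t ht (fun N hN hN2 htN => by
    have h2 : N ≤ Cfsg.pCore 2 (G ⧸ O) := Cores.le_pCore hN2
    rw [Cores.pCore_quotient_self 2] at h2
    exact Involutions.Basic.ne_one ht (Subgroup.mem_bot.mp (h2 htN)))
  -- lift the element of odd order
  obtain ⟨y, rfl⟩ := QuotientGroup.mk'_surjective O h
  obtain ⟨a, s, ha, hs, -⟩ := GStructB.PElements.exists_split 2 y
  obtain ⟨k, hk1, hk2⟩ := Nat.chineseRemainder
    (show (2 ^ a).Coprime (orderOf (π y)) from Nat.Coprime.pow_left a (Nat.coprime_two_left.mpr hhodd)) 0 1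
  set x := y ^ k with hx
  have hxπ : π x = π y := by
    rw [hx, map_pow]
    conv_rhs => rw [← pow_one (π y)]
    exact pow_eq_pow_iff_modEq.mpr hk2
  have hxodd : Odd (orderOf x) := by
    have h1 : x ^ s = 1 := by
      obtain ⟨c, hc⟩ := Nat.modEq_zero_iff_dvd.mp hk1
      rw [hx, hc, ← pow_mul, mul_comm (2 ^ a) c, mul_assoc, ← ha, mul_comm, pow_mul, pow_orderOf_eq_one,
        one_pow]
    exact (Nat.odd_iff.mpr (Nat.two_dvd_ne_zero.mp hs)).of_dvd_nat (orderOf_dvd_of_pow_eq_one h1)
  obtain ⟨w, hw⟩ := QuotientGroup.mk'_surjective O t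
  set H := Subgroup.zpowers x with hH
  have hHn : ∀ K : Subgroup G, K ≤ Subgroup.normalizer (O : Set G) := fun K => by
    rw [Subgroup.normalizer_eq_top]; exact le_top
  have heq : O ⊔ H = O ⊔ H.map (MulAut.conj w).toMonoidHom := by
    have h1 : H.map π = (H.map (MulAut.conj w).toMonoidHom).map π := by
      rw [Subgroup.map_map, hH, MonoidHom.map_zpowers, MonoidHom.map_zpowers]
      show Subgroup.zpowers (π x) = Subgroup.zpowers (π (w * x * w⁻¹))
      rw [map_mul, map_mul, map_inv, hw, hxπ, hth, Subgroup.zpowers_inv]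
    have := congrArg (Subgroup.comap π) h1
    rw [Subgroup.comap_map_eq, Subgroup.comap_map_eq, QuotientGroup.ker_mk', sup_comm,
      sup_comm _ O] at this
    exact this
  have hcop : (Nat.card O).Coprime (Nat.card H) := by
    obtain ⟨j, hj⟩ := IsPGroup.iff_card.mp (Cores.pCore_isPGroup (G := G) 2)
    rw [hO, hj, hH, Nat.card_zpowers]
    exact Nat.Coprime.pow_left j (Nat.coprime_two_left.mpr hxodd)
  have hcop' : (Nat.card O).Coprime (Nat.card (H.map (MulAut.conj w).toMonoidHom)) := by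
    rw [Subgroup.card_map_of_injective (MulAut.conj w).injective]; exact hcop
  obtain ⟨n, hn, hnH⟩ := Coprime.exists_conj_eq_of_sup_eq (hHn H) (hHn _) heq hcop hcop'
    (Or.inr inferInstance)
  have hnorm : n⁻¹ * w ∈ Subgroup.normalizer (H : Set G) := by
    rw [Subgroup.mem_normalizer_iff_map_conj_eq]
    have h2 : H.map (MulAut.conj w).toMonoidHom = H.map (MulAut.conj n).toMonoidHom := by
      rw [← hnH]; rfl
    rw [map_mul]
    have h3 : H.map ((MulAut.conj n⁻¹ * MulAut.conj w : MulAut G).toMonoidHom) =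
        (H.map (MulAut.conj w).toMonoidHom).map (MulAut.conj n⁻¹).toMonoidHom := by
      rw [Subgroup.map_map]; rfl
    refine h3.trans ?_
    rw [h2, Subgroup.map_map]
    have h4 : (MulAut.conj n⁻¹).toMonoidHom.comp (MulAut.conj n).toMonoidHom = MonoidHom.id G := by
      ext z; simp [mul_assoc]
    rw [h4, Subgroup.map_id]
  obtain ⟨b, l, hb, hl, hbl⟩ := GStructB.PElements.exists_split 2 (n⁻¹ * w)
  have hu : π ((n⁻¹ * w) ^ l) = t := by
    rw [map_pow, map_mul, show π n⁻¹ = 1 from (QuotientGroup.eq_one_iff _).mpr (inv_mem hn), one_mul, hw]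
    have hl' : l % 2 = 1 := Nat.two_dvd_ne_zero.mp hl
    conv_rhs => rw [← pow_one t]
    rw [pow_eq_pow_iff_modEq, ht]
    exact hl'
  refine ⟨x, (n⁻¹ * w) ^ l, hxodd, ?_, ⟨b, hbl⟩, pow_mem hnorm l, ?_⟩
  · intro h
    rw [h, map_one] at hxπ
    exact hh1 hxπ.symm
  · intro hc
    have h1 := congrArg π hc
    rw [map_mul, map_mul, hu, hxπ] at h1
    rw [h1, mul_inv_cancel_right] at hth
    have h2 : (π y) ^ 2 = 1 := by
      rw [pow_two]; nth_rewrite 2 [hth]; exact mul_inv_cancel _
    exact hh1 (orderOf_eq_one_iff.mp (Nat.eq_one_of_dvd_coprimes (Nat.coprime_two_left.mpr hhodd)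
      (orderOf_dvd_of_pow_eq_one h2) dvd_rfl))

end Cfsg.Agent.GStructB.InvertedOdd
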