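import Cfsg.Agent.GStructB.PermPGroup
import Cfsg.Agent.SolvStruct.FrobeniusFree.Main
import Mathlib

/-!
Derived length of linear `p`-groups.
-/

set_option autoImplicit false

namespace Cfsg.Agent.GStructB.LinearPGroup

open Module
open scoped commutatorElement

universe u v w

variable {k : Type v} [Field k] {P : Type u} [Group P] {V : Type w} [AddCommGroup V] [Module k V]

/-- In the characteristic of the group: the unipotent filtration. -/
theorem eq_one_of_char {p : ℕ} [Fact p.Prime] [CharP k p] [Finite P] (hP : IsPGroup p P)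
    [FiniteDimensional k V] (ρ : P →* Module.End k V) {j : ℕ} (hj : finrank k V ≤ 2 ^ j)
    {g : P} (hg : g ∈ derivedSeries P j) : ρ g = 1 := by
  classical
  let step : Submodule k V → Submodule k V := fun U => ⨅ g : P, U.comap (ρ g - 1)
  let U : ℕ → Submodule k V := fun i => step^[i] ⊥
  have hU0 : U 0 = ⊥ := rfl
  have hUs : ∀ i, ∀ v, v ∈ U (i + 1) ↔ ∀ g : P, ρ g v - v ∈ U i := by
    intro i v
    simp only [U, Function.iterate_succ_apply', step, Submodule.mem_iInf, Submodule.mem_comap,
      LinearMap.sub_apply, Module.End.one_apply]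
  have hinv : ∀ i, ∀ (g : P), ∀ v ∈ U i, ρ g v ∈ U i := by
    intro i
    induction i with
    | zero => intro g v hv; rw [hU0, Submodule.mem_bot] at hv ⊢; rw [hv, map_zero]
    | succ i ih =>
      intro g v hv
      rw [hUs] at hv ⊢
      intro h
      have h1 := hv (g⁻¹ * h * g)
      have h2 : ρ h (ρ g v) - ρ g v = ρ g (ρ (g⁻¹ * h * g) v - v) := by
        rw [map_sub, ← Module.End.mul_apply, ← Module.End.mul_apply, ← map_mul, ← map_mul]
        group
      rw [h2]
      exact ih g _ h1
  have hmono : ∀ i, U i ≤ U (i + 1) := fun i v hv => (hUs i v).mpr fun g => sub_mem (hinv i g v hv) hv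
  have hmono' : ∀ {a b}, a ≤ b → U a ≤ U b := fun h => monotone_nat_of_le_succ hmono h
  have hgrow : ∀ i, U i = ⊤ ∨ i ≤ finrank k (U i) := by
    intro i
    induction i with
    | zero => exact Or.inr (Nat.zero_le _)
    | succ i ih =>
      rcases ih with h | h
      · exact Or.inl (top_le_iff.mp (h ▸ hmono i))
      by_cases htop : U i = ⊤
      · exact Or.inl (top_le_iff.mp (htop ▸ hmono i))
      obtain ⟨u, -, hu⟩ := SetLike.exists_of_lt (lt_top_iff_ne_top.mpr htop)
      let ρQ : P →* Module.End k (V ⧸ U i) :=
        { toFun := fun g => (U i).mapQ (U i) (ρ g) (hinv i g)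
          map_one' := Submodule.linearMap_qext _ (LinearMap.ext fun v => by simp)
          map_mul' := fun x y => Submodule.linearMap_qext _ (LinearMap.ext fun v => by simp) }
      obtain ⟨q, -, hq0, hq⟩ := SolvStruct.FrobeniusFree.exists_fixed_vector hP ρQ ⊤
        (fun f v _ => Submodule.mem_top) (u := (U i).mkQ u) Submodule.mem_top
        (fun h => hu ((Submodule.Quotient.mk_eq_zero _).mp h))
      obtain ⟨w, rfl⟩ := (U i).mkQ_surjective q
      have hw : w ∈ U (i + 1) := (hUs i w).mpr fun g => (Submodule.Quotient.eq _).mp (hq g)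
      have hlt : U i < U (i + 1) :=
        lt_of_le_of_ne (hmono i) fun e => hq0 ((Submodule.Quotient.mk_eq_zero _).mpr (e ▸ hw))
      exact Or.inr (by have := Submodule.finrank_lt_finrank_of_lt hlt; omega)
  have htop : U (finrank k V) = ⊤ := (hgrow _).elim id fun h =>
    Submodule.eq_top_of_finrank_eq (le_antisymm (Submodule.finrank_le _) h)
  have hkey : ∀ m, ∀ g ∈ derivedSeries P m, ∀ i, ∀ v ∈ U i, ρ g v - v ∈ U (i - 2 ^ m) := by
    intro m
    induction m with
    | zero =>
      intro g _ i v hv
      rcases i with _ | i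
      · rw [hU0, Submodule.mem_bot] at hv; rw [hv, map_zero, sub_zero]; exact zero_mem _
      · simpa using (hUs i v).mp hv g
    | succ m ih =>
      let S : Subgroup P :=
        { carrier := {g | ∀ i, ∀ v ∈ U i, ρ g v - v ∈ U (i - 2 ^ (m + 1))}
          one_mem' := fun i v _ => by simp
          mul_mem' := fun {a b} ha hb i v hv => by
            rw [show ρ (a * b) v - v = ρ a (ρ b v - v) + (ρ a v - v) by
              rw [map_mul, Module.End.mul_apply, map_sub]; abel]
            exact add_mem (hinv _ a _ (hb i v hv)) (ha i v hv)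
          inv_mem' := fun {a} ha i v hv => by
            have h2 : ρ a⁻¹ v - v = -(ρ a (ρ a⁻¹ v) - ρ a⁻¹ v) := by
              rw [← Module.End.mul_apply, ← map_mul, mul_inv_cancel, map_one, Module.End.one_apply]; abel
            rw [h2]
            exact neg_mem (ha i _ (hinv i a⁻¹ v hv)) }
      have hle : derivedSeries P (m + 1) ≤ S := by
        rw [derivedSeries_succ, Subgroup.commutator_le]
        intro a ha b hb i v hv
        set w := ρ (a⁻¹ * b⁻¹) v with hw
        have hwU : w ∈ U i := hinv i _ v hv
        have h1 : ∀ x, x = a ∨ x = b → ∀ y, y = a ∨ y = b → ρ x (ρ y w - w) - (ρ y w - w) ∈ U (i - 2 ^ (m + 1)) := by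
          intro x hx y hy
          have hxm : x ∈ derivedSeries P m := by rcases hx with rfl | rfl <;> assumption
          have hym : y ∈ derivedSeries P m := by rcases hy with rfl | rfl <;> assumption
          have := ih x hxm _ _ (ih y hym i w hwU)
          rwa [Nat.sub_sub, ← two_mul, ← pow_succ'] at this
        have e1 : ρ ⁅a, b⁆ v = ρ a (ρ b w) := by
          rw [hw, ← Module.End.mul_apply, ← Module.End.mul_apply, ← map_mul, ← map_mul, commutatorElement_def]
          group
        have e2 : v = ρ b (ρ a w) := by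
          rw [hw, ← Module.End.mul_apply, ← Module.End.mul_apply, ← map_mul, ← map_mul,
            show b * a * (a⁻¹ * b⁻¹) = 1 by group, map_one, Module.End.one_apply]
        rw [e1, show ρ a (ρ b w) - v = ρ a (ρ b w) - ρ b (ρ a w) from congrArg (ρ a (ρ b w) - ·) e2]
        rw [show ρ a (ρ b w) - ρ b (ρ a w) =
          (ρ a (ρ b w - w) - (ρ b w - w)) - (ρ b (ρ a w - w) - (ρ a w - w)) by
            rw [map_sub, map_sub]; abel]
        exact sub_mem (h1 a (Or.inl rfl) b (Or.inr rfl)) (h1 b (Or.inr rfl) a (Or.inl rfl))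
      exact fun g hg => hle hg
  refine LinearMap.ext fun v => ?_
  have h := hkey j g hg _ v (htop ▸ Submodule.mem_top)
  rwa [Nat.sub_eq_zero_of_le hj, hU0, Submodule.mem_bot, sub_eq_zero] at h

theorem not_natCast_zero {p : ℕ} [Fact p.Prime] (hpk : (p : k) ≠ 0) {x : Module.End k V} {a : ℕ}
    (hx : x ^ p ^ a = 1) (h2 : (x - 1) * (x - 1) = 0) : x = 1 := by
  have hN : ∀ i : ℕ, x ^ i = 1 + (i : k) • (x - 1) := by
    intro i
    induction i with
    | zero => simp
    | succ i ih =>
      have hxx : (x - 1) * x = x - 1 := by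
        calc (x - 1) * x = (x - 1) * (x - 1) + (x - 1) := by noncomm_ring
          _ = _ := by rw [h2, zero_add]
      rw [pow_succ, ih, add_mul, one_mul, smul_mul_assoc, hxx, Nat.cast_succ, add_smul, one_smul]
      abel
  have h := hN (p ^ a)
  rw [hx, left_eq_add, smul_eq_zero, Nat.cast_pow] at h
  exact sub_eq_zero.mp (h.resolve_left (pow_ne_zero _ hpk))

theorem card_mul_le_finrank [FiniteDimensional k V] (f : Module.End k V) (s : Finset k) {d : ℕ}
    (h : ∀ μ ∈ s, d ≤ finrank k (Module.End.eigenspace f μ)) : s.card * d ≤ finrank k V := by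
  classical
  suffices hs : s.card * d ≤ finrank k (⨆ μ ∈ s, Module.End.eigenspace f μ : Submodule k V) from
    hs.trans (Submodule.finrank_le _)
  induction s using Finset.induction_on with
  | empty => simp
  | insert a t hat ih =>
    rw [Finset.iSup_insert, Finset.card_insert_of_notMem hat, Nat.succ_mul]
    have hdisj : Disjoint (Module.End.eigenspace f a) (⨆ μ ∈ t, Module.End.eigenspace f μ) :=
      (Module.End.eigenspaces_iSupIndep f).disjoint_biSup (y := (t : Set k)) (by simpa using hat)
    have h1 := Submodule.finrank_sup_add_finrank_inf_eq (Module.End.eigenspace f a)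
      (⨆ μ ∈ t, Module.End.eigenspace f μ)
    rw [hdisj.eq_bot, finrank_bot] at h1
    have h2 := ih fun μ hμ => h μ (Finset.mem_insert_of_mem hμ)
    have h3 := h a (Finset.mem_insert_self a t)
    omega

/-- Away from the characteristic, over an algebraically closed field. -/
theorem eq_one_of_not_char {p : ℕ} [hp : Fact p.Prime] [IsAlgClosed k] (hpk : (p : k) ≠ 0) :
    ∀ (n : ℕ) {P : Type u} [Group P] [Finite P] {V : Type w} [AddCommGroup V] [Module k V]
      [FiniteDimensional k V], IsPGroup p P → ∀ ρ : P →* Module.End k V, finrank k V ≤ n →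
      ∀ g ∈ derivedSeries P (Nat.log p n + 1), ρ g = 1 := by
  classical
  intro n
  induction n using Nat.strong_induction_on with
  | h n ih =>
    intro P _ _ V _ _ _ hP ρ hn g hg
    rcases subsingleton_or_nontrivial V with hV | hV
    · exact LinearMap.ext fun v => Subsingleton.elim _ _
    have hn0 : 0 < finrank k V := Module.finrank_pos
    have hlin : ∀ (x : P) (v : V), ρ x⁻¹ (ρ x v) = v := fun x v => by
      rw [← Module.End.mul_apply, ← map_mul, inv_mul_cancel, map_one, Module.End.one_apply]
    by_cases hred : ∃ W : Submodule k V, W ≠ ⊥ ∧ W ≠ ⊤ ∧ ∀ (x : P), ∀ v ∈ W, ρ x v ∈ W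
    · obtain ⟨W, hWb, hWt, hW⟩ := hred
      let ρW : P →* Module.End k W :=
        { toFun := fun x => (ρ x).restrict (hW x)
          map_one' := LinearMap.ext fun s => Subtype.ext (by simp)
          map_mul' := fun x y => LinearMap.ext fun s => Subtype.ext (by simp) }
      let ρQ : P →* Module.End k (V ⧸ W) :=
        { toFun := fun x => W.mapQ W (ρ x) (hW x)
          map_one' := Submodule.linearMap_qext _ (LinearMap.ext fun v => by simp)
          map_mul' := fun x y => Submodule.linearMap_qext _ (LinearMap.ext fun v => by simp) }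
      have h1 := Submodule.finrank_quotient_add_finrank W
      have h2 : 0 < finrank k W := Nat.pos_of_ne_zero fun e => hWb (Submodule.finrank_eq_zero.1 e)
      have h3 : finrank k W < finrank k V := Submodule.finrank_lt hWt
      have hmon : ∀ m < n, g ∈ derivedSeries P (Nat.log p m + 1) := fun m hm =>
        derivedSeries_antitone P (Nat.succ_le_succ (Nat.log_mono_right hm.le)) hg
      have hgW : ρW g = 1 := ih (finrank k W) (by omega) hP ρW le_rfl g (hmon _ (by omega))
      have hgQ : ρQ g = 1 := ih (finrank k (V ⧸ W)) (by omega) hP ρQ le_rfl g (hmon _ (by omega))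
      obtain ⟨a, ha⟩ := hP g
      refine not_natCast_zero hpk (a := a) (by rw [← map_pow, ha, map_one]) (LinearMap.ext fun v => ?_)
      have hv : ρ g v - v ∈ W := (Submodule.Quotient.eq _).mp
        (show W.mkQ (ρ g v) = W.mkQ v from LinearMap.congr_fun hgQ (W.mkQ v))
      have := congrArg Subtype.val (LinearMap.congr_fun hgW ⟨_, hv⟩)
      simp only [Module.End.mul_apply, LinearMap.sub_apply, Module.End.one_apply, LinearMap.zero_apply]
      exact sub_eq_zero.mpr this
    push Not at hred
    have hsimple : ∀ W : Submodule k V, W ≠ ⊥ → (∀ (x : P), ∀ v ∈ W, ρ x v ∈ W) → W = ⊤ := fun W h1 h2 => by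
      by_contra h
      obtain ⟨x, v, hv, hx⟩ := hred W h1 h
      exact hx (h2 x v hv)
    by_cases hab : ∀ x y : P, ρ (x * y) = ρ (y * x)
    · have hle : derivedSeries P (Nat.log p n + 1) ≤ ρ.toHomUnits.ker := by
        refine (derivedSeries_antitone P (Nat.le_add_left 1 _)).trans ?_
        rw [derivedSeries_one, commutator_def, Subgroup.commutator_le]
        intro x _ y _
        rw [MonoidHom.mem_ker, commutatorElement_def]
        refine Units.ext ?_
        show ρ (x * y * x⁻¹ * y⁻¹) = 1
        rw [map_mul, map_mul (f := ρ) (x * y), hab x y, ← map_mul, ← map_mul,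
          show y * x * x⁻¹ * y⁻¹ = 1 by group, map_one]
      exact congrArg Units.val (MonoidHom.mem_ker.mp (hle hg))
    push Not at hab
    -- an element which is central modulo the scalars but not scalar
    set φ := ρ.toHomUnits with hφ
    haveI := hP.isNilpotent
    haveI : Group.IsNilpotent φ.range := Group.nilpotent_of_surjective φ.rangeRestrict φ.rangeRestrict_surjective
    obtain ⟨a, hnc, haZ⟩ : ∃ a : P, (∃ x : P, ρ (x * a) ≠ ρ (a * x)) ∧
        ∀ x y : P, ρ (⁅x, a⁆ * y) = ρ (y * ⁅x, a⁆) := by
      have hne : Subgroup.center φ.range ≠ ⊤ := fun h => by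
        obtain ⟨x, y, hxy⟩ := hab
        have h1 := Subgroup.mem_center_iff.mp (h ▸ Subgroup.mem_top (φ.rangeRestrict y)) (φ.rangeRestrict x)
        refine hxy ?_
        rw [map_mul, map_mul]
        exact congrArg (fun z : φ.range => ((z : (Module.End k V)ˣ) : Module.End k V)) h1
      haveI : Nontrivial (φ.range ⧸ Subgroup.center φ.range) := QuotientGroup.nontrivial_iff.mpr hne
      haveI : Nontrivial (Subgroup.center (φ.range ⧸ Subgroup.center φ.range)) :=
        (Subgroup.nontrivial_iff_ne_bot _).2 (Group.IsNilpotent.center_ne_bot _)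
      obtain ⟨⟨q, hq⟩, hq1⟩ := exists_ne (1 : Subgroup.center (φ.range ⧸ Subgroup.center φ.range))
      obtain ⟨y, rfl⟩ := QuotientGroup.mk_surjective q
      obtain ⟨a, rfl⟩ := φ.rangeRestrict_surjective y
      refine ⟨a, ?_, fun x y => ?_⟩
      · by_contra hcon
        push Not at hcon
        refine hq1 (Subtype.ext ((QuotientGroup.eq_one_iff _).mpr (Subgroup.mem_center_iff.mpr ?_)))
        rintro ⟨_, x, rfl⟩
        exact Subtype.ext (Units.ext (by
          show ρ x * ρ a = ρ a * ρ x
          rw [← map_mul, ← map_mul, hcon x]))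
      · have h2 : φ.rangeRestrict ⁅x, a⁆ ∈ Subgroup.center φ.range := by
          rw [← QuotientGroup.eq_one_iff, map_commutatorElement, ← QuotientGroup.mk'_apply, map_commutatorElement,
            commutatorElement_eq_one_iff_mul_comm]
          exact Subgroup.mem_center_iff.mp hq _
        have h3 := Subgroup.mem_center_iff.mp h2 (φ.rangeRestrict y)
        rw [map_mul, map_mul]
        exact (congrArg (fun z : φ.range => ((z : (Module.End k V)ˣ) : Module.End k V)) h3).symm
    -- commutators with `a` act as scalars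
    have hscal : ∀ x : P, ∃ c : k, ∀ v, ρ ⁅x, a⁆ v = c • v := by
      intro x
      obtain ⟨c, hc⟩ := Module.End.exists_eigenvalue (ρ ⁅x, a⁆)
      have htop := hsimple (Module.End.eigenspace (ρ ⁅x, a⁆) c) hc (fun y v hv => by
        rw [Module.End.mem_eigenspace_iff] at hv ⊢
        rw [← Module.End.mul_apply, ← map_mul, haZ, map_mul, Module.End.mul_apply, hv, map_smul])
      exact ⟨c, fun v => Module.End.mem_eigenspace_iff.mp (htop ▸ Submodule.mem_top)⟩
    choose c hc using hscal
    obtain ⟨lam, hlam⟩ := Module.End.exists_eigenvalue (ρ a)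
    let E := Module.End.eigenspace (ρ a) lam
    let M : Subgroup P :=
      { carrier := {x | ρ (x * a) = ρ (a * x)}
        one_mem' := by show ρ (1 * a) = ρ (a * 1); rw [one_mul, mul_one]
        mul_mem' := fun {x y} (hx : ρ (x * a) = ρ (a * x)) (hy : ρ (y * a) = ρ (a * y)) => by
          show ρ (x * y * a) = ρ (a * (x * y))
          rw [mul_assoc, map_mul, hy, ← map_mul, ← mul_assoc, map_mul, hx, ← map_mul, mul_assoc]
        inv_mem' := fun {x} (hx : ρ (x * a) = ρ (a * x)) => by
          show ρ (x⁻¹ * a) = ρ (a * x⁻¹)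
          calc ρ (x⁻¹ * a) = ρ x⁻¹ * ρ (a * x) * ρ x⁻¹ := by rw [← map_mul, ← map_mul]; group
            _ = ρ x⁻¹ * ρ (x * a) * ρ x⁻¹ := by rw [hx]
            _ = _ := by rw [← map_mul, ← map_mul]; group }
    have hax : ∀ (x : P) (v : V), ρ x (ρ a v) = c x • ρ a (ρ x v) := fun x v => by
      rw [← hc, ← Module.End.mul_apply, ← Module.End.mul_apply, ← Module.End.mul_apply, ← map_mul,
        ← map_mul, ← map_mul, commutatorElement_def]
      group
    have hMc : ∀ x, x ∈ M ↔ c x = 1 := by
      intro x
      refine ⟨fun (hx : ρ (x * a) = ρ (a * x)) => ?_, fun hx => LinearMap.ext fun v => ?_⟩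
      · obtain ⟨v, hv⟩ := exists_ne (0 : V)
        have h1 : ρ a (ρ x v) ≠ 0 := fun h => hv (by
          have h2 := congrArg (ρ x⁻¹ * ρ a⁻¹ : Module.End k V) h
          rwa [map_zero, Module.End.mul_apply, hlin, hlin] at h2)
        have h2 := hax x v
        rw [← Module.End.mul_apply, ← map_mul, hx, map_mul, Module.End.mul_apply] at h2
        exact ((smul_left_injective k h1) (h2.symm.trans (one_smul k _).symm))
      · rw [map_mul, map_mul, Module.End.mul_apply, Module.End.mul_apply, hax, hx, one_smul]
    have hmul : ∀ x y, c (x * y) = c x * c y := fun x y => by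
      obtain ⟨v, hv⟩ := exists_ne (0 : V)
      have h1 : ρ a (ρ (x * y) v) ≠ 0 := fun h => hv (by
        have h2 := congrArg (ρ (x * y)⁻¹ * ρ a⁻¹ : Module.End k V) h
        rwa [map_zero, Module.End.mul_apply, hlin, hlin] at h2)
      refine smul_left_injective k h1 ?_
      show c (x * y) • _ = (c x * c y) • _
      rw [← hax, map_mul, Module.End.mul_apply, hax y, map_smul, hax x, smul_smul, mul_comm (c y)]
      rfl
    have hcomm : commutator P ≤ M := by
      have hone : c 1 = 1 := (hMc 1).mp M.one_mem
      rw [commutator_def, Subgroup.commutator_le]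
      intro x _ y _
      rw [hMc, commutatorElement_def, hmul, hmul, hmul]
      calc c x * c y * c x⁻¹ * c y⁻¹ = (c x * c x⁻¹) * (c y * c y⁻¹) := by ring
        _ = 1 := by rw [← hmul, ← hmul, mul_inv_cancel, mul_inv_cancel, hone, one_mul]
    obtain ⟨x₀, hx₀⟩ := hnc
    have hcx₀ : c x₀ ≠ 1 := fun h => hx₀ ((hMc x₀).mpr h)
    have hcne : ∀ x, c x ≠ 0 := fun x h => by
      obtain ⟨v, hv⟩ := exists_ne (0 : V)
      have h1 := hax x v
      rw [h, zero_smul] at h1
      exact hv (by
        have h2 := congrArg (ρ a⁻¹ * ρ x⁻¹ : Module.End k V) h1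
        rwa [map_zero, Module.End.mul_apply, hlin, hlin] at h2)
    have hlam0 : lam ≠ 0 := fun h => by
      obtain ⟨v, hv, hv0⟩ := Module.End.HasEigenvalue.exists_hasEigenvector hlam
      rw [Module.End.mem_eigenspace_iff, h, zero_smul] at hv
      exact hv0 (by
        have h2 := congrArg (ρ a⁻¹) hv
        rwa [map_zero, hlin] at h2)
    have hEmap : ∀ x : P, ∀ v ∈ E, ρ a (ρ x v) = (lam / c x) • ρ x v := fun x v hv => by
      rw [Module.End.mem_eigenspace_iff] at hv
      have h1 := hax x v
      rw [hv, map_smul] at h1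
      rw [div_eq_inv_mul, mul_smul, h1, inv_smul_smul₀ (hcne x)]
    have hpow : ∀ i : ℕ, c (x₀ ^ i) = c x₀ ^ i := fun i => by
      induction i with
      | zero => rw [pow_zero, pow_zero]; exact (hMc 1).mp M.one_mem
      | succ i ih => rw [pow_succ, pow_succ, hmul, ih]
    have hord : ∀ i, 0 < i → i < p → c x₀ ^ i ≠ 1 := by
      intro i hi hip h
      obtain ⟨b, hb⟩ := hP x₀
      have h1 : c x₀ ^ p ^ b = 1 := by rw [← hpow, hb]; exact (hMc 1).mp M.one_mem
      have hcop : Nat.Coprime i (p ^ b) :=
        (((Nat.Prime.coprime_iff_not_dvd hp.out).mpr fun hd => absurd (Nat.le_of_dvd hi hd) (not_le.mpr hip)).symm).pow_right b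
      have h2 := Nat.eq_one_of_dvd_coprimes hcop (orderOf_dvd_of_pow_eq_one h) (orderOf_dvd_of_pow_eq_one h1)
      exact hcx₀ (orderOf_eq_one_iff.mp h2)
    have hE2 : p * finrank k E ≤ finrank k V := by
      have hinj : Set.InjOn (fun i : ℕ => lam / c (x₀ ^ i)) (Finset.range p) := by
        suffices key : ∀ i j : ℕ, i ≤ j → j < p → lam / c (x₀ ^ i) = lam / c (x₀ ^ j) → i = j by
          intro i hi j hj hij
          rcases le_total i j with h | h
          · exact key i j h (Finset.mem_range.mp hj) hij
          · exact (key j i h (Finset.mem_range.mp hi) hij.symm).symm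
        intro i j hij hj h
        by_contra hne
        rw [hpow, hpow, div_eq_mul_inv, div_eq_mul_inv, mul_right_inj' hlam0, inv_inj,
          show j = i + (j - i) by omega, pow_add, left_eq_mul₀ (pow_ne_zero _ (hcne x₀))] at h
        exact hord (j - i) (by omega) (by omega) h
      have h1 := card_mul_le_finrank (ρ a) ((Finset.range p).image fun i : ℕ => lam / c (x₀ ^ i))
        (d := finrank k E) (by
          intro μ hμ
          obtain ⟨i, -, rfl⟩ := Finset.mem_image.mp hμ
          have hle : E.map (ρ (x₀ ^ i)) ≤ Module.End.eigenspace (ρ a) (lam / c (x₀ ^ i)) := by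
            rintro _ ⟨v, hv, rfl⟩
            exact Module.End.mem_eigenspace_iff.mpr (hEmap _ v hv)
          exact ((Submodule.equivMapOfInjective (ρ (x₀ ^ i)) (Function.LeftInverse.injective (hlin _)) E).finrank_eq).le.trans
            (Submodule.finrank_mono hle))
      rwa [Finset.card_image_of_injOn hinj, Finset.card_range] at h1
    have hE1 : 0 < finrank k E := Nat.pos_of_ne_zero fun e => hlam (Submodule.finrank_eq_zero.1 e)
    have hMinv : ∀ m : M, ∀ v ∈ E, ρ m v ∈ E := fun m v hv => by
      have h := hEmap m v hv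
      rw [(hMc m).mp m.2, div_one] at h
      exact Module.End.mem_eigenspace_iff.mpr h
    let ρE : M →* Module.End k E :=
      { toFun := fun m => (ρ m).restrict (hMinv m)
        map_one' := LinearMap.ext fun s => Subtype.ext (by simp)
        map_mul' := fun x y => LinearMap.ext fun s => Subtype.ext (by simp) }
    have hn2 : p ≤ n := (Nat.le_mul_of_pos_right p hE1).trans (hE2.trans hn)
    have hlog : Nat.log p n = Nat.log p (n / p) + 1 := by
      rw [Nat.log_div_base]
      have := Nat.log_pos hp.out.one_lt hn2
      omega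
    set K := (derivedSeries M (Nat.log p (n / p) + 1)).map M.subtype with hK
    have hKn : derivedSeries P (Nat.log p n + 1) ≤ K :=
      hlog ▸ PermPGroup.derivedSeries_succ_le_map hcomm _
    have hEfix : ∀ x ∈ derivedSeries P (Nat.log p n + 1), ∀ v ∈ E, ρ x v = v := by
      intro x hx v hv
      obtain ⟨m, hm, rfl⟩ := hKn hx
      exact congrArg Subtype.val (LinearMap.congr_fun
        (ih (n / p) (Nat.div_lt_self (by omega) hp.out.one_lt) (hP.to_subgroup M) ρE ((Nat.le_div_iff_mul_le hp.out.pos).mpr (by rw [mul_comm]; omega)) m hm) ⟨v, hv⟩)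
    let W : Submodule k V :=
      { carrier := {v | ∀ x ∈ derivedSeries P (Nat.log p n + 1), ρ x v = v}
        zero_mem' := fun x _ => map_zero _
        add_mem' := fun {a b} ha hb x hx => by rw [map_add, ha x hx, hb x hx]
        smul_mem' := fun t a ha x hx => by rw [map_smul, ha x hx] }
    have hWne : W ≠ ⊥ := fun h => by
      obtain ⟨v, hv, hv0⟩ := Module.End.HasEigenvalue.exists_hasEigenvector hlam
      exact hv0 ((Submodule.eq_bot_iff W).mp h v (fun x hx => hEfix x hx v hv))
    have hWtop := hsimple W hWne (fun y v hv x hx => by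
      have h1 := hv (y⁻¹ * x * y) (by
        simpa using (derivedSeries_normal P (Nat.log p n + 1)).conj_mem x hx y⁻¹)
      have h2 := congrArg (ρ y) h1
      rwa [← Module.End.mul_apply, ← map_mul, mul_assoc, mul_inv_cancel_left, map_mul,
        Module.End.mul_apply] at h2)
    exact LinearMap.ext fun v => (hWtop ▸ Submodule.mem_top : v ∈ W) g hg

/-- Refinement: it suffices to bound the eigenspaces for nontrivial eigenvalues. -/
theorem eq_one_of_eigen_bound {p : ℕ} [hp : Fact p.Prime] [IsAlgClosed k] (hpk : (p : k) ≠ 0) {d : ℕ} :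
    ∀ (m : ℕ) {P : Type u} [Group P] [Finite P] {V : Type w} [AddCommGroup V] [Module k V]
      [FiniteDimensional k V], IsPGroup p P → ∀ ρ : P →* Module.End k V, finrank k V ≤ m →
      (∀ (z : P) (μ : k), μ ≠ 1 → finrank k (Module.End.eigenspace (ρ z) μ) ≤ d) →
      ∀ g ∈ derivedSeries P (Nat.log p d + 1), ρ g = 1 := by
  intro m
  induction m with
  | zero =>
    intro P _ _ V _ _ _ _ ρ hm _ g _
    haveI : Subsingleton V := (Module.finrank_zero_iff (R := k)).1 (Nat.le_zero.1 hm)
    exact LinearMap.ext fun v => Subsingleton.elim _ _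
  | succ m ih =>
    intro P _ _ V _ _ _ hP ρ hm hd g hg
    by_cases hred : ∃ W : Submodule k V, W ≠ ⊥ ∧ W ≠ ⊤ ∧ ∀ (x : P), ∀ v ∈ W, ρ x v ∈ W
    · obtain ⟨W, hWb, hWt, hW⟩ := hred
      let ρW : P →* Module.End k W :=
        { toFun := fun x => (ρ x).restrict (hW x)
          map_one' := LinearMap.ext fun s => Subtype.ext (by simp)
          map_mul' := fun x y => LinearMap.ext fun s => Subtype.ext (by simp) }
      let ρQ : P →* Module.End k (V ⧸ W) :=
        { toFun := fun x => W.mapQ W (ρ x) (hW x)
          map_one' := Submodule.linearMap_qext _ (LinearMap.ext fun v => by simp)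
          map_mul' := fun x y => Submodule.linearMap_qext _ (LinearMap.ext fun v => by simp) }
      have h1 := Submodule.finrank_quotient_add_finrank W
      have h2 : 0 < finrank k W := Nat.pos_of_ne_zero fun e => hWb (Submodule.finrank_eq_zero.1 e)
      have h3 : finrank k W < finrank k V := Submodule.finrank_lt hWt
      have hgW : ρW g = 1 := ih hP ρW (by omega) (fun z μ hμ => by
        refine le_trans (le_of_eq (Submodule.equivMapOfInjective W.subtype W.injective_subtype _).finrank_eq)
          ((Submodule.finrank_mono ?_).trans (hd z μ hμ))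
        rintro _ ⟨v, hv, rfl⟩
        exact Module.End.mem_eigenspace_iff.mpr (congrArg Subtype.val (Module.End.mem_eigenspace_iff.mp hv))) g hg
      have hgQ : ρQ g = 1 := ih hP ρQ (by omega) (fun z μ hμ => by
        refine le_trans (Submodule.finrank_mono ?_)
          ((Submodule.finrank_map_le W.mkQ _).trans (hd z μ hμ))
        intro q hq
        rw [Module.End.mem_eigenspace_iff] at hq
        by_cases hq0 : q = 0
        · rw [hq0]; exact zero_mem _
        obtain ⟨v, rfl⟩ := W.mkQ_surjective q
        obtain ⟨b, hb⟩ := hP z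
        have hpow : ∀ i : ℕ, W.mkQ (ρ (z ^ i) v) = μ ^ i • W.mkQ v := fun i => by
          induction i with
          | zero => simp
          | succ i ih =>
            rw [pow_succ' z, map_mul, Module.End.mul_apply, pow_succ, mul_smul, ← hq, ← map_smul]
            exact congrArg (ρQ z) ih
        have hμ1 : μ ^ p ^ b = 1 := by
          have := hpow (p ^ b)
          rw [hb, map_one, Module.End.one_apply] at this
          exact smul_left_injective k hq0 (this.symm.trans (one_smul k _).symm)
        have hμ0 : μ ≠ 0 := fun h => by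
          rw [h, zero_pow (pow_ne_zero _ hp.out.ne_zero)] at hμ1
          exact zero_ne_one hμ1
        let F : ℕ → V := fun i => (μ ^ i)⁻¹ • ρ (z ^ i) v
        set N := p ^ b
        refine ⟨(N : k)⁻¹ • ∑ i ∈ Finset.range N, F i, Module.End.mem_eigenspace_iff.mpr ?_, ?_⟩
        · have hF : ∀ i, ρ z (F i) = μ • F (i + 1) := fun i => by
            simp only [F, map_smul, smul_smul]
            rw [← Module.End.mul_apply, ← map_mul, ← pow_succ', pow_succ' μ, mul_inv, ← mul_assoc,
              mul_inv_cancel₀ hμ0, one_mul]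
          rw [map_smul, map_sum, Finset.sum_congr rfl fun i _ => hF i, ← Finset.smul_sum, smul_comm]
          congr 2
          have hN : F N = F 0 := by simp only [F]; rw [hb, hμ1, pow_zero, pow_zero]
          have e1 := Finset.sum_range_succ F N
          rw [Finset.sum_range_succ' F N, hN] at e1
          exact add_right_cancel e1
        · have hF : ∀ i, W.mkQ (F i) = W.mkQ v := fun i => by
            simp only [F, map_smul, hpow, inv_smul_smul₀ (pow_ne_zero i hμ0)]
          rw [map_smul, map_sum, Finset.sum_congr rfl fun i _ => hF i, Finset.sum_const, Finset.card_range,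
            ← Nat.cast_smul_eq_nsmul k, inv_smul_smul₀]
          simp only [N, Nat.cast_pow]
          exact pow_ne_zero _ hpk) g hg
      obtain ⟨a, ha⟩ := hP g
      refine not_natCast_zero hpk (a := a) (by rw [← map_pow, ha, map_one]) (LinearMap.ext fun v => ?_)
      have hv : ρ g v - v ∈ W := (Submodule.Quotient.eq _).mp
        (show W.mkQ (ρ g v) = W.mkQ v from LinearMap.congr_fun hgQ (W.mkQ v))
      have := congrArg Subtype.val (LinearMap.congr_fun hgW ⟨_, hv⟩)
      simp only [Module.End.mul_apply, LinearMap.sub_apply, Module.End.one_apply, LinearMap.zero_apply]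
      exact sub_eq_zero.mpr this
    push Not at hred
    by_cases htriv : ∀ x, ρ x = 1
    · exact htriv g
    push Not at htriv
    obtain ⟨y, hy⟩ := htriv
    haveI : Nontrivial V := by
      by_contra h
      rw [not_nontrivial_iff_subsingleton] at h
      exact hy (LinearMap.ext fun v => Subsingleton.elim _ _)
    set φ := ρ.toHomUnits with hφ
    haveI := hP.isNilpotent
    haveI : Group.IsNilpotent φ.range := Group.nilpotent_of_surjective φ.rangeRestrict φ.rangeRestrict_surjective
    haveI : Nontrivial φ.range := ⟨⟨φ.rangeRestrict y, 1, fun h => hy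
      (congrArg (fun z : φ.range => ((z : (Module.End k V)ˣ) : Module.End k V)) h)⟩⟩
    haveI : Nontrivial (Subgroup.center φ.range) :=
      (Subgroup.nontrivial_iff_ne_bot _).2 (Group.IsNilpotent.center_ne_bot _)
    obtain ⟨⟨w, hw⟩, hw1⟩ := exists_ne (1 : Subgroup.center φ.range)
    obtain ⟨z, rfl⟩ := φ.rangeRestrict_surjective w
    obtain ⟨μ, hμ⟩ := Module.End.exists_eigenvalue (ρ z)
    have htop : Module.End.eigenspace (ρ z) μ = ⊤ := by
      by_contra h
      obtain ⟨x, v, hv, hx⟩ := hred _ hμ h
      refine hx ?_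
      rw [Module.End.mem_eigenspace_iff] at hv ⊢
      have h1 : ρ z * ρ x = ρ x * ρ z :=
        (congrArg (fun u : φ.range => ((u : (Module.End k V)ˣ) : Module.End k V))
          (Subgroup.mem_center_iff.mp hw (φ.rangeRestrict x))).symm
      rw [← Module.End.mul_apply, h1, Module.End.mul_apply, hv, map_smul]
    have hμ1 : μ ≠ 1 := fun h => hw1 (Subtype.ext (Subtype.ext (Units.ext (LinearMap.ext fun v => by
      have := Module.End.mem_eigenspace_iff.mp (htop ▸ Submodule.mem_top : v ∈ Module.End.eigenspace (ρ z) μ)
      rwa [h, one_smul] at this))))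
    have h1 := hd z μ hμ1
    rw [htop, finrank_top] at h1
    exact eq_one_of_not_char hpk d hP ρ h1 g hg

end Cfsg.Agent.GStructB.LinearPGroup
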