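import Cfsg.Agent.Lib.PGroups.Basic
import Mathlib

/-!
A finite `p`-group with a self-centralising subgroup of order `p ^ 2`, or a non-abelian subgroup
`B` of order `p ^ 3` with `C(B) ≤ B`, has maximal class.
-/

set_option autoImplicit false

namespace Cfsg.Agent.GStructB.MaxClass

open scoped commutatorElement

universe u

variable {p : ℕ} [hp : Fact p.Prime]

/-- Groups of order dividing `p ^ 2` are commutative. -/
theorem comm_of_card {G : Type*} [Group G] [Finite G] {k : ℕ} (hk : k ≤ 2) (h : Nat.card G = p ^ k) :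
    ∀ a b : G, a * b = b * a := by
  interval_cases k
  · have := (Nat.card_eq_one_iff_unique.mp (by simpa using h)).1
    exact fun a b => Subsingleton.elim _ _
  · have : IsCyclic G := isCyclic_of_prime_card (p := p) (by simpa using h)
    letI : CommGroup G := IsCyclic.commGroup
    exact fun a b => mul_comm a b
  · letI : CommGroup G := IsPGroup.commGroupOfCardEqPrimeSq h
    exact fun a b => mul_comm a b

/-- The centre of a non-abelian group of order `p ^ 3`. -/
theorem card_center {G : Type*} [Group G] [Finite G] (h : Nat.card G = p ^ 3)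
    (hna : ¬ ∀ a b : G, a * b = b * a) : Nat.card (Subgroup.center G) = p := by
  have hpp : p.Prime := hp.out
  have : Nontrivial G := by
    rw [← Finite.one_lt_card_iff_nontrivial, h]; exact Nat.one_lt_pow three_ne_zero hpp.one_lt
  have hpg : IsPGroup p G := IsPGroup.of_card h
  obtain ⟨j, hj, hjc⟩ := (Nat.dvd_prime_pow hpp).mp (h ▸ Subgroup.card_subgroup_dvd_card (Subgroup.center G))
  have := hpg.center_nontrivial
  have h1 : 1 < Nat.card (Subgroup.center G) := Finite.one_lt_card_iff_nontrivial.mpr this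
  have hq : Nat.card (G ⧸ Subgroup.center G) * p ^ j = p ^ 3 := by
    rw [← hjc, ← h]; exact (Subgroup.card_eq_card_quotient_mul_card_subgroup _).symm
  interval_cases j
  · rw [hjc, pow_zero] at h1; omega
  · rw [hjc, pow_one]
  · exfalso
    have hc : Nat.card (G ⧸ Subgroup.center G) = p := by
      refine Nat.eq_of_mul_eq_mul_right (pow_pos hpp.pos 2) ?_
      rw [hq]; ring
    have : IsCyclic (G ⧸ Subgroup.center G) := isCyclic_of_prime_card hc
    exact hna fun a b => (MonoidHom.isMulCommutative_of_isCyclic_of_ker_le_center (QuotientGroup.mk' (Subgroup.center G))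
      (by simp)).is_comm.comm a b
  · exact absurd (fun a b : G => (Subgroup.mem_center_iff.mp
      ((Subgroup.card_eq_iff_eq_top _).mp (hjc.trans h.symm) ▸ Subgroup.mem_top b) a)) hna

/-- The two statements, by induction on the order. -/
theorem class_aux : ∀ n : ℕ, (∀ (X : Type u) [Group X] [Finite X], Nat.card X = p ^ n →
    ∀ A : Subgroup X, Nat.card A = p ^ 2 → Subgroup.centralizer (A : Set X) = A →
      Group.nilpotencyClass X = n - 1) ∧
    (∀ (X : Type u) [Group X] [Finite X], Nat.card X = p ^ n →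
    ∀ B : Subgroup X, Nat.card B = p ^ 3 → (¬ ∀ a ∈ B, ∀ b ∈ B, a * b = b * a) →
      Subgroup.centralizer (B : Set X) ≤ B → Group.nilpotencyClass X = n - 1) := by
  have hpp : p.Prime := hp.out
  intro n
  induction n using Nat.strong_induction_on with
  | _ n ih =>
  have hB : ∀ (X : Type u) [Group X] [Finite X], Nat.card X = p ^ n →
      ∀ B : Subgroup X, Nat.card B = p ^ 3 → (¬ ∀ a ∈ B, ∀ b ∈ B, a * b = b * a) →
      Subgroup.centralizer (B : Set X) ≤ B → Group.nilpotencyClass X = n - 1 := by
    intro X _ _ hX B hB hna hC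
    have hpX : IsPGroup p X := IsPGroup.of_card hX
    have := hpX.isNilpotent
    have hn3 : 3 ≤ n := by
      have h := Subgroup.card_subgroup_dvd_card B
      rw [hX, hB, Nat.pow_dvd_pow_iff_le_right hpp.one_lt] at h
      exact h
    have : Nontrivial X := by
      rw [← Finite.one_lt_card_iff_nontrivial, hX]; exact Nat.one_lt_pow (by omega) hpp.one_lt
    set Z := Subgroup.center X with hZ
    have hZB : Z ≤ B := (Subgroup.center_le_centralizer _).trans hC
    have hnaB : ¬ ∀ a b : B, a * b = b * a := fun h => hna fun a ha b hb =>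
      congrArg Subtype.val (h ⟨a, ha⟩ ⟨b, hb⟩)
    have hZc := card_center (p := p) hB hnaB
    have hZmap : Z.subgroupOf B ≤ Subgroup.center B := fun z hz => Subgroup.mem_center_iff.mpr fun b =>
      Subtype.ext (Subgroup.mem_center_iff.mp (Subgroup.mem_subgroupOf.mp hz) b)
    have hZp : Nat.card Z = p := by
      have h1 := Subgroup.card_dvd_of_le hZmap
      rw [hZc, Nat.card_congr (Subgroup.subgroupOfEquivOfLe hZB).toEquiv] at h1
      have h2 : 1 < Nat.card Z := Finite.one_lt_card_iff_nontrivial.mpr hpX.center_nontrivial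
      exact ((Nat.dvd_prime hpp).mp h1).resolve_left h2.ne'
    have hZeq : Z.subgroupOf B = Subgroup.center B := Subgroup.eq_of_le_of_card_ge hZmap (by
      rw [hZc, Nat.card_congr (Subgroup.subgroupOfEquivOfLe hZB).toEquiv, hZp])
    obtain ⟨u, hu, v, hv, huv⟩ : ∃ u ∈ B, ∃ v ∈ B, u * v ≠ v * u := by
      by_contra h
      exact hna fun a ha b hb => by
        by_contra h'
        exact h ⟨a, ha, b, hb, h'⟩
    have hgen : Subgroup.closure {u, v} = B := by
      have hle : Subgroup.closure {u, v} ≤ B := (Subgroup.closure_le B).mpr (by simp [Set.insert_subset_iff, hu, hv])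
      obtain ⟨j, hj, hjc⟩ := (Nat.dvd_prime_pow hpp).mp (hB ▸ Subgroup.card_dvd_of_le hle)
      refine Subgroup.eq_of_le_of_card_ge hle (le_of_eq ?_)
      rw [hjc, hB]
      by_contra hne
      have hj2 : j ≤ 2 := by
        by_contra hh
        exact hne (by rw [show j = 3 by omega])
      exact huv (congrArg Subtype.val (comm_of_card (p := p) hj2 hjc
        ⟨u, Subgroup.subset_closure (by simp)⟩ ⟨v, Subgroup.subset_closure (by simp)⟩))
    -- the image of `B` is self-centralising
    set q := QuotientGroup.mk' Z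
    have hBbar : Nat.card (B.map q) = p ^ 2 := by
      have h1 := Subgroup.card_eq_card_quotient_mul_card_subgroup (Z.subgroupOf B)
      rw [hB, Nat.card_congr (Subgroup.subgroupOfEquivOfLe hZB).toEquiv, hZp] at h1
      have h2 : Nat.card (B ⧸ Z.subgroupOf B) = Nat.card (B.map q) := by
        let f : B →* B.map q := q.subgroupMap B
        have hf : Function.Surjective f := MonoidHom.subgroupMap_surjective q B
        have hker : f.ker = Z.subgroupOf B := by
          ext x
          rw [MonoidHom.mem_ker, Subgroup.mem_subgroupOf]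
          constructor
          · intro h
            exact (QuotientGroup.eq_one_iff (x : X)).mp (congrArg Subtype.val h)
          · intro h
            exact Subtype.ext ((QuotientGroup.eq_one_iff (x : X)).mpr h)
        rw [← Nat.card_congr (QuotientGroup.quotientKerEquivOfSurjective f hf).toEquiv]
        exact Nat.card_congr (QuotientGroup.quotientMulEquivOfEq hker.symm).toEquiv
      rw [← h2]
      exact Nat.eq_of_mul_eq_mul_right hpp.pos (by rw [← h1]; ring)
    have hsc : Subgroup.centralizer ((B.map q : Subgroup (X ⧸ Z)) : Set (X ⧸ Z)) = B.map q := by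
      refine le_antisymm ?_ fun x hx y hy =>
        congrArg Subtype.val (comm_of_card (p := p) le_rfl hBbar ⟨y, hy⟩ ⟨x, hx⟩)
      intro x hx
      obtain ⟨g, rfl⟩ := QuotientGroup.mk'_surjective Z x
      have hg : ∀ b ∈ B, ⁅g, b⁆ ∈ Z := fun b hb => by
        have h := hx (q b) ⟨b, hb, rfl⟩
        rw [← QuotientGroup.eq_one_iff]
        show q ⁅g, b⁆ = 1
        rw [map_commutatorElement]
        exact commutatorElement_eq_one_iff_mul_comm.mpr h.symm
      have hbc : ∀ b ∈ B, ∀ c ∈ B, ⁅b, c⁆ ∈ Z := fun b hb c hc => by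
        rw [← QuotientGroup.eq_one_iff]
        show q ⁅b, c⁆ = 1
        rw [map_commutatorElement]
        exact commutatorElement_eq_one_iff_mul_comm.mpr (congrArg Subtype.val
          (comm_of_card (p := p) le_rfl hBbar ⟨q b, b, hb, rfl⟩ ⟨q c, c, hc, rfl⟩))
      let F : B ⧸ Z.subgroupOf B → Z × Z := fun w =>
        (⟨⁅((w.out : B) : X), u⁆, hbc _ w.out.2 u hu⟩, ⟨⁅((w.out : B) : X), v⁆, hbc _ w.out.2 v hv⟩)
      have hsame : ∀ a b : X, ⁅a, u⁆ = ⁅b, u⁆ → ⁅a, v⁆ = ⁅b, v⁆ → b⁻¹ * a ∈ Subgroup.centralizer (B : Set X) := by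
        intro a b h1 h2
        rw [← hgen, Subgroup.centralizer_closure]
        intro w hw
        have key : ∀ y : X, ⁅a, y⁆ = ⁅b, y⁆ → y * (b⁻¹ * a) = b⁻¹ * a * y := fun y hy => by
          rw [commutatorElement_def, commutatorElement_def, mul_left_inj] at hy
          calc y * (b⁻¹ * a) = b⁻¹ * (b * y * b⁻¹) * a := by group
            _ = _ := by rw [← hy]; group
        rcases hw with rfl | hw
        · exact key _ h1
        · rw [Set.mem_singleton_iff.mp hw]; exact key _ h2
      have hFinj : Function.Injective F := by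
        intro w w' h
        simp only [F, Prod.mk.injEq, Subtype.mk.injEq] at h
        have h3 := hsame _ _ h.1 h.2
        rw [← QuotientGroup.out_eq' w, ← QuotientGroup.out_eq' w']
        refine (QuotientGroup.eq.mpr ?_).symm
        refine hZeq.ge (Subgroup.mem_center_iff.mpr fun b => ?_)
        apply Subtype.ext
        simpa using h3 b b.2
      have hcardQ : Nat.card (Z × Z) ≤ Nat.card (B ⧸ Z.subgroupOf B) := by
        have h1 := Subgroup.card_eq_card_quotient_mul_card_subgroup (Z.subgroupOf B)
        rw [hB, Nat.card_congr (Subgroup.subgroupOfEquivOfLe hZB).toEquiv, hZp] at h1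
        rw [Nat.card_prod, hZp]
        exact le_of_eq (Nat.eq_of_mul_eq_mul_right hpp.pos (by rw [← h1]; ring))
      obtain ⟨w, hw⟩ := (hFinj.bijective_of_nat_card_le hcardQ).2
        (⟨⁅g, u⁆, hg u hu⟩, ⟨⁅g, v⁆, hg v hv⟩)
      simp only [F, Prod.mk.injEq, Subtype.mk.injEq] at hw
      have h4 := mul_mem w.out.2 (hC (hsame g _ hw.1.symm hw.2.symm))
      rw [mul_inv_cancel_left] at h4
      exact ⟨g, h4, rfl⟩
    obtain ⟨m, rfl⟩ : ∃ m, n = m + 1 := ⟨n - 1, by omega⟩
    have hquot : Nat.card (X ⧸ Z) = p ^ m := by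
      have h1 := Subgroup.card_eq_card_quotient_mul_card_subgroup Z
      rw [hX, hZp, pow_succ] at h1
      exact (Nat.eq_of_mul_eq_mul_right hpp.pos h1).symm
    have h := (ih m (by omega)).1 (X ⧸ Z) hquot (B.map q) hBbar hsc
    have hh : Group.nilpotencyClass (X ⧸ Subgroup.center X) = m - 1 := h
    rw [Group.nilpotencyClass_quotient_center] at hh
    have hpos : Group.nilpotencyClass X ≠ 0 := fun h0 =>
      not_subsingleton X (Group.nilpotencyClass_zero_iff_subsingleton.mp h0)
    omega
  refine ⟨?_, hB⟩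
  intro X _ _ hX A hA hC
  have hpX : IsPGroup p X := IsPGroup.of_card hX
  have := hpX.isNilpotent
  have hn2 : 2 ≤ n := by
    have h := Subgroup.card_subgroup_dvd_card A
    rw [hX, hA, Nat.pow_dvd_pow_iff_le_right hpp.one_lt] at h
    exact h
  have : Nontrivial X := by
    rw [← Finite.one_lt_card_iff_nontrivial, hX]; exact Nat.one_lt_pow (by omega) hpp.one_lt
  have hpos : Group.nilpotencyClass X ≠ 0 := fun h0 =>
      not_subsingleton X (Group.nilpotencyClass_zero_iff_subsingleton.mp h0)
  have hcommA : ∀ a ∈ A, ∀ b ∈ A, a * b = b * a := fun a ha b hb =>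
    congrArg Subtype.val (comm_of_card (p := p) le_rfl hA ⟨a, ha⟩ ⟨b, hb⟩)
  by_cases hAtop : A = ⊤
  · subst hAtop
    rw [Subgroup.card_top, hX] at hA
    have hn : n = 2 := Nat.pow_right_injective hpp.two_le hA
    have hcen : Subgroup.center X = ⊤ := eq_top_iff.mpr fun x _ => Subgroup.mem_center_iff.mpr fun g =>
      hcommA g (Subgroup.mem_top g) x (Subgroup.mem_top x)
    have h := Group.nilpotencyClass_quotient_center (G := X)
    have h0 : Group.nilpotencyClass (X ⧸ Subgroup.center X) = 0 := by
      rw [Group.nilpotencyClass_zero_iff_subsingleton]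
      exact ⟨fun a b => by
        obtain ⟨a, rfl⟩ := QuotientGroup.mk'_surjective _ a
        obtain ⟨b, rfl⟩ := QuotientGroup.mk'_surjective _ b
        exact QuotientGroup.eq.mpr (hcen ▸ Subgroup.mem_top _)⟩
    omega
  set N := Subgroup.normalizer (A : Set X) with hN
  have hAN : A < N := (Group.normalizerCondition_of_isNilpotent (G := X)) A (lt_top_iff_ne_top.mpr hAtop)
  obtain ⟨z, hz⟩ := exists_prime_orderOf_dvd_card' (G := Subgroup.center X) p (by
    obtain ⟨j, hj⟩ := (hpX.to_subgroup (Subgroup.center X)).exists_card_eq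
    have h2 : 1 < Nat.card (Subgroup.center X) := Finite.one_lt_card_iff_nontrivial.mpr hpX.center_nontrivial
    rw [hj] at h2 ⊢
    exact dvd_pow_self p (by rintro rfl; simp at h2))
  set W := Subgroup.zpowers (z : X) with hW
  have hWA : W ≤ A := by
    rw [hW, Subgroup.zpowers_le, ← hC]
    exact Subgroup.center_le_centralizer _ z.2
  have hWc : Nat.card W = p := by rw [hW, Nat.card_zpowers, Subgroup.orderOf_coe, hz]
  have hWn : W.Normal := ⟨fun w hw g => by
    have : w ∈ Subgroup.center X := (Subgroup.zpowers_le.mpr z.2) hw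
    rw [Subgroup.mem_center_iff.mp this g, mul_inv_cancel_right]; exact hw⟩
  obtain ⟨a, ha, haW⟩ : ∃ a ∈ A, a ∉ W := by
    by_contra h
    push Not at h
    have := Subgroup.card_le_of_le (show A ≤ W from h)
    rw [hA, hWc] at this
    nlinarith [hpp.two_le]
  have hgenA : Subgroup.closure (insert a (W : Set X)) = A := by
    have hle : Subgroup.closure (insert a (W : Set X)) ≤ A :=
      (Subgroup.closure_le A).mpr (Set.insert_subset ha hWA)
    obtain ⟨j, hj, hjc⟩ := (Nat.dvd_prime_pow hpp).mp (hA ▸ Subgroup.card_dvd_of_le hle)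
    refine Subgroup.eq_of_le_of_card_ge hle (le_of_eq ?_)
    rw [hA, hjc]
    by_contra hne
    have hWle : W ≤ Subgroup.closure (insert a (W : Set X)) := fun w hw => Subgroup.subset_closure (Or.inr hw)
    have hj1 : j ≤ 1 := by
      by_contra hh
      exact hne (by rw [show j = 2 by omega])
    have := Subgroup.eq_of_le_of_card_ge hWle (by
      rw [hWc, hjc]
      exact (Nat.pow_le_pow_right hpp.pos hj1).trans (pow_one p).le)
    exact haW (this ▸ Subgroup.subset_closure (Set.mem_insert a _))
  -- the normaliser induces a group of order at most `p` on `A`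
  have hmove : ∀ g ∈ N, g * a * g⁻¹ * a⁻¹ ∈ W := by
    intro g hg
    have hgA : g * a * g⁻¹ * a⁻¹ ∈ A := mul_mem ((Subgroup.mem_normalizer_iff.mp hg a).mp ha) (inv_mem ha)
    by_contra hnot
    -- otherwise the commutator subgroup of `A` with `N` is all of `A`
    have hAN' : ⁅A.subgroupOf N, (⊤ : Subgroup N)⁆ ⊔ W.subgroupOf N = A.subgroupOf N := by
      have hAnn : (A.subgroupOf N).Normal := Subgroup.normal_in_normalizer
      refine le_antisymm (sup_le (Subgroup.commutator_le_left _ _)
        (fun w hw => Subgroup.mem_subgroupOf.mpr (hWA (Subgroup.mem_subgroupOf.mp hw)))) ?_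
      refine le_of_eq (Subgroup.eq_of_le_of_card_ge (sup_le (Subgroup.commutator_le_left _ _)
        (fun w hw => Subgroup.mem_subgroupOf.mpr (hWA (Subgroup.mem_subgroupOf.mp hw)))) ?_).symm
      set L := ⁅A.subgroupOf N, (⊤ : Subgroup N)⁆ ⊔ W.subgroupOf N
      have hmem : (⟨g, hg⟩ : N) * ⟨a, hAN.le ha⟩ * (⟨g, hg⟩ : N)⁻¹ * (⟨a, hAN.le ha⟩ : N)⁻¹ ∈ L := by
        refine Subgroup.mem_sup_left ?_
        rw [Subgroup.commutator_comm]
        exact Subgroup.commutator_mem_commutator (Subgroup.mem_top _) (Subgroup.mem_subgroupOf.mpr ha)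
      have hWlt : W.subgroupOf N < L := lt_of_le_of_ne le_sup_right fun h => by
        rw [← h] at hmem
        exact hnot (Subgroup.mem_subgroupOf.mp hmem)
      have hd := Subgroup.card_dvd_of_le (sup_le (Subgroup.commutator_le_left _ _)
        (fun w hw => Subgroup.mem_subgroupOf.mpr (hWA (Subgroup.mem_subgroupOf.mp hw))) : L ≤ A.subgroupOf N)
      rw [Nat.card_congr (Subgroup.subgroupOfEquivOfLe hAN.le).toEquiv, hA] at hd ⊢
      obtain ⟨j, hj, hjc⟩ := (Nat.dvd_prime_pow hpp).mp hd
      rw [hjc]
      refine Nat.pow_le_pow_right hpp.pos ?_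
      by_contra hh
      refine hWlt.ne (Subgroup.eq_of_le_of_card_ge hWlt.le ?_)
      rw [hjc, Nat.card_congr (Subgroup.subgroupOfEquivOfLe (hWA.trans hAN.le)).toEquiv, hWc]
      exact (Nat.pow_le_pow_right hpp.pos (show j ≤ 1 by omega)).trans (pow_one p).le
    have := (hpX.to_subgroup N).isNilpotent
    have hWNn : (W.subgroupOf N).Normal := hWn.subgroupOf N
    have hle := nilpotent_le (A.subgroupOf N) (W.subgroupOf N) hAN'.ge
    exact haW (Subgroup.mem_subgroupOf.mp (hle (Subgroup.mem_subgroupOf.mpr (show ((⟨a, hAN.le ha⟩ : N) : X) ∈ A from ha))))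
  have hidx : Nat.card (N ⧸ A.subgroupOf N) ≤ p := by
    let f : N ⧸ A.subgroupOf N → W := fun c => ⟨_, hmove _ (c.out : N).2⟩
    rw [← hWc]
    refine Nat.card_le_card_of_injective f fun c c' h => ?_
    have h1 : ((c.out : N) : X) * a * ((c.out : N) : X)⁻¹ = ((c'.out : N) : X) * a * ((c'.out : N) : X)⁻¹ :=
      mul_right_cancel (congrArg Subtype.val h)
    rw [← QuotientGroup.out_eq' c, ← QuotientGroup.out_eq' c', QuotientGroup.eq, Subgroup.mem_subgroupOf]
    have h2' : ((c.out : N) : X)⁻¹ * (c'.out : N) ∈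
        Subgroup.centralizer ((Subgroup.closure (insert a (W : Set X)) : Subgroup X) : Set X) := by
      rw [Subgroup.centralizer_closure]
      intro w hw
      rcases hw with rfl | hw
      · show w * _ = _ * w
        calc w * (((c.out : N) : X)⁻¹ * (c'.out : N))
            = ((c.out : N) : X)⁻¹ * (((c.out : N) : X) * w * ((c.out : N) : X)⁻¹) * (c'.out : N) := by group
          _ = _ := by rw [h1]; group
      · exact ((Subgroup.mem_center_iff.mp ((Subgroup.zpowers_le.mpr z.2) hw)) _).symm
    have h2 : ((c.out : N) : X)⁻¹ * (c'.out : N) ∈ Subgroup.centralizer (A : Set X) :=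
      fun w hw => h2' w (hgenA.ge hw)
    rw [hC] at h2
    exact h2
  have hNc : Nat.card N = p ^ 3 := by
    obtain ⟨j, hj⟩ := (hpX.to_subgroup N).exists_card_eq
    have h1 := Subgroup.card_eq_card_quotient_mul_card_subgroup (A.subgroupOf N)
    rw [hj, Nat.card_congr (Subgroup.subgroupOfEquivOfLe hAN.le).toEquiv, hA] at h1
    have h2 : p ^ j ≤ p ^ 3 := by
      rw [h1, pow_succ' p 2]; exact Nat.mul_le_mul_right _ hidx
    have h3 : p ^ 2 < p ^ j := by
      rw [← hA, ← hj]
      exact lt_of_le_of_ne (Subgroup.card_le_of_le hAN.le)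
        fun h => hAN.ne (Subgroup.eq_of_le_of_card_ge hAN.le h.ge)
    have := (Nat.pow_le_pow_iff_right hpp.one_lt).mp h2
    have := (Nat.pow_lt_pow_iff_right hpp.one_lt).mp h3
    rw [hj, show j = 3 by omega]
  refine hB X hX N hNc (fun h => hAN.ne (le_antisymm hAN.le ?_)) ?_
  · intro g hg
    rw [← hC]
    exact fun w hw => h w (hAN.le hw) g hg
  · exact (Subgroup.centralizer_le hAN.le).trans (hC.le.trans hAN.le)
where
  nilpotent_le {G : Type u} [Group G] [Group.IsNilpotent G] (X B : Subgroup G) [B.Normal]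
      (h : X ≤ ⁅X, (⊤ : Subgroup G)⁆ ⊔ B) : X ≤ B := PGroups.Basic.le_of_le_commutator_sup X B h

end Cfsg.Agent.GStructB.MaxClass
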