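import Cfsg.Agent.GStructB.StemExt
import Mathlib

/-!
A model of the metacyclic group `⟨a, b | a ^ M = 1, b ^ n = a ^ t, b a b⁻¹ = a ^ r⟩` and its stem
extensions.
-/

set_option autoImplicit false

namespace Cfsg.Agent.GStructB.Metacyclic

open scoped commutatorElement

section model

variable (M n t : ℕ) (u : (ZMod M)ˣ)

/-- multiplication by the unit -/
def scale : MulAut (Multiplicative (ZMod M)) where
  toFun x := Multiplicative.ofAdd ((u : ZMod M) * Multiplicative.toAdd x)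
  invFun x := Multiplicative.ofAdd (((u⁻¹ : (ZMod M)ˣ) : ZMod M) * Multiplicative.toAdd x)
  left_inv x := by simp [← mul_assoc]
  right_inv x := by simp [← mul_assoc]
  map_mul' x y := by simp [mul_add]

theorem scale_apply (x : ZMod M) : scale M u (Multiplicative.ofAdd x) = Multiplicative.ofAdd ((u : ZMod M) * x) := rfl

theorem scale_pow (k : ℕ) (x : ZMod M) :
    (scale M u ^ k) (Multiplicative.ofAdd x) = Multiplicative.ofAdd ((u : ZMod M) ^ k * x) := by
  induction k with
  | zero => simp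
  | succ k ih => rw [pow_succ', MulAut.mul_apply, ih, scale_apply, pow_succ', mul_assoc]

/-- the cover by a semidirect product with the integers -/
abbrev Pre : Type := Multiplicative (ZMod M) ⋊[zpowersHom (MulAut (Multiplicative (ZMod M))) (scale M u)] Multiplicative ℤ

/-- the relation -/
def rel : Pre M u := ⟨Multiplicative.ofAdd (-(t : ZMod M)), Multiplicative.ofAdd (n : ℤ)⟩

variable {M n t u} (hn : u ^ n = 1) (ht : (u : ZMod M) * t = t)

include hn ht in
theorem rel_central : rel M n t u ∈ Subgroup.center (Pre M u) := by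
  refine Subgroup.mem_center_iff.mpr fun g => SemidirectProduct.ext ?_ (mul_comm _ _)
  obtain ⟨x, hx⟩ : ∃ x, Multiplicative.ofAdd x = g.left := ⟨_, rfl⟩
  have h1 : ∀ j : ℤ, (scale M u ^ j) (Multiplicative.ofAdd (-(t : ZMod M))) = Multiplicative.ofAdd (-(t : ZMod M)) := by
    intro j
    induction j with
    | zero => simp
    | succ j ih =>
      rw [zpow_add_one, MulAut.mul_apply, scale_apply, mul_neg, ht, ih]
    | pred j ih =>
      have h2 : (scale M u)⁻¹ (Multiplicative.ofAdd (-(t : ZMod M))) = Multiplicative.ofAdd (-(t : ZMod M)) := by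
        rw [MulAut.inv_apply, MulEquiv.symm_apply_eq, scale_apply, mul_neg, ht]
      rw [zpow_sub_one, MulAut.mul_apply, h2, ih]
  have h3 : (scale M u ^ n) g.left = g.left := by
    rw [← hx, scale_pow, ← Units.val_pow_eq_pow_val, hn, Units.val_one, one_mul]
  show g.left * (scale M u ^ (Multiplicative.toAdd g.right)) (Multiplicative.ofAdd (-(t : ZMod M))) =
    Multiplicative.ofAdd (-(t : ZMod M)) * (scale M u ^ ((n : ℕ) : ℤ)) g.left
  rw [h1, zpow_natCast, h3, mul_comm]

include hn ht in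
theorem rel_normal : (Subgroup.zpowers (rel M n t u)).Normal := ⟨fun z hz g => by
  rw [Subgroup.mem_center_iff.mp (Subgroup.zpowers_le.mpr (rel_central hn ht) hz) g, mul_inv_cancel_right]
  exact hz⟩

end model

set_option maxHeartbeats 1600000 in
/-- The model group: any data `(M, n, t, r)` with `r ^ n ≡ 1` and `r t ≡ t`. -/
theorem exists_model (M n t r : ℕ) (hM : 0 < M) (hn : 0 < n) (hrn : r ^ n ≡ 1 [MOD M]) (hrt : r * t ≡ t [MOD M]) :
    ∃ (W : Type) (_ : Group W) (_ : Finite W) (a b : W), Subgroup.closure ({a, b} : Set W) = ⊤ ∧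
      orderOf a = M ∧ b ^ n = a ^ t ∧ b * a * b⁻¹ = a ^ r ∧
      (∀ w : W, ∃ (i : ℕ) (j : ℕ), j < n ∧ w = a ^ i * b ^ j) ∧
      (∀ i j : ℕ, j < n → a ^ i * b ^ j = 1 → j = 0) ∧
      ∀ (H : Type) [Group H] (x y : H), x ^ M = 1 → y ^ n = x ^ t → y * x * y⁻¹ = x ^ r →
        ∃ f : W →* H, f a = x ∧ f b = y := by
  classical
  haveI : NeZero M := ⟨hM.ne'⟩
  have hu1 : ((r : ZMod M)) ^ n = 1 := by
    have := (ZMod.natCast_eq_natCast_iff _ _ _).mpr hrn
    push_cast at this
    exact this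
  set u : (ZMod M)ˣ := Units.ofPowEqOne (r : ZMod M) n hu1 hn.ne' with hu
  have hur : (u : ZMod M) = r := rfl
  have hun : u ^ n = 1 := Units.pow_ofPowEqOne hu1 hn.ne'
  have hut : (u : ZMod M) * t = t := by
    rw [hur]; exact_mod_cast (ZMod.natCast_eq_natCast_iff _ _ _).mpr hrt
  haveI := rel_normal hun hut
  set R := Subgroup.zpowers (rel M n t u) with hR
  let π := QuotientGroup.mk' R
  let a₀ : Pre M u := SemidirectProduct.inl (Multiplicative.ofAdd (1 : ZMod M))
  let b₀ : Pre M u := SemidirectProduct.inr (Multiplicative.ofAdd (1 : ℤ))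
  have hpa : ∀ i : ℕ, a₀ ^ i = SemidirectProduct.inl (Multiplicative.ofAdd (i : ZMod M)) := fun i => by
    rw [← map_pow, ← ofAdd_nsmul, nsmul_one]
  have hpb : ∀ j : ℕ, b₀ ^ j = SemidirectProduct.inr (Multiplicative.ofAdd (j : ℤ)) := fun j => by
    rw [← map_pow, ← ofAdd_nsmul, nsmul_one]
  have hbn : π b₀ ^ n = π a₀ ^ t := by
    rw [← map_pow π, ← map_pow π, hpa, hpb]
    refine QuotientGroup.eq.mpr ?_
    show _ ∈ Subgroup.zpowers (rel M n t u)
    have e : (SemidirectProduct.inr (Multiplicative.ofAdd (n : ℤ)) : Pre M u)⁻¹ *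
        SemidirectProduct.inl (Multiplicative.ofAdd (t : ZMod M)) = (rel M n t u)⁻¹ := by
      rw [inv_mul_eq_iff_eq_mul, eq_mul_inv_iff_mul_eq]
      refine SemidirectProduct.ext ?_ ?_ <;> simp [rel, ← ofAdd_add]
    rw [e]
    exact inv_mem (Subgroup.mem_zpowers _)
  have hba : π b₀ * π a₀ * (π b₀)⁻¹ = π a₀ ^ r := by
    rw [← map_pow π, ← map_mul π, ← map_inv π, ← map_mul π, hpa]
    refine congrArg π ?_
    show SemidirectProduct.inr (Multiplicative.ofAdd (1 : ℤ)) * SemidirectProduct.inl (Multiplicative.ofAdd (1 : ZMod M)) *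
      (SemidirectProduct.inr (Multiplicative.ofAdd (1 : ℤ)))⁻¹ = _
    rw [← map_inv (SemidirectProduct.inr), ← SemidirectProduct.inl_aut]
    refine congrArg SemidirectProduct.inl ?_
    show (scale M u ^ (1 : ℤ)) (Multiplicative.ofAdd (1 : ZMod M)) = _
    rw [zpow_one, scale_apply, mul_one, hur]
  have hrep : ∀ w : Pre M u ⧸ R, ∃ (i : ℕ) (j : ℕ), j < n ∧ w = π a₀ ^ i * π b₀ ^ j := by
    intro w
    obtain ⟨g, rfl⟩ := QuotientGroup.mk'_surjective R w
    obtain ⟨x, hx⟩ : ∃ x, Multiplicative.ofAdd x = g.left := ⟨_, rfl⟩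
    obtain ⟨j, hj⟩ : ∃ j, Multiplicative.ofAdd j = g.right := ⟨_, rfl⟩
    set k := j / (n : ℤ) with hk
    obtain ⟨j', hj'⟩ : ∃ j' : ℕ, (j' : ℤ) = j % (n : ℤ) :=
      ⟨_, Int.toNat_of_nonneg (Int.emod_nonneg _ (by exact_mod_cast hn.ne'))⟩
    refine ⟨(x + k * t : ZMod M).val, j', ?_, ?_⟩
    · have := Int.emod_lt_of_pos j (show (0 : ℤ) < n by exact_mod_cast hn)
      omega
    · rw [← map_pow π, ← map_pow π, ← map_mul π, hpa, hpb, ZMod.natCast_zmod_val]
      refine QuotientGroup.eq.mpr (Subgroup.mem_zpowers_iff.mpr ⟨-k, ?_⟩)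
      rw [eq_inv_mul_iff_mul_eq]
      have hc : Commute g (rel M n t u) := Subgroup.mem_center_iff.mp (rel_central hun hut) g
      have hpow : ∀ k : ℕ, rel M n t u ^ k =
          (⟨Multiplicative.ofAdd (-((k : ZMod M) * t)), Multiplicative.ofAdd ((k : ℤ) * n)⟩ : Pre M u) := by
        intro k
        induction k with
        | zero => refine SemidirectProduct.ext ?_ ?_ <;> simp
        | succ k ih =>
          rw [pow_succ', ih]
          refine SemidirectProduct.ext ?_ ?_
          · show Multiplicative.ofAdd (-(t : ZMod M)) * (scale M u ^ ((n : ℕ) : ℤ)) _ = _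
            rw [zpow_natCast, scale_pow, ← Units.val_pow_eq_pow_val, hun, Units.val_one, one_mul, ← ofAdd_add]
            congr 1; push_cast; ring
          · show Multiplicative.ofAdd (n : ℤ) * _ = _
            rw [← ofAdd_add]; congr 1; push_cast; ring
      have hzpow : ∀ k : ℤ, rel M n t u ^ k =
          (⟨Multiplicative.ofAdd (-((k : ZMod M) * t)), Multiplicative.ofAdd (k * n)⟩ : Pre M u) := by
        intro k
        obtain ⟨k, rfl | rfl⟩ := k.eq_nat_or_neg
        · rw [zpow_natCast, hpow]; push_cast; rfl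
        · rw [zpow_neg, zpow_natCast, inv_eq_iff_mul_eq_one, hpow]
          refine SemidirectProduct.ext ?_ ?_
          · show Multiplicative.ofAdd (-((k : ZMod M) * t)) * (scale M u ^ ((k : ℤ) * n)) _ = _
            rw [mul_comm (k : ℤ), zpow_mul, zpow_natCast, zpow_natCast, ← pow_mul, scale_pow, pow_mul,
              ← Units.val_pow_eq_pow_val, hun, Units.val_one, one_pow, one_mul, ← ofAdd_add, SemidirectProduct.one_left,
              ← ofAdd_zero]
            congr 1; push_cast; ring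
          · show Multiplicative.ofAdd ((k : ℤ) * n) * _ = _
            rw [← ofAdd_add, SemidirectProduct.one_right, ← ofAdd_zero]; congr 1; ring
      rw [(hc.zpow_right (-k)).eq, hzpow]
      refine SemidirectProduct.ext ?_ ?_
      · show Multiplicative.ofAdd (-(((-k : ℤ) : ZMod M) * t)) * (scale M u ^ ((-k) * (n : ℤ))) g.left = _
        rw [mul_comm (-k), zpow_mul, zpow_natCast, ← hx]
        have : (scale M u ^ n) = 1 := MulEquiv.ext fun y => by
          obtain ⟨y, rfl⟩ : ∃ v, Multiplicative.ofAdd v = y := ⟨_, rfl⟩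
          rw [scale_pow, ← Units.val_pow_eq_pow_val, hun, Units.val_one, one_mul]; rfl
        rw [this, one_zpow, MulAut.one_apply, ← ofAdd_add]
        simp only [SemidirectProduct.mul_left, SemidirectProduct.left_inl, SemidirectProduct.right_inl, map_one,
          SemidirectProduct.left_inr, mul_one, MulAut.one_apply]
        congr 1; push_cast; ring
      · show Multiplicative.ofAdd ((-k) * (n : ℤ)) * g.right = _
        rw [← hj, ← ofAdd_add]
        simp only [SemidirectProduct.mul_right, SemidirectProduct.right_inl, SemidirectProduct.right_inr, one_mul]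
        congr 1
        have := Int.mul_ediv_add_emod j (n : ℤ)
        rw [hj', hk]; linarith
  have hindep : ∀ i j : ℕ, j < n → π a₀ ^ i * π b₀ ^ j = 1 → j = 0 ∧ M ∣ i := by
    intro i j hj h
    rw [← map_pow π, ← map_pow π, ← map_mul π, hpa, hpb] at h
    obtain ⟨k, hk⟩ := Subgroup.mem_zpowers_iff.mp ((QuotientGroup.eq_one_iff _).mp h)
    have h2 := congrArg (SemidirectProduct.rightHom) hk
    rw [map_zpow, map_mul] at h2
    simp only [SemidirectProduct.rightHom_inl, SemidirectProduct.rightHom_inr, one_mul, rel,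
      SemidirectProduct.rightHom_eq_right] at h2
    rw [← ofAdd_zsmul, Multiplicative.ofAdd.apply_eq_iff_eq, smul_eq_mul] at h2
    have hk0 : k = 0 := by
      by_contra hne
      have : (n : ℤ) ≤ |k * n| := by
        rw [abs_mul, Nat.abs_cast]
        exact le_mul_of_one_le_left (Int.natCast_nonneg n) (Int.one_le_abs hne)
      rw [h2, Nat.abs_cast] at this
      omega
    refine ⟨by rw [hk0, zero_mul] at h2; exact_mod_cast h2.symm, ?_⟩
    have h3 := congrArg SemidirectProduct.left hk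
    rw [hk0, zpow_zero] at h3
    simp only [SemidirectProduct.one_left, SemidirectProduct.mul_left, SemidirectProduct.left_inl,
      SemidirectProduct.right_inl, SemidirectProduct.left_inr, map_one, mul_one] at h3
    rw [← ofAdd_zero, Multiplicative.ofAdd.apply_eq_iff_eq] at h3
    exact (ZMod.natCast_eq_zero_iff _ _).mp h3.symm
  have hgen : Subgroup.closure ({π a₀, π b₀} : Set (Pre M u ⧸ R)) = ⊤ := by
    refine (Subgroup.eq_top_iff' _).mpr fun w => ?_
    obtain ⟨i, j, -, hw⟩ := hrep w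
    rw [hw]
    refine Subgroup.mul_mem _ (Subgroup.pow_mem _ ?_ i) (Subgroup.pow_mem _ ?_ j)
    · exact Subgroup.subset_closure (Or.inl rfl)
    · exact Subgroup.subset_closure (Or.inr rfl)
  haveI : Finite (Pre M u ⧸ R) := Finite.of_surjective
    (fun v : ZMod M × Fin n => π a₀ ^ v.1.val * π b₀ ^ (v.2 : ℕ)) fun w => by
      obtain ⟨i, j, hj, rfl⟩ := hrep w
      refine ⟨((i : ZMod M), ⟨j, hj⟩), ?_⟩
      show π a₀ ^ (i : ZMod M).val * π b₀ ^ j = _
      congr 1
      rw [← map_pow π, ← map_pow π, hpa, hpa, ZMod.natCast_zmod_val]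
  refine ⟨Pre M u ⧸ R, inferInstance, inferInstance, π a₀, π b₀, hgen, ?_, hbn, hba, hrep,
    fun i j hj h => (hindep i j hj h).1, ?_⟩
  · refine Nat.dvd_antisymm (orderOf_dvd_of_pow_eq_one ?_) ?_
    · rw [← map_pow π, hpa, ZMod.natCast_self, ofAdd_zero, map_one, map_one]
    · exact (hindep _ 0 hn (by rw [pow_zero, mul_one, pow_orderOf_eq_one])).2
  · intro H _ x y hx hy hyx
    have hconj : ∀ i : ℕ, y * x ^ i * y⁻¹ = x ^ (r * i) := fun i => by
      rw [← conj_pow, hyx, ← pow_mul]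
    let fA : Multiplicative (ZMod M) →* H := MonoidHom.mk' (fun v => x ^ (Multiplicative.toAdd v).val) fun v w => by
      rw [← pow_add, toAdd_mul, ZMod.val_add]
      exact (pow_eq_pow_mod _ hx).symm
    have hfA : ∀ i : ℕ, fA (Multiplicative.ofAdd (i : ZMod M)) = x ^ i := fun i => by
      show x ^ (i : ZMod M).val = x ^ i
      rw [ZMod.val_natCast, ← pow_eq_pow_mod i hx]
    let f₀ : Pre M u →* H := SemidirectProduct.lift fA (zpowersHom H y) (by
      intro g
      obtain ⟨j, rfl⟩ : ∃ j, Multiplicative.ofAdd j = g := ⟨_, rfl⟩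
      refine MonoidHom.ext fun v => ?_
      show fA ((scale M u ^ j) v) = y ^ j * fA v * (y ^ j)⁻¹
      induction j generalizing v with
      | zero => simp
      | succ j ih =>
        rw [zpow_add_one, MulAut.mul_apply, ih, zpow_add_one, mul_inv_rev]
        obtain ⟨w, rfl⟩ : ∃ w : ZMod M, Multiplicative.ofAdd w = v := ⟨_, rfl⟩
        rw [scale_apply, ← ZMod.natCast_zmod_val w, hur, ← Nat.cast_mul, hfA, hfA, ← hconj]
        group
      | pred j ih =>
        rw [zpow_sub_one, MulAut.mul_apply, ih, zpow_sub_one, mul_inv_rev, inv_inv]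
        have e : fA v = y * fA ((scale M u)⁻¹ v) * y⁻¹ := by
          obtain ⟨w, hw⟩ : ∃ w : ZMod M, Multiplicative.ofAdd w = (scale M u)⁻¹ v := ⟨_, rfl⟩
          rw [← hw, show v = scale M u (Multiplicative.ofAdd w) by rw [hw, MulAut.apply_inv_self],
            scale_apply, ← ZMod.natCast_zmod_val w, hur, ← Nat.cast_mul, hfA, hfA, hconj]
        rw [e]; group)
    refine ⟨QuotientGroup.lift R f₀ (Subgroup.zpowers_le.mpr ?_), ?_, ?_⟩
    · show fA (Multiplicative.ofAdd (-(t : ZMod M))) * y ^ ((n : ℕ) : ℤ) = 1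
      rw [ofAdd_neg, map_inv, hfA, zpow_natCast, hy, inv_mul_cancel]
    · show fA (Multiplicative.ofAdd (1 : ZMod M)) * y ^ (0 : ℤ) = x
      rw [zpow_zero, mul_one, ← Nat.cast_one, hfA, pow_one]
    · show fA 1 * y ^ (1 : ℤ) = y
      rw [map_one, one_mul, zpow_one]

/-- The arithmetic behind the cover. -/
theorem exists_parameter (m n r l : ℕ) (hm : 0 < m) (hr : 0 < r) (hrn : r ^ n ≡ 1 [MOD m])
    (L : ℕ) (hL : L = Nat.gcd l (Nat.gcd m (r - 1) * Nat.gcd m (∑ i ∈ Finset.range n, r ^ i) / m)) :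
    0 < L ∧ ∃ r' : ℕ, r' ≡ r [MOD m] ∧ r' ^ n ≡ 1 [MOD m * L] ∧
      r' * (m * l / Nat.gcd m (r - 1)) ≡ m * l / Nat.gcd m (r - 1) [MOD m * L] ∧
      r' * m ≡ m [MOD m * L] ∧ 0 < r' ∧ Nat.gcd (r' - 1) (m * L) ∣ m := by
  set d := Nat.gcd m (r - 1) with hd
  set S := ∑ i ∈ Finset.range n, r ^ i with hS
  set h := d * Nat.gcd m S / m with hh
  have hd0 : 0 < d := Nat.gcd_pos_of_pos_left _ hm
  obtain ⟨k, hk⟩ : d ∣ m := Nat.gcd_dvd_left _ _
  obtain ⟨q, hq⟩ : d ∣ r - 1 := Nat.gcd_dvd_right _ _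
  have hcop : q.Coprime k := by
    have := Nat.coprime_div_gcd_div_gcd (m := m) (n := r - 1) hd0
    rw [← hd] at this
    rw [hk, hq, Nat.mul_div_cancel_left _ hd0, Nat.mul_div_cancel_left _ hd0] at this
    exact this.symm
  have hgeom : ∀ s : ℕ, 0 < s → (s - 1) * (∑ i ∈ Finset.range n, s ^ i) + 1 = s ^ n := fun s hs => by
    obtain ⟨s', rfl⟩ := Nat.exists_eq_add_of_le hs
    have := geom_sum_mul_add s' n
    simp [add_comm 1 s'] at this ⊢
    rw [mul_comm]; exact this
  have hkS : k ∣ S := by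
    have h1 : m ∣ (r - 1) * S := by
      have := (Nat.modEq_iff_dvd' (Nat.one_le_pow _ _ hr)).mp hrn.symm
      rwa [← hgeom r hr, Nat.add_sub_cancel] at this
    rw [hk, hq, mul_assoc] at h1
    exact hcop.symm.dvd_of_dvd_mul_left (Nat.dvd_of_mul_dvd_mul_left hd0 h1)
  have hkm : k ∣ m := ⟨d, by rw [hk, mul_comm]⟩
  have hh' : k * h = Nat.gcd m S := by
    obtain ⟨w, hw⟩ : k ∣ Nat.gcd m S := Nat.dvd_gcd hkm hkS
    rw [hh, hw, ← mul_assoc, ← hk, Nat.mul_div_cancel_left _ hm]
  have hh0 : 0 < h := by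
    by_contra h0
    rw [Nat.eq_zero_of_not_pos h0, mul_zero] at hh'
    exact (Nat.gcd_pos_of_pos_left S hm).ne hh'
  have hL0 : 0 < L := hL ▸ Nat.gcd_pos_of_pos_right _ hh0
  refine ⟨hL0, ?_⟩
  have hk0 : 0 < k := by
    by_contra h0
    rw [Nat.eq_zero_of_not_pos h0, mul_zero] at hk
    omega
  haveI : NeZero (k * L) := ⟨(Nat.mul_pos hk0 hL0).ne'⟩
  obtain ⟨u, hu⟩ := ZMod.unitsMap_surjective (dvd_mul_right k L) (ZMod.unitOfCoprime q hcop)
  set w := (u : ZMod (k * L)).val + k * L with hw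
  have hwk : (w : ZMod k) = (q : ZMod k) := by
    have h2 := congrArg (fun v : (ZMod k)ˣ => (v : ZMod k)) hu
    simp only [ZMod.unitsMap_def, Units.coe_map, MonoidHom.coe_coe, ZMod.coe_unitOfCoprime] at h2
    rw [← h2, hw, ← ZMod.natCast_zmod_val (u : ZMod (k * L)), map_natCast]
    push_cast
    simp
  have hwc : w.Coprime (k * L) := by
    rw [hw, Nat.coprime_add_self_left]
    exact ZMod.val_coe_unit_coprime u
  have hLh : L ∣ h := hL ▸ Nat.gcd_dvd_right _ _
  have hLd : L ∣ d := by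
    refine hLh.trans ?_
    have h3 : k * h ∣ k * d := hh' ▸ by rw [mul_comm k d, ← hk]; exact Nat.gcd_dvd_left _ _
    exact Nat.dvd_of_mul_dvd_mul_left hk0 h3
  refine ⟨1 + d * w, ?_, ?_, ?_, ?_, by omega, ?_⟩
  · have h1 : d * w ≡ d * q [MOD d * k] := Nat.ModEq.mul_left' d ((ZMod.natCast_eq_natCast_iff _ _ _).mp hwk)
    rw [← hk, ← hq] at h1
    have := h1.add_left 1
    rwa [show 1 + (r - 1) = r by omega] at this
  · have hS' : (∑ i ∈ Finset.range n, (1 + d * w) ^ i) ≡ S [MOD m] := by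
      have h1 : d * w ≡ d * q [MOD d * k] := Nat.ModEq.mul_left' d ((ZMod.natCast_eq_natCast_iff _ _ _).mp hwk)
      rw [← hk, ← hq] at h1
      have h2 := h1.add_left 1
      rw [show 1 + (r - 1) = r by omega] at h2
      rw [hS, ← ZMod.natCast_eq_natCast_iff]
      push_cast
      have h3 := (ZMod.natCast_eq_natCast_iff _ _ _).mpr h2
      push_cast at h3
      rw [h3]
    have h4 : k * L ∣ ∑ i ∈ Finset.range n, (1 + d * w) ^ i := by
      have h5 : k * L ∣ Nat.gcd m S := hh' ▸ Nat.mul_dvd_mul_left k hLh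
      refine (Nat.ModEq.dvd_iff (hS'.of_dvd ?_) dvd_rfl).mpr (h5.trans (Nat.gcd_dvd_right _ _))
      exact h5.trans (Nat.gcd_dvd_left _ _)
    refine ((Nat.modEq_iff_dvd' (Nat.one_le_pow _ _ (by omega))).mpr ?_).symm
    rw [← hgeom _ (by omega : 0 < 1 + d * w), Nat.add_sub_cancel, Nat.add_sub_cancel_left, hk, mul_assoc d k L]
    exact Nat.mul_dvd_mul (dvd_mul_right _ _) h4
  · refine (Nat.modEq_of_dvd ?_).symm
    have e : m * l / d = k * l := by rw [hk, mul_assoc, Nat.mul_div_cancel_left _ hd0]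
    rw [e]
    obtain ⟨c, hc⟩ : L ∣ l := hL ▸ Nat.gcd_dvd_left _ _
    refine ⟨(w : ℤ) * c, ?_⟩
    rw [hk, hc]; push_cast; ring
  · refine (Nat.modEq_of_dvd ?_).symm
    obtain ⟨c, hc⟩ := hLd
    refine ⟨(c : ℤ) * w, ?_⟩
    rw [hc]; push_cast; ring
  · rw [Nat.add_sub_cancel_left, hk, mul_assoc, Nat.gcd_mul_left, Nat.Coprime.gcd_eq_one hwc, mul_one]
    exact dvd_mul_right _ _

/-- The stem extension with cyclic kernel of order `L`. -/
theorem exists_stem (m n r r' t L : ℕ) (hm : 0 < m) (hn : 0 < n) (hL : 0 < L)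
    (hr : r' ≡ r [MOD m]) (hrn : r' ^ n ≡ 1 [MOD m * L]) (hrt : r' * t ≡ t [MOD m * L])
    (hrm : r' * m ≡ m [MOD m * L]) (hr'0 : 0 < r') (hgcd : Nat.gcd (r' - 1) (m * L) ∣ m)
    {G : Type} [Group G] (a b : G) (hgen : Subgroup.closure ({a, b} : Set G) = ⊤) (ha : orderOf a = m)
    (hbn : b ^ n = a ^ t) (hba : b * a * b⁻¹ = a ^ r) (hind : ∀ i j : ℕ, j < n → a ^ i * b ^ j = 1 → j = 0) :
    ∃ (Γ : Type) (_ : Group Γ) (_ : Finite Γ) (σ : Γ →* G),
      Cfsg.IsStemExtension σ ∧ Nonempty (σ.ker ≃* Multiplicative (ZMod L)) := by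
  classical
  obtain ⟨Γ, i1, i2, x, y, hxy, hx, hyn, hyx, hrep, -, huniv⟩ := exists_model (m * L) n t r' (Nat.mul_pos hm hL) hn hrn hrt
  have hr1 : a ^ r' = a ^ r := pow_eq_pow_iff_modEq.mpr (ha ▸ hr)
  obtain ⟨σ, hσx, hσy⟩ := huniv G a b (by rw [pow_mul, ← ha, pow_orderOf_eq_one, one_pow]) hbn (by rw [hba, hr1])
  have hsurj : Function.Surjective σ := by
    rw [← MonoidHom.range_eq_top, eq_top_iff, ← hgen, Subgroup.closure_le]
    rintro g (rfl | rfl)
    · exact ⟨x, hσx⟩
    · exact ⟨y, hσy⟩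
  have hker : σ.ker = Subgroup.zpowers (x ^ m) := by
    refine le_antisymm (fun w hw => ?_) (Subgroup.zpowers_le.mpr (by
      rw [MonoidHom.mem_ker, map_pow, hσx, ← ha, pow_orderOf_eq_one]))
    obtain ⟨i, j, hj, rfl⟩ := hrep w
    rw [MonoidHom.mem_ker, map_mul, map_pow, map_pow, hσx, hσy] at hw
    have hj0 := hind i j hj hw
    subst hj0
    rw [pow_zero, mul_one] at hw ⊢
    obtain ⟨c, rfl⟩ : m ∣ i := ha ▸ orderOf_dvd_of_pow_eq_one hw
    rw [pow_mul]
    exact Subgroup.npow_mem_zpowers _ c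
  have hxm : orderOf (x ^ m) = L := by
    rw [orderOf_pow' x hm.ne', hx, Nat.gcd_eq_right (dvd_mul_right m L), Nat.mul_div_cancel_left _ hm]
  have hcen : x ^ m ∈ Subgroup.center Γ := by
    have : (⊤ : Subgroup Γ) ≤ Subgroup.centralizer {x ^ m} := by
      rw [← hxy, Subgroup.closure_le]
      rintro g (rfl | rfl) <;> rw [SetLike.mem_coe, Subgroup.mem_centralizer_singleton_iff]
      · exact ((Commute.refl _).pow_right m).eq
      · have h1 : g * x ^ m * g⁻¹ = x ^ m := by
          rw [← conj_pow, hyx, ← pow_mul]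
          exact pow_eq_pow_iff_modEq.mpr (hx ▸ hrm)
        exact mul_inv_eq_iff_eq_mul.mp h1
    exact Subgroup.mem_center_iff.mpr fun g => Subgroup.mem_centralizer_singleton_iff.mp (this (Subgroup.mem_top g))
  refine ⟨Γ, i1, i2, σ, ⟨hsurj, hker ▸ Subgroup.zpowers_le.mpr hcen, hker ▸ Subgroup.zpowers_le.mpr ?_⟩, ?_⟩
  · have hc : x ^ (r' - 1) ∈ commutator Γ := by
      have e : ⁅y, x⁆ = x ^ (r' - 1) := by
        rw [commutatorElement_def, hyx, mul_inv_eq_iff_eq_mul, ← pow_succ, Nat.sub_add_cancel hr'0]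
      rw [← e, _root_.commutator_def]
      exact Subgroup.commutator_mem_commutator (Subgroup.mem_top _) (Subgroup.mem_top _)
    have hg : x ^ Nat.gcd (r' - 1) (m * L) ∈ commutator Γ := by
      rw [← zpow_natCast, Nat.gcd_eq_gcd_ab, zpow_add, zpow_mul, zpow_mul, zpow_natCast, zpow_natCast,
        ← hx, pow_orderOf_eq_one, one_zpow, mul_one]
      exact zpow_mem hc _
    obtain ⟨c, hc'⟩ := hgcd
    rw [hc', pow_mul]
    exact pow_mem hg c
  · have hc : Nat.card σ.ker = L := by rw [hker, Nat.card_zpowers, hxm]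
    haveI : IsCyclic σ.ker := by rw [hker]; infer_instance
    exact ⟨mulEquivOfCyclicCardEq (hc.trans ((Nat.card_congr Multiplicative.toAdd).trans (Nat.card_zmod L)).symm)⟩

end Cfsg.Agent.GStructB.Metacyclic
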