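import Cfsg.Agent.GStructB.FrobeniusCount
import Cfsg.Agent.Lib.PLocal.CyclicExtension
import Cfsg.Agent.Lib.PGroups.Basic
import Mathlib

/-!
Miller's congruence: for odd `p` and a non-cyclic Sylow `p`-subgroup, `p ^ s` divides the number of
elements of order `p ^ s` for `s ≥ 2`.
-/

set_option autoImplicit false

namespace Cfsg.Agent.GStructB.MillerCount

open scoped Pointwise commutatorElement

universe u

variable {G : Type u} [Group G]

/-- Elements of order `n` whose cyclic subgroup satisfies `Q`, counted by subgroups. -/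
theorem card_orderOf_eq_mul [Finite G] (n : ℕ) (hn : 0 < n) (Q : Subgroup G → Prop) :
    Nat.card {x : G // orderOf x = n ∧ Q (Subgroup.zpowers x)} =
      Nat.card {C : Subgroup G // IsCyclic C ∧ Nat.card C = n ∧ Q C} * Nat.totient n := by
  classical
  have := Fintype.ofFinite G
  let f : (Σ C : {C : Subgroup G // IsCyclic C ∧ Nat.card C = n ∧ Q C}, {x : C.1 // orderOf x = n}) →
      {x : G // orderOf x = n ∧ Q (Subgroup.zpowers x)} := fun σ =>
    ⟨σ.2.1, by rw [Subgroup.orderOf_coe]; exact σ.2.2, by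
      have : Subgroup.zpowers ((σ.2.1 : σ.1.1) : G) = σ.1.1 := by
        refine Subgroup.eq_of_le_of_card_ge (Subgroup.zpowers_le.mpr σ.2.1.2) ?_
        rw [Nat.card_zpowers, Subgroup.orderOf_coe, σ.2.2, σ.1.2.2.1]
      rw [this]; exact σ.1.2.2.2⟩
  have hf : Function.Bijective f := by
    constructor
    · rintro ⟨⟨C, hC⟩, ⟨⟨x, hx⟩, ho⟩⟩ ⟨⟨D, hD⟩, ⟨⟨y, hy⟩, ho'⟩⟩ h
      have hxy : x = y := congrArg Subtype.val h
      subst hxy
      have h1 : C = Subgroup.zpowers x := (Subgroup.eq_of_le_of_card_ge (Subgroup.zpowers_le.mpr hx)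
        (by rw [Nat.card_zpowers, hC.2.1, ← ho, Subgroup.orderOf_mk])).symm
      have h2 : D = Subgroup.zpowers x := (Subgroup.eq_of_le_of_card_ge (Subgroup.zpowers_le.mpr hy)
        (by rw [Nat.card_zpowers, hD.2.1, ← ho', Subgroup.orderOf_mk])).symm
      subst h1
      subst h2
      rfl
    · rintro ⟨x, hx, hQ⟩
      exact ⟨⟨⟨Subgroup.zpowers x, inferInstance, by rw [Nat.card_zpowers, hx], hQ⟩,
        ⟨⟨x, Subgroup.mem_zpowers x⟩, by rw [Subgroup.orderOf_mk, hx]⟩⟩, rfl⟩
  rw [← Nat.card_congr (Equiv.ofBijective f hf), Nat.card_sigma]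
  have hC : ∀ C : {C : Subgroup G // IsCyclic C ∧ Nat.card C = n ∧ Q C},
      Nat.card {x : C.1 // orderOf x = n} = Nat.totient n := by
    rintro ⟨C, hcyc, hc, -⟩
    rw [Nat.card_eq_fintype_card, Fintype.card_subtype]
    exact IsCyclic.card_orderOf_eq_totient (by rw [← Nat.card_eq_fintype_card, hc])
  rw [Finset.sum_congr rfl fun C _ => hC C, Finset.sum_const, Finset.card_univ, smul_eq_mul,
    Nat.card_eq_fintype_card]

/-- A generator of a normal cyclic subgroup of a `p`-group is conjugated to powers `≡ 1 (mod p)`. -/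
theorem exists_conj_eq_pow [Finite G] {p : ℕ} [hp : Fact p.Prime] (hG : IsPGroup p G) {x g : G} {s : ℕ}
    (hs : 0 < s) (hx : orderOf x = p ^ s) (hn : ∀ h : G, h * x * h⁻¹ ∈ Subgroup.zpowers x) :
    ∃ k : ℕ, g * x * g⁻¹ = x ^ k ∧ k ≡ 1 [MOD p] := by
  obtain ⟨k, hk⟩ := Submonoid.mem_powers_iff _ _ |>.mp (mem_powers_iff_mem_zpowers.mpr (hn g))
  refine ⟨k, hk.symm, ?_⟩
  have hpow : ∀ j : ℕ, g ^ j * x * (g ^ j)⁻¹ = x ^ k ^ j := by
    intro j
    induction j with
    | zero => simp
    | succ j ih =>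
      rw [pow_succ' g, show g * g ^ j * x * (g * g ^ j)⁻¹ = g * (g ^ j * x * (g ^ j)⁻¹) * g⁻¹ by group,
        ih, ← conj_pow, ← hk, ← pow_mul, pow_succ']
  obtain ⟨a, ha⟩ := hG g
  have h1 := hpow (p ^ a)
  rw [ha, one_mul, inv_one, mul_one] at h1
  have h2 : k ^ p ^ a ≡ 1 [MOD p] := by
    refine Nat.ModEq.of_dvd (hx ▸ dvd_pow_self p hs.ne') ?_
    exact pow_eq_pow_iff_modEq.mp ((pow_one x).symm ▸ h1.symm)
  rw [← ZMod.natCast_eq_natCast_iff] at h2 ⊢
  rwa [Nat.cast_pow, ZMod.pow_card_pow] at h2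

/-- The elements of order `p ^ s` generating normal subgroups, counted with an auxiliary `E`. -/
theorem dvd_card_normal_of_aux [Finite G] {p : ℕ} [hp : Fact p.Prime] (hG : IsPGroup p G) (hp2 : p ≠ 2)
    (s : ℕ) (hs : 2 ≤ s) (E : Subgroup G) [E.Normal] (hEc : IsMulCommutative E)
    (hEp : ∀ e ∈ E, e ^ p = 1) (hE2 : p ^ 2 ∣ Nat.card E)
    (hcomm : ∀ x : G, orderOf x = p ^ s → (∀ h : G, h * x * h⁻¹ ∈ Subgroup.zpowers x) →
      ∀ e ∈ E, ∀ g : G, ⁅e, g⁆ ∈ Subgroup.zpowers (x ^ p ^ (s - 1))) :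
    p ^ s ∣ Nat.card {x : G // orderOf x = p ^ s ∧ ∀ h : G, h * x * h⁻¹ ∈ Subgroup.zpowers x} := by
  classical
  have hpp : p.Prime := hp.out
  have := Fintype.ofFinite G
  let X := {x : G | orderOf x = p ^ s ∧ ∀ h : G, h * x * h⁻¹ ∈ Subgroup.zpowers x}
  let f : G → Subgroup G := fun x => Subgroup.zpowers x ⊔ E
  let B : G → Subgroup G := fun x => Subgroup.zpowers (x ^ p) ⊔ E
  suffices H : ∀ x ∈ X, p ^ s ∣ (X.toFinset.filter fun y => f y = f x).card by
    rw [Nat.card_eq_fintype_card, Fintype.card_subtype,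
      show (Finset.univ.filter fun x : G => orderOf x = p ^ s ∧
        ∀ h : G, h * x * h⁻¹ ∈ Subgroup.zpowers x) = X.toFinset by ext; simp [X],
      Finset.card_eq_sum_card_image f]
    refine Finset.dvd_sum fun C hC => ?_
    obtain ⟨x, hx, rfl⟩ := Finset.mem_image.mp hC
    exact H x (Set.mem_toFinset.mp hx)
  rintro x ⟨hx, hxn⟩
  set w := x ^ p ^ (s - 1) with hw
  have hwp : orderOf w = p := by
    rw [hw, orderOf_pow_of_dvd (pow_ne_zero _ hpp.ne_zero) (hx ▸ pow_dvd_pow p (by omega)), hx,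
      Nat.pow_div (by omega) hpp.pos, show s - (s - 1) = 1 by omega, pow_one]
  have hwc : ∀ g : G, g * w = w * g := fun g => by
    obtain ⟨k, hk, hk1⟩ := exists_conj_eq_pow hG (g := g) (by omega) hx hxn
    have h1 : g * w * g⁻¹ = w := by
      rw [hw, ← conj_pow, hk, ← pow_mul, mul_comm, pow_mul, ← hw]
      conv_rhs => rw [← pow_one w]
      exact pow_eq_pow_iff_modEq.mpr (hwp.symm ▸ hk1)
    exact mul_inv_eq_iff_eq_mul.mp h1
  have hWz : ∀ z ∈ Subgroup.zpowers w, ∀ g : G, g * z = z * g := by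
    rintro z ⟨j, rfl⟩ g
    exact (Commute.zpow_right (hwc g) j).eq
  -- products of a generator with an element of `E`
  have hmem : ∀ (i : ℕ) (e : G), ¬ p ∣ i → e ∈ E → x ^ i * e ∈ X ∧ f (x ^ i * e) = f x := by
    intro i e hi he
    have hcop : i.Coprime (p ^ s) := ((hpp.coprime_iff_not_dvd.mpr hi).symm).pow_right s
    set c := x ^ i with hc
    have hcord : orderOf c = p ^ s := by rw [hc, Nat.Coprime.orderOf_pow (hx ▸ hcop.symm), hx]
    have hz : ⁅e, c⁆ ∈ Subgroup.zpowers w := hcomm x hx hxn e he c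
    have hep : e ^ p = 1 := hEp e he
    have hpw : ∀ j : ℕ, (c * e) ^ j = c ^ j * e ^ j * ⁅e, c⁆ ^ j.choose 2 := fun j => by
      have hb : e * c = c * e * ⁅e, c⁆ := by
        rw [← mul_inv_cancel_right (e * c) (c * e), hWz _ hz (c * e)]
        rw [commutatorElement_def]; group
      have hcc : Commute ⁅e, c⁆ c := (hWz _ hz c).symm
      have hce : Commute ⁅e, c⁆ e := (hWz _ hz e).symm
      generalize ⁅e, c⁆ = z at hb hcc hce ⊢
      induction j with
      | zero => simp
      | succ j ih =>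
        have hsw : ∀ m : ℕ, e ^ m * c = c * e ^ m * z ^ m := by
          intro m
          induction m with
          | zero => simp
          | succ m ihm =>
            calc e ^ (m + 1) * c = e * (e ^ m * c) := by rw [pow_succ', mul_assoc]
              _ = (e * c) * e ^ m * z ^ m := by rw [ihm]; group
              _ = c * e * (z * e ^ m) * z ^ m := by rw [hb]; group
              _ = c * e * (e ^ m * z) * z ^ m := by rw [(hce.pow_right m).eq]
              _ = _ := by rw [pow_succ' e, pow_succ' z]; group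
        have hch : (j + 1).choose 2 = j + j.choose 2 := by
          rw [Nat.choose_succ_succ, Nat.choose_one_right]
        rw [pow_succ, ih, hch]
        calc c ^ j * e ^ j * z ^ j.choose 2 * (c * e)
            = c ^ j * e ^ j * (z ^ j.choose 2 * c) * e := by group
          _ = c ^ j * (e ^ j * c) * (z ^ j.choose 2 * e) := by rw [(hcc.pow_left _).eq]; group
          _ = c ^ j * (c * e ^ j * z ^ j) * (e * z ^ j.choose 2) := by
              rw [hsw, (hce.pow_left _).eq]
          _ = c ^ j * c * e ^ j * (z ^ j * e) * z ^ j.choose 2 := by group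
          _ = c ^ j * c * e ^ j * (e * z ^ j) * z ^ j.choose 2 := by rw [(hce.pow_left _).eq]
          _ = _ := by rw [pow_succ c, pow_succ e, pow_add]; group
    have hbp : ⁅e, c⁆ ^ p = 1 := by
      obtain ⟨j, hj⟩ := hz
      have hj' : w ^ j = ⁅e, c⁆ := hj
      have : w ^ p = 1 := hwp ▸ pow_orderOf_eq_one w
      rw [← hj', ← zpow_natCast, ← zpow_mul, mul_comm, zpow_mul, zpow_natCast, this, one_zpow]
    have hyp : (c * e) ^ p = c ^ p := by
      obtain ⟨d, hd⟩ : p ∣ p.choose 2 :=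
        hpp.dvd_choose_self two_ne_zero (lt_of_le_of_ne hpp.two_le (Ne.symm hp2))
      rw [hpw, hep, mul_one, hd, pow_mul, hbp, one_pow, mul_one]
    have hcp : orderOf (c ^ p) = p ^ (s - 1) := by
      rw [orderOf_pow_of_dvd hpp.ne_zero (hcord ▸ dvd_pow_self p (by omega)), hcord]
      exact Nat.div_eq_of_eq_mul_left hpp.pos (by rw [← pow_succ, show s - 1 + 1 = s by omega])
    have hyord : orderOf (c * e) = p ^ s := by
      have h1 : orderOf (c * e) ∣ p ^ s := by
        rw [orderOf_dvd_iff_pow_eq_one, show s = 1 + (s - 1) by omega, pow_add, pow_one, pow_mul, hyp]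
        exact hcp ▸ pow_orderOf_eq_one (c ^ p)
      obtain ⟨j, hj, hjo⟩ := (Nat.dvd_prime_pow hpp).mp h1
      rcases Nat.lt_or_ge j s with hlt | hge
      · exfalso
        rcases Nat.eq_zero_or_pos j with rfl | hj0
        · rw [pow_zero, orderOf_eq_one_iff] at hjo
          rw [hjo, one_pow] at hyp
          rw [← hyp, orderOf_one] at hcp
          exact absurd hcp.symm (Nat.one_lt_pow (by omega) hpp.one_lt).ne'
        · have h2 : (c ^ p) ^ p ^ (j - 1) = 1 := by
            rw [← hyp, ← pow_mul, ← pow_succ', show j - 1 + 1 = j by omega, ← hjo, pow_orderOf_eq_one]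
          have h3 := Nat.le_of_dvd (pow_pos hpp.pos _) (hcp ▸ orderOf_dvd_of_pow_eq_one h2)
          exact absurd h3 (not_le.mpr (Nat.pow_lt_pow_right hpp.one_lt (by omega)))
      · rw [hjo, show j = s by omega]
    have hwy : Subgroup.zpowers w ≤ Subgroup.zpowers (c * e) := by
      have h1 : Subgroup.zpowers (c ^ p) ≤ Subgroup.zpowers (c * e) := by
        rw [Subgroup.zpowers_le, ← hyp]; exact Subgroup.pow_mem _ (Subgroup.mem_zpowers _) _
      refine le_trans ?_ h1
      have hci : w ^ i ∈ Subgroup.zpowers (c ^ p) := by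
        have he2 : p ^ (s - 1) = p * p ^ (s - 2) := by
          rw [← pow_succ', show s - 2 + 1 = s - 1 by omega]
        have he3 : w ^ i = (c ^ p) ^ p ^ (s - 2) := by
          rw [hw, hc, ← pow_mul, ← pow_mul, ← pow_mul, he2]; congr 1; ring
        rw [he3]
        exact Subgroup.pow_mem _ (Subgroup.mem_zpowers _) _
      refine le_trans (le_of_eq ?_) (Subgroup.zpowers_le.mpr hci)
      refine (Subgroup.eq_of_le_of_card_ge (Subgroup.zpowers_le.mpr
        (Subgroup.pow_mem _ (Subgroup.mem_zpowers w) i)) ?_).symm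
      rw [Nat.card_zpowers, Nat.card_zpowers, Nat.Coprime.orderOf_pow
        (show (orderOf w).Coprime i by rw [hwp]; exact hpp.coprime_iff_not_dvd.mpr hi)]
    refine ⟨⟨hyord, fun g => ?_⟩, ?_⟩
    · obtain ⟨k, hk, hk1⟩ := exists_conj_eq_pow hG (g := g) (by omega) hx hxn
      have hek : e ^ k = e := by
        conv_rhs => rw [← pow_one e]
        exact pow_eq_pow_iff_modEq.mpr (hk1.of_dvd (orderOf_dvd_of_pow_eq_one hep))
      have hge : g * e * g⁻¹ = e * ⁅e⁻¹, g⁆ := by
        rw [commutatorElement_def, inv_inv]; group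
      have hck : c ^ k = g * c * g⁻¹ := by
        rw [hc, ← conj_pow, hk, ← pow_mul, ← pow_mul, mul_comm]
      have hgy : g * (c * e) * g⁻¹ = (c * e) ^ k * ((⁅e, c⁆ ^ k.choose 2)⁻¹ * ⁅e⁻¹, g⁆) := by
        rw [hpw, hek, hck]
        calc g * (c * e) * g⁻¹ = g * c * g⁻¹ * (g * e * g⁻¹) := by group
          _ = _ := by rw [hge]; group
      rw [hgy]
      exact mul_mem (Subgroup.pow_mem _ (Subgroup.mem_zpowers _) _)
        (hwy (mul_mem (inv_mem (Subgroup.pow_mem _ hz _)) (hcomm x hx hxn _ (inv_mem he) g)))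
    · refine le_antisymm (sup_le (Subgroup.zpowers_le.mpr ?_) le_sup_right)
        (sup_le (Subgroup.zpowers_le.mpr ?_) le_sup_right)
      · exact mul_mem (Subgroup.mem_sup_left (Subgroup.pow_mem _ (Subgroup.mem_zpowers x) i))
          (Subgroup.mem_sup_right he)
      · have h1 : x ^ i ∈ f (c * e) := by
          rw [show x ^ i = c * e * e⁻¹ by rw [mul_inv_cancel_right]]
          exact mul_mem (Subgroup.mem_sup_left (Subgroup.mem_zpowers _)) (Subgroup.mem_sup_right (inv_mem he))
        obtain ⟨j, hj⟩ := exists_pow_eq_self_of_coprime (x := x) (hx ▸ hcop)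
        rw [← hj]
        exact Subgroup.pow_mem _ h1 j
  -- the fibre of `f` through `x`
  have hset : (X.toFinset.filter fun y => f y = f x) = Finset.univ.filter fun y => y ∈ f x ∧ y ∉ B x := by
    ext y
    simp only [Finset.mem_filter, Set.mem_toFinset, Finset.mem_univ, true_and]
    constructor
    · rintro ⟨hy, hfy⟩
      refine ⟨hfy ▸ Subgroup.mem_sup_left (Subgroup.mem_zpowers y), fun hyB => ?_⟩
      have hle : f x ≤ B x := hfy ▸ sup_le (Subgroup.zpowers_le.mpr hyB) le_sup_right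
      obtain ⟨u, hu, e, he, hue⟩ := Subgroup.mem_sup_of_normal_right.mp
        (hle (Subgroup.mem_sup_left (Subgroup.mem_zpowers x)))
      obtain ⟨j, rfl⟩ := hu
      have he' : x ^ ((1 : ℤ) - p * j) = e := by
        rw [sub_eq_neg_add, zpow_add, zpow_one, zpow_neg, zpow_mul, zpow_natCast]
        exact inv_mul_eq_iff_eq_mul.mpr hue.symm
      have h2 : x ^ (((1 : ℤ) - p * j) * p) = 1 := by
        rw [zpow_mul, he', zpow_natCast]; exact hEp e he
      rw [← orderOf_dvd_iff_zpow_eq_one, hx, show s = (s - 2) + 1 + 1 by omega, pow_succ, pow_succ] at h2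
      push_cast at h2
      have h3 : (p : ℤ) ^ (s - 2) * p ∣ 1 - p * j :=
        Int.dvd_of_mul_dvd_mul_right (by exact_mod_cast hpp.ne_zero) h2
      have h4 := Int.dvd_add (dvd_trans (dvd_mul_left _ _) h3) (dvd_mul_right (p : ℤ) j)
      rw [sub_add_cancel] at h4
      have : p ∣ 1 := by exact_mod_cast h4
      exact hpp.ne_one (Nat.dvd_one.mp this)
    · rintro ⟨hy, hyB⟩
      obtain ⟨u, hu, e, he, rfl⟩ := Subgroup.mem_sup_of_normal_right.mp hy
      obtain ⟨i, rfl⟩ := Submonoid.mem_powers_iff _ _ |>.mp (mem_powers_iff_mem_zpowers.mpr hu)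
      refine hmem i e (fun ⟨d, hd⟩ => hyB ?_) he
      rw [hd, pow_mul]
      exact mul_mem (Subgroup.mem_sup_left (Subgroup.pow_mem _ (Subgroup.mem_zpowers _) _))
        (Subgroup.mem_sup_right he)
  have hBA : B x ≤ f x := sup_le ((Subgroup.zpowers_le.mpr
    (Subgroup.pow_mem _ (Subgroup.mem_zpowers x) p)).trans le_sup_left) le_sup_right
  rw [hset, show (Finset.univ.filter fun y => y ∈ f x ∧ y ∉ B x).card =
      ((f x : Set G) \ (B x : Set G)).ncard by
    rw [← Set.ncard_coe_finset]; congr 1; ext; simp,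
    Set.ncard_sdiff (SetLike.coe_subset_coe.mpr hBA), ← Nat.card_coe_set_eq, ← Nat.card_coe_set_eq]
  have hB : p ^ s ∣ Nat.card (B x) := by
    obtain ⟨j, hj⟩ := (hG.to_subgroup (B x)).exists_card_eq
    rw [hj]
    refine pow_dvd_pow p ?_
    by_contra hlt
    have hcxp : Nat.card (Subgroup.zpowers (x ^ p)) = p ^ (s - 1) := by
      rw [Nat.card_zpowers, orderOf_pow_of_dvd hpp.ne_zero (hx ▸ dvd_pow_self p (by omega)), hx]
      exact Nat.div_eq_of_eq_mul_left hpp.pos (by rw [← pow_succ, show s - 1 + 1 = s by omega])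
    have heq : Subgroup.zpowers (x ^ p) = B x := Subgroup.eq_of_le_of_card_ge le_sup_left (by
      rw [hj, hcxp]; exact Nat.pow_le_pow_right hpp.pos (by omega))
    have hEle : E ≤ Subgroup.zpowers (x ^ p) := heq.symm ▸ le_sup_right
    have : IsCyclic E := isCyclic_of_injective (Subgroup.inclusion hEle) (Subgroup.inclusion_injective hEle)
    obtain ⟨g, hg⟩ := IsCyclic.exists_ofOrder_eq_natCard (α := E)
    have h1 : orderOf g ∣ p := orderOf_dvd_of_pow_eq_one (Subtype.ext (by simpa using hEp g g.2))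
    have h5 := Nat.le_of_dvd hpp.pos (hE2.trans (hg ▸ h1))
    exact absurd h5 (not_le.mpr (by nlinarith [hpp.two_le]))
  exact Nat.dvd_sub (hB.trans (Subgroup.card_dvd_of_le hBA)) hB

/-- In a non-cyclic `p`-group, `p` odd, `p ^ s` divides the number of elements of order `p ^ s`
generating normal subgroups. -/
theorem dvd_card_normal [Finite G] {p : ℕ} [hp : Fact p.Prime] (hG : IsPGroup p G) (hp2 : p ≠ 2)
    (hnc : ¬ IsCyclic G) (s : ℕ) (hs : 2 ≤ s) :
    p ^ s ∣ Nat.card {x : G // orderOf x = p ^ s ∧ ∀ h : G, h * x * h⁻¹ ∈ Subgroup.zpowers x} := by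
  classical
  have hpp : p.Prime := hp.out
  let Z : Subgroup G :=
    { carrier := {z | z ∈ Subgroup.center G ∧ z ^ p = 1}
      one_mem' := ⟨one_mem _, one_pow p⟩
      mul_mem' := fun {a b} ha hb => ⟨mul_mem ha.1 hb.1, by
        rw [Commute.mul_pow (Subgroup.mem_center_iff.mp hb.1 a), ha.2, hb.2, one_mul]⟩
      inv_mem' := fun {a} ha => ⟨inv_mem ha.1, by rw [inv_pow, ha.2, inv_one]⟩ }
  have hZn : Z.Normal := ⟨fun z hz g => by
    rw [Subgroup.mem_center_iff.mp hz.1 g, mul_inv_cancel_right]; exact hz⟩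
  obtain ⟨j, hj⟩ := (hG.to_subgroup Z).exists_card_eq
  rcases Nat.lt_or_ge j 2 with hlt | hge
  · obtain ⟨E, -, hEn, ⟨hEc, hEp⟩, hE⟩ := PLocal.CyclicExtension.exists_normal_elementaryAbelian_sq
      hp2 hG ⊤ (fun hc => hnc ((Subgroup.topEquiv.isCyclic).mp hc))
    refine dvd_card_normal_of_aux hG hp2 s hs E hEc hEp hE.symm.dvd fun x hx hxn e he g => ?_
    have := hEn
    have hw : orderOf (x ^ p ^ (s - 1)) = p := by
      rw [orderOf_pow_of_dvd (pow_ne_zero _ hpp.ne_zero) (hx ▸ pow_dvd_pow p (by omega)), hx,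
        Nat.pow_div (by omega) hpp.pos, show s - (s - 1) = 1 by omega, pow_one]
    have hwZ : Subgroup.zpowers (x ^ p ^ (s - 1)) ≤ Z := by
      rw [Subgroup.zpowers_le]
      refine ⟨Subgroup.mem_center_iff.mpr fun h => ?_, (orderOf_dvd_iff_pow_eq_one.mp (dvd_of_eq hw))⟩
      obtain ⟨k, hk, hk1⟩ := exists_conj_eq_pow hG (g := h) (by omega) hx hxn
      apply mul_inv_eq_iff_eq_mul.mp
      rw [← conj_pow, hk, ← pow_mul, mul_comm, pow_mul]
      conv_rhs => rw [← pow_one (x ^ p ^ (s - 1))]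
      exact pow_eq_pow_iff_modEq.mpr (hw.symm ▸ hk1)
    have hZeq : Subgroup.zpowers (x ^ p ^ (s - 1)) = Z := Subgroup.eq_of_le_of_card_ge hwZ (by
      rw [hj, Nat.card_zpowers, hw]
      calc p ^ j ≤ p ^ 1 := Nat.pow_le_pow_right hpp.pos (by omega)
        _ = p := pow_one p)
    rw [hZeq]
    have := hG.isNilpotent
    -- the commutator subgroup of `E` with the group is a proper normal subgroup of `E`
    have hlt : ⁅E, (⊤ : Subgroup G)⁆ < E := by
      refine lt_of_le_of_ne (Subgroup.commutator_le_left E ⊤) fun h => ?_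
      have hbot : E ≤ ⊥ := by
        refine PGroups.Basic.le_of_le_commutator_sup E ⊥ ?_
        rw [h, sup_bot_eq]
      rw [le_bot_iff] at hbot
      rw [hbot, Subgroup.card_bot] at hE
      exact absurd hE.symm (Nat.one_lt_pow two_ne_zero hpp.one_lt).ne'
    obtain ⟨i, hi⟩ := (hG.to_subgroup ⁅E, (⊤ : Subgroup G)⁆).exists_card_eq
    have hi1 : i ≤ 1 := by
      by_contra h
      exact hlt.ne (Subgroup.eq_of_le_of_card_ge hlt.le (by
        rw [hE, hi]; exact Nat.pow_le_pow_right hpp.pos (by omega)))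
    have hmem : ⁅e, g⁆ ∈ ⁅E, (⊤ : Subgroup G)⁆ := Subgroup.commutator_mem_commutator he (Subgroup.mem_top g)
    refine ⟨Subgroup.mem_center_iff.mpr fun h => ?_, hEp _ (hlt.le hmem)⟩
    rcases Nat.le_one_iff_eq_zero_or_eq_one.mp hi1 with rfl | rfl
    · rw [pow_zero, Subgroup.card_eq_one] at hi
      rw [hi, Subgroup.mem_bot] at hmem
      rw [hmem, mul_one, one_mul]
    · have hsmall : ⁅⁅E, (⊤ : Subgroup G)⁆, (⊤ : Subgroup G)⁆ = ⊥ := by
        by_contra hne
        have hle := Subgroup.commutator_le_left ⁅E, (⊤ : Subgroup G)⁆ ⊤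
        have heq : ⁅⁅E, (⊤ : Subgroup G)⁆, (⊤ : Subgroup G)⁆ = ⁅E, ⊤⁆ := by
          have hd := Subgroup.card_dvd_of_le hle
          rw [hi, pow_one] at hd
          rcases (Nat.dvd_prime hpp).mp hd with h1 | h1
          · exact absurd (Subgroup.card_eq_one.mp h1) hne
          · exact Subgroup.eq_of_le_of_card_ge hle (by rw [h1, hi, pow_one])
        have hbot : ⁅E, (⊤ : Subgroup G)⁆ ≤ ⊥ := by
          refine PGroups.Basic.le_of_le_commutator_sup _ ⊥ ?_
          rw [heq, sup_bot_eq]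
        rw [le_bot_iff] at hbot
        rw [hbot, Subgroup.card_bot, pow_one] at hi
        exact hpp.ne_one hi.symm
      have h1 : ⁅⁅e, g⁆, h⁆ = 1 := by
        rw [← Subgroup.mem_bot, ← hsmall]
        exact Subgroup.commutator_mem_commutator hmem (Subgroup.mem_top h)
      exact (commutatorElement_eq_one_iff_mul_comm.mp h1).symm
  · refine dvd_card_normal_of_aux hG hp2 s hs Z
      ⟨⟨fun a b => Subtype.ext (Subgroup.mem_center_iff.mp b.2.1 a)⟩⟩ (fun e he => he.2)
      (hj ▸ pow_dvd_pow p hge) fun x _ _ e he g => ?_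
    rw [commutatorElement_eq_one_iff_mul_comm.mpr (Subgroup.mem_center_iff.mp he.1 g).symm]
    exact one_mem _

/-- Miller's congruence for a finite group. -/
theorem dvd_card_orderOf_eq [Finite G] {p : ℕ} [hp : Fact p.Prime] (hp2 : p ≠ 2) (P : Sylow p G)
    (hnc : ¬ IsCyclic (P : Subgroup G)) (s : ℕ) (hs : 2 ≤ s) :
    p ^ s ∣ Nat.card {x : G // orderOf x = p ^ s} := by
  classical
  have hpp : p.Prime := hp.out
  let Cy := {C : Subgroup G // IsCyclic C ∧ Nat.card C = p ^ s ∧ True}
  have hmap : ∀ (g : G) (C : Cy),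
      IsCyclic ↥(MulAut.conj g • C.1) ∧ Nat.card ↥(MulAut.conj g • C.1) = p ^ s ∧ True := by
    intro g C
    refine ⟨?_, ?_, trivial⟩
    · have := C.2.1
      exact (Subgroup.equivSMul (MulAut.conj g) C.1).isCyclic.mp this
    · rw [← Nat.card_congr (Subgroup.equivSMul (MulAut.conj g) C.1).toEquiv, C.2.2.1]
  letI : MulAction (P : Subgroup G) Cy :=
    { smul := fun g C => ⟨MulAut.conj (g : G) • C.1, hmap g C⟩
      one_smul := fun C => Subtype.ext (by
        show MulAut.conj ((1 : (P : Subgroup G)) : G) • C.1 = C.1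
        simp)
      mul_smul := fun g h C => Subtype.ext (by
        show MulAut.conj ((g * h : (P : Subgroup G)) : G) • C.1 =
          MulAut.conj (g : G) • MulAut.conj (h : G) • C.1
        rw [Subgroup.coe_mul, map_mul, mul_smul]) }
  have hmod := P.2.card_modEq_card_fixedPoints Cy
  -- a fixed cyclic subgroup lies in `P` and is normal there
  let X := {x : (P : Subgroup G) // orderOf x = p ^ s ∧
    ∀ h : (P : Subgroup G), h * x * h⁻¹ ∈ Subgroup.zpowers x}
  have hdvd : p ^ s ∣ Nat.card X := dvd_card_normal P.2 hp2 hnc s hs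
  let Qf : Subgroup G → Prop := fun C => ∀ g ∈ (P : Subgroup G), MulAut.conj g • C = C
  have hfix : Nat.card (MulAction.fixedPoints (P : Subgroup G) Cy) * Nat.totient (p ^ s) = Nat.card X := by
    have he : Nat.card (MulAction.fixedPoints (P : Subgroup G) Cy) =
        Nat.card {C : Subgroup G // IsCyclic C ∧ Nat.card C = p ^ s ∧ Qf C} := Nat.card_congr
      { toFun := fun C => ⟨C.1.1, C.1.2.1, C.1.2.2.1, fun g hg => congrArg Subtype.val (C.2 ⟨g, hg⟩)⟩
        invFun := fun C => ⟨⟨C.1, C.2.1, C.2.2.1, trivial⟩, fun g => Subtype.ext (C.2.2.2 g g.2)⟩ }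
    rw [he, ← card_orderOf_eq_mul (p ^ s) (pow_pos hpp.pos s) Qf]
    have hin : ∀ x : G, orderOf x = p ^ s → Qf (Subgroup.zpowers x) → x ∈ (P : Subgroup G) := by
      intro x hx hQ
      have hN : (P : Subgroup G) ≤ Subgroup.normalizer (Subgroup.zpowers x : Set G) := fun g hg => by
        rw [Subgroup.mem_normalizer_iff]
        intro n
        have hg' := hQ g hg
        constructor
        · intro hn
          rw [← hg']
          exact Subgroup.smul_mem_pointwise_smul n (MulAut.conj g) _ hn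
        · intro hn
          rw [← hg'] at hn
          have h' : MulAut.conj g • n ∈ MulAut.conj g • Subgroup.zpowers x := hn
          exact Subgroup.smul_mem_pointwise_smul_iff.mp h'
      have hcp : IsPGroup p (Subgroup.zpowers x) := IsPGroup.of_card (n := s) (by rw [Nat.card_zpowers, hx])
      exact (P.is_maximal' (P.2.to_sup_of_normal_right' hcp hN) le_sup_left) ▸
        Subgroup.mem_sup_right (Subgroup.mem_zpowers x)
    refine Nat.card_congr
      { toFun := fun x => ⟨⟨x.1, hin x.1 x.2.1 x.2.2⟩, by rw [Subgroup.orderOf_mk]; exact x.2.1, fun h => ?_⟩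
        invFun := fun x => ⟨x.1, by rw [Subgroup.orderOf_coe]; exact x.2.1, fun g hg => ?_⟩ }
    · have h1 : (h : G) * x.1 * (h : G)⁻¹ ∈ Subgroup.zpowers x.1 := by
        have := Subgroup.smul_mem_pointwise_smul x.1 (MulAut.conj (h : G)) _ (Subgroup.mem_zpowers x.1)
        rw [x.2.2 h h.2] at this
        exact this
      obtain ⟨k, hk⟩ := h1
      exact ⟨k, Subtype.ext (by simpa using hk)⟩
    · obtain ⟨k, hk⟩ := x.2.2 ⟨g, hg⟩
      have hk' : (x.1 : G) ^ k = g * (x.1 : G) * g⁻¹ := by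
        have := congrArg Subtype.val hk
        simpa using this
      refine Subgroup.eq_of_le_of_card_ge ?_ (le_of_eq ?_)
      · intro n hn
        obtain ⟨m, hm, rfl⟩ := (Subgroup.mem_smul_pointwise_iff_exists _ _ _).mp hn
        obtain ⟨j, rfl⟩ := hm
        show g * (x.1 : G) ^ j * g⁻¹ ∈ _
        rw [← conj_zpow, ← hk', ← zpow_mul]
        exact Subgroup.zpow_mem _ (Subgroup.mem_zpowers _) _
      · exact Nat.card_congr (Subgroup.equivSMul (MulAut.conj g) (Subgroup.zpowers (x.1 : G))).toEquiv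
  have htot : Nat.totient (p ^ s) = p ^ (s - 1) * (p - 1) := Nat.totient_prime_pow hpp (by omega)
  have hps : p ^ s = p ^ (s - 1) * p := by rw [← pow_succ, show s - 1 + 1 = s by omega]
  have hF : p ∣ Nat.card (MulAction.fixedPoints (P : Subgroup G) Cy) := by
    rw [← hfix, htot, hps, mul_left_comm] at hdvd
    have h1 := Nat.dvd_of_mul_dvd_mul_left (pow_pos hpp.pos _) hdvd
    have hco : ¬ p ∣ p - 1 := fun h => by
      have h3 : 2 ≤ p := hpp.two_le
      have h4 := Nat.le_of_dvd (by omega) h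
      omega
    rcases hpp.dvd_mul.mp h1 with h | h
    · first | exact absurd h hco | exact h
    · first | exact absurd h hco | exact h
  have hC : p ∣ Nat.card Cy := Nat.modEq_zero_iff_dvd.mp (hmod.trans (Nat.modEq_zero_iff_dvd.mpr hF))
  have htotal := card_orderOf_eq_mul (G := G) (p ^ s) (pow_pos hpp.pos s) (fun _ => True)
  simp only [and_true] at htotal
  rw [htotal, htot, hps]
  show _ ∣ Nat.card {C : Subgroup G // IsCyclic C ∧ Nat.card C = p ^ (s - 1) * p} * _
  have hC' : p ∣ Nat.card {C : Subgroup G // IsCyclic C ∧ Nat.card C = p ^ (s - 1) * p} := by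
    refine hC.trans (dvd_of_eq (Nat.card_congr (Equiv.subtypeEquivRight fun C => ?_)))
    rw [← hps, and_true]
  rw [mul_left_comm]
  exact mul_dvd_mul_left _ (hC'.trans (dvd_mul_right _ _))

end Cfsg.Agent.GStructB.MillerCount
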