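import Cfsg.Agent.Lib.Cores.Basic
import Mathlib

/-!
Elements with the smallest nontrivial class size and an abelian normal self-centralising subgroup:
they generate a subgroup of class at most 3.
-/

set_option autoImplicit false

namespace Cfsg.Agent.GStructB.MinClass

open scoped commutatorElement

variable {G : Type*} [Group G] [Finite G]

/-- The commutators of `A` with an element of smallest class size are central. -/
theorem commutator_mem_center (A : Subgroup G) [A.Normal] (hA : IsMulCommutative A) (m : ℕ)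
    (hmin : ∀ y : G, 1 < (Subgroup.centralizer ({y} : Set G)).index →
      m ≤ (Subgroup.centralizer ({y} : Set G)).index)
    {x a : G} (hx : (Subgroup.centralizer ({x} : Set G)).index = m) (ha : a ∈ A) :
    ⁅a, x⁆ ∈ Subgroup.center G := by
  classical
  set b := ⁅a, x⁆ with hb
  by_contra hbc
  have hb1 : b ≠ 1 := fun h => hbc (h ▸ one_mem _)
  set C := Subgroup.centralizer ({x} : Set G) with hC
  set Cb := Subgroup.centralizer ({b} : Set G) with hCb
  have hCbtop : Cb.index ≠ 1 := by
    intro h
    rw [Subgroup.index_eq_one] at h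
    refine hbc (Subgroup.mem_center_iff.mpr fun g => ?_)
    exact Subgroup.mem_centralizer_singleton_iff.mp (h ▸ Subgroup.mem_top g : g ∈ Cb)
  have hcard : Nat.card Cb ≤ Nat.card C := by
    have h1 : C.index ≤ Cb.index := hx ▸ hmin b (by
      show 1 < Cb.index
      have : Cb.index ≠ 0 := Subgroup.index_ne_zero_of_finite
      omega)
    refine Nat.le_of_mul_le_mul_right ?_
      (Nat.pos_of_ne_zero (Subgroup.index_ne_zero_of_finite (H := C)))
    rw [C.card_mul_index, ← Cb.card_mul_index]
    exact Nat.mul_le_mul_left _ h1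
  have hbA : b ∈ A := by
    rw [hb, commutatorElement_def, mul_assoc a, mul_assoc a]
    exact mul_mem ha ((inferInstance : A.Normal).conj_mem _ (inv_mem ha) x)
  have hAC : A ≤ Cb := fun u hu => Subgroup.mem_centralizer_singleton_iff.mpr
    (congrArg Subtype.val (hA.is_comm.comm ⟨u, hu⟩ ⟨b, hbA⟩))
  set S := C ⊓ Cb with hS
  set A0 := A ⊓ C with hA0
  have hinter : S ⊓ A = A0 := le_antisymm (le_inf inf_le_right (inf_le_left.trans inf_le_left))
    (le_inf (le_inf inf_le_right (inf_le_left.trans hAC)) inf_le_left)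
  have h1 : Nat.card A * Nat.card S ≤ Nat.card C * Nat.card A0 := by
    have h2 := Cores.card_sup_mul_card_inf S A
    rw [hinter] at h2
    rw [mul_comm (Nat.card A), ← h2]
    exact Nat.mul_le_mul_right _ ((Subgroup.card_le_of_le (sup_le inf_le_right hAC)).trans hcard)
  have e1 := (A0.subgroupOf A).card_mul_index
  rw [Nat.card_congr (Subgroup.subgroupOfEquivOfLe (inf_le_left : A0 ≤ A)).toEquiv] at e1
  have e2 := (S.subgroupOf C).card_mul_index
  rw [Nat.card_congr (Subgroup.subgroupOfEquivOfLe (inf_le_left : S ≤ C)).toEquiv] at e2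
  have hle : (A0.subgroupOf A).index ≤ (S.subgroupOf C).index := by
    refine Nat.le_of_mul_le_mul_left ?_ (Nat.mul_pos (Nat.card_pos (α := A0)) (Nat.card_pos (α := S)))
    calc Nat.card A0 * Nat.card S * (A0.subgroupOf A).index
        = Nat.card A0 * (A0.subgroupOf A).index * Nat.card S := by ring
      _ = Nat.card A * Nat.card S := by rw [e1]
      _ ≤ Nat.card C * Nat.card A0 := h1
      _ = _ := by rw [← e2]; ring
  -- the conjugates of `b` under `C` are commutators different from `1`
  have key : ∀ c : C, ⁅(c : G) * a * (c : G)⁻¹, x⁆ = (c : G) * b * (c : G)⁻¹ := by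
    intro c
    have hc : (c : G) * x * (c : G)⁻¹ = x := by
      rw [Subgroup.mem_centralizer_singleton_iff.mp c.2, mul_inv_cancel_right]
    conv_lhs => rw [← hc]
    rw [hb, commutatorElement_def, commutatorElement_def]; group
  let br : A ⧸ A0.subgroupOf A → G := fun q => ⁅((q.out : A) : G), x⁆
  have hbr : ∀ u : A, br (u : A ⧸ A0.subgroupOf A) = ⁅(u : G), x⁆ := by
    intro u
    obtain ⟨⟨w, hw⟩, hwu⟩ := QuotientGroup.mk_out_eq_mul (A0.subgroupOf A) u
    show ⁅((_ : A) : G), x⁆ = _
    rw [hwu]
    have hwx : (w : G) * x = x * w :=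
      Subgroup.mem_centralizer_singleton_iff.mp (Subgroup.mem_subgroupOf.mp hw).2
    simp only [commutatorElement_def, Subgroup.coe_mul, mul_inv_rev]
    calc (u : G) * w * x * ((w : G)⁻¹ * (u : G)⁻¹) * x⁻¹
        = (u : G) * (w * x * (w : G)⁻¹) * (u : G)⁻¹ * x⁻¹ := by group
      _ = _ := by rw [hwx, mul_inv_cancel_right]
  let f : C ⧸ S.subgroupOf C → A ⧸ A0.subgroupOf A := fun q =>
    ((⟨((q.out : C) : G) * a * ((q.out : C) : G)⁻¹, (inferInstance : A.Normal).conj_mem a ha _⟩ : A) :
      A ⧸ A0.subgroupOf A)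
  have hfbr : ∀ q, br (f q) = ((q.out : C) : G) * b * ((q.out : C) : G)⁻¹ := fun q => by
    simp only [f]
    rw [hbr]; exact key q.out
  have hinj : Function.Injective f := by
    intro q q' h
    have h3 := congrArg br h
    rw [hfbr, hfbr] at h3
    rw [← QuotientGroup.out_eq' q, ← QuotientGroup.out_eq' q']
    refine QuotientGroup.eq.mpr (Subgroup.mem_subgroupOf.mpr ⟨((q.out)⁻¹ * q'.out).2, ?_⟩)
    show _ ∈ Cb
    rw [hCb, Subgroup.mem_centralizer_singleton_iff]
    simp only [Subgroup.coe_mul, Subgroup.coe_inv]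
    calc ((q.out : C) : G)⁻¹ * (q'.out : C) * b
        = ((q.out : C) : G)⁻¹ * (((q'.out : C) : G) * b * ((q'.out : C) : G)⁻¹) * (q'.out : C) := by group
      _ = _ := by rw [← h3]; group
  have hnot : ¬ Function.Surjective f := by
    intro hs
    obtain ⟨q, hq⟩ := hs ((1 : A) : A ⧸ A0.subgroupOf A)
    have h3 := congrArg br hq
    rw [hfbr, hbr, show ((1 : A) : G) = 1 from rfl, commutatorElement_one_left] at h3
    apply hb1
    calc b = ((q.out : C) : G)⁻¹ * (((q.out : C) : G) * b * ((q.out : C) : G)⁻¹) * (q.out : C) := by group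
      _ = 1 := by rw [h3]; group
  exact hnot (hinj.bijective_of_nat_card_le (by
    rw [← Subgroup.index_eq_card, ← Subgroup.index_eq_card]; exact hle)).2

/-- The subgroup generated by elements of smallest class size has class at most 3. -/
theorem upperCentralSeries_three (A : Subgroup G) [A.Normal] (hA : IsMulCommutative A)
    (hCA : Subgroup.centralizer (A : Set G) = A) (m : ℕ)
    (hmin : ∀ y : G, 1 < (Subgroup.centralizer ({y} : Set G)).index →
      m ≤ (Subgroup.centralizer ({y} : Set G)).index) (M : Subgroup G)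
    (hM : M ≤ Subgroup.closure {x : G | (Subgroup.centralizer ({x} : Set G)).index = 1 ∨
      (Subgroup.centralizer ({x} : Set G)).index = m}) :
    Subgroup.upperCentralSeries ↥M 3 = ⊤ := by
  have hT : ∀ y ∈ M, ∀ a ∈ A, ⁅a, y⁆ ∈ Subgroup.center G := by
    intro y hy
    have h := hM hy
    clear hy
    induction h using Subgroup.closure_induction with
    | mem y hy =>
      intro a ha
      rcases hy with h1 | h1
      · rw [Subgroup.index_eq_one] at h1
        have : a ∈ Subgroup.centralizer ({y} : Set G) := h1 ▸ Subgroup.mem_top a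
        rw [Subgroup.mem_centralizer_singleton_iff] at this
        rw [commutatorElement_eq_one_iff_mul_comm.mpr this]
        exact one_mem _
      · exact commutator_mem_center A hA m hmin h1 ha
    | one => intro a _; rw [commutatorElement_one_right]; exact one_mem _
    | mul u v _ _ ihu ihv =>
      intro a ha
      rw [show ⁅a, u * v⁆ = ⁅a, u⁆ * (u * ⁅a, v⁆ * u⁻¹) by simp only [commutatorElement_def]; group]
      exact mul_mem (ihu a ha) ((inferInstance : (Subgroup.center G).Normal).conj_mem _ (ihv a ha) u)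
    | inv u _ ihu =>
      intro a ha
      rw [show ⁅a, u⁻¹⁆ = u⁻¹ * ⁅a, u⁆⁻¹ * (u⁻¹)⁻¹ by simp only [commutatorElement_def]; group]
      exact (inferInstance : (Subgroup.center G).Normal).conj_mem _ (inv_mem (ihu a ha)) _
  have hAM : ⁅⁅A, M⁆, M⁆ = ⊥ := by
    rw [Subgroup.commutator_eq_bot_iff_le_centralizer]
    have : ⁅A, M⁆ ≤ Subgroup.center G := Subgroup.commutator_le.mpr fun a ha y hy => hT y hy a ha
    exact this.trans (Subgroup.center_le_centralizer _)
  have hMM : ⁅M, M⁆ ≤ A := by
    conv_rhs => rw [← hCA]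
    rw [← Subgroup.commutator_eq_bot_iff_le_centralizer]
    refine Subgroup.commutator_commutator_eq_bot_of_rotate ?_ hAM
    rw [Subgroup.commutator_comm M A]; exact hAM
  rw [eq_top_iff]
  intro x _
  rw [Subgroup.mem_upperCentralSeries_succ_iff]
  intro y
  rw [Subgroup.mem_upperCentralSeries_succ_iff]
  intro z
  rw [Subgroup.upperCentralSeries_one, Subgroup.mem_center_iff]
  intro w
  apply Subtype.ext
  have h := hT z z.2 ⁅(x : G), (y : G)⁆ (hMM (Subgroup.commutator_mem_commutator x.2 y.2))
  exact Subgroup.mem_center_iff.mp h w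

end Cfsg.Agent.GStructB.MinClass
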