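import Mathlib
import Cfsg.Agent.S0018
import Cfsg.Agent.S0071
import Cfsg.Agent.S0086
import Cfsg.Agent.S0144

/-!
# Groups in which mixed proper subgroups with a factor `q` have a factor `p`

If every proper subgroup which is not a `q`-group and has order divisible by `q` has order
divisible by `p`, and `p` is large against the `q`-part of the group, then there are only the two
prime divisors `p` and `q`.

A minimal counterexample is simple, every proper subgroup of order divisible by `q` is a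
`{p, q}`-group, and then `q = 2`, a Sylow `2`-subgroup `Q` is elementary of order `p + 1`, and a
`p`-element is transitive on its involutions.  Three cases: `C(Q)` has a nontrivial `p`-element
(then products of two involutions lead to a contradiction); all involution centralisers are
`2`-groups (a count of involutions); otherwise `|Q| = 4` and the commuting graph of the
involutions is a regular friendship graph, which does not exist.
-/

namespace Cfsg.Agent.GStructB.MixedTwoPrime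

set_option linter.unusedSectionVars false
set_option linter.style.haveILetI false

variable {G : Type*} [Group G] [Finite G]

/-- An element of `p`-power order. -/
def PEl (p : ℕ) (x : G) : Prop := ∃ k : ℕ, x ^ p ^ k = 1

omit [Finite G] in
theorem pel_of_mem {p : ℕ} {P : Subgroup G} (hP : IsPGroup p P) {x : G} (hx : x ∈ P) :
    PEl p x := by
  obtain ⟨k, hk⟩ := hP ⟨x, hx⟩
  exact ⟨k, by simpa using congrArg Subtype.val hk⟩

omit [Finite G] in
theorem isPGroup_zpowers {p : ℕ} {x : G} (hx : PEl p x) : IsPGroup p (Subgroup.zpowers x) := by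
  obtain ⟨k, hk⟩ := hx
  rintro ⟨z, hz⟩
  obtain ⟨m, rfl⟩ := Subgroup.mem_zpowers_iff.mp hz
  refine ⟨k, Subtype.ext ?_⟩
  rw [SubgroupClass.coe_pow, ← zpow_natCast (x ^ m), ← zpow_mul, mul_comm, zpow_mul, zpow_natCast,
    hk, one_zpow]
  rfl

omit [Finite G] in
theorem pel_inv {p : ℕ} {x : G} (hx : PEl p x) : PEl p x⁻¹ := by
  obtain ⟨k, hk⟩ := hx
  exact ⟨k, by rw [inv_pow, hk, inv_one]⟩

omit [Finite G] in
theorem pel_conj {p : ℕ} {x : G} (hx : PEl p x) (g : G) : PEl p (g * x * g⁻¹) := by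
  obtain ⟨k, hk⟩ := hx
  exact ⟨k, by rw [conj_pow, hk, mul_one, mul_inv_cancel]⟩

omit [Finite G] in
theorem pel_pow {p : ℕ} {x : G} (hx : PEl p x) (n : ℕ) : PEl p (x ^ n) := by
  obtain ⟨k, hk⟩ := hx
  exact ⟨k, by rw [← pow_mul, mul_comm, pow_mul, hk, one_pow]⟩

omit [Finite G] in
theorem pel_mul {p : ℕ} {x y : G} (hx : PEl p x) (hy : PEl p y) (hc : Commute x y) :
    PEl p (x * y) := by
  obtain ⟨k, hk⟩ := hx
  obtain ⟨l, hl⟩ := hy
  refine ⟨k + l, ?_⟩
  rw [hc.mul_pow, pow_add, pow_mul, hk, one_pow, one_mul, mul_comm, pow_mul, hl, one_pow]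

omit [Finite G] in
theorem pel_one_of_sq {p : ℕ} (hp : p.Prime) (hp2 : p ≠ 2) {x : G} (hx : PEl p x)
    (h2 : x * x = 1) : x = 1 := by
  obtain ⟨k, hk⟩ := hx
  have hcop : Nat.gcd (p ^ k) 2 = 1 :=
    ((Nat.coprime_primes hp Nat.prime_two).mpr hp2).pow_left k
  have h : x ^ Nat.gcd (p ^ k) 2 = 1 :=
    pow_gcd_eq_one.mpr ⟨hk, by rw [pow_two]; exact h2⟩
  rwa [hcop, pow_one] at h

/-- The setting of a minimal counterexample after the reductions. -/
structure Config (G : Type*) [Group G] [Finite G] (p a : ℕ) : Prop where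
  hp : p.Prime
  hp2 : p ≠ 2
  hpa : p + 1 = 2 ^ a
  ha : (Nat.card G).factorization 2 = a
  hpG : p ∣ Nat.card G
  simple : ∀ N : Subgroup G, N.Normal → N = ⊥ ∨ N = ⊤
  sub : ∀ H : Subgroup G, H ≠ ⊤ → 2 ∣ Nat.card H →
    ∀ r : ℕ, r.Prime → r ∣ Nat.card H → r = p ∨ r = 2
  ab : ∀ P : Sylow p G, IsMulCommutative P
  sq : ∀ Q : Sylow 2 G, ∀ z ∈ (Q : Subgroup G), z * z = 1
  mover : ∀ Q : Sylow 2 G, ∃ x : G, PEl p x ∧ x ∈ Subgroup.normalizer ((Q : Subgroup G) : Set G) ∧
    ∀ z ∈ (Q : Subgroup G), z ≠ 1 → ∀ z' ∈ (Q : Subgroup G), z' ≠ 1 →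
      ∃ k : ℕ, x ^ k * z * (x ^ k)⁻¹ = z'

namespace Config

variable {p a : ℕ} (hC : Config G p a)

include hC

theorem two_le_a : 2 ≤ a := by
  rcases a with _ | _ | a
  · have h := hC.hpa; have := hC.hp.two_le; simp at h; omega
  · have h := hC.hpa; have := hC.hp.two_le; simp at h; omega
  · omega

theorem card_Q (Q : Sylow 2 G) : Nat.card (Q : Subgroup G) = p + 1 := by
  rw [hC.hpa, ← hC.ha]; exact Q.card_eq_multiplicity

theorem comm_Q (Q : Sylow 2 G) {z w : G} (hz : z ∈ (Q : Subgroup G)) (hw : w ∈ (Q : Subgroup G)) :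
    Commute z w := by
  have h := hC.sq Q (z * w) (mul_mem hz hw)
  have hz2 := hC.sq Q z hz
  have hw2 := hC.sq Q w hw
  calc z * w = (z * w)⁻¹ := eq_inv_of_mul_eq_one_left h
    _ = w⁻¹ * z⁻¹ := mul_inv_rev z w
    _ = w * z := by rw [inv_eq_of_mul_eq_one_right hz2, inv_eq_of_mul_eq_one_right hw2]

theorem exists_inv_mem (Q : Sylow 2 G) : ∃ i ∈ (Q : Subgroup G), i ≠ 1 := by
  by_contra hne
  push Not at hne
  have hbot : (Q : Subgroup G) = ⊥ := (Subgroup.eq_bot_iff_forall _).mpr hne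
  have h := hC.card_Q Q
  rw [hbot, Subgroup.card_bot] at h
  have := hC.hp.two_le
  omega

theorem inv_mem_sylow {i : G} (hi : i * i = 1) : ∃ Q : Sylow 2 G, i ∈ (Q : Subgroup G) := by
  have h : IsPGroup 2 (Subgroup.zpowers i) :=
    isPGroup_zpowers ⟨1, by rw [pow_one, pow_two, hi]⟩
  obtain ⟨Q, hQ⟩ := h.exists_le_sylow
  exact ⟨Q, hQ (Subgroup.mem_zpowers i)⟩

theorem comm_pgroup {U : Subgroup G} (hU : IsPGroup p U) {u v : G} (hu : u ∈ U) (hv : v ∈ U) :
    Commute u v := by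
  obtain ⟨P, hP⟩ := hU.exists_le_sylow
  have := (hC.ab P).is_comm.comm ⟨u, hP hu⟩ ⟨v, hP hv⟩
  exact congrArg Subtype.val this

theorem comm_norm {U : Subgroup G} (hU : IsPGroup p U) {x u : G} (hx : PEl p x)
    (hxN : x ∈ Subgroup.normalizer (U : Set G)) (hu : u ∈ U) : Commute x u :=
  hC.comm_pgroup ((isPGroup_zpowers hx).to_sup_of_normal_right' hU
      (Subgroup.zpowers_le.mpr hxN))
    (Subgroup.mem_sup_left (Subgroup.mem_zpowers x)) (Subgroup.mem_sup_right hu)

theorem mem_of_norm (P : Sylow p G) {x : G} (hx : PEl p x)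
    (hxN : x ∈ Subgroup.normalizer ((P : Subgroup G) : Set G)) : x ∈ (P : Subgroup G) := by
  have hsup := (isPGroup_zpowers hx).to_sup_of_normal_right' P.isPGroup'
      (Subgroup.zpowers_le.mpr hxN)
  rw [← P.is_maximal' hsup le_sup_right]
  exact Subgroup.mem_sup_left (Subgroup.mem_zpowers x)

theorem eq_one_of_mem_both (Q : Sylow 2 G) {u : G} (hu : PEl p u) (huQ : u ∈ (Q : Subgroup G)) :
    u = 1 :=
  pel_one_of_sq hC.hp hC.hp2 hu (hC.sq Q u huQ)

/-- A `p`-element cannot both normalise `Q` nontrivially and lie in a `Q`-invariant `p`-group. -/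
theorem commute_Q_of_mem (Q : Sylow 2 G) {P : Subgroup G} (hP : IsPGroup p P)
    (hQP : ∀ z ∈ (Q : Subgroup G), z ∈ Subgroup.normalizer (P : Set G)) {x : G} (hx : x ∈ P)
    (hxQ : x ∈ Subgroup.normalizer ((Q : Subgroup G) : Set G)) {z : G}
    (hz : z ∈ (Q : Subgroup G)) : Commute x z := by
  have h1 : x * z * x⁻¹ * z⁻¹ ∈ (Q : Subgroup G) :=
    mul_mem ((Subgroup.mem_normalizer_iff.mp hxQ z).mp hz) (inv_mem hz)
  have h2 : x * z * x⁻¹ * z⁻¹ ∈ P := by
    rw [show x * z * x⁻¹ * z⁻¹ = x * (z * x⁻¹ * z⁻¹) by group]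
    exact mul_mem hx ((Subgroup.mem_normalizer_iff.mp (hQP z hz) x⁻¹).mp (inv_mem hx))
  have h := hC.eq_one_of_mem_both Q (pel_of_mem hP h2) h1
  calc x * z = (x * z * x⁻¹ * z⁻¹) * (z * x) := by group
    _ = z * x := by rw [h, one_mul]

theorem two_dvd_of_mem {H : Subgroup G} {i : G} (hi : i ∈ H) (hi1 : i ≠ 1) (hi2 : i * i = 1) :
    2 ∣ Nat.card H := by
  have h : orderOf i = 2 := orderOf_eq_prime (by rw [pow_two]; exact hi2) hi1
  rw [← h]
  exact Subgroup.orderOf_dvd_natCard H hi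

theorem odd_pel {H : Subgroup G} (hH : H ≠ ⊤) (h2 : 2 ∣ Nat.card H) {x : G} (hx : x ∈ H)
    (hodd : ¬ 2 ∣ orderOf x) : PEl p x := by
  refine ⟨(orderOf x).primeFactorsList.length, ?_⟩
  rw [← Nat.eq_prime_pow_of_unique_prime_dvd (orderOf_pos x).ne' (fun {d} hd hdx => ?_)]
  · exact pow_orderOf_eq_one x
  · rcases hC.sub H hH h2 d hd (hdx.trans (Subgroup.orderOf_dvd_natCard H hx)) with h | h
    · exact h
    · exact absurd (h ▸ hdx) hodd

theorem pel_not_two {x : G} (hx : PEl p x) : ¬ 2 ∣ orderOf x := by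
  obtain ⟨k, hk⟩ := hx
  intro h
  have := Nat.prime_two.dvd_of_dvd_pow (h.trans (orderOf_dvd_of_pow_eq_one hk))
  exact hC.hp2 ((Nat.prime_dvd_prime_iff_eq Nat.prime_two hC.hp).mp this).symm

theorem bot_or_top (N : Subgroup G) (hN : N.Normal) (h1 : N ≠ ⊥) : N = ⊤ :=
  (hC.simple N hN).resolve_left h1

theorem sylow_two_ne_top (Q : Sylow 2 G) : (Q : Subgroup G) ≠ ⊤ := by
  intro h
  obtain ⟨k, hk⟩ := IsPGroup.iff_card.mp Q.isPGroup'
  have hpG := hC.hpG
  rw [← Subgroup.card_top (G := G), ← h, hk] at hpG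
  exact hC.hp2 ((Nat.prime_dvd_prime_iff_eq hC.hp Nat.prime_two).mp
    (hC.hp.dvd_of_dvd_pow hpG))

theorem zpowers_ne_top (x : G) : Subgroup.zpowers x ≠ ⊤ := by
  intro htop
  obtain ⟨Q⟩ : Nonempty (Sylow 2 G) := inferInstance
  have hn : (Q : Subgroup G).Normal := ⟨fun n hn g => by
    have h1 : g ∈ Subgroup.zpowers x := htop ▸ Subgroup.mem_top g
    have h2 : n ∈ Subgroup.zpowers x := htop ▸ Subgroup.mem_top n
    obtain ⟨a, rfl⟩ := Subgroup.mem_zpowers_iff.mp h1
    obtain ⟨b, rfl⟩ := Subgroup.mem_zpowers_iff.mp h2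
    rwa [← zpow_add, add_comm, zpow_add, mul_inv_cancel_right]⟩
  rcases hC.simple _ hn with h | h
  · obtain ⟨i, hi, hi1⟩ := hC.exists_inv_mem Q
    rw [h] at hi
    exact hi1 (Subgroup.mem_bot.mp hi)
  · exact hC.sylow_two_ne_top Q h

theorem normalizer_ne_top {H : Subgroup G} (h1 : H ≠ ⊥) (h2 : H ≠ ⊤) :
    Subgroup.normalizer (H : Set G) ≠ ⊤ := fun h =>
  h2 (hC.bot_or_top H (Subgroup.normalizer_eq_top_iff.mp h) h1)

theorem normalizer_zpowers_ne_top {x : G} (hx : x ≠ 1) :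
    Subgroup.normalizer (Subgroup.zpowers x : Set G) ≠ ⊤ :=
  hC.normalizer_ne_top (by simpa using hx) (hC.zpowers_ne_top x)

omit hC in
theorem mem_normalizer_zpowers_of_commute {g x : G} (h : Commute g x) :
    g ∈ Subgroup.normalizer (Subgroup.zpowers x : Set G) := by
  refine Subgroup.mem_normalizer_fintype (S := (Subgroup.zpowers x : Set G)) ?_
  intro z hz
  obtain ⟨m, rfl⟩ := Subgroup.mem_zpowers_iff.mp hz
  rw [(h.zpow_right m).eq, mul_inv_cancel_right]
  exact hz

omit hC in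
theorem mem_normalizer_zpowers_of_invert {g x : G} (h : g * x * g⁻¹ = x⁻¹) :
    g ∈ Subgroup.normalizer (Subgroup.zpowers x : Set G) := by
  refine Subgroup.mem_normalizer_fintype (S := (Subgroup.zpowers x : Set G)) ?_
  intro z hz
  obtain ⟨m, rfl⟩ := Subgroup.mem_zpowers_iff.mp hz
  rw [← conj_zpow, h, SetLike.mem_coe]
  exact zpow_mem (inv_mem (Subgroup.mem_zpowers x)) m

omit hC in
theorem centralizer_le_normalizer_zpowers (x : G) :
    Subgroup.centralizer ({x} : Set G) ≤ Subgroup.normalizer (Subgroup.zpowers x : Set G) :=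
  fun _g hg => mem_normalizer_zpowers_of_commute (Subgroup.mem_centralizer_singleton_iff.mp hg)

theorem centralizer_ne_top {x : G} (hx : x ≠ 1) : Subgroup.centralizer ({x} : Set G) ≠ ⊤ :=
  fun h => hC.normalizer_zpowers_ne_top hx
    (top_le_iff.mp (h ▸ centralizer_le_normalizer_zpowers x))

/-- A `p`-element moving an element of a subgroup `B` of `Q` it normalises: `B = Q`, transitive. -/
theorem moves (Q : Sylow 2 G) {B : Subgroup G} (hBQ : B ≤ (Q : Subgroup G)) {x b : G}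
    (hx : PEl p x) (hxB : x ∈ Subgroup.normalizer (B : Set G)) (hb : b ∈ B)
    (hnc : ¬ Commute x b) :
    B = (Q : Subgroup G) ∧
      ∀ z ∈ (Q : Subgroup G), z ≠ 1 → ∀ z' ∈ (Q : Subgroup G), z' ≠ 1 →
        ∃ k : ℕ, x ^ k * z * (x ^ k)⁻¹ = z' := by
  haveI := Fact.mk hC.hp
  haveI : Finite (ConjAct G) := inferInstanceAs (Finite G)
  set A := Subgroup.zpowers (ConjAct.toConjAct x) with hA
  have hAp : IsPGroup p A := isPGroup_zpowers (by
    obtain ⟨k, hk⟩ := hx
    exact ⟨k, by rw [← map_pow, hk, map_one]⟩)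
  have hsub : MulAction.orbit A b ⊆ (B : Set G) \ {1} := by
    rintro _ ⟨⟨g, hg⟩, rfl⟩
    obtain ⟨m, rfl⟩ := Subgroup.mem_zpowers_iff.mp hg
    have hmem : x ^ m ∈ Subgroup.normalizer (B : Set G) := zpow_mem hxB m
    change (ConjAct.toConjAct x) ^ m • b ∈ _
    rw [← map_zpow, ConjAct.toConjAct_smul]
    refine ⟨(Subgroup.mem_normalizer_iff.mp hmem b).mp hb, ?_⟩
    intro h1
    rw [Set.mem_singleton_iff, mul_inv_eq_one] at h1
    have : b = 1 := mul_left_cancel (h1.trans (mul_one _).symm)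
    subst this
    exact hnc (Commute.one_right x)
  have hcard : (MulAction.orbit A b).ncard = (MulAction.stabilizer A b).index :=
    (MulAction.index_stabilizer A b).symm
  obtain ⟨n, hn⟩ := IsPGroup.iff_card.mp hAp
  obtain ⟨j, -, hj⟩ := (Nat.dvd_prime_pow hC.hp).mp
    (hn ▸ (MulAction.stabilizer A b).index_dvd_card)
  have hne : (MulAction.orbit A b).ncard ≠ 1 := by
    intro h1
    obtain ⟨c, hc⟩ := Set.ncard_eq_one.mp h1
    have e1 : b = c := by simpa [hc] using MulAction.mem_orbit_self (M := A) b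
    have e2 : (⟨ConjAct.toConjAct x, Subgroup.mem_zpowers _⟩ : A) • b = c := by
      simpa [hc] using MulAction.mem_orbit b (⟨ConjAct.toConjAct x, Subgroup.mem_zpowers _⟩ : A)
    have e3 : x * b * x⁻¹ = b := by
      rw [← e1] at e2
      rw [← ConjAct.toConjAct_smul]
      exact e2
    exact hnc (mul_inv_eq_iff_eq_mul.mp e3)
  have hge : p ≤ (MulAction.orbit A b).ncard := by
    rw [hcard, hj]
    rcases j with _ | j
    · exfalso; apply hne; rw [hcard, hj, pow_zero]
    · exact Nat.le_self_pow (Nat.succ_ne_zero j) p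
  have hQ1 : ((Q : Subgroup G) : Set G).ncard = p + 1 := by
    rw [← Nat.card_coe_set_eq]; exact hC.card_Q Q
  have hQsub : (B : Set G) \ {1} ⊆ ((Q : Subgroup G) : Set G) \ {1} :=
    Set.sdiff_subset_sdiff_left hBQ
  have hQcard : (((Q : Subgroup G) : Set G) \ {1}).ncard = p := by
    rw [Set.ncard_sdiff_singleton_of_mem (one_mem (Q : Subgroup G)), hQ1]; omega
  have heq : MulAction.orbit A b = ((Q : Subgroup G) : Set G) \ {1} :=
    Set.eq_of_subset_of_ncard_le (hsub.trans hQsub) (by rw [hQcard]; exact hge) (Set.toFinite _)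
  refine ⟨le_antisymm hBQ fun z hz => ?_, ?_⟩
  · by_cases h1 : z = 1
    · exact h1 ▸ one_mem B
    · exact (hsub (heq ▸ ⟨hz, h1⟩ : z ∈ MulAction.orbit A b)).1
  · intro z hz h1 z' hz' h1'
    have hzo : z ∈ MulAction.orbit A b := heq ▸ ⟨hz, h1⟩
    have hzo' : z' ∈ MulAction.orbit A b := heq ▸ ⟨hz', h1'⟩
    rw [← MulAction.orbit_eq_iff.mpr hzo] at hzo'
    obtain ⟨⟨g, hg⟩, hgz⟩ := hzo'
    obtain ⟨k, rfl⟩ := mem_powers_iff_mem_zpowers.mpr hg
    refine ⟨k, ?_⟩
    rw [← hgz]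
    change _ = (ConjAct.toConjAct x) ^ k • z
    rw [← map_pow, ConjAct.toConjAct_smul]

/-- A `p`-element normalising `Q` and fixing an involution of `Q` centralises `Q`. -/
theorem commute_of_fix (Q : Sylow 2 G) {u i z : G} (hu : PEl p u)
    (huQ : u ∈ Subgroup.normalizer ((Q : Subgroup G) : Set G)) (hi : i ∈ (Q : Subgroup G))
    (hi1 : i ≠ 1) (hui : Commute u i) (hz : z ∈ (Q : Subgroup G)) : Commute u z := by
  by_contra hnc
  obtain ⟨-, htr⟩ := hC.moves Q le_rfl hu huQ hz hnc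
  have hz1 : z ≠ 1 := fun h => hnc (h ▸ Commute.one_right u)
  obtain ⟨k, hk⟩ := htr i hi hi1 z hz hz1
  rw [(hui.pow_left k).eq, mul_inv_cancel_right] at hk
  exact hnc (hk ▸ hui)

/-- Structure of an involution centraliser. -/
theorem centralizer_structure (Q : Sylow 2 G) {i : G} (hi : i ∈ (Q : Subgroup G)) (hi1 : i ≠ 1) :
    ∃ K : Subgroup G, IsPGroup p K ∧ K ≤ Subgroup.centralizer ({i} : Set G) ∧
      (∀ u ∈ Subgroup.centralizer ({i} : Set G), PEl p u → u ∈ K) ∧
      (∀ c ∈ Subgroup.centralizer ({i} : Set G), c * c ∈ K) ∧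
      ∀ c ∈ Subgroup.centralizer ({i} : Set G), ∃ u ∈ K, ∃ z ∈ (Q : Subgroup G), c = u * z := by
  haveI := Fact.mk hC.hp
  set H := Subgroup.centralizer ({i} : Set G) with hH
  have hQH : (Q : Subgroup G) ≤ H := fun z hz =>
    Subgroup.mem_centralizer_singleton_iff.mpr (hC.comm_Q Q hz hi)
  have hHne : H ≠ ⊤ := hC.centralizer_ne_top hi1
  have h2H : 2 ∣ Nat.card H := hC.two_dvd_of_mem (hQH hi) hi1 (hC.sq Q i hi)
  let QH : Sylow 2 H := Q.subtype hQH
  have hQHmem : ∀ c : H, c ∈ (QH : Subgroup H) ↔ (c : G) ∈ (Q : Subgroup G) := fun c => Iff.rfl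
  have hN : Subgroup.normalizer ((QH : Subgroup H) : Set H) ≤
      Subgroup.centralizer ((QH : Subgroup H) : Set H) := by
    intro c hc
    rw [Subgroup.mem_centralizer_iff]
    intro z hz
    have hcQ : (c : G) ∈ Subgroup.normalizer ((Q : Subgroup G) : Set G) := by
      rw [Subgroup.mem_normalizer_iff]
      intro y
      constructor
      · intro hy
        exact (hQHmem _).mp ((Subgroup.mem_normalizer_iff.mp hc ⟨y, hQH hy⟩).mp hy)
      · intro hy
        have hyH : y ∈ H := by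
          have := mul_mem (mul_mem (inv_mem c.2) (hQH hy)) c.2
          simpa [mul_assoc] using this
        exact (hQHmem ⟨y, hyH⟩).mp ((Subgroup.mem_normalizer_iff.mp hc ⟨y, hyH⟩).mpr hy)
    -- split off the odd part
    set m := orderOf c with hm
    set e := m.factorization 2 with he
    have hm0 : m ≠ 0 := (orderOf_pos c).ne'
    have hdvd : 2 ^ e ∣ m := Nat.ordProj_dvd m 2
    have hcop : (2 ^ e).Coprime (m / 2 ^ e) :=
      (Nat.coprime_ordCompl Nat.prime_two hm0).pow_left e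
    -- the power of odd order
    have hu : PEl p ((c : G) ^ (2 ^ e)) := by
      refine hC.odd_pel hHne h2H (pow_mem c.2 _) ?_
      rw [orderOf_pow' _ (by positivity : (2 ^ e : ℕ) ≠ 0), Subgroup.orderOf_coe,
        Nat.gcd_eq_right hdvd]
      exact Nat.not_dvd_ordCompl Nat.prime_two hm0
    -- the power of `2`-power order lies in `Q`
    have hv : ((c : G) ^ (m / 2 ^ e)) ∈ (Q : Subgroup G) := by
      have h2 : IsPGroup 2 (Subgroup.zpowers ((c : G) ^ (m / 2 ^ e))) := by
        refine isPGroup_zpowers ⟨e, ?_⟩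
        rw [← pow_mul, Nat.div_mul_cancel hdvd, ← SubgroupClass.coe_pow, hm,
          pow_orderOf_eq_one]
        rfl
      have hsup := h2.to_sup_of_normal_right' Q.isPGroup'
        (Subgroup.zpowers_le.mpr (pow_mem hcQ _))
      rw [← Q.is_maximal' hsup le_sup_right]
      exact Subgroup.mem_sup_left (Subgroup.mem_zpowers _)
    have hcom1 : Commute ((c : G) ^ (2 ^ e)) (z : G) :=
      hC.commute_of_fix Q hu (pow_mem hcQ _) hi hi1
        ((Commute.pow_left (Subgroup.mem_centralizer_singleton_iff.mp c.2) _)) hz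
    have hcom2 : Commute ((c : G) ^ (m / 2 ^ e)) (z : G) := hC.comm_Q Q hv hz
    have hcz : Commute (c : G) (z : G) := by
      have hb := Nat.gcd_eq_gcd_ab (2 ^ e) (m / 2 ^ e)
      rw [hcop, Nat.cast_one] at hb
      have : (c : G) = ((c : G) ^ (2 ^ e)) ^ ((2 ^ e).gcdA (m / 2 ^ e)) *
          ((c : G) ^ (m / 2 ^ e)) ^ ((2 ^ e).gcdB (m / 2 ^ e)) := by
        rw [← zpow_natCast, ← zpow_natCast, ← zpow_mul, ← zpow_mul, ← zpow_add, ← hb, zpow_one]
      rw [this]
      exact (hcom1.zpow_left _).mul_left (hcom2.zpow_left _)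
    exact Subtype.ext hcz.symm
  set f := MonoidHom.transferSylow QH hN with hf
  have hcompl : f.ker.IsComplement' (QH : Subgroup H) :=
    MonoidHom.ker_transferSylow_isComplement' QH hN
  have hodd : ∀ c : H, c ∈ f.ker ↔ Nat.Coprime (orderOf c) 2 := fun c =>
    Cfsg.Agent.S0086.result QH f.ker hcompl c
  have hpel : ∀ c : H, PEl p (c : G) → c ∈ f.ker := fun c hc => by
    rw [hodd, Nat.coprime_comm, Nat.prime_two.coprime_iff_not_dvd, ← Subgroup.orderOf_coe]
    exact hC.pel_not_two hc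
  have hkp : ∀ c : H, c ∈ f.ker → PEl p (c : G) := fun c hc => by
    rw [hodd, Nat.coprime_comm, Nat.prime_two.coprime_iff_not_dvd, ← Subgroup.orderOf_coe] at hc
    exact hC.odd_pel hHne h2H c.2 hc
  refine ⟨f.ker.map H.subtype, ?_, Subgroup.map_subtype_le _, ?_, ?_, ?_⟩
  · rintro ⟨_, c, hc, rfl⟩
    obtain ⟨k, hk⟩ := hkp c hc
    exact ⟨k, Subtype.ext hk⟩
  · exact fun u hu hup => ⟨⟨u, hu⟩, hpel _ hup, rfl⟩
  · intro c hc
    refine ⟨⟨c, hc⟩ * ⟨c, hc⟩, ?_, rfl⟩
    rw [SetLike.mem_coe, MonoidHom.mem_ker, map_mul]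
    exact Subtype.ext (Subtype.ext (hC.sq Q _ (f ⟨c, hc⟩).2))
  · intro c hc
    obtain ⟨⟨u, z⟩, huz⟩ := hcompl.2 ⟨c, hc⟩
    exact ⟨_, ⟨u, u.2, rfl⟩, ((z : H) : G), z.2, congrArg Subtype.val huz.symm⟩

theorem cI_comm (Q : Sylow 2 G) {i u v : G} (hi : i ∈ (Q : Subgroup G)) (hi1 : i ≠ 1)
    (hu : PEl p u) (hui : Commute u i) (hv : PEl p v) (hvi : Commute v i) : Commute u v := by
  obtain ⟨K, hK, -, hKmem, -, -⟩ := hC.centralizer_structure Q hi hi1
  exact hC.comm_pgroup hK (hKmem u (Subgroup.mem_centralizer_singleton_iff.mpr hui) hu)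
    (hKmem v (Subgroup.mem_centralizer_singleton_iff.mpr hvi) hv)

theorem cI_le (Q : Sylow 2 G) {i : G} (hi : i ∈ (Q : Subgroup G)) (hi1 : i ≠ 1) (M : Subgroup G)
    (hQ : (Q : Subgroup G) ≤ M)
    (hp' : ∀ u : G, Commute u i → PEl p u → u ∈ M) :
    Subgroup.centralizer ({i} : Set G) ≤ M := by
  obtain ⟨K, hK, hKle, -, -, hdec⟩ := hC.centralizer_structure Q hi hi1
  intro c hc
  obtain ⟨u, hu, z, hz, rfl⟩ := hdec c hc
  exact mul_mem (hp' u (Subgroup.mem_centralizer_singleton_iff.mp (hKle hu)) (pel_of_mem hK hu))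
    (hQ hz)

/-- The key dichotomy for the normaliser of a `Q`-invariant cyclic `p`-subgroup. -/
theorem star (Q : Sylow 2 G) {y : G} (hy : PEl p y) (hy1 : y ≠ 1)
    (hQy : (Q : Subgroup G) ≤ Subgroup.normalizer (Subgroup.zpowers y : Set G)) :
    (∃ P : Sylow p G, y ∈ (P : Subgroup G) ∧
      (P : Subgroup G) ≤ Subgroup.normalizer (Subgroup.zpowers y : Set G) ∧
      (∀ u ∈ Subgroup.normalizer (Subgroup.zpowers y : Set G), PEl p u → u ∈ (P : Subgroup G)) ∧
      (Q : Subgroup G) ≤ Subgroup.normalizer ((P : Subgroup G) : Set G)) ∨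
    ((∀ z ∈ (Q : Subgroup G), Commute y z) ∧
      Subgroup.normalizer (Subgroup.zpowers y : Set G) ≤
        Subgroup.normalizer ((Q : Subgroup G) : Set G)) := by
  haveI := Fact.mk hC.hp
  set S := Subgroup.normalizer (Subgroup.zpowers y : Set G) with hS
  have hSne : S ≠ ⊤ := hC.normalizer_zpowers_ne_top hy1
  obtain ⟨i, hi, hi1⟩ := hC.exists_inv_mem Q
  have h2S : 2 ∣ Nat.card S := hC.two_dvd_of_mem (hQy hi) hi1 (hC.sq Q i hi)
  obtain ⟨P, hP⟩ := (isPGroup_zpowers hy).exists_le_sylow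
  have hyP : y ∈ (P : Subgroup G) := hP (Subgroup.mem_zpowers y)
  have hPS : (P : Subgroup G) ≤ S := fun u hu =>
    mem_normalizer_zpowers_of_commute (hC.comm_pgroup P.isPGroup' hu hyP)
  by_cases hall : ∀ u ∈ S, PEl p u → u ∈ (P : Subgroup G)
  · refine Or.inl ⟨P, hyP, hPS, hall, fun z hz => ?_⟩
    refine Subgroup.mem_normalizer_fintype (S := ((P : Subgroup G) : Set G)) ?_
    intro u hu
    exact hall _ (mul_mem (mul_mem (hQy hz) (hPS hu)) (inv_mem (hQy hz)))
      (pel_conj (pel_of_mem P.isPGroup' hu) z)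
  right
  -- some `p`-element of `S` moves `Q` whenever `B ≤ Q` is normalised by `S`
  have hmove : ∀ B : Subgroup G, B ≠ ⊥ → B ≤ (Q : Subgroup G) →
      S ≤ Subgroup.normalizer (B : Set G) →
      ∃ u ∈ S, PEl p u ∧ ∃ b ∈ B, ¬ Commute u b := by
    intro B hB hBQ hBn
    by_contra hcon
    push Not at hcon
    obtain ⟨b, hb, hb1⟩ : ∃ b ∈ B, b ≠ 1 := by
      by_contra hne
      push Not at hne
      exact hB ((Subgroup.eq_bot_iff_forall _).mpr hne)
    apply hall
    intro u huS hup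
    refine hC.mem_of_norm P hup ?_
    refine Subgroup.mem_normalizer_fintype (S := ((P : Subgroup G) : Set G)) ?_
    intro v hv
    have hvp := pel_of_mem P.isPGroup' hv
    have hc : Commute u v := hC.cI_comm Q (hBQ hb) hb1 hup (hcon u huS hup b hb) hvp
      (hcon v (hPS hv) hvp b hb)
    rw [hc.eq, mul_inv_cancel_right]
    exact hv
  -- a nontrivial normal `2`-subgroup of `S`
  have hsolv : Group.IsSolvable S := by
    have hne : Nat.card S ≠ 0 := Nat.card_pos.ne'
    refine Cfsg.Agent.S0144.result p 2 ((Nat.card S).factorization p)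
      ((Nat.card S).factorization 2) hC.hp Nat.prime_two ?_
    refine Nat.eq_of_factorization_eq hne
      (mul_ne_zero (pow_ne_zero _ hC.hp.ne_zero) (by positivity)) fun r => ?_
    rw [Nat.factorization_mul (pow_ne_zero _ hC.hp.ne_zero) (by positivity),
      Finsupp.add_apply, hC.hp.factorization_pow, Nat.prime_two.factorization_pow,
      Finsupp.single_apply, Finsupp.single_apply]
    by_cases hr : r.Prime ∧ r ∣ Nat.card S
    · rcases hC.sub S hSne h2S r hr.1 hr.2 with h | h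
      · subst h; simp [hC.hp2.symm]
      · subst h; simp [hC.hp2]
    · have h0 : (Nat.card S).factorization r = 0 := by
        rw [Nat.factorization_eq_zero_iff]; tauto
      have hrp : p = r → (Nat.card S).factorization p = 0 := fun h => h ▸ h0
      have hr2 : 2 = r → (Nat.card S).factorization 2 = 0 := fun h => h ▸ h0
      split_ifs <;> simp_all
  haveI := hsolv
  let PS : Sylow p S := P.subtype hPS
  have hPSc : IsMulCommutative (PS : Subgroup S) :=
    ⟨⟨fun s t => Subtype.ext (Subtype.ext (hC.comm_pgroup P.isPGroup' s.2 t.2))⟩⟩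
  have hnorm := Cfsg.Agent.S0018.result p PS hPSc
  have hB0 : Cfsg.pPrimeCore p S ≠ ⊥ := by
    intro h0
    rw [h0, sup_bot_eq] at hnorm
    apply hall
    intro u huS hup
    refine hC.mem_of_norm P hup ?_
    refine Subgroup.mem_normalizer_fintype (S := ((P : Subgroup G) : Set G)) ?_
    intro v hv
    exact hnorm.conj_mem ⟨v, hPS hv⟩ hv ⟨u, huS⟩
  obtain ⟨N, hNn, hNne, hNcop⟩ : ∃ N : Subgroup S, N.Normal ∧ N ≠ ⊥ ∧
      (Nat.card N).Coprime p := by
    by_contra hne
    push Not at hne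
    apply hB0
    refine le_bot_iff.mp (sSup_le ?_)
    rintro N ⟨hN1, hN2⟩
    by_contra hb
    exact hne N hN1 (fun h => hb (h ▸ le_rfl)) hN2
  set B := N.map S.subtype with hB
  have hBn : S ≤ Subgroup.normalizer (B : Set G) := by
    intro s hs
    refine Subgroup.mem_normalizer_fintype (S := (B : Set G)) ?_
    rintro _ ⟨n, hn, rfl⟩
    exact ⟨_, hNn.conj_mem n hn ⟨s, hs⟩, rfl⟩
  have hBne : B ≠ ⊥ := by
    rw [hB, Ne, Subgroup.map_eq_bot_iff, Subgroup.ker_subtype]
    exact fun h => hNne (le_bot_iff.mp h)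
  have hBcard : Nat.card B = Nat.card N :=
    Subgroup.card_map_of_injective S.subtype_injective
  have hB2 : IsPGroup 2 B := by
    refine IsPGroup.iff_card.mpr ⟨(Nat.card B).primeFactorsList.length,
      Nat.eq_prime_pow_of_unique_prime_dvd Nat.card_pos.ne' fun {d} hd hdB => ?_⟩
    rw [hBcard] at hdB
    rcases hC.sub S hSne h2S d hd (hdB.trans N.card_subgroup_dvd_card) with h | h
    · subst h
      exact absurd hdB (hC.hp.coprime_iff_not_dvd.mp hNcop.symm)
    · exact h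
  have hBQ : B ≤ (Q : Subgroup G) := by
    have hsup := Q.isPGroup'.to_sup_of_normal_right' hB2 (hQy.trans hBn)
    exact le_sup_right.trans (Q.is_maximal' hsup le_sup_left).le
  obtain ⟨u, huS, hup, b, hb, hnc⟩ := hmove B hBne hBQ hBn
  obtain ⟨hBeq, htr⟩ := hC.moves Q hBQ hup (hBn huS) hb hnc
  have hSQ : S ≤ Subgroup.normalizer ((Q : Subgroup G) : Set G) := hBeq ▸ hBn
  refine ⟨?_, hSQ⟩
  -- `u` commutes with `y`
  have huy : Commute u y :=
    hC.comm_norm (isPGroup_zpowers hy) hup huS (Subgroup.mem_zpowers y)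
  -- all nontrivial elements of `Q` act on `y` in the same way
  have hsame : ∀ z ∈ (Q : Subgroup G), z ≠ 1 → ∀ z' ∈ (Q : Subgroup G), z' ≠ 1 →
      z * y * z⁻¹ = z' * y * z'⁻¹ := by
    intro z hz h1 z' hz' h1'
    obtain ⟨k, hk⟩ := htr z hz h1 z' hz' h1'
    have hzy : z * y * z⁻¹ ∈ Subgroup.zpowers y :=
      (Subgroup.mem_normalizer_iff.mp (hQy hz) y).mp (Subgroup.mem_zpowers y)
    obtain ⟨m, hm⟩ := Subgroup.mem_zpowers_iff.mp hzy
    have hck : Commute (u ^ k) y := huy.pow_left k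
    calc z * y * z⁻¹ = u ^ k * (z * y * z⁻¹) * (u ^ k)⁻¹ := by
          rw [← hm, (hck.zpow_right m).eq, mul_inv_cancel_right]
      _ = (u ^ k * z * (u ^ k)⁻¹) * (u ^ k * y * (u ^ k)⁻¹) * (u ^ k * z * (u ^ k)⁻¹)⁻¹ := by
          group
      _ = z' * y * z'⁻¹ := by rw [hk, hck.eq, mul_inv_cancel_right]
  intro z hz
  by_cases h1 : z = 1
  · exact h1 ▸ Commute.one_right y
  obtain ⟨w, hw, hw1, hwz⟩ : ∃ w ∈ (Q : Subgroup G), w ≠ 1 ∧ w ≠ z := by
    by_contra hne
    push Not at hne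
    have hsub : ((Q : Subgroup G) : Set G) ⊆ {1, z} := fun w hw => by
      by_cases h : w = 1
      · exact Or.inl h
      · exact Or.inr (hne w hw h)
    have h := (Set.ncard_le_ncard hsub (Set.toFinite _)).trans (Set.ncard_insert_le _ _)
    rw [← Nat.card_coe_set_eq, Set.ncard_singleton] at h
    change Nat.card (Q : Subgroup G) ≤ 2 at h
    have := hC.card_Q Q
    have := hC.hp.two_le
    omega
  have hzw1 : z * w ≠ 1 := fun h => hwz (by
    have := hC.sq Q z hz
    exact (mul_left_cancel (h.trans this.symm)))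
  have e1 := hsame z hz h1 (z * w) (mul_mem hz hw) hzw1
  have e2 : w * y * w⁻¹ = y := by
    rw [show z * w * y * (z * w)⁻¹ = z * (w * y * w⁻¹) * z⁻¹ by group] at e1
    exact (mul_left_cancel (mul_right_cancel e1)).symm
  have e3 := hsame w hw hw1 z hz h1
  rw [e2] at e3
  exact (mul_inv_eq_iff_eq_mul.mp e3.symm).symm

/-- Products of two involutions. -/
theorem prod_cases {i t : G} (hi1 : i ≠ 1) (hi : i * i = 1) (ht : t * t = 1) (hit : i ≠ t) :
    (∃ z : G, z ≠ 1 ∧ z * z = 1 ∧ Commute z i ∧ Commute z t) ∨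
    (PEl p (i * t) ∧ i * t ≠ 1 ∧ i * (i * t) * i⁻¹ = (i * t)⁻¹ ∧
      t * (i * t) * t⁻¹ = (i * t)⁻¹) := by
  have hii : i⁻¹ = i := inv_eq_of_mul_eq_one_right hi
  have htt : t⁻¹ = t := inv_eq_of_mul_eq_one_right ht
  have e1 : i * (i * t) * i⁻¹ = (i * t)⁻¹ := by
    rw [mul_inv_rev, hii, htt, ← mul_assoc i i, hi, one_mul]
  have e2 : t * (i * t) * t⁻¹ = (i * t)⁻¹ := by
    rw [mul_inv_rev, hii, htt, ← mul_assoc, mul_assoc _ t t, ht, mul_one]
  have hne : i * t ≠ 1 := fun h => hit (by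
    calc i = i * t * t := by rw [mul_assoc, ht, mul_one]
      _ = t := by rw [h, one_mul])
  by_cases heven : 2 ∣ orderOf (i * t)
  · obtain ⟨m, hm⟩ := heven
    left
    set w := i * t with hw
    have hwpos := orderOf_pos w
    have hz2 : w ^ m * w ^ m = 1 := by
      rw [← pow_add, show m + m = orderOf w by omega, pow_orderOf_eq_one]
    have hzinv : (w ^ m)⁻¹ = w ^ m := inv_eq_of_mul_eq_one_right hz2
    refine ⟨w ^ m, pow_ne_one_of_lt_orderOf (by omega) (by omega), hz2, ?_, ?_⟩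
    · have : i * w ^ m * i⁻¹ = w ^ m := by rw [← conj_pow, e1, inv_pow, hzinv]
      exact (mul_inv_eq_iff_eq_mul.mp this).symm
    · have : t * w ^ m * t⁻¹ = w ^ m := by rw [← conj_pow, e2, inv_pow, hzinv]
      exact (mul_inv_eq_iff_eq_mul.mp this).symm
  · right
    refine ⟨?_, hne, e1, e2⟩
    exact hC.odd_pel (hC.normalizer_zpowers_ne_top hne)
      (hC.two_dvd_of_mem (mem_normalizer_zpowers_of_invert e1) hi1 hi)
      (Subgroup.le_normalizer (Subgroup.mem_zpowers _)) heven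

theorem exists_involution_outside (Q : Sylow 2 G) :
    ∃ t : G, t ≠ 1 ∧ t * t = 1 ∧ t ∉ (Q : Subgroup G) := by
  by_contra hne
  push Not at hne
  have hn : (Q : Subgroup G).Normal := ⟨fun n hn g => by
    by_cases h1 : n = 1
    · subst h1; simp
    · refine hne _ (fun h => h1 ?_) ?_
      · exact mul_left_cancel ((mul_inv_eq_one.mp h).trans (mul_one g).symm)
      · rw [show g * n * g⁻¹ * (g * n * g⁻¹) = g * (n * n) * g⁻¹ by group, hC.sq Q n hn,
          mul_one, mul_inv_cancel]⟩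
  obtain ⟨i, hi, hi1⟩ := hC.exists_inv_mem Q
  refine hC.sylow_two_ne_top Q (hC.bot_or_top _ hn fun h => hi1 ?_)
  rw [h] at hi
  exact Subgroup.mem_bot.mp hi

theorem inv_mem_of_normalizer (Q : Sylow 2 G) {z : G} (hz : z * z = 1)
    (hzN : z ∈ Subgroup.normalizer ((Q : Subgroup G) : Set G)) : z ∈ (Q : Subgroup G) := by
  have h := (isPGroup_zpowers (p := 2) (x := z) ⟨1, by rw [pow_one, pow_two, hz]⟩)
  have hsup := h.to_sup_of_normal_right' Q.isPGroup' (Subgroup.zpowers_le.mpr hzN)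
  rw [← Q.is_maximal' hsup le_sup_right]
  exact Subgroup.mem_sup_left (Subgroup.mem_zpowers _)

/-- A `p`-element centralised by no involution: its centraliser is a Sylow subgroup. -/
theorem centralizer_eq_sylow {i w : G} (hi1 : i ≠ 1) (hi : i * i = 1) (hw : PEl p w)
    (hw1 : w ≠ 1) (hiw : i * w * i⁻¹ = w⁻¹)
    (hno : ∀ j : G, j ≠ 1 → j * j = 1 → ¬ Commute j w) :
    ∃ P : Sylow p G, (P : Subgroup G) = Subgroup.centralizer ({w} : Set G) ∧
      i ∈ Subgroup.normalizer ((P : Subgroup G) : Set G) := by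
  haveI := Fact.mk hC.hp
  obtain ⟨P, hP⟩ := (isPGroup_zpowers hw).exists_le_sylow
  have hwP : w ∈ (P : Subgroup G) := hP (Subgroup.mem_zpowers w)
  have hPC : (P : Subgroup G) ≤ Subgroup.centralizer ({w} : Set G) := fun u hu =>
    Subgroup.mem_centralizer_singleton_iff.mpr (hC.comm_pgroup P.isPGroup' hu hwP)
  have hCp : IsPGroup p (Subgroup.centralizer ({w} : Set G)) := by
    rintro ⟨c, hc⟩
    have hcS := centralizer_le_normalizer_zpowers w hc
    have h2 : ¬ 2 ∣ orderOf c := by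
      rintro ⟨m, hm⟩
      have hcpos := orderOf_pos c
      refine hno (c ^ m) (pow_ne_one_of_lt_orderOf (by omega) (by omega))
        (by rw [← pow_add, show m + m = orderOf c by omega, pow_orderOf_eq_one])
        (Commute.pow_left (Subgroup.mem_centralizer_singleton_iff.mp hc) m)
    obtain ⟨k, hk⟩ := hC.odd_pel (hC.normalizer_zpowers_ne_top hw1)
      (hC.two_dvd_of_mem (mem_normalizer_zpowers_of_invert hiw) hi1 hi) hcS h2
    exact ⟨k, Subtype.ext hk⟩
  have heq : (P : Subgroup G) = Subgroup.centralizer ({w} : Set G) :=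
    (P.is_maximal' hCp hPC).symm
  refine ⟨P, heq, ?_⟩
  rw [heq]
  refine Subgroup.mem_normalizer_fintype (S := (Subgroup.centralizer ({w} : Set G) : Set G)) ?_
  intro c hc
  rw [SetLike.mem_coe, Subgroup.mem_centralizer_singleton_iff] at hc ⊢
  have hc' : Commute c w⁻¹ := Commute.inv_right hc
  have : i * w⁻¹ * i⁻¹ = w := by
    rw [← conj_inv, hiw, inv_inv]
  calc i * c * i⁻¹ * w = i * c * i⁻¹ * (i * w⁻¹ * i⁻¹) := by rw [this]
    _ = i * (c * w⁻¹) * i⁻¹ := by group
    _ = i * (w⁻¹ * c) * i⁻¹ := by rw [hc'.eq]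
    _ = (i * w⁻¹ * i⁻¹) * (i * c * i⁻¹) := by group
    _ = w * (i * c * i⁻¹) := by rw [this]

/-- In an `i`-invariant abelian `p`-group whose elements commuting with `i` are trivial, `i`
inverts. -/
theorem inverts {P : Subgroup G} (hP : IsPGroup p P) {i : G} (hi : i * i = 1)
    (hiP : i ∈ Subgroup.normalizer (P : Set G))
    (hfix : ∀ f ∈ P, Commute f i → f = 1) {u : G} (hu : u ∈ P) : i * u * i⁻¹ = u⁻¹ := by
  have hii : i⁻¹ = i := inv_eq_of_mul_eq_one_right hi
  have hu' : i * u * i⁻¹ ∈ P := (Subgroup.mem_normalizer_iff.mp hiP u).mp hu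
  have hc : Commute u (i * u * i⁻¹) := hC.comm_pgroup hP hu hu'
  have e : i * (u * (i * u * i⁻¹)) * i⁻¹ = u * (i * u * i⁻¹) := by
    calc i * (u * (i * u * i⁻¹)) * i⁻¹ = (i * u * i⁻¹) * ((i * i) * u * (i * i)⁻¹) := by group
      _ = (i * u * i⁻¹) * u := by rw [hi, inv_one, one_mul, mul_one]
      _ = u * (i * u * i⁻¹) := hc.eq.symm
  have h1 := hfix _ (mul_mem hu hu') (mul_inv_eq_iff_eq_mul.mp e).symm
  exact (inv_eq_of_mul_eq_one_right h1).symm

/-- First case: `C(Q)` contains a nontrivial `p`-element. -/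
theorem case_central (Q : Sylow 2 G) {y : G} (hy : PEl p y) (hy1 : y ≠ 1)
    (hyQ : ∀ z ∈ (Q : Subgroup G), Commute y z) : False := by
  haveI := Fact.mk hC.hp
  -- the same is true for the conjugates of `Q`
  have hall : ∀ Q' : Sylow 2 G, ∃ y' : G, PEl p y' ∧ y' ≠ 1 ∧
      ∀ z ∈ (Q' : Subgroup G), Commute y' z := by
    intro Q'
    obtain ⟨g, rfl⟩ := MulAction.exists_smul_eq G Q Q'
    refine ⟨g * y * g⁻¹, pel_conj hy g, ?_, ?_⟩
    · intro h
      exact hy1 (mul_left_cancel ((mul_inv_eq_one.mp h).trans (mul_one g).symm))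
    · intro z hz
      rw [Sylow.coe_subgroup_smul, Subgroup.mem_pointwise_smul_iff_inv_smul_mem] at hz
      have hz' : g⁻¹ * z * g ∈ (Q : Subgroup G) := by simpa [mul_assoc] using hz
      have := (hyQ _ hz').map (MulAut.conj g).toMonoidHom
      simpa [mul_assoc] using this
  -- the normaliser of a central `p`-element
  have hN : ∀ (Q' : Sylow 2 G) (y' : G), PEl p y' → y' ≠ 1 →
      (∀ z ∈ (Q' : Subgroup G), Commute y' z) →
      Subgroup.normalizer (Subgroup.zpowers y' : Set G) ≤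
        Subgroup.normalizer ((Q' : Subgroup G) : Set G) := by
    intro Q' y' hy' hy'1 hyQ'
    rcases hC.star Q' hy' hy'1
        (fun z hz => mem_normalizer_zpowers_of_commute (hyQ' z hz).symm) with
      ⟨P, -, -, hPall, hQP⟩ | ⟨-, h⟩
    · exfalso
      obtain ⟨x, hx, hxN, htr⟩ := hC.mover Q'
      obtain ⟨i, hi, hi1⟩ := hC.exists_inv_mem Q'
      -- `x` commutes with `y'`
      have hxy : Commute x y' := by
        let V : Subgroup G :=
          { carrier := {v | (∀ z ∈ (Q' : Subgroup G), Commute v z) ∧ PEl p v}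
            one_mem' := ⟨fun z _ => Commute.one_left z, 0, by simp⟩
            mul_mem' := fun {v w} hv hw => ⟨fun z hz => (hv.1 z hz).mul_left (hw.1 z hz),
              pel_mul hv.2 hw.2 (hC.cI_comm Q' hi hi1 hv.2 (hv.1 i hi) hw.2 (hw.1 i hi))⟩
            inv_mem' := fun {v} hv => ⟨fun z hz => (hv.1 z hz).inv_left, pel_inv hv.2⟩ }
        have hV : IsPGroup p V := by
          rintro ⟨v, hv⟩
          obtain ⟨k, hk⟩ := hv.2
          exact ⟨k, Subtype.ext hk⟩
        refine hC.comm_norm hV hx ?_ (show y' ∈ V from ⟨hyQ', hy'⟩)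
        refine Subgroup.mem_normalizer_fintype (S := (V : Set G)) ?_
        intro v hv
        refine ⟨fun z hz => ?_, pel_conj hv.2 x⟩
        have hz' : x⁻¹ * z * x ∈ (Q' : Subgroup G) := by
          have := (Subgroup.mem_normalizer_iff.mp (inv_mem hxN) z).mp hz
          simpa [mul_assoc] using this
        have := (hv.1 _ hz').map (MulAut.conj x).toMonoidHom
        simpa [mul_assoc] using this
      have hxP : x ∈ (P : Subgroup G) := hPall x (mem_normalizer_zpowers_of_commute hxy) hx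
      have hc : ∀ {z : G}, z ∈ (Q' : Subgroup G) → Commute x z := fun {z} hz =>
        hC.commute_Q_of_mem Q' P.isPGroup' (fun z hz => hQP hz) hxP hxN hz
      obtain ⟨j, hj, hj1, hji⟩ : ∃ j ∈ (Q' : Subgroup G), j ≠ 1 ∧ j ≠ i := by
        by_contra hne
        push Not at hne
        have hsub : ((Q' : Subgroup G) : Set G) ⊆ {1, i} := fun w hw => by
          by_cases h : w = 1
          · exact Or.inl h
          · exact Or.inr (hne w hw h)
        have h := (Set.ncard_le_ncard hsub (Set.toFinite _)).trans (Set.ncard_insert_le _ _)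
        rw [← Nat.card_coe_set_eq, Set.ncard_singleton] at h
        change Nat.card (Q' : Subgroup G) ≤ 2 at h
        have := hC.card_Q Q'
        have := hC.hp.two_le
        omega
      obtain ⟨k, hk⟩ := htr i hi hi1 j hj hj1
      rw [((hc hi).pow_left k).eq, mul_inv_cancel_right] at hk
      exact hji hk.symm
    · exact h
  -- centralisers of involutions
  have hcent : ∀ (Q' : Sylow 2 G) (i : G), i ∈ (Q' : Subgroup G) → i ≠ 1 → ∀ u : G,
      Commute u i → PEl p u → ∀ z ∈ (Q' : Subgroup G), Commute u z := by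
    intro Q' i hi hi1 u hu hup
    obtain ⟨y', hy', hy'1, hyQ'⟩ := hall Q'
    have hc : Commute u y' := hC.cI_comm Q' hi hi1 hup hu hy' (hyQ' i hi)
    exact fun z hz => hC.commute_of_fix Q' hup
      (hN Q' y' hy' hy'1 hyQ' (mem_normalizer_zpowers_of_commute hc)) hi hi1 hu hz
  have hcentle : ∀ (Q' : Sylow 2 G) (i : G), i ∈ (Q' : Subgroup G) → i ≠ 1 →
      Subgroup.centralizer ({i} : Set G) ≤ Subgroup.normalizer ((Q' : Subgroup G) : Set G) := by
    intro Q' i hi hi1
    refine hC.cI_le Q' hi hi1 _ Subgroup.le_normalizer fun u hu hup => ?_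
    refine Subgroup.mem_normalizer_fintype (S := ((Q' : Subgroup G) : Set G)) ?_
    intro z hz
    rw [(hcent Q' i hi hi1 u hu hup z hz).eq, mul_inv_cancel_right]
    exact hz
  obtain ⟨i, hi, hi1⟩ := hC.exists_inv_mem Q
  have hi2 := hC.sq Q i hi
  obtain ⟨t, ht1, ht2, htQ⟩ := hC.exists_involution_outside Q
  have hit : i ≠ t := fun h => htQ (h ▸ hi)
  rcases hC.prod_cases hi1 hi2 ht2 hit with ⟨z, hz1, hz2, hzi, hzt⟩ | ⟨hwp, hw1, hiw, -⟩
  · have hzQ := hC.inv_mem_of_normalizer Q hz2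
      (hcentle Q i hi hi1 (Subgroup.mem_centralizer_singleton_iff.mpr hzi))
    exact htQ (hC.inv_mem_of_normalizer Q ht2
      (hcentle Q z hzQ hz1 (Subgroup.mem_centralizer_singleton_iff.mpr hzt.symm)))
  set w := i * t with hw
  have hno : ∀ j : G, j ≠ 1 → j * j = 1 → ¬ Commute j w := by
    intro j hj1 hj2 hjw
    obtain ⟨Q', hjQ'⟩ := hC.inv_mem_sylow hj2
    have hwQ' := hcent Q' j hjQ' hj1 w hjw.symm hwp
    have hiQ' := hC.inv_mem_of_normalizer Q' hi2
      (hN Q' w hwp hw1 hwQ' (mem_normalizer_zpowers_of_invert hiw))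
    rw [(hwQ' i hiQ').symm.eq, mul_inv_cancel_right] at hiw
    exact hw1 (pel_one_of_sq hC.hp hC.hp2 hwp
      (by conv_lhs => arg 1; rw [hiw]
          exact inv_mul_cancel w))
  obtain ⟨P, hPC, hiP⟩ := hC.centralizer_eq_sylow hi1 hi2 hwp hw1 hiw hno
  have hwP : w ∈ (P : Subgroup G) := by
    rw [hPC]; exact Subgroup.mem_centralizer_singleton_iff.mpr rfl
  have hinv : ∀ u ∈ (P : Subgroup G), i * u * i⁻¹ = u⁻¹ := fun u hu =>
    hC.inverts P.isPGroup' hi2 hiP (fun f hf hfi => by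
      by_contra hf1
      have hfp := pel_of_mem P.isPGroup' hf
      have hwN := hN Q f hfp hf1 (hcent Q i hi hi1 f hfi hfp)
        (mem_normalizer_zpowers_of_commute (hC.comm_pgroup P.isPGroup' hwP hf))
      have htN : t ∈ Subgroup.normalizer ((Q : Subgroup G) : Set G) := by
        have h := mul_mem (Subgroup.le_normalizer hi) hwN
        rwa [hw, ← mul_assoc, hi2, one_mul] at h
      exact htQ (hC.inv_mem_of_normalizer Q ht2 htN)) hu
  obtain ⟨P₀, hP₀⟩ := (isPGroup_zpowers hy).exists_le_sylow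
  obtain ⟨g, hg⟩ := MulAction.exists_smul_eq G P₀ P
  have hy'P : g * y * g⁻¹ ∈ (P : Subgroup G) := by
    rw [← hg, Sylow.coe_subgroup_smul, Subgroup.mem_pointwise_smul_iff_inv_smul_mem]
    simpa [mul_assoc] using hP₀ (Subgroup.mem_zpowers y)
  set y' := g * y * g⁻¹ with hy'
  have hy'1 : y' ≠ 1 := fun h =>
    hy1 (mul_left_cancel ((mul_inv_eq_one.mp h).trans (mul_one g).symm))
  have hyQ' : ∀ z ∈ ((g • Q : Sylow 2 G) : Subgroup G), Commute y' z := by
    intro z hz
    rw [Sylow.coe_subgroup_smul, Subgroup.mem_pointwise_smul_iff_inv_smul_mem] at hz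
    have hz' : g⁻¹ * z * g ∈ (Q : Subgroup G) := by simpa [mul_assoc] using hz
    have := (hyQ _ hz').map (MulAut.conj g).toMonoidHom
    simpa [hy', mul_assoc] using this
  have hiy := hinv y' hy'P
  have hiQ' := hC.inv_mem_of_normalizer (g • Q) hi2
    (hN (g • Q) y' (pel_conj hy g) hy'1 hyQ' (mem_normalizer_zpowers_of_invert hiy))
  rw [(hyQ' i hiQ').symm.eq, mul_inv_cancel_right] at hiy
  exact hy'1 (pel_one_of_sq hC.hp hC.hp2 (pel_conj hy g)
    (by conv_lhs => arg 1; rw [hiy]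
        exact inv_mul_cancel y'))

end Config

end Cfsg.Agent.GStructB.MixedTwoPrime
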