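import Mathlib
import Cfsg.Agent.GStructB.MixedTwoPrime

/-!
# Mixed subgroups and two primes: the cases without central `p`-elements

See `Cfsg.Agent.GStructB.MixedTwoPrime` for the setting.
-/

namespace Cfsg.Agent.GStructB.MixedTwoPrime

set_option linter.unusedSectionVars false
set_option linter.style.haveILetI false

variable {G : Type*} [Group G] [Finite G]

omit [Finite G] in
theorem conj_eq_one {g x : G} (h : g * x * g⁻¹ = 1) : x = 1 :=
  mul_left_cancel ((mul_inv_eq_one.mp h).trans (mul_one g).symm)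

namespace Config

variable {p a : ℕ} (hC : Config G p a)

include hC

theorem exists_other (Q : Sylow 2 G) (i : G) :
    ∃ j ∈ (Q : Subgroup G), j ≠ 1 ∧ j ≠ i := by
  by_contra hne
  push Not at hne
  have hsub : ((Q : Subgroup G) : Set G) ⊆ {1, i} := fun w hw => by
    by_cases h : w = 1
    · exact Or.inl h
    · exact Or.inr (hne w hw h)
  have h := (Set.ncard_le_ncard hsub (Set.toFinite _)).trans (Set.ncard_insert_le _ _)
  rw [← Nat.card_coe_set_eq, Set.ncard_singleton] at h
  change Nat.card (Q : Subgroup G) ≤ 2 at h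
  have := hC.card_Q Q
  have := hC.hp.two_le
  omega

theorem all_conj {i t : G} (hi1 : i ≠ 1) (hi : i * i = 1) (ht1 : t ≠ 1) (ht : t * t = 1) :
    ∃ g : G, g * i * g⁻¹ = t := by
  obtain ⟨Q, hiQ⟩ := hC.inv_mem_sylow hi
  obtain ⟨Q', htQ'⟩ := hC.inv_mem_sylow ht
  obtain ⟨g, rfl⟩ := MulAction.exists_smul_eq G Q Q'
  rw [Sylow.coe_subgroup_smul, Subgroup.mem_pointwise_smul_iff_inv_smul_mem] at htQ'
  have hz : g⁻¹ * t * g ∈ (Q : Subgroup G) := by simpa [mul_assoc] using htQ'
  have hz1 : g⁻¹ * t * g ≠ 1 := fun h => ht1 (conj_eq_one (g := g⁻¹) (by rwa [inv_inv]))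
  obtain ⟨x, -, -, htr⟩ := hC.mover Q
  obtain ⟨k, hk⟩ := htr i hiQ hi1 _ hz hz1
  refine ⟨g * x ^ k, ?_⟩
  rw [show g * x ^ k * i * (g * x ^ k)⁻¹ = g * (x ^ k * i * (x ^ k)⁻¹) * g⁻¹ by group, hk]
  group

/-- Second case: no involution centralises a nontrivial `p`-element. -/
theorem case_count
    (hfree : ∀ j u : G, j ≠ 1 → j * j = 1 → PEl p u → Commute u j → u = 1) : False := by
  haveI := Fact.mk hC.hp
  haveI : Finite (ConjAct G) := inferInstanceAs (Finite G)
  obtain ⟨Q⟩ : Nonempty (Sylow 2 G) := inferInstance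
  have hCQ : ∀ (Q' : Sylow 2 G) (j : G), j ∈ (Q' : Subgroup G) → j ≠ 1 →
      Subgroup.centralizer ({j} : Set G) ≤ (Q' : Subgroup G) := fun Q' j hj hj1 =>
    hC.cI_le Q' hj hj1 _ le_rfl fun u hu hup => by
      rw [hfree j u hj1 (hC.sq Q' j hj) hup hu]
      exact one_mem _
  obtain ⟨i, hi, hi1⟩ := hC.exists_inv_mem Q
  have hi2 := hC.sq Q i hi
  have hii : i⁻¹ = i := inv_eq_of_mul_eq_one_right hi2
  -- a `p`-element inverted by an involution has a Sylow subgroup as centraliser
  have hsyl : ∀ (s w : G), s ≠ 1 → s * s = 1 → PEl p w → w ≠ 1 → s * w * s⁻¹ = w⁻¹ →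
      ∃ P : Sylow p G, (P : Subgroup G) = Subgroup.centralizer ({w} : Set G) ∧
        s ∈ Subgroup.normalizer ((P : Subgroup G) : Set G) := fun s w hs1 hs hw hw1 hsw =>
    hC.centralizer_eq_sylow hs1 hs hw hw1 hsw fun j hj1 hj hjw =>
      hw1 (hfree j w hj1 hj hw hjw.symm)
  -- normalisation means inversion
  have hinv : ∀ (s : G) (P : Sylow p G), s ≠ 1 → s * s = 1 →
      s ∈ Subgroup.normalizer ((P : Subgroup G) : Set G) →
      ∀ u ∈ (P : Subgroup G), s * u * s⁻¹ = u⁻¹ := fun s P hs1 hs hsP u hu =>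
    hC.inverts P.isPGroup' hs hsP (fun f hf hfs =>
      hfree s f hs1 hs (pel_of_mem P.isPGroup' hf) hfs) hu
  -- a Sylow subgroup normalised by an involution is the centraliser of its elements
  have hPC : ∀ (s : G) (P : Sylow p G), s ≠ 1 → s * s = 1 →
      s ∈ Subgroup.normalizer ((P : Subgroup G) : Set G) → ∀ u ∈ (P : Subgroup G), u ≠ 1 →
      (P : Subgroup G) = Subgroup.centralizer ({u} : Set G) := by
    intro s P hs1 hs hsP u hu hu1
    obtain ⟨P', hP', -⟩ := hsyl s u hs1 hs (pel_of_mem P.isPGroup' hu) hu1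
      (hinv s P hs1 hs hsP u hu)
    have hle : (P : Subgroup G) ≤ P' := fun v hv => by
      rw [hP']
      exact Subgroup.mem_centralizer_singleton_iff.mpr (hC.comm_pgroup P.isPGroup' hv hu)
    rw [← hP']
    exact (P.is_maximal' P'.isPGroup' hle).symm
  set T := {t : G | (t ≠ 1 ∧ t * t = 1) ∧ t ∉ (Q : Subgroup G)} with hT
  set Sy := {P : Sylow p G | i ∈ Subgroup.normalizer ((P : Subgroup G) : Set G)} with hSy
  -- the number `m` of elements of a Sylow subgroup
  set m := p ^ (Nat.card G).factorization p with hm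
  have hmP : ∀ P : Sylow p G, Nat.card (P : Subgroup G) = m := fun P => P.card_eq_multiplicity
  have hpm : p ∣ m := dvd_pow_self p
    (hC.hp.factorization_pos_of_dvd Nat.card_pos.ne' hC.hpG).ne'
  -- the outer involutions
  have hmemP : ∀ t ∈ T, ∃ P ∈ Sy, i * t ∈ ((P : Subgroup G) : Set G) \ {1} := by
    rintro t ⟨⟨ht1, ht⟩, htQ⟩
    have hit : i ≠ t := fun h => htQ (h ▸ hi)
    rcases hC.prod_cases hi1 hi2 ht hit with ⟨z, hz1, hz2, hzi, hzt⟩ | ⟨hwp, hw1, hiw, -⟩
    · exact absurd (hCQ Q z (hCQ Q i hi hi1 (Subgroup.mem_centralizer_singleton_iff.mpr hzi)) hz1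
        (Subgroup.mem_centralizer_singleton_iff.mpr hzt.symm)) htQ
    · obtain ⟨P, hP, hiP⟩ := hsyl i _ hi1 hi2 hwp hw1 hiw
      refine ⟨P, hiP, ?_, hw1⟩
      rw [SetLike.mem_coe, hP]
      exact Subgroup.mem_centralizer_singleton_iff.mpr rfl
  have hTcard : T.ncard = Sy.ncard * (m - 1) := by
    classical
    haveI : Fintype Sy := Fintype.ofFinite _
    let f : T → Σ P : Sy, ↥((((P : Sylow p G) : Subgroup G) : Set G) \ {1}) := fun t =>
      ⟨⟨(hmemP t t.2).choose, (hmemP t t.2).choose_spec.1⟩,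
        ⟨i * (t : G), (hmemP t t.2).choose_spec.2⟩⟩
    have hf : Function.Bijective f := by
      constructor
      · intro s t hst
        have h := congrArg (fun r : Σ P : Sy, ↥((((P : Sylow p G) : Subgroup G) : Set G) \ {1}) =>
          ((r.2 : G))) hst
        exact Subtype.ext (mul_left_cancel (show i * (s : G) = i * (t : G) from h))
      · rintro ⟨⟨P, hP⟩, u, hu, hu1⟩
        have huinv := hinv i P hi1 hi2 hP u hu
        have hup := pel_of_mem P.isPGroup' hu
        have ht : i * u * (i * u) = 1 := by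
          rw [hii] at huinv
          rw [← mul_assoc, huinv, inv_mul_cancel]
        have htT : i * u ∈ T := by
          refine ⟨⟨fun h => hu1 ?_, ht⟩, fun h => hu1 ?_⟩
          · rw [mul_eq_one_iff_inv_eq, hii] at h
            exact hC.eq_one_of_mem_both Q hup (h ▸ hi)
          · have := mul_mem hi h
            rw [← mul_assoc, hi2, one_mul] at this
            exact hC.eq_one_of_mem_both Q hup this
        refine ⟨⟨i * u, htT⟩, ?_⟩
        have he : i * (i * u) = u := by rw [← mul_assoc, hi2, one_mul]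
        have hP0 := (hmemP _ htT).choose_spec
        have huniq : ∀ P₁ ∈ Sy, ∀ v : G, v ∈ ((P₁ : Sylow p G) : Subgroup G) → v ≠ 1 →
            v ∈ (P : Subgroup G) → P₁ = P := fun P₁ hP₁ v hv hv1 hvP =>
          Sylow.ext ((hPC i P₁ hi1 hi2 hP₁ v hv hv1).trans (hPC i P hi1 hi2 hP v hvP hv1).symm)
        have hPP := huniq _ hP0.1 _ hP0.2.1 hP0.2.2 (he.symm ▸ hu)
        apply Sigma.subtype_ext
        · exact Subtype.ext hPP
        · exact he
    calc T.ncard = Nat.card T := (Nat.card_coe_set_eq T).symm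
      _ = Nat.card (Σ P : Sy, ↥((((P : Sylow p G) : Subgroup G) : Set G) \ {1})) :=
          Nat.card_eq_of_bijective f hf
      _ = ∑ P : Sy, Nat.card ↥((((P : Sylow p G) : Subgroup G) : Set G) \ {1}) :=
          Nat.card_sigma
      _ = ∑ _P : Sy, (m - 1) := Finset.sum_congr rfl fun P _ => by
          rw [Nat.card_coe_set_eq,
            Set.ncard_sdiff_singleton_of_mem (one_mem ((P : Sylow p G) : Subgroup G)),
            ← Nat.card_coe_set_eq]
          exact congrArg (· - 1) (hmP P)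
      _ = Sy.ncard * (m - 1) := by
          rw [Finset.sum_const, Finset.card_univ, smul_eq_mul, ← Nat.card_eq_fintype_card,
            Nat.card_coe_set_eq]
  -- all involutions
  set I := {t : G | t ≠ 1 ∧ t * t = 1} with hI
  have hIcard : I.ncard = p + Sy.ncard * (m - 1) := by
    have hsub : ((Q : Subgroup G) : Set G) \ {1} ⊆ I := fun z hz => ⟨hz.2, hC.sq Q z hz.1⟩
    have hdiff : I \ (((Q : Subgroup G) : Set G) \ {1}) = T := by
      ext t
      simp only [hI, hT, Set.mem_sdiff, Set.mem_ofPred_eq, Set.mem_singleton_iff, SetLike.mem_coe]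
      tauto
    have hQ1 : (((Q : Subgroup G) : Set G) \ {1}).ncard = p := by
      rw [Set.ncard_sdiff_singleton_of_mem (one_mem (Q : Subgroup G)), ← Nat.card_coe_set_eq]
      change Nat.card (Q : Subgroup G) - 1 = p
      rw [hC.card_Q Q]; omega
    rw [← Set.ncard_sdiff_add_ncard_of_subset hsub (Set.toFinite _), hdiff, hQ1, hTcard, add_comm]
  have hIorb : MulAction.orbit (ConjAct G) i = I := by
    ext t
    constructor
    · rintro ⟨g, rfl⟩
      refine ⟨fun h => hi1 (conj_eq_one h), ?_⟩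
      simp only [ConjAct.smul_def]
      rw [conj_mul, hi2, mul_one, mul_inv_cancel]
    · rintro ⟨ht1, ht⟩
      obtain ⟨g, hg⟩ := hC.all_conj hi1 hi2 ht1 ht
      exact ⟨ConjAct.toConjAct g, (ConjAct.toConjAct_smul g i).trans hg⟩
  have hstab : Nat.card (MulAction.stabilizer (ConjAct G) i) ∣ p + 1 := by
    rw [← hC.card_Q Q]
    refine (dvd_of_eq ?_).trans (Subgroup.card_dvd_of_le (hCQ Q i hi hi1))
    refine Nat.card_congr
      ⟨fun g => ⟨ConjAct.ofConjAct (g : ConjAct G), ?_⟩,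
        fun g => ⟨ConjAct.toConjAct (g : G), ?_⟩, fun g => rfl, fun g => rfl⟩
    · have h := g.2
      rw [MulAction.mem_stabilizer_iff, ConjAct.smul_def, mul_inv_eq_iff_eq_mul] at h
      exact Subgroup.mem_centralizer_singleton_iff.mpr h
    · have h := Subgroup.mem_centralizer_singleton_iff.mp g.2
      rw [MulAction.mem_stabilizer_iff, ConjAct.toConjAct_smul, h, mul_inv_cancel_right]
  have hpI : p ∣ I.ncard := by
    have h := (MulAction.stabilizer (ConjAct G) i).index_mul_card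
    rw [MulAction.index_stabilizer, hIorb] at h
    have hpG : p ∣ I.ncard * Nat.card (MulAction.stabilizer (ConjAct G) i) := by
      rw [h]; exact hC.hpG
    rcases hC.hp.dvd_mul.mp hpG with h' | h'
    · exact h'
    · exact absurd (Nat.dvd_one.mp ((Nat.dvd_add_right dvd_rfl).mp (h'.trans hstab))) hC.hp.ne_one
  rw [hIcard] at hpI
  have hpc : p ∣ Sy.ncard := by
    rcases hC.hp.dvd_mul.mp ((Nat.dvd_add_right dvd_rfl).mp hpI) with h | h
    · exact h
    · have hpos : 0 < m := by rw [hm]; exact pow_pos hC.hp.pos _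
      have h1 : p ∣ 1 := (Nat.dvd_add_right h).mp (by rwa [Nat.sub_add_cancel hpos])
      exact absurd (Nat.dvd_one.mp h1) hC.hp.ne_one
  -- `Q` is transitive on `Sy`
  obtain ⟨t, ht1, ht, htQ⟩ := hC.exists_involution_outside Q
  obtain ⟨P, hP, -⟩ := hmemP t ⟨⟨ht1, ht⟩, htQ⟩
  have horb : MulAction.orbit (Q : Subgroup G) P = Sy := by
    ext P'
    constructor
    · rintro ⟨⟨q, hq⟩, rfl⟩
      change i ∈ Subgroup.normalizer (((q • P : Sylow p G) : Subgroup G) : Set G)
      refine Subgroup.mem_normalizer_fintype (S := (((q • P : Sylow p G) : Subgroup G) : Set G)) ?_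
      intro u hu
      rw [SetLike.mem_coe, Sylow.coe_subgroup_smul, Subgroup.mem_pointwise_smul_iff_inv_smul_mem]
        at hu ⊢
      simp only [← map_inv, MulAut.smul_def, MulAut.conj_apply, inv_inv] at hu ⊢
      have hc : q⁻¹ * i = i * q⁻¹ := hC.comm_Q Q (inv_mem hq) hi
      have hc2 : i⁻¹ * q = q * i⁻¹ := hC.comm_Q Q (inv_mem hi) hq
      rw [show q⁻¹ * (i * u * i⁻¹) * q = q⁻¹ * i * u * (i⁻¹ * q) by group, hc, hc2,
        show i * q⁻¹ * u * (q * i⁻¹) = i * (q⁻¹ * u * q) * i⁻¹ by group]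
      exact (Subgroup.mem_normalizer_iff.mp hP _).mp hu
    · intro hP'
      obtain ⟨g, rfl⟩ := MulAction.exists_smul_eq G P P'
      set i' := g * i * g⁻¹ with hi'
      have hi'1 : i' ≠ 1 := fun h => hi1 (conj_eq_one h)
      have hi'2 : i' * i' = 1 := by rw [hi', conj_mul, hi2, mul_one, mul_inv_cancel]
      have hi'N : i' ∈ Subgroup.normalizer (((g • P : Sylow p G) : Subgroup G) : Set G) := by
        refine Subgroup.mem_normalizer_fintype
          (S := (((g • P : Sylow p G) : Subgroup G) : Set G)) ?_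
        intro u hu
        rw [SetLike.mem_coe, Sylow.coe_subgroup_smul, Subgroup.mem_pointwise_smul_iff_inv_smul_mem]
          at hu ⊢
        simp only [← map_inv, MulAut.smul_def, MulAut.conj_apply, inv_inv] at hu ⊢
        rw [hi', show g⁻¹ * (g * i * g⁻¹ * u * (g * i * g⁻¹)⁻¹) * g
          = i * (g⁻¹ * u * g) * i⁻¹ by group]
        exact (Subgroup.mem_normalizer_iff.mp hP _).mp hu
      -- an element of the Sylow subgroup
      have hPne : ((g • P : Sylow p G) : Subgroup G) ≠ ⊥ := by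
        intro h
        have h1 := hmP (g • P)
        rw [h, Subgroup.card_bot] at h1
        exact hC.hp.ne_one (Nat.dvd_one.mp (h1 ▸ hpm))
      obtain ⟨u, hu, hu1⟩ : ∃ u ∈ ((g • P : Sylow p G) : Subgroup G), u ≠ 1 := by
        by_contra hne
        push Not at hne
        exact hPne ((Subgroup.eq_bot_iff_forall _).mpr hne)
      have hu' : i * i' ∈ ((g • P : Sylow p G) : Subgroup G) := by
        rw [hPC i (g • P) hi1 hi2 hP' u hu hu1]
        refine Subgroup.mem_centralizer_singleton_iff.mpr ?_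
        have e1 := hinv i' (g • P) hi'1 hi'2 hi'N u hu
        have e2 := hinv i (g • P) hi1 hi2 hP' u⁻¹ (inv_mem hu)
        rw [inv_inv, ← e1] at e2
        refine mul_inv_eq_iff_eq_mul.mp ?_
        rw [show i * i' * u * (i * i')⁻¹ = i * (i' * u * i'⁻¹) * i⁻¹ by group]
        exact e2
      -- a square root
      set u' := i * i' with hu'def
      obtain ⟨k, hk⟩ := pel_of_mem (g • P).isPGroup' hu'
      obtain ⟨l, hl⟩ : Odd (p ^ k) := (hC.hp.odd_of_ne_two hC.hp2).pow
      set v := u' ^ l with hv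
      have hv2 : v * v = u'⁻¹ := by
        rw [hv, ← pow_add, eq_inv_iff_mul_eq_one, ← pow_succ, show l + l + 1 = p ^ k by omega, hk]
      have hvP : v ∈ ((g • P : Sylow p G) : Subgroup G) := pow_mem hu' l
      have hconj : v * i * v⁻¹ = i' := by
        have e := hinv i (g • P) hi1 hi2 hP' v hvP
        calc v * i * v⁻¹ = i * (i⁻¹ * v * i) * v⁻¹ := by group
          _ = i * (i * v * i⁻¹) * v⁻¹ := by rw [hii]
          _ = i * (v * v)⁻¹ := by rw [e]; group
          _ = i' := by rw [hv2, inv_inv, hu'def, ← mul_assoc, hi2, one_mul]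
      have hh : v⁻¹ * g ∈ (Q : Subgroup G) := by
        refine hCQ Q i hi hi1 (Subgroup.mem_centralizer_singleton_iff.mpr
          (mul_inv_eq_iff_eq_mul.mp ?_))
        rw [show v⁻¹ * g * i * (v⁻¹ * g)⁻¹ = v⁻¹ * (g * i * g⁻¹) * v by group, ← hi', ← hconj]
        group
      refine ⟨⟨v⁻¹ * g, hh⟩, ?_⟩
      change (v⁻¹ * g) • P = g • P
      rw [mul_smul, Sylow.smul_eq_iff_mem_normalizer]
      exact Subgroup.le_normalizer (inv_mem hvP)
  have hdiv : Sy.ncard ∣ p + 1 := by
    rw [← horb, ← MulAction.index_stabilizer, ← hC.card_Q Q]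
    exact Subgroup.index_dvd_card _
  exact hC.hp.ne_one (Nat.dvd_one.mp ((Nat.dvd_add_right dvd_rfl).mp (hpc.trans hdiv)))

/-- `P` is the set of `p`-elements of the normaliser of `⟨y⟩`. -/
def Good (P : Sylow p G) (y : G) : Prop :=
  y ∈ (P : Subgroup G) ∧
    ∀ u ∈ Subgroup.normalizer (Subgroup.zpowers y : Set G), PEl p u → u ∈ (P : Subgroup G)

theorem good_eq {P P' : Sylow p G} {y y' : G} (h : Good P y) (h' : Good P' y')
    (hc : Commute y y') : P = P' := by
  have hy'P : y' ∈ (P : Subgroup G) :=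
    h.2 y' (mem_normalizer_zpowers_of_commute hc.symm) (pel_of_mem P'.isPGroup' h'.1)
  refine Sylow.ext (P.is_maximal' P'.isPGroup' fun u hu => ?_).symm
  exact h'.2 u (mem_normalizer_zpowers_of_commute (hC.comm_pgroup P.isPGroup' hu hy'P))
    (pel_of_mem P.isPGroup' hu)

theorem no_transport (Q : Sylow 2 G) {P : Sylow p G} {x y : G} (hx : PEl p x)
    (hxQ : x ∈ Subgroup.normalizer ((Q : Subgroup G) : Set G))
    (hy : Good P y) (hy' : Good P (x * y * x⁻¹))
    (hQP : (Q : Subgroup G) ≤ Subgroup.normalizer ((P : Subgroup G) : Set G)) {z : G}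
    (hz : z ∈ (Q : Subgroup G)) : Commute x z := by
  have hxP : x ∈ Subgroup.normalizer ((P : Subgroup G) : Set G) := by
    refine Subgroup.mem_normalizer_fintype (S := ((P : Subgroup G) : Set G)) ?_
    intro u hu
    have hc : Commute u y := hC.comm_pgroup P.isPGroup' hu hy.1
    refine hy'.2 _ (mem_normalizer_zpowers_of_commute ?_) (pel_conj (pel_of_mem P.isPGroup' hu) x)
    simpa using hc.map (MulAut.conj x).toMonoidHom
  exact hC.commute_Q_of_mem Q P.isPGroup' (fun z hz => hQP hz) (hC.mem_of_norm P hx hxP) hxQ hz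

theorem exists_good (hV : ∀ (Q : Sylow 2 G) (y : G), PEl p y →
      (∀ z ∈ (Q : Subgroup G), Commute y z) → y = 1)
    (Q : Sylow 2 G) {y : G} (hy : PEl p y) (hy1 : y ≠ 1)
    (hQy : (Q : Subgroup G) ≤ Subgroup.normalizer (Subgroup.zpowers y : Set G)) :
    ∃ P : Sylow p G, Good P y ∧
      (Q : Subgroup G) ≤ Subgroup.normalizer ((P : Subgroup G) : Set G) := by
  rcases hC.star Q hy hy1 hQy with ⟨P, hyP, -, hall, hQP⟩ | ⟨h, -⟩
  · exact ⟨P, ⟨hyP, hall⟩, hQP⟩
  · exact absurd (hV Q y hy h) hy1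

/-- A `p`-element centralised by a largest subgroup of `Q` is inverted by the others; this forces
`|Q| = 4`. -/
theorem card_Q_eq_four
    (hV : ∀ (Q : Sylow 2 G) (y : G), PEl p y → (∀ z ∈ (Q : Subgroup G), Commute y z) → y = 1)
    {i₀ y₀ : G} (hi₀1 : i₀ ≠ 1) (hi₀ : i₀ * i₀ = 1) (hy₀ : PEl p y₀) (hy₀1 : y₀ ≠ 1)
    (hc₀ : Commute y₀ i₀) : p + 1 = 4 := by
  by_contra h4
  obtain ⟨Q, hi₀Q⟩ := hC.inv_mem_sylow hi₀
  set SS := {E : Subgroup G | E ≤ (Q : Subgroup G) ∧ E ≠ ⊥ ∧
    ∃ y : G, PEl p y ∧ y ≠ 1 ∧ ∀ e ∈ E, Commute y e} with hSS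
  have hne : SS.Nonempty := by
    refine ⟨Subgroup.zpowers i₀, Subgroup.zpowers_le.mpr hi₀Q,
      by simpa using hi₀1, y₀, hy₀, hy₀1, ?_⟩
    intro e he
    obtain ⟨m, rfl⟩ := Subgroup.mem_zpowers_iff.mp he
    exact hc₀.zpow_right m
  obtain ⟨E, ⟨hEQ, hEne, y, hy, hy1, hyE⟩, hmax⟩ :=
    Set.exists_max_image SS (fun E => Nat.card E) (Set.toFinite _) hne
  obtain ⟨e, he, he1⟩ : ∃ e ∈ E, e ≠ 1 := by
    by_contra h
    push Not at h
    exact hEne ((Subgroup.eq_bot_iff_forall _).mpr h)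
  have hinv : ∀ j ∈ (Q : Subgroup G), j ∉ E → j * y * j⁻¹ = y⁻¹ := by
    intro j hj hjE
    have hje : ∀ e' ∈ E, Commute (j * y * j⁻¹) e' := by
      intro e' he'
      have h := (hyE e' he').map (MulAut.conj j).toMonoidHom
      simp only [MulEquiv.coe_toMonoidHom, MulAut.conj_apply] at h
      rwa [(hC.comm_Q Q hj (hEQ he')).eq, mul_inv_cancel_right] at h
    have hcy : Commute y (j * y * j⁻¹) :=
      hC.cI_comm Q (hEQ he) he1 hy (hyE e he) (pel_conj hy j) (hje e he)
    set f := y * (j * y * j⁻¹) with hf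
    have hjj : j⁻¹ = j := inv_eq_of_mul_eq_one_right (hC.sq Q j hj)
    have hfj : Commute f j := by
      refine (mul_inv_eq_iff_eq_mul.mp ?_).symm
      calc j * f * j⁻¹ = (j * y * j⁻¹) * ((j * j) * y * (j * j)⁻¹) := by rw [hf]; group
        _ = f := by rw [hC.sq Q j hj, one_mul, inv_one, mul_one, hf, hcy.eq]
    by_contra hne'
    have hf1 : f ≠ 1 := fun h => hne' (inv_eq_of_mul_eq_one_right h).symm
    have hle : E ⊔ Subgroup.zpowers j ≤ Subgroup.centralizer ({f} : Set G) :=
      sup_le (fun e' he' => Subgroup.mem_centralizer_singleton_iff.mpr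
          ((hyE e' he').mul_left (hje e' he')).symm)
        (Subgroup.zpowers_le.mpr (Subgroup.mem_centralizer_singleton_iff.mpr hfj.symm))
    have hmem : E ⊔ Subgroup.zpowers j ∈ SS :=
      ⟨sup_le hEQ (Subgroup.zpowers_le.mpr hj), fun h => hEne (le_bot_iff.mp (le_sup_left.trans h.le)),
        f, pel_mul hy (pel_conj hy j) hcy, hf1,
        fun z hz => (Subgroup.mem_centralizer_singleton_iff.mp (hle hz) : z * f = f * z).symm⟩
    have heq : E = E ⊔ Subgroup.zpowers j :=
      Subgroup.eq_of_le_of_card_ge le_sup_left (hmax _ hmem)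
    exact hjE (heq ▸ Subgroup.mem_sup_right (Subgroup.mem_zpowers j))
  have hprod : ∀ j ∈ (Q : Subgroup G), j ∉ E → ∀ k ∈ (Q : Subgroup G), k ∉ E → j * k ∈ E := by
    intro j hj hjE k hk hkE
    by_contra hjk
    have h := hinv _ (mul_mem hj hk) hjk
    rw [show j * k * y * (j * k)⁻¹ = j * (k * y * k⁻¹) * j⁻¹ by group, hinv k hk hkE, ← conj_inv,
      hinv j hj hjE, inv_inv] at h
    exact hy1 (pel_one_of_sq hC.hp hC.hp2 hy (by conv_lhs => arg 2; rw [h]
                                                 exact mul_inv_cancel y))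
  -- `|Q| ≤ 2 |E|`
  have hEbig : p + 1 ≤ 2 * Nat.card E := by
    by_cases hj : ∃ j ∈ (Q : Subgroup G), j ∉ E
    · obtain ⟨j, hj, hjE⟩ := hj
      have hsub : ((Q : Subgroup G) : Set G) ⊆ (E : Set G) ∪ (fun e => j * e) '' (E : Set G) := by
        intro q hq
        by_cases hqE : q ∈ E
        · exact Or.inl hqE
        · exact Or.inr ⟨j⁻¹ * q,
            hprod _ (inv_mem hj) (fun h => hjE (inv_mem_iff.mp h)) q hq hqE, mul_inv_cancel_left j q⟩
      have h := (Set.ncard_le_ncard hsub (Set.toFinite _)).trans (Set.ncard_union_le _ _)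
      have h' := Set.ncard_image_le (f := fun e => j * e) (s := (E : Set G)) (Set.toFinite _)
      have e1 : ((Q : Subgroup G) : Set G).ncard = p + 1 := by
        rw [← Nat.card_coe_set_eq]; exact hC.card_Q Q
      have e2 : (E : Set G).ncard = Nat.card E := (Nat.card_coe_set_eq _).symm
      omega
    · push Not at hj
      have h := Subgroup.card_le_of_le (K := E) (H := (Q : Subgroup G)) hj
      rw [hC.card_Q Q] at h
      omega
  have hQy : (Q : Subgroup G) ≤ Subgroup.normalizer (Subgroup.zpowers y : Set G) := by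
    intro q hq
    by_cases hqE : q ∈ E
    · exact mem_normalizer_zpowers_of_commute (hyE q hqE).symm
    · exact mem_normalizer_zpowers_of_invert (hinv q hq hqE)
  obtain ⟨P, hP, hQP⟩ := hC.exists_good hV Q hy hy1 hQy
  obtain ⟨x, hx, hxQ, htr⟩ := hC.mover Q
  set y' := x * y * x⁻¹ with hy'
  have hQy' : (Q : Subgroup G) ≤ Subgroup.normalizer (Subgroup.zpowers y' : Set G) := by
    intro q hq
    have hq' : x⁻¹ * q * x ∈ (Q : Subgroup G) := by
      have := (Subgroup.mem_normalizer_iff.mp (inv_mem hxQ) q).mp hq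
      simpa [mul_assoc] using this
    by_cases hqE : x⁻¹ * q * x ∈ E
    · refine mem_normalizer_zpowers_of_commute ?_
      have h := ((hyE _ hqE).map (MulAut.conj x).toMonoidHom).symm
      simpa [hy', mul_assoc] using h
    · refine mem_normalizer_zpowers_of_invert ?_
      have h := congrArg (fun w => x * w * x⁻¹) (hinv _ hq' hqE)
      simp only [← conj_inv] at h
      rw [← hy'] at h
      rw [← h, hy']
      group
  obtain ⟨P', hP', -⟩ := hC.exists_good hV Q (pel_conj hy x) (fun h => hy1 (conj_eq_one h)) hQy'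
  -- a common involution
  obtain ⟨e₁, he₁, e₂, he₂, hne12⟩ :
      ∃ e₁ ∈ E, ∃ e₂ ∈ E, e₁ * (x * e₂ * x⁻¹) = 1 ∧ e₁ ≠ 1 := by
    by_contra hcon
    push Not at hcon
    have hxE : ∀ e' ∈ E, x * e' * x⁻¹ ∈ (Q : Subgroup G) := fun e' he' =>
      (Subgroup.mem_normalizer_iff.mp hxQ e').mp (hEQ he')
    have hinj : Function.Injective (fun r : E × E =>
        (⟨(r.1 : G) * (x * (r.2 : G) * x⁻¹), mul_mem (hEQ r.1.2) (hxE _ r.2.2)⟩ :
          (Q : Subgroup G))) := by
      rintro ⟨a, b⟩ ⟨c, d⟩ h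
      have h' : (a : G) * (x * (b : G) * x⁻¹) = c * (x * (d : G) * x⁻¹) := congrArg Subtype.val h
      have e3 : ((c : G)⁻¹ * a) * (x * ((b : G) * (d : G)⁻¹) * x⁻¹) = 1 := by
        rw [show (c : G)⁻¹ * a * (x * ((b : G) * (d : G)⁻¹) * x⁻¹)
          = (c : G)⁻¹ * ((a : G) * (x * (b : G) * x⁻¹)) * (x * (d : G) * x⁻¹)⁻¹ by group, h']
        group
      have h1 := hcon _ (mul_mem (inv_mem c.2) a.2) _ (mul_mem b.2 (inv_mem d.2)) e3
      rw [h1, one_mul] at e3
      exact Prod.ext (Subtype.ext (eq_of_inv_mul_eq_one h1).symm)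
        (Subtype.ext (mul_inv_eq_one.mp (conj_eq_one e3)))
    have h := Nat.card_le_card_of_injective _ hinj
    rw [Nat.card_prod, hC.card_Q Q] at h
    have hpa := hC.hpa
    have ha2 := hC.two_le_a
    have ha3 : 3 ≤ a := by
      rcases lt_or_ge a 3 with h3 | h3
      · obtain rfl : a = 2 := by omega
        simp at hpa
        omega
      · exact h3
    have h8 : 8 ≤ p + 1 := by
      rw [hpa]
      exact (by norm_num : (8 : ℕ) ≤ 2 ^ 3).trans (Nat.pow_le_pow_right (by norm_num) ha3)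
    nlinarith
  have hce : Commute y' e₁ := by
    have h1 : e₁ = (x * e₂ * x⁻¹)⁻¹ := eq_inv_of_mul_eq_one_left hne12.1
    rw [h1]
    refine Commute.inv_right ?_
    simpa [hy'] using (hyE e₂ he₂).map (MulAut.conj x).toMonoidHom
  have hcomm := hC.cI_comm Q (hEQ he₁) hne12.2 hy (hyE e₁ he₁) (pel_conj hy x) hce
  obtain rfl := hC.good_eq hP hP' hcomm
  obtain ⟨j, hj, hj1⟩ := hC.exists_inv_mem Q
  obtain ⟨k', hk', hk'1, hk'j⟩ := hC.exists_other Q j
  obtain ⟨k, hk⟩ := htr j hj hj1 k' hk' hk'1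
  rw [((hC.no_transport Q hx hxQ hP hP' hQP hj).pow_left k).eq, mul_inv_cancel_right] at hk
  exact hk'j hk.symm

end Config

end Cfsg.Agent.GStructB.MixedTwoPrime
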