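import Mathlib
import Cfsg.Agent.GStructB.MixedTwoPrimeCount
import Cfsg.Agent.Lib.Cores.Basic

/-!
# Mixed subgroups and two primes: the friendship graph and the reduction

See `Cfsg.Agent.GStructB.MixedTwoPrime` for the setting.
-/

universe u

namespace Cfsg.Agent.GStructB.MixedTwoPrime

set_option linter.unusedSectionVars false
set_option linter.style.haveILetI false

/-- A symmetric loop-free graph, regular of degree `k ≡ 1` modulo a prime `ℓ`, in which two
vertices have exactly one common neighbour, does not exist. -/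
theorem no_friendship {V : Type*} [Fintype V] [DecidableEq V] [Nonempty V] (ℓ : ℕ) [Fact ℓ.Prime]
    (r : V → V → Prop) [DecidableRel r] (hsymm : ∀ i j, r i j → r j i) (hirr : ∀ i, ¬ r i i)
    (hdeg : ∀ i, (((Finset.univ.filter (r i)).card : ℕ) : ZMod ℓ) = 1)
    (huniq : ∀ i j, i ≠ j → ∃! h, r i h ∧ r j h) : False := by
  set A : Matrix V V (ZMod ℓ) := Matrix.of fun i j => if r i j then 1 else 0 with hA
  set J : Matrix V V (ZMod ℓ) := Matrix.of fun _ _ => 1 with hJ
  have h2 : A * A = J := by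
    ext i j
    simp only [hA, hJ, Matrix.mul_apply, Matrix.of_apply, ite_mul, one_mul, zero_mul, ← ite_and]
    rw [Finset.sum_boole]
    by_cases hij : i = j
    · subst hij
      rw [← hdeg i]
      congr 2
      ext h
      simp only [Finset.mem_filter, Finset.mem_univ, true_and]
      exact ⟨fun hh => hh.1, fun hh => ⟨hh, hsymm _ _ hh⟩⟩
    · obtain ⟨h₀, hh₀, hu⟩ := huniq i j hij
      have : (Finset.univ.filter fun h => r i h ∧ r h j) = {h₀} := by
        ext h
        simp only [Finset.mem_filter, Finset.mem_univ, true_and, Finset.mem_singleton]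
        exact ⟨fun hh => hu h ⟨hh.1, hsymm _ _ hh.2⟩,
          fun hh => hh ▸ ⟨hh₀.1, hsymm _ _ hh₀.2⟩⟩
      rw [this, Finset.card_singleton, Nat.cast_one]
  have hAJ : A * J = J := by
    ext i j
    simp only [hA, hJ, Matrix.mul_apply, Matrix.of_apply, mul_one]
    rw [Finset.sum_boole, hdeg i]
  have hpow : ∀ m, A ^ (m + 2) = J := by
    intro m
    induction m with
    | zero => rw [zero_add, pow_two, h2]
    | succ m ih => rw [show m + 1 + 2 = (m + 2) + 1 by ring, pow_succ', ih, hAJ]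
  have hn : (Fintype.card V : ZMod ℓ) = 1 := by
    obtain ⟨v⟩ : Nonempty V := inferInstance
    have h4 : J * J = J :=
      calc J * J = A * A * (A * A) := by rw [h2]
        _ = A ^ (2 + 2) := by rw [pow_add, pow_two]
        _ = J := hpow 2
    have := congrFun (congrFun h4 v) v
    simpa [hJ, Matrix.mul_apply] using this
  have hℓ : 2 ≤ ℓ := (Fact.out : ℓ.Prime).two_le
  have htr := ZMod.trace_pow_card A
  obtain ⟨m, hm⟩ : ∃ m, ℓ = m + 2 := ⟨ℓ - 2, by omega⟩
  rw [(congrArg (A ^ ·) hm).trans (hpow m)] at htr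
  have htA : Matrix.trace A = 0 := by simp [Matrix.trace, hA, hirr]
  have htJ : Matrix.trace J = 1 := by simp [Matrix.trace, hJ, hn]
  rw [htA, htJ, zero_pow (by omega)] at htr
  exact one_ne_zero htr

variable {G : Type*} [Group G] [Finite G]

namespace Config

variable {p a : ℕ} (hC : Config G p a)

include hC

/-- Third case: `|Q| = 4`, and the commuting graph of involutions is a friendship graph. -/
theorem case_friendship (h4 : p + 1 = 4)
    (hV : ∀ (Q : Sylow 2 G) (y : G), PEl p y → (∀ z ∈ (Q : Subgroup G), Commute y z) → y = 1)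
    {i₀ y₀ : G} (hi₀1 : i₀ ≠ 1) (hi₀ : i₀ * i₀ = 1) (hy₀ : PEl p y₀) (hy₀1 : y₀ ≠ 1)
    (hc₀ : Commute y₀ i₀) : False := by
  haveI := Fact.mk hC.hp
  -- the elements of `Q`
  have hfour : ∀ (Q : Sylow 2 G) (i j : G), i ∈ (Q : Subgroup G) → j ∈ (Q : Subgroup G) → i ≠ 1 →
      j ≠ 1 → j ≠ i → ∀ z ∈ (Q : Subgroup G), z = 1 ∨ z = i ∨ z = j ∨ z = i * j := by
    intro Q i j hi hj hi1 hj1 hji z hz
    have e1 : i * j ≠ i := fun h => hj1 (mul_left_cancel (h.trans (mul_one i).symm))
    have e2 : i * j ≠ j := fun h => hi1 (mul_right_cancel (h.trans (one_mul j).symm))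
    have e3 : i * j ≠ 1 := fun h => hji (mul_left_cancel (h.trans (hC.sq Q i hi).symm))
    have hsub : ({1, i, j, i * j} : Set G) ⊆ ((Q : Subgroup G) : Set G) := by
      rintro w (rfl | rfl | rfl | rfl)
      exacts [one_mem _, hi, hj, mul_mem hi hj]
    have hcard : ({1, i, j, i * j} : Set G).ncard = 4 := by
      rw [Set.ncard_insert_of_notMem (by simp [hi1.symm, hj1.symm, e3.symm]),
        Set.ncard_insert_of_notMem (by simp [hji.symm, e1.symm]),
        Set.ncard_insert_of_notMem (by simp [e2.symm]), Set.ncard_singleton]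
    have hQc : ((Q : Subgroup G) : Set G).ncard = 4 := by
      rw [← Nat.card_coe_set_eq, ← h4]; exact hC.card_Q Q
    have heq := Set.eq_of_subset_of_ncard_le hsub (by rw [hcard, hQc]) (Set.toFinite _)
    have hz' : z ∈ ({1, i, j, i * j} : Set G) := by rw [heq]; exact hz
    simpa using hz'
  -- the other elements of `Q` invert a `p`-element centralised by `i`
  have hinvert : ∀ (Q : Sylow 2 G) (i j y : G), i ∈ (Q : Subgroup G) → j ∈ (Q : Subgroup G) →
      i ≠ 1 → j ≠ 1 → j ≠ i → PEl p y → Commute y i → j * y * j⁻¹ = y⁻¹ := by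
    intro Q i j y hi hj hi1 hj1 hji hy hyi
    have hjyi : Commute (j * y * j⁻¹) i := by
      have h := hyi.map (MulAut.conj j).toMonoidHom
      simp only [MulEquiv.coe_toMonoidHom, MulAut.conj_apply] at h
      rwa [(hC.comm_Q Q hj hi).eq, mul_inv_cancel_right] at h
    have hcy : Commute y (j * y * j⁻¹) := hC.cI_comm Q hi hi1 hy hyi (pel_conj hy j) hjyi
    set f := y * (j * y * j⁻¹) with hf
    have hfj : Commute f j := by
      refine (mul_inv_eq_iff_eq_mul.mp ?_).symm
      calc j * f * j⁻¹ = (j * y * j⁻¹) * ((j * j) * y * (j * j)⁻¹) := by rw [hf]; group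
        _ = f := by rw [hC.sq Q j hj, one_mul, inv_one, mul_one, hf, hcy.eq]
    have hfi : Commute f i := hyi.mul_left hjyi
    have hf1 : f = 1 := by
      refine hV Q f (pel_mul hy (pel_conj hy j) hcy) fun z hz => ?_
      rcases hfour Q i j hi hj hi1 hj1 hji z hz with rfl | rfl | rfl | rfl
      exacts [Commute.one_right f, hfi, hfj, hfi.mul_right hfj]
    exact (inv_eq_of_mul_eq_one_right hf1).symm
  -- the data attached to a `p`-element centralised by an involution
  have hgood : ∀ (Q : Sylow 2 G) (i y : G), i ∈ (Q : Subgroup G) → i ≠ 1 → PEl p y → y ≠ 1 →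
      Commute y i → (Q : Subgroup G) ≤ Subgroup.normalizer (Subgroup.zpowers y : Set G) ∧
        ∃ P : Sylow p G, Good P y ∧
          (Q : Subgroup G) ≤ Subgroup.normalizer ((P : Subgroup G) : Set G) := by
    intro Q i y hi hi1 hy hy1 hyi
    have hQy : (Q : Subgroup G) ≤ Subgroup.normalizer (Subgroup.zpowers y : Set G) := by
      intro z hz
      by_cases hz1 : z = 1
      · exact hz1 ▸ one_mem _
      by_cases hzi : z = i
      · exact mem_normalizer_zpowers_of_commute (hzi ▸ hyi.symm)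
      · exact mem_normalizer_zpowers_of_invert (hinvert Q i z y hi hz hi1 hz1 hzi hy hyi)
    exact ⟨hQy, hC.exists_good hV Q hy hy1 hQy⟩
  -- the Sylow subgroup of such an element centralises the involution
  have hcentral : ∀ (Q : Sylow 2 G) (i y : G), i ∈ (Q : Subgroup G) → i ≠ 1 → PEl p y → y ≠ 1 →
      Commute y i → ∀ P : Sylow p G, Good P y →
      (Q : Subgroup G) ≤ Subgroup.normalizer ((P : Subgroup G) : Set G) →
      ∀ w ∈ (P : Subgroup G), Commute w i := by
    intro Q i y hi hi1 hy hy1 hyi P hP hQP w hw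
    have hkey : ∀ j ∈ (Q : Subgroup G), j ≠ 1 → j ≠ i → j * w * j⁻¹ = w⁻¹ := by
      intro j hj hj1 hji
      by_contra hne
      have hw' : j * w * j⁻¹ ∈ (P : Subgroup G) :=
        (Subgroup.mem_normalizer_iff.mp (hQP hj) w).mp hw
      have hc : Commute w (j * w * j⁻¹) := hC.comm_pgroup P.isPGroup' hw hw'
      set f := w * (j * w * j⁻¹) with hf
      have hf1 : f ≠ 1 := fun h => hne (inv_eq_of_mul_eq_one_right h).symm
      have hfP : f ∈ (P : Subgroup G) := mul_mem hw hw'
      have hfp : PEl p f := pel_of_mem P.isPGroup' hfP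
      have hfj : Commute f j := by
        refine (mul_inv_eq_iff_eq_mul.mp ?_).symm
        calc j * f * j⁻¹ = (j * w * j⁻¹) * ((j * j) * w * (j * j)⁻¹) := by rw [hf]; group
          _ = f := by rw [hC.sq Q j hj, one_mul, inv_one, mul_one, hf, hc.eq]
      obtain ⟨-, Pf, hPf, -⟩ := hgood Q j f hj hj1 hfp hf1 hfj
      have hPfP : Pf = P := hC.good_eq hPf hP (hC.comm_pgroup P.isPGroup' hfP hP.1)
      obtain ⟨x, hx, hxQ, htr⟩ := hC.mover Q
      obtain ⟨k, hk⟩ := htr i hi hi1 j hj hj1
      set y' := x ^ k * y * (x ^ k)⁻¹ with hy'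
      have hy'j : Commute y' j := by
        rw [← hk, hy']
        have h := hyi.map (MulAut.conj (x ^ k)).toMonoidHom
        simpa only [MulEquiv.coe_toMonoidHom, MulAut.conj_apply] using h
      have hy'1 : y' ≠ 1 := fun h => hy1 (conj_eq_one h)
      obtain ⟨-, P', hP', -⟩ := hgood Q j y' hj hj1 (pel_conj hy _) hy'1 hy'j
      have hPP' : P' = P :=
        (hC.good_eq hP' hPf (hC.cI_comm Q hj hj1 (pel_conj hy _) hy'j hfp hfj)).trans hPfP
      rw [hPP'] at hP'
      have hcx := hC.no_transport Q (pel_pow hx k) (pow_mem hxQ k) hP hP' hQP hi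
      rw [hcx.eq, mul_inv_cancel_right] at hk
      exact hji hk.symm
    obtain ⟨j, hj, hj1, hji⟩ := hC.exists_other Q i
    have h1 : i * j ≠ 1 := fun h => hji (mul_left_cancel (h.trans (hC.sq Q i hi).symm))
    have h2 : i * j ≠ i := fun h => hj1 (mul_left_cancel (h.trans (mul_one i).symm))
    have e := hkey (i * j) (mul_mem hi hj) h1 h2
    have e' := hkey j hj hj1 hji
    rw [show i * j * w * (i * j)⁻¹ = i * (j * w * j⁻¹) * i⁻¹ by group, e', ← conj_inv] at e
    exact (mul_inv_eq_iff_eq_mul.mp (inv_injective e)).symm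
  -- the normaliser of such an element centralises the involution
  have hNC : ∀ (i y : G), i ≠ 1 → i * i = 1 → PEl p y → y ≠ 1 → Commute y i →
      Subgroup.normalizer (Subgroup.zpowers y : Set G) ≤ Subgroup.centralizer ({i} : Set G) := by
    intro i y hi1 hi2 hy hy1 hyi
    obtain ⟨Q, hi⟩ := hC.inv_mem_sylow hi2
    obtain ⟨hQy, P, hP, hQP⟩ := hgood Q i y hi hi1 hy hy1 hyi
    set S := Subgroup.normalizer (Subgroup.zpowers y : Set G) with hS
    have hPS : (P : Subgroup G) ≤ S := fun w hw =>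
      mem_normalizer_zpowers_of_commute (hC.comm_pgroup P.isPGroup' hw hP.1)
    have hQC : (Q : Subgroup G) ≤ Subgroup.centralizer ({i} : Set G) := fun z hz =>
      Subgroup.mem_centralizer_singleton_iff.mpr (hC.comm_Q Q hz hi)
    have hPC : (P : Subgroup G) ≤ Subgroup.centralizer ({i} : Set G) := fun w hw =>
      Subgroup.mem_centralizer_singleton_iff.mpr (hcentral Q i y hi hi1 hy hy1 hyi P hP hQP w hw)
    have hSne : S ≠ ⊤ := hC.normalizer_zpowers_ne_top hy1
    have h2S : 2 ∣ Nat.card S := hC.two_dvd_of_mem (hQy hi) hi1 hi2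
    set M := Subgroup.centralizer ({i} : Set G) ⊓ S with hM
    have hdvd : Nat.card S ∣ Nat.card M := by
      rw [← Nat.factorization_le_iff_dvd Nat.card_pos.ne' Nat.card_pos.ne']
      intro r
      by_cases hr : r.Prime ∧ r ∣ Nat.card S
      · have hle : (Nat.card S).factorization r ≤ (Nat.card G).factorization r :=
          (Nat.factorization_le_iff_dvd Nat.card_pos.ne' Nat.card_pos.ne').mpr
            S.card_subgroup_dvd_card r
        refine hle.trans ?_
        rcases hC.sub S hSne h2S r hr.1 hr.2 with h | h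
        · subst h
          have h := Subgroup.card_dvd_of_le (H := (P : Subgroup G)) (K := M) (le_inf hPC hPS)
          rw [P.card_eq_multiplicity] at h
          exact (hC.hp.pow_dvd_iff_le_factorization Nat.card_pos.ne').mp h
        · subst h
          have h := Subgroup.card_dvd_of_le (H := (Q : Subgroup G)) (K := M) (le_inf hQC hQy)
          rw [Q.card_eq_multiplicity] at h
          exact (Nat.prime_two.pow_dvd_iff_le_factorization Nat.card_pos.ne').mp h
      · have h0 : (Nat.card S).factorization r = 0 := by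
          rw [Nat.factorization_eq_zero_iff]; tauto
        omega
    have hMS : M = S := Subgroup.eq_of_le_of_card_ge inf_le_right (Nat.le_of_dvd Nat.card_pos hdvd)
    rw [← hMS]
    exact inf_le_left
  -- every `p`-element is centralised by an involution
  have hevery : ∀ w : G, PEl p w → ∃ h : G, h ≠ 1 ∧ h * h = 1 ∧ Commute w h := by
    intro w hw
    obtain ⟨Q, hi₀Q⟩ := hC.inv_mem_sylow hi₀
    obtain ⟨-, P, hP, hQP⟩ := hgood Q i₀ y₀ hi₀Q hi₀1 hy₀ hy₀1 hc₀
    obtain ⟨Pw, hPw⟩ := (isPGroup_zpowers hw).exists_le_sylow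
    obtain ⟨g, rfl⟩ := MulAction.exists_smul_eq G P Pw
    have hmem := hPw (Subgroup.mem_zpowers w)
    rw [Sylow.coe_subgroup_smul, Subgroup.mem_pointwise_smul_iff_inv_smul_mem] at hmem
    have hw' : g⁻¹ * w * g ∈ (P : Subgroup G) := by simpa [mul_assoc] using hmem
    have hc := hcentral Q i₀ y₀ hi₀Q hi₀1 hy₀ hy₀1 hc₀ P hP hQP _ hw'
    refine ⟨g * i₀ * g⁻¹, fun h => hi₀1 (conj_eq_one h),
      by rw [conj_mul, hi₀, mul_one, mul_inv_cancel], ?_⟩
    simpa [mul_assoc] using hc.map (MulAut.conj g).toMonoidHom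
  classical
  let V := {t : G // t ≠ 1 ∧ t * t = 1}
  haveI : Fintype V := Fintype.ofFinite V
  let r : V → V → Prop := fun i t => (t : G) ≠ (i : G) ∧ Commute (i : G) (t : G)
  haveI : Nonempty V := ⟨⟨i₀, hi₀1, hi₀⟩⟩
  set k := (Finset.univ.filter (r ⟨i₀, hi₀1, hi₀⟩)).card with hk
  have hreg : ∀ i : V, (Finset.univ.filter (r i)).card = k := by
    intro i
    obtain ⟨g, hg⟩ := hC.all_conj hi₀1 hi₀ i.2.1 i.2.2
    let c : V → V := fun t => ⟨g * (t : G) * g⁻¹, fun h => t.2.1 (conj_eq_one h),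
      by rw [conj_mul, t.2.2, mul_one, mul_inv_cancel]⟩
    symm
    refine Finset.card_bij (fun t _ => c t) ?_ ?_ ?_
    · intro t ht
      simp only [Finset.mem_filter, Finset.mem_univ, true_and, r] at ht ⊢
      refine ⟨fun h => ht.1 ?_, ?_⟩
      · exact mul_left_cancel (mul_right_cancel (h.trans hg.symm))
      · have := ht.2.map (MulAut.conj g).toMonoidHom
        simp only [MulEquiv.coe_toMonoidHom, MulAut.conj_apply] at this
        rwa [hg] at this
    · intro s _ t _ h
      exact Subtype.ext (mul_left_cancel (mul_right_cancel (congrArg Subtype.val h)))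
    · intro t ht
      simp only [Finset.mem_filter, Finset.mem_univ, true_and, r] at ht
      refine ⟨⟨g⁻¹ * (t : G) * g, fun h => t.2.1 (conj_eq_one (g := g⁻¹) (by rwa [inv_inv])), ?_⟩,
        ?_, Subtype.ext (by simp [c, mul_assoc])⟩
      · rw [show g⁻¹ * (t : G) * g * (g⁻¹ * t * g) = g⁻¹ * (t * t) * g by group, t.2.2, mul_one,
          inv_mul_cancel]
      · simp only [Finset.mem_filter, Finset.mem_univ, true_and, r]
        have hi' : g⁻¹ * (i : G) * g = i₀ := by rw [← hg]; group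
        refine ⟨fun h => ht.1 ?_, ?_⟩
        · rw [← hi'] at h
          exact mul_left_cancel (mul_right_cancel h)
        · rw [← hi']
          have := ht.2.map (MulAut.conj g⁻¹).toMonoidHom
          simpa [mul_assoc] using this
  -- at least three neighbours
  have hk3 : 3 ≤ k := by
    obtain ⟨Q, hi₀Q⟩ := hC.inv_mem_sylow hi₀
    obtain ⟨j, hj, hj1, hji⟩ := hC.exists_other Q i₀
    have hjy := hinvert Q i₀ j y₀ hi₀Q hj hi₀1 hj1 hji hy₀ hc₀
    have hjj : j * j = 1 := hC.sq Q j hj
    have hjinv : j⁻¹ = j := inv_eq_of_mul_eq_one_right hjj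
    have h1 : i₀ * j ≠ 1 := fun h => hji (mul_left_cancel (h.trans hi₀.symm))
    have h2 : i₀ * j ≠ i₀ := fun h => hj1 (mul_left_cancel (h.trans (mul_one i₀).symm))
    have h3 : i₀ * j ≠ j := fun h => hi₀1 (mul_right_cancel (h.trans (one_mul j).symm))
    set v := y₀ * j * y₀⁻¹ with hv
    have hv' : v = y₀ * y₀ * j := by
      have : j * y₀⁻¹ * j⁻¹ = y₀ := by rw [← conj_inv, hjy, inv_inv]
      calc v = y₀ * (j * y₀⁻¹ * j⁻¹) * j := by rw [hv]; group
        _ = y₀ * y₀ * j := by rw [this]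
    have hv1 : v ≠ 1 := fun h => hj1 (conj_eq_one h)
    have hvi : v ≠ i₀ := by
      intro h
      refine hji (mul_left_cancel (a := y₀) (mul_right_cancel (b := y₀⁻¹) (h.trans ?_)))
      rw [hc₀.eq, mul_inv_cancel_right]
    have hvj : v ≠ j := by
      intro h
      rw [hv'] at h
      exact hy₀1 (pel_one_of_sq hC.hp hC.hp2 hy₀ (mul_right_cancel (h.trans (one_mul j).symm)))
    have hvij : v ≠ i₀ * j := by
      intro h
      rw [hv'] at h
      have h' := mul_right_cancel h
      exact hi₀1 (pel_one_of_sq hC.hp hC.hp2 (h' ▸ pel_mul hy₀ hy₀ (Commute.refl y₀)) hi₀)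
    let a₁ : V := ⟨j, hj1, hjj⟩
    let a₂ : V := ⟨i₀ * j, h1, hC.sq Q _ (mul_mem hi₀Q hj)⟩
    let a₃ : V := ⟨v, hv1, by rw [hv, conj_mul, hjj, mul_one, mul_inv_cancel]⟩
    have hsub : ({a₁, a₂, a₃} : Finset V) ⊆ Finset.univ.filter (r ⟨i₀, hi₀1, hi₀⟩) := by
      intro t ht
      simp only [Finset.mem_insert, Finset.mem_singleton] at ht
      simp only [Finset.mem_filter, Finset.mem_univ, true_and, r]
      rcases ht with rfl | rfl | rfl
      · exact ⟨hji, hC.comm_Q Q hi₀Q hj⟩
      · exact ⟨h2, hC.comm_Q Q hi₀Q (mul_mem hi₀Q hj)⟩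
      · refine ⟨hvi, ?_⟩
        have hij : Commute i₀ j := hC.comm_Q Q hi₀Q hj
        exact ((hc₀.symm.mul_right hij).mul_right hc₀.symm.inv_right)
    have hcard : ({a₁, a₂, a₃} : Finset V).card = 3 := by
      rw [Finset.card_insert_of_notMem, Finset.card_insert_of_notMem, Finset.card_singleton]
      · simp only [Finset.mem_singleton, a₂, a₃]
        exact fun h => hvij (congrArg Subtype.val h).symm
      · simp only [Finset.mem_insert, Finset.mem_singleton, a₁, a₂, a₃, not_or]
        exact ⟨fun h => h3 (congrArg Subtype.val h).symm,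
          fun h => hvj (congrArg Subtype.val h).symm⟩
    rw [hk, ← hcard]
    exact Finset.card_le_card hsub
  -- exactly one common neighbour
  have huniq : ∀ i t : V, i ≠ t → ∃! h, r i h ∧ r t h := by
    rintro ⟨i, hi1, hi2⟩ ⟨t, ht1, ht2⟩ hne
    have hne' : i ≠ t := fun h => hne (Subtype.ext h)
    have hii : i⁻¹ = i := inv_eq_of_mul_eq_one_right hi2
    -- two commuting involutions and a third one
    have hthird : ∀ a b c : G, a ≠ 1 → b ≠ 1 → c ≠ 1 → a * a = 1 → b * b = 1 → c * c = 1 →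
        Commute a b → Commute a c → Commute b c → a ≠ b → c ≠ a → c ≠ b → c = a * b := by
      intro a b c ha hb hc ha2 hb2 hc2 hab hac hbc hne1 hne2 hne3
      obtain ⟨Q, hQ⟩ : ∃ Q : Sylow 2 G, a ∈ (Q : Subgroup G) ∧ b ∈ (Q : Subgroup G) ∧
          c ∈ (Q : Subgroup G) := by
        have ha' : IsPGroup 2 (Subgroup.zpowers a) :=
          isPGroup_zpowers ⟨1, by rw [pow_one, pow_two, ha2]⟩
        have hb' : IsPGroup 2 (Subgroup.zpowers b) :=
          isPGroup_zpowers ⟨1, by rw [pow_one, pow_two, hb2]⟩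
        have hc' : IsPGroup 2 (Subgroup.zpowers c) :=
          isPGroup_zpowers ⟨1, by rw [pow_one, pow_two, hc2]⟩
        have h12 := ha'.to_sup_of_normal_right' hb'
          (Subgroup.zpowers_le.mpr (mem_normalizer_zpowers_of_commute hab))
        have h123 := hc'.to_sup_of_normal_right' h12 (Subgroup.zpowers_le.mpr (by
          refine Subgroup.mem_normalizer_fintype
            (S := ((Subgroup.zpowers a ⊔ Subgroup.zpowers b : Subgroup G) : Set G)) ?_
          intro n hn
          have hle : Subgroup.zpowers a ⊔ Subgroup.zpowers b ≤ Subgroup.centralizer ({c} : Set G) :=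
            sup_le (Subgroup.zpowers_le.mpr (Subgroup.mem_centralizer_singleton_iff.mpr hac))
              (Subgroup.zpowers_le.mpr (Subgroup.mem_centralizer_singleton_iff.mpr hbc))
          rw [← Subgroup.mem_centralizer_singleton_iff.mp (hle hn), mul_inv_cancel_right]
          exact hn))
        obtain ⟨Q, hQ⟩ := h123.exists_le_sylow
        exact ⟨Q, hQ (Subgroup.mem_sup_right (Subgroup.mem_sup_left (Subgroup.mem_zpowers a))),
          hQ (Subgroup.mem_sup_right (Subgroup.mem_sup_right (Subgroup.mem_zpowers b))),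
          hQ (Subgroup.mem_sup_left (Subgroup.mem_zpowers c))⟩
      rcases hfour Q a b hQ.1 hQ.2.1 ha hb hne1.symm c hQ.2.2 with h | h | h | h
      exacts [absurd h hc, absurd h hne2, absurd h hne3, h]
    by_cases hcom : Commute i t
    · have hz1 : i * t ≠ 1 := fun h => hne' (mul_left_cancel (hi2.trans h.symm))
      have hz2 : i * t * (i * t) = 1 := by
        calc i * t * (i * t) = i * (t * i) * t := by group
          _ = i * i * (t * t) := by rw [hcom.symm.eq]; group
          _ = 1 := by rw [hi2, ht2, one_mul]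
      refine ⟨⟨i * t, hz1, hz2⟩, ⟨⟨?_, ?_⟩, ?_, ?_⟩, ?_⟩
      · exact fun h => ht1 (mul_left_cancel (h.trans (mul_one i).symm))
      · exact (Commute.refl i).mul_right hcom
      · exact fun h => hi1 (mul_right_cancel (h.trans (one_mul t).symm))
      · exact hcom.symm.mul_right (Commute.refl t)
      · rintro ⟨h, hh1, hh2⟩ ⟨⟨hhi, hchi⟩, hht, hcht⟩
        exact Subtype.ext (hthird i t h hi1 ht1 hh1 hi2 ht2 hh2 hcom hchi hcht hne' hhi hht)
    · -- existence
      obtain ⟨z, hz1, hz2, hzi, hzt⟩ :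
          ∃ z : G, z ≠ 1 ∧ z * z = 1 ∧ Commute z i ∧ Commute z t := by
        rcases hC.prod_cases hi1 hi2 ht2 hne' with h | ⟨hwp, hw1, hiw, htw⟩
        · exact h
        · obtain ⟨h, hh1, hh2, hwh⟩ := hevery _ hwp
          have hle := hNC h _ hh1 hh2 hwp hw1 hwh
          exact ⟨h, hh1, hh2,
            (Subgroup.mem_centralizer_singleton_iff.mp
              (hle (mem_normalizer_zpowers_of_invert hiw)) : i * h = h * i).symm,
            (Subgroup.mem_centralizer_singleton_iff.mp
              (hle (mem_normalizer_zpowers_of_invert htw)) : t * h = h * t).symm⟩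
      refine ⟨⟨z, hz1, hz2⟩, ⟨⟨?_, hzi.symm⟩, ?_, hzt.symm⟩, ?_⟩
      · exact fun h : z = i => hcom (h ▸ hzt)
      · exact fun h : z = t => hcom (h ▸ hzi).symm
      rintro ⟨z', hz'1, hz'2⟩ ⟨⟨hz'i, hci⟩, hz't, hct⟩
      apply Subtype.ext
      change z' = z
      by_contra hzz
      have hzni : z ≠ i := fun h => hcom (h ▸ hzt)
      have hznt : z ≠ t := fun h => hcom (h ▸ hzi).symm
      by_cases hc : Commute z z'
      · have e1 := hthird z z' i hz1 hz'1 hi1 hz2 hz'2 hi2 hc hzi hci.symm (Ne.symm hzz) hzni.symm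
          (Ne.symm hz'i)
        have e2 := hthird z z' t hz1 hz'1 ht1 hz2 hz'2 ht2 hc hzt hct.symm (Ne.symm hzz) hznt.symm
          (Ne.symm hz't)
        exact hne' (e1.trans e2.symm)
      · obtain ⟨Q, hiQ⟩ := hC.inv_mem_sylow hi2
        obtain ⟨K, hK, -, -, hsq, -⟩ := hC.centralizer_structure Q hiQ hi1
        have hzz'i : Commute (z * z') i := hzi.mul_left hci.symm
        have hy := hsq _ (Subgroup.mem_centralizer_singleton_iff.mpr hzz'i)
        have hy1 : z * z' * (z * z') ≠ 1 := by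
          intro h
          refine hc ?_
          calc z * z' = (z * z')⁻¹ := eq_inv_of_mul_eq_one_left h
            _ = z'⁻¹ * z⁻¹ := mul_inv_rev z z'
            _ = z' * z := by
              rw [inv_eq_of_mul_eq_one_right hz'2, inv_eq_of_mul_eq_one_right hz2]
        have hle := hNC i _ hi1 hi2 (pel_of_mem hK hy) hy1 (hzz'i.mul_left hzz'i)
        have hzz't : Commute (z * z') t := hzt.mul_left hct.symm
        exact hcom (Subgroup.mem_centralizer_singleton_iff.mp
          (hle (mem_normalizer_zpowers_of_commute (hzz't.mul_left hzz't).symm))).symm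
  obtain ⟨ℓ, hℓ, hℓd⟩ := Nat.exists_prime_and_dvd (show k - 1 ≠ 1 by omega)
  haveI := Fact.mk hℓ
  refine no_friendship ℓ r (fun i t h => ⟨h.1.symm, h.2.symm⟩) (fun i h => h.1 rfl) (fun i => ?_)
    huniq
  rw [hreg i, show k = k - 1 + 1 by omega, Nat.cast_add, Nat.cast_one,
    (ZMod.natCast_eq_zero_iff _ _).mpr hℓd, zero_add]

theorem false_of_config : False := by
  by_cases hV : ∀ (Q : Sylow 2 G) (y : G), PEl p y → (∀ z ∈ (Q : Subgroup G), Commute y z) → y = 1
  · by_cases hfree : ∀ j u : G, j ≠ 1 → j * j = 1 → PEl p u → Commute u j → u = 1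
    · exact hC.case_count hfree
    · push Not at hfree
      obtain ⟨j, u, hj1, hj, hu, hc, hu1⟩ := hfree
      exact hC.case_friendship (hC.card_Q_eq_four hV hj1 hj hu hu1 hc) hV hj1 hj hu hu1 hc
  · push Not at hV
    obtain ⟨Q, y, hy, hyQ, hy1⟩ := hV
    exact hC.case_central Q hy hy1 hyQ

end Config

/-- The mixed subgroup hypothesis. -/
def Mix (G : Type*) [Group G] (p q : ℕ) : Prop :=
  ∀ H : Subgroup G, H ≠ ⊤ → ¬ IsPGroup q H → q ∣ Nat.card H → p ∣ Nat.card H

/-- `p` is large against the `q`-part. -/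
def Large (G : Type*) [Group G] (p q : ℕ) : Prop :=
  q ^ (Nat.card G).factorization q - 1 < p ∨
    (p = q ^ (Nat.card G).factorization q - 1 ∧ ∀ P : Sylow p G, IsMulCommutative P)

omit [Finite G] in
theorem mix_subgroup {p q : ℕ} (h : Mix G p q) (H : Subgroup G) : Mix H p q := by
  intro K hK hnq hdq
  have e : Nat.card (K.map H.subtype) = Nat.card K :=
    Subgroup.card_map_of_injective H.subtype_injective
  have hne : K.map H.subtype ≠ ⊤ := by
    intro htop
    apply hK
    rw [eq_top_iff]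
    intro x _
    obtain ⟨y, hy, hyx⟩ : (x : G) ∈ K.map H.subtype := htop ▸ Subgroup.mem_top _
    rwa [← Subtype.ext (show (y : G) = x from hyx)]
  rw [← e]
  refine h _ hne (fun hp => hnq ?_) (e ▸ hdq)
  rintro ⟨x, hx⟩
  obtain ⟨k, hk⟩ := hp ⟨_, Subgroup.mem_map_of_mem H.subtype hx⟩
  have hk' := congrArg Subtype.val hk
  simp only [SubgroupClass.coe_pow, Subgroup.coe_one, Subgroup.coe_subtype] at hk'
  exact ⟨k, Subtype.ext (Subtype.ext (by simpa using hk'))⟩

theorem large_of_dvd {p q : ℕ} [Fact p.Prime] (hq : q.Prime) (h : Large G p q) {K : Type*} [Group K]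
    [Finite K] (hd : Nat.card K ∣ Nat.card G)
    (hab : (∀ P : Sylow p G, IsMulCommutative P) → ∀ P : Sylow p K, IsMulCommutative P) :
    Large K p q := by
  have hle : (Nat.card K).factorization q ≤ (Nat.card G).factorization q :=
    (Nat.factorization_le_iff_dvd Nat.card_pos.ne' Nat.card_pos.ne').mpr hd q
  have hple : q ^ (Nat.card K).factorization q ≤ q ^ (Nat.card G).factorization q :=
    Nat.pow_le_pow_right hq.pos hle
  rcases h with h | ⟨h, hP⟩
  · exact Or.inl (by omega)
  · rcases hle.lt_or_eq with hlt | heq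
    · have hlt' : q ^ (Nat.card K).factorization q < q ^ (Nat.card G).factorization q :=
        Nat.pow_lt_pow_right hq.one_lt hlt
      have : 0 < q ^ (Nat.card K).factorization q := pow_pos hq.pos _
      exact Or.inl (by omega)
    · exact Or.inr ⟨by rw [heq]; exact h, hab hP⟩

/-- The minimal counterexample is simple. -/
theorem simple_of_minimal {p q : ℕ} [Fact p.Prime] (hq : q.Prime) (hpq : p ≠ q)
    (hpG : p ∣ Nat.card G) (hqG : q ∣ Nat.card G)
    (hsub : ∀ H : Subgroup G, H ≠ ⊤ → q ∣ Nat.card H →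
      ∀ r : ℕ, r.Prime → r ∣ Nat.card H → r = p ∨ r = q)
    (hquot : ∀ (N : Subgroup G) [N.Normal], N ≠ ⊥ → p ∣ Nat.card (G ⧸ N) → IsPGroup p N →
      ∀ r : ℕ, r.Prime → r ∣ Nat.card (G ⧸ N) → r = p ∨ r = q)
    {r : ℕ} (hr : r.Prime) (hrG : r ∣ Nat.card G) (hrp : r ≠ p) (hrq : r ≠ q) :
    ∀ N : Subgroup G, N.Normal → N = ⊥ ∨ N = ⊤ := by
  haveI := Fact.mk hq
  haveI := Fact.mk hr
  -- a normal `s`-subgroup, `s ≠ p`, leads to a contradiction
  have hnormal : ∀ (s : ℕ) (A : Subgroup G), s.Prime → A.Normal → IsPGroup s A → A ≠ ⊥ → s = p := by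
    intro s A hs hA hAs hA1
    by_contra hsp
    haveI := Fact.mk hs
    haveI := hA
    obtain ⟨k, hk⟩ := IsPGroup.iff_card.mp hAs
    have hk0 : k ≠ 0 := fun h => hA1 (Subgroup.card_eq_one.mp (by rw [hk, h, pow_zero]))
    set t := if s = q then r else q with ht
    have htpr : t.Prime := by rw [ht]; split_ifs <;> assumption
    have htp : t ≠ p := by rw [ht]; split_ifs; exacts [hrp, Ne.symm hpq]
    have htG : t ∣ Nat.card G := by rw [ht]; split_ifs <;> assumption
    have hts : t ≠ s := by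
      rw [ht]; split_ifs with h
      · exact fun h' => hrq (h'.trans h)
      · exact fun h' => h h'.symm
    haveI := Fact.mk htpr
    obtain ⟨T⟩ : Nonempty (Sylow t G) := inferInstance
    have hTt : t ∣ Nat.card (T : Subgroup G) := T.dvd_card_of_dvd_card htG
    have hAcard : s ∣ Nat.card A := hk ▸ dvd_pow_self s hk0
    have hd : Nat.card (A ⊔ (T : Subgroup G) : Subgroup G) ∣
        Nat.card A * Nat.card (T : Subgroup G) :=
      by
        rw [sup_comm, mul_comm]
        exact Cfsg.Agent.Cores.card_sup_dvd_mul (T : Subgroup G) A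
    have hne : A ⊔ (T : Subgroup G) ≠ ⊤ := by
      intro h
      obtain ⟨l, hl⟩ := IsPGroup.iff_card.mp T.isPGroup'
      rw [h, Subgroup.card_top, hk, hl] at hd
      rcases (Fact.out : p.Prime).dvd_mul.mp (hpG.trans hd) with h' | h'
      · exact hsp ((Nat.prime_dvd_prime_iff_eq Fact.out hs).mp
          ((Fact.out : p.Prime).dvd_of_dvd_pow h')).symm
      · exact htp ((Nat.prime_dvd_prime_iff_eq Fact.out htpr).mp
          ((Fact.out : p.Prime).dvd_of_dvd_pow h')).symm
    have hs' : s ∣ Nat.card (A ⊔ (T : Subgroup G) : Subgroup G) :=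
      hAcard.trans (Subgroup.card_dvd_of_le le_sup_left)
    have ht' : t ∣ Nat.card (A ⊔ (T : Subgroup G) : Subgroup G) :=
      hTt.trans (Subgroup.card_dvd_of_le le_sup_right)
    by_cases hsq : s = q
    · subst hsq
      have htr' : t = r := by rw [ht, if_pos rfl]
      rcases hsub _ hne hs' r hr (htr' ▸ ht') with h | h
      exacts [hrp h, hrq h]
    · have htq : t = q := by rw [ht, if_neg hsq]
      rcases hsub _ hne (htq ▸ ht') s hs hs' with h | h
      exacts [hsp h, hsq h]
  intro N hN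
  by_contra hcon
  push Not at hcon
  obtain ⟨hN1, hN2⟩ := hcon
  haveI := hN
  -- Frattini argument
  have hfrat : ∀ (s : ℕ), s.Prime → s ≠ p → s ∣ Nat.card N →
      ∃ H : Subgroup G, H ≠ ⊤ ∧ Nat.card G ∣ Nat.card N * Nat.card H ∧ s ∣ Nat.card H := by
    intro s hs hsp hsN
    haveI := Fact.mk hs
    obtain ⟨S⟩ : Nonempty (Sylow s N) := inferInstance
    set H := Subgroup.normalizer (((S : Subgroup N).map N.subtype : Subgroup G) : Set G) with hH
    have hmap : Nat.card ((S : Subgroup N).map N.subtype) = Nat.card (S : Subgroup N) :=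
      Subgroup.card_map_of_injective N.subtype_injective
    refine ⟨H, fun htop => ?_, ?_, ?_⟩
    · refine hsp (hnormal s _ hs (Subgroup.normalizer_eq_top_iff.mp htop)
        (S.isPGroup'.map N.subtype) fun h => ?_)
      have h2 := S.dvd_card_of_dvd_card hsN
      rw [← hmap, h, Subgroup.card_bot] at h2
      exact hs.ne_one (Nat.dvd_one.mp h2)
    · have hd := Cfsg.Agent.Cores.card_sup_dvd_mul H N
      rw [hH, Sylow.normalizer_sup_eq_top S, Subgroup.card_top, mul_comm] at hd
      exact hd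
    · refine (S.dvd_card_of_dvd_card hsN).trans ?_
      rw [← hmap]
      exact Subgroup.card_dvd_of_le Subgroup.le_normalizer
  have hNp : IsPGroup p N := by
    refine IsPGroup.iff_card.mpr ⟨(Nat.card N).primeFactorsList.length,
      Nat.eq_prime_pow_of_unique_prime_dvd Nat.card_pos.ne' fun {s} hs hsN => ?_⟩
    by_contra hsp
    by_cases hqN : q ∣ Nat.card N
    · obtain ⟨H, hH, hdvd, hqH⟩ := hfrat q hq (Ne.symm hpq) hqN
      rcases hr.dvd_mul.mp (hrG.trans hdvd) with h | h
      · rcases hsub N hN2 hqN r hr h with h | h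
        exacts [hrp h, hrq h]
      · rcases hsub H hH hqH r hr h with h | h
        exacts [hrp h, hrq h]
    · obtain ⟨H, hH, hdvd, hsH⟩ := hfrat s hs hsp hsN
      have hqH : q ∣ Nat.card H := (hq.dvd_mul.mp (hqG.trans hdvd)).resolve_left hqN
      rcases hsub H hH hqH s hs hsH with h | h
      · exact hsp h
      · exact hqN (h ▸ hsN)
  obtain ⟨k, hk⟩ := IsPGroup.iff_card.mp hNp
  have hGcard : Nat.card (G ⧸ N) * Nat.card N = Nat.card G := N.card_eq_card_quotient_mul_card_subgroup.symm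
  have hdivq : ∀ s : ℕ, s.Prime → s ≠ p → s ∣ Nat.card G → s ∣ Nat.card (G ⧸ N) := fun s hs hsp hsG => by
    rw [← hGcard, hk] at hsG
    rcases hs.dvd_mul.mp hsG with h | h
    · exact h
    · exact absurd ((Nat.prime_dvd_prime_iff_eq hs Fact.out).mp (hs.dvd_of_dvd_pow h)) hsp
  by_cases hpQ : p ∣ Nat.card (G ⧸ N)
  · rcases hquot N hN1 hpQ hNp r hr (hdivq r hr hrp hrG) with h | h
    exacts [hrp h, hrq h]
  · -- a complement
    have hcop : (Nat.card N).Coprime N.index := by
      rw [hk]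
      exact ((Fact.out : p.Prime).coprime_iff_not_dvd.mpr hpQ).pow_left k
    obtain ⟨K, hK⟩ := Subgroup.exists_right_complement'_of_coprime hcop
    have hKcard : Nat.card K = Nat.card (G ⧸ N) := by
      have h := hK.card_mul_card
      rw [← hGcard, mul_comm (Nat.card (G ⧸ N))] at h
      exact Nat.eq_of_mul_eq_mul_left Nat.card_pos h
    have hKne : K ≠ ⊤ := fun h => hpQ (by rw [← hKcard, h, Subgroup.card_top]; exact hpG)
    rcases hsub K hKne (hKcard ▸ hdivq q hq (Ne.symm hpq) hqG) r hr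
      (hKcard ▸ hdivq r hr hrp hrG) with h | h
    exacts [hrp h, hrq h]

omit [Finite G] in
/-- The hypothesis passes to the quotient by a normal `p`-subgroup. -/
theorem mix_quotient [Finite G] {p q : ℕ} [Fact p.Prime] (h : Mix G p q) (N : Subgroup G)
    [N.Normal] (hN : IsPGroup p N) (hN1 : N ≠ ⊥) : Mix (G ⧸ N) p q := by
  intro K _ hnq hdq
  by_contra hpK
  set H := K.comap (QuotientGroup.mk' N) with hH
  set M := N.subgroupOf H with hM
  have hNH : N ≤ H := fun n hn => by
    rw [hH, Subgroup.mem_comap, QuotientGroup.mk'_apply, (QuotientGroup.eq_one_iff n).mpr hn]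
    exact one_mem K
  have hMcard : Nat.card M = Nat.card N := Nat.card_congr (Subgroup.subgroupOfEquivOfLe hNH).toEquiv
  set f : H →* K := (QuotientGroup.mk' N).subgroupComap K with hf
  have hfs : Function.Surjective f :=
    (QuotientGroup.mk' N).subgroupComap_surjective_of_surjective K
      (QuotientGroup.mk'_surjective N)
  have hker : f.ker = M := by
    ext x
    rw [MonoidHom.mem_ker, hM, Subgroup.mem_subgroupOf, ← QuotientGroup.eq_one_iff]
    exact ⟨fun h => congrArg Subtype.val h, fun h => Subtype.ext h⟩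
  have hindex : M.index = Nat.card K := by
    rw [← hker, Subgroup.index_ker, f.range_eq_top_of_surjective hfs, Subgroup.card_top]
  obtain ⟨k, hk⟩ := IsPGroup.iff_card.mp hN
  have hcop : (Nat.card M).Coprime M.index := by
    rw [hMcard, hk, hindex]
    exact ((Fact.out : p.Prime).coprime_iff_not_dvd.mpr hpK).pow_left k
  obtain ⟨L, hL⟩ := Subgroup.exists_right_complement'_of_coprime hcop
  have hLcard : Nat.card L = Nat.card K := by
    have e := hL.card_mul_card
    rw [← M.card_mul_index, hindex] at e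
    exact Nat.eq_of_mul_eq_mul_left Nat.card_pos e
  have hL'card : Nat.card (L.map H.subtype) = Nat.card K :=
    (Subgroup.card_map_of_injective H.subtype_injective).trans hLcard
  refine hpK (hL'card ▸ h (L.map H.subtype) ?_ ?_ (hL'card ▸ hdq))
  · intro htop
    rw [htop, Subgroup.card_top] at hL'card
    have hK : Nat.card K ≤ Nat.card (G ⧸ N) := Subgroup.card_le_card_group K
    rw [← hL'card, Subgroup.card_eq_card_quotient_mul_card_subgroup N] at hK
    have h1 : Nat.card N ≤ 1 := by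
      have hpos : 0 < Nat.card (G ⧸ N) := Nat.card_pos
      nlinarith
    exact hN1 (Subgroup.eq_bot_of_card_le N h1)
  · intro hp
    apply hnq
    rintro ⟨x, hx⟩
    obtain ⟨g, rfl⟩ := QuotientGroup.mk'_surjective N x
    have hgH : g ∈ H := hx
    obtain ⟨⟨m, l⟩, hml⟩ := hL.2 ⟨g, hgH⟩
    obtain ⟨n, hn⟩ := hp ⟨_, Subgroup.mem_map_of_mem H.subtype l.2⟩
    refine ⟨n, Subtype.ext ?_⟩
    have e : QuotientGroup.mk' N g = QuotientGroup.mk' N ((l : H) : G) := by
      rw [← show (((m : H) * (l : H) : H) : G) = g from congrArg Subtype.val hml,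
        Subgroup.coe_mul, map_mul, QuotientGroup.mk'_apply, QuotientGroup.mk'_apply,
        (QuotientGroup.eq_one_iff ((m : H) : G)).mpr (Subgroup.mem_subgroupOf.mp m.2), one_mul]
    rw [SubgroupClass.coe_pow, Subgroup.coe_one]
    change (QuotientGroup.mk' N g) ^ q ^ n = 1
    rw [e, ← map_pow]
    have hn' := congrArg Subtype.val hn
    simp only [SubgroupClass.coe_pow, Subgroup.coe_one, Subgroup.coe_subtype] at hn'
    rw [hn', map_one]

/-- The configuration in a minimal counterexample. -/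
theorem exists_config {p q : ℕ} [Fact p.Prime] (hq : q.Prime) (hpq : p ≠ q) (hp2 : p ≠ 2)
    (hpG : p ∣ Nat.card G) (hqG : q ∣ Nat.card G) (hlarge : Large G p q)
    (hsimple : ∀ N : Subgroup G, N.Normal → N = ⊥ ∨ N = ⊤)
    (hsub : ∀ H : Subgroup G, H ≠ ⊤ → q ∣ Nat.card H →
      ∀ r : ℕ, r.Prime → r ∣ Nat.card H → r = p ∨ r = q) :
    ∃ a, Config G p a := by
  haveI := Fact.mk hq
  haveI : Finite (ConjAct G) := inferInstanceAs (Finite G)
  have hp : p.Prime := Fact.out
  -- some `p`-element moves a `q`-subgroup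
  obtain ⟨Q₀, x, hxN, hx, hQ₀, b, hb, hnc⟩ : ∃ (Q₀ : Subgroup G) (x : G),
      x ∈ Subgroup.normalizer (Q₀ : Set G) ∧ PEl p x ∧ IsPGroup q Q₀ ∧
        ∃ b ∈ Q₀, ¬ Commute x b := by
    by_contra hcon
    push Not at hcon
    obtain ⟨Q⟩ : Nonempty (Sylow q G) := inferInstance
    obtain ⟨K, hKn, hK⟩ : ∃ K : Subgroup G, K.Normal ∧ K.IsComplement' (Q : Subgroup G) := by
      rw [Cfsg.Agent.S0071.result Q]
      intro Q₁ hQ₁ g hg hcop
      rw [Subgroup.mem_centralizer_iff]
      intro z hz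
      have hQ₁' : IsPGroup q Q₁ := Q.isPGroup'.to_le hQ₁
      by_cases hQ1 : Q₁ = ⊥
      · rw [hQ1] at hz
        rw [Subgroup.mem_bot.mp hz, one_mul, mul_one]
      refine (hcon Q₁ g hg ?_ hQ₁' z hz).eq.symm
      have hne : Subgroup.normalizer (Q₁ : Set G) ≠ ⊤ := by
        intro htop
        rcases hsimple Q₁ (Subgroup.normalizer_eq_top_iff.mp htop) with h | h
        · exact hQ1 h
        · obtain ⟨k, hk⟩ := IsPGroup.iff_card.mp hQ₁'
          rw [← Subgroup.card_top (G := G), ← h, hk] at hpG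
          exact hpq ((Nat.prime_dvd_prime_iff_eq hp hq).mp (hp.dvd_of_dvd_pow hpG))
      refine ⟨(orderOf g).primeFactorsList.length, ?_⟩
      rw [← Nat.eq_prime_pow_of_unique_prime_dvd (orderOf_pos g).ne' (fun {d} hd hdx => ?_)]
      · exact pow_orderOf_eq_one g
      · have hqN : q ∣ Nat.card (Subgroup.normalizer (Q₁ : Set G)) := by
          obtain ⟨k, hk⟩ := IsPGroup.iff_card.mp hQ₁'
          have hk0 : k ≠ 0 := fun h => hQ1 (Subgroup.card_eq_one.mp (by rw [hk, h, pow_zero]))
          exact ((dvd_pow_self q hk0).trans (dvd_of_eq hk.symm)).trans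
            (Subgroup.card_dvd_of_le Subgroup.le_normalizer)
        rcases hsub _ hne hqN d hd (hdx.trans (Subgroup.orderOf_dvd_natCard _ hg)) with h | h
        · exact h
        · exact absurd (h ▸ hdx) ((hq.coprime_iff_not_dvd).mp hcop.symm)
    have hKcard := hK.card_mul_card
    rcases hsimple K hKn with h | h
    · rw [h, Subgroup.card_bot, one_mul] at hKcard
      obtain ⟨k, hk⟩ := IsPGroup.iff_card.mp Q.isPGroup'
      rw [← hKcard, hk] at hpG
      exact hpq ((Nat.prime_dvd_prime_iff_eq hp hq).mp (hp.dvd_of_dvd_pow hpG))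
    · rw [h, Subgroup.card_top] at hKcard
      have hQ1 := Q.dvd_card_of_dvd_card hqG
      have hpos : 0 < Nat.card G := Nat.card_pos
      have hQone : Nat.card (Q : Subgroup G) = 1 :=
        Nat.eq_of_mul_eq_mul_left hpos (hKcard.trans (mul_one _).symm)
      rw [hQone] at hQ1
      exact hq.ne_one (Nat.dvd_one.mp hQ1)
  -- the orbit of `b`
  set A := Subgroup.zpowers (ConjAct.toConjAct x) with hA
  have hAp : IsPGroup p A := isPGroup_zpowers (by
    obtain ⟨k, hk⟩ := hx
    exact ⟨k, by rw [← map_pow, hk, map_one]⟩)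
  have hsub1 : MulAction.orbit A b ⊆ (Q₀ : Set G) \ {1} := by
    rintro _ ⟨⟨g, hg⟩, rfl⟩
    obtain ⟨m, rfl⟩ := Subgroup.mem_zpowers_iff.mp hg
    change (ConjAct.toConjAct x) ^ m • b ∈ _
    rw [← map_zpow, ConjAct.toConjAct_smul]
    refine ⟨(Subgroup.mem_normalizer_iff.mp (zpow_mem hxN m) b).mp hb, fun h1 => ?_⟩
    rw [Set.mem_singleton_iff] at h1
    exact hnc (conj_eq_one h1 ▸ Commute.one_right x)
  obtain ⟨n, hn⟩ := IsPGroup.iff_card.mp hAp
  obtain ⟨j, -, hj⟩ := (Nat.dvd_prime_pow hp).mp (hn ▸ (MulAction.stabilizer A b).index_dvd_card)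
  rw [MulAction.index_stabilizer] at hj
  have hj0 : j ≠ 0 := by
    intro h0
    rw [h0, pow_zero] at hj
    obtain ⟨c, hc⟩ := Set.ncard_eq_one.mp hj
    have e1 : b = c := by simpa [hc] using MulAction.mem_orbit_self (M := A) b
    have e2 : (⟨ConjAct.toConjAct x, Subgroup.mem_zpowers _⟩ : A) • b = c := by
      simpa [hc] using MulAction.mem_orbit b (⟨ConjAct.toConjAct x, Subgroup.mem_zpowers _⟩ : A)
    refine hnc (mul_inv_eq_iff_eq_mul.mp ?_)
    rw [← e1] at e2
    rw [← ConjAct.toConjAct_smul]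
    exact e2
  have hge : p ≤ (MulAction.orbit A b).ncard := by rw [hj]; exact Nat.le_self_pow hj0 p
  obtain ⟨Qs, hQs⟩ := hQ₀.exists_le_sylow
  have hQsc : ((Qs : Subgroup G) : Set G).ncard = q ^ (Nat.card G).factorization q := by
    rw [← Nat.card_coe_set_eq]; exact Qs.card_eq_multiplicity
  have hQ1 : (((Qs : Subgroup G) : Set G) \ {1}).ncard = q ^ (Nat.card G).factorization q - 1 := by
    rw [Set.ncard_sdiff_singleton_of_mem (one_mem (Qs : Subgroup G)), hQsc]
  have hsub2 := hsub1.trans (Set.sdiff_subset_sdiff_left hQs)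
  have hle2 := Set.ncard_le_ncard hsub2 (Set.toFinite _)
  rw [hQ1] at hle2
  rcases hlarge with h | ⟨hpeq, hab⟩
  · omega
  have heq : MulAction.orbit A b = ((Qs : Subgroup G) : Set G) \ {1} :=
    Set.eq_of_subset_of_ncard_le hsub2 (by rw [hQ1]; omega) (Set.toFinite _)
  -- `q = 2`
  have ha0 : (Nat.card G).factorization q ≠ 0 :=
    (hq.factorization_pos_of_dvd Nat.card_pos.ne' hqG).ne'
  obtain rfl : q = 2 := by
    rcases hq.eq_two_or_odd' with h | h
    · exact h
    · exfalso
      have h2 : Odd (q ^ (Nat.card G).factorization q) := h.pow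
      have h3 : Odd p := hp.odd_of_ne_two hp2
      obtain ⟨u, hu⟩ := h2
      obtain ⟨v, hv⟩ := h3
      omega
  set a := (Nat.card G).factorization 2 with ha
  have hQeq : Q₀ = (Qs : Subgroup G) := le_antisymm hQs fun z hz => by
    by_cases h1 : z = 1
    · exact h1 ▸ one_mem _
    · exact (hsub1 (heq ▸ ⟨hz, h1⟩ : z ∈ MulAction.orbit A b)).1
  have hxQs : x ∈ Subgroup.normalizer ((Qs : Subgroup G) : Set G) := hQeq ▸ hxN
  have htr : ∀ z ∈ (Qs : Subgroup G), z ≠ 1 → ∀ z' ∈ (Qs : Subgroup G), z' ≠ 1 →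
      ∃ k : ℕ, x ^ k * z * (x ^ k)⁻¹ = z' := by
    intro z hz h1 z' hz' h1'
    have hzo : z ∈ MulAction.orbit A b := heq ▸ ⟨hz, h1⟩
    have hzo' : z' ∈ MulAction.orbit A b := heq ▸ ⟨hz', h1'⟩
    rw [← MulAction.orbit_eq_iff.mpr hzo] at hzo'
    obtain ⟨⟨g, hg⟩, hgz⟩ := hzo'
    obtain ⟨k, rfl⟩ := mem_powers_iff_mem_zpowers.mpr hg
    refine ⟨k, ?_⟩
    rw [← hgz]
    change _ = (ConjAct.toConjAct x) ^ k • z
    rw [← map_pow, ConjAct.toConjAct_smul]
  have hsqs : ∀ z ∈ (Qs : Subgroup G), z * z = 1 := by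
    intro z hz
    obtain ⟨⟨w, hw⟩, hwo⟩ := exists_prime_orderOf_dvd_card' (G := (Qs : Subgroup G)) 2
      (Qs.dvd_card_of_dvd_card hqG)
    rw [← Subgroup.orderOf_coe] at hwo
    change orderOf w = 2 at hwo
    have hw2 : w * w = 1 := by rw [← pow_two, ← hwo]; exact pow_orderOf_eq_one w
    have hw1 : w ≠ 1 := fun h => by simp [h] at hwo
    by_cases h1 : z = 1
    · simp [h1]
    · obtain ⟨k, hk⟩ := htr w hw hw1 z hz h1
      rw [← hk, conj_mul, hw2, mul_one, mul_inv_cancel]
  refine ⟨a, hp, hp2, ?_, rfl, hpG, hsimple, hsub, hab, ?_, ?_⟩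
  · have : 0 < 2 ^ a := by positivity
    omega
  · intro Q z hz
    obtain ⟨g, rfl⟩ := MulAction.exists_smul_eq G Qs Q
    rw [Sylow.coe_subgroup_smul, Subgroup.mem_pointwise_smul_iff_inv_smul_mem] at hz
    have hz' : g⁻¹ * z * g ∈ (Qs : Subgroup G) := by simpa [mul_assoc] using hz
    calc z * z = g * ((g⁻¹ * z * g) * (g⁻¹ * z * g)) * g⁻¹ := by group
      _ = 1 := by rw [hsqs _ hz', mul_one, mul_inv_cancel]
  · intro Q
    obtain ⟨g, rfl⟩ := MulAction.exists_smul_eq G Qs Q
    have hiff : ∀ z, z ∈ ((g • Qs : Sylow 2 G) : Subgroup G) ↔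
        g⁻¹ * z * g ∈ (Qs : Subgroup G) := fun z => by
      rw [Sylow.coe_subgroup_smul, Subgroup.mem_pointwise_smul_iff_inv_smul_mem]
      simp [mul_assoc]
    refine ⟨g * x * g⁻¹, pel_conj hx g, ?_, ?_⟩
    · refine Subgroup.mem_normalizer_fintype
        (S := (((g • Qs : Sylow 2 G) : Subgroup G) : Set G)) ?_
      intro z hz
      rw [SetLike.mem_coe, hiff] at hz ⊢
      rw [show g⁻¹ * (g * x * g⁻¹ * z * (g * x * g⁻¹)⁻¹) * g
        = x * (g⁻¹ * z * g) * x⁻¹ by group]
      exact (Subgroup.mem_normalizer_iff.mp hxQs _).mp hz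
    · intro z hz h1 z' hz' h1'
      obtain ⟨k, hk⟩ := htr _ ((hiff z).mp hz) (fun h => h1 (conj_eq_one (g := g⁻¹) (by rwa [inv_inv])))
        _ ((hiff z').mp hz') (fun h => h1' (conj_eq_one (g := g⁻¹) (by rwa [inv_inv])))
      refine ⟨k, ?_⟩
      rw [conj_pow, show g * x ^ k * g⁻¹ * z * (g * x ^ k * g⁻¹)⁻¹
        = g * (x ^ k * (g⁻¹ * z * g) * (x ^ k)⁻¹) * g⁻¹ by group, hk]
      group

theorem main (n : ℕ) : ∀ (G : Type u) [Group G] [Finite G] (p q : ℕ), Nat.card G = n → p.Prime →
    q.Prime → p ≠ q → p ≠ 2 → p ∣ Nat.card G → q ∣ Nat.card G → Mix G p q → Large G p q →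
    ∀ r : ℕ, r.Prime → r ∣ Nat.card G → r = p ∨ r = q := by
  induction n using Nat.strong_induction_on with
  | _ n ih =>
  intro G _ _ p q hn hp hq hpq hp2 hpG hqG hmix hlarge r hr hrG
  haveI := Fact.mk hp
  haveI := Fact.mk hq
  by_contra hcon
  push Not at hcon
  obtain ⟨hrp, hrq⟩ := hcon
  have hsub : ∀ H : Subgroup G, H ≠ ⊤ → q ∣ Nat.card H →
      ∀ s : ℕ, s.Prime → s ∣ Nat.card H → s = p ∨ s = q := by
    intro H hH hqH s hs hsH
    by_cases hHq : IsPGroup q H
    · obtain ⟨k, hk⟩ := IsPGroup.iff_card.mp hHq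
      rw [hk] at hsH
      exact Or.inr ((Nat.prime_dvd_prime_iff_eq hs hq).mp (hs.dvd_of_dvd_pow hsH))
    have hlt : Nat.card H < n := by
      rw [← hn]
      exact lt_of_le_of_ne (Subgroup.card_le_card_group H)
        fun h => hH ((Subgroup.card_eq_iff_eq_top H).mp h)
    refine ih _ hlt H p q rfl hp hq hpq hp2 (hmix H hH hHq hqH) hqH (mix_subgroup hmix H)
      (large_of_dvd hq hlarge H.card_subgroup_dvd_card fun hab P => ?_) s hs hsH
    have hPp : IsPGroup p ((P : Subgroup H).map H.subtype) := P.isPGroup'.map H.subtype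
    obtain ⟨P', hP'⟩ := hPp.exists_le_sylow
    refine ⟨⟨fun x y => Subtype.ext (Subtype.ext ?_)⟩⟩
    have h := (hab P').is_comm.comm ⟨_, hP' (Subgroup.mem_map_of_mem H.subtype x.2)⟩
      ⟨_, hP' (Subgroup.mem_map_of_mem H.subtype y.2)⟩
    simpa using congrArg Subtype.val h
  have hquot : ∀ (N : Subgroup G) [N.Normal], N ≠ ⊥ → p ∣ Nat.card (G ⧸ N) → IsPGroup p N →
      ∀ s : ℕ, s.Prime → s ∣ Nat.card (G ⧸ N) → s = p ∨ s = q := by
    intro N _ hN1 hpQ hNp
    have hdvd : Nat.card (G ⧸ N) ∣ Nat.card G := Subgroup.card_quotient_dvd_card N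
    have hlt : Nat.card (G ⧸ N) < n := by
      rw [← hn, Subgroup.card_eq_card_quotient_mul_card_subgroup N]
      exact lt_mul_of_one_lt_right Nat.card_pos
        (N.one_lt_card_iff_ne_bot.mpr hN1)
    have hqQ : q ∣ Nat.card (G ⧸ N) := by
      have h := hqG
      rw [Subgroup.card_eq_card_quotient_mul_card_subgroup N] at h
      rcases hq.dvd_mul.mp h with h' | h'
      · exact h'
      · obtain ⟨k, hk⟩ := IsPGroup.iff_card.mp hNp
        rw [hk] at h'
        exact absurd ((Nat.prime_dvd_prime_iff_eq hq hp).mp (hq.dvd_of_dvd_pow h')).symm hpq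
    refine ih _ hlt (G ⧸ N) p q rfl hp hq hpq hp2 hpQ hqQ (mix_quotient hmix N hNp hN1)
      (large_of_dvd hq hlarge hdvd fun hab P => ?_)
    obtain ⟨P', hP'⟩ := Sylow.mapSurjective_surjective (QuotientGroup.mk'_surjective N) p P
    rw [← hP']
    have hc := hab P'
    refine ⟨⟨fun x y => Subtype.ext ?_⟩⟩
    obtain ⟨x', hx', hxe⟩ := x.2
    obtain ⟨y', hy', hye⟩ := y.2
    have h := congrArg Subtype.val (hc.is_comm.comm ⟨x', hx'⟩ ⟨y', hy'⟩)
    change (x : G ⧸ N) * y = y * x
    rw [← hxe, ← hye, ← map_mul, ← map_mul]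
    exact congrArg _ h
  have hsimple := simple_of_minimal hq hpq hpG hqG hsub hquot hr hrG hrp hrq
  obtain ⟨a, hC⟩ := exists_config hq hpq hp2 hpG hqG hlarge hsimple hsub
  exact hC.false_of_config

end Cfsg.Agent.GStructB.MixedTwoPrime
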