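import Cfsg.Agent.GStructB.PElements
import Cfsg.Agent.Lib.CN.Basic
import Cfsg.Agent.Lib.Coprime.Sylow
import Cfsg.Agent.Lib.Transfer.Frobenius
import Cfsg.Agent.Solvable.Thompson
import Mathlib

/-!
Groups with a nilpotent maximal subgroup without a nontrivial normal subgroup inside it.
-/

set_option autoImplicit false

namespace Cfsg.Agent.GStructB.NilpotentMaximal

open Cfsg
open scoped commutatorElement

universe u

variable {G : Type u} [Group G] [Finite G]

/-- `M` is a maximal subgroup, nilpotent, nontrivial, with trivial core. -/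
structure Setup (M : Subgroup G) : Prop where
  coatom : IsCoatom M
  nilp : Group.IsNilpotent M
  ne_bot : M ≠ ⊥
  core : ∀ N : Subgroup G, N.Normal → N ≤ M → N = ⊥

theorem Setup.normalizer_eq {M : Subgroup G} (h : Setup M) {X : Subgroup G} (hX : X ≤ M) (hX1 : X ≠ ⊥)
    (hn : M ≤ Subgroup.normalizer (X : Set G)) : Subgroup.normalizer (X : Set G) = M := by
  refine (h.coatom.le_iff.mp hn).resolve_left fun ht => hX1 ?_
  exact h.core X (Subgroup.normalizer_eq_top_iff.mp ht) hX

/-- A Sylow subgroup of `M` for a prime dividing `|M|` is a Sylow subgroup of `G`. -/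
theorem Setup.exists_sylow {M : Subgroup G} (h : Setup M) {p : ℕ} [Fact p.Prime]
    (hp : p ∣ Nat.card M) :
    ∃ P : Sylow p G, (P : Subgroup G) ≤ M ∧ (P : Subgroup G) ≠ ⊥ ∧
      M ≤ Subgroup.normalizer ((P : Subgroup G) : Set G) := by
  have := h.nilp
  obtain ⟨T⟩ : Nonempty (Sylow p M) := inferInstance
  have hTn : (T : Subgroup M).Normal :=
    Sylow.normal_of_normalizerCondition Group.normalizerCondition_of_isNilpotent T
  set P := (T : Subgroup M).map M.subtype with hP
  have hPM : P ≤ M := Subgroup.map_subtype_le _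
  have hP1 : P ≠ ⊥ := by
    rw [hP, Ne, Subgroup.map_eq_bot_iff_of_injective _ M.subtype_injective]
    exact T.ne_bot_of_dvd_card hp
  have hMN : M ≤ Subgroup.normalizer (P : Set G) := by
    intro m hm
    rw [Subgroup.mem_normalizer_iff]
    intro z
    constructor
    · rintro ⟨w, hw, rfl⟩
      exact ⟨⟨m, hm⟩ * w * ⟨m, hm⟩⁻¹, hTn.conj_mem w hw _, rfl⟩
    · rintro ⟨w, hw, hwz⟩
      have hwz' : (w : G) = m * z * m⁻¹ := hwz
      refine ⟨(⟨m, hm⟩ : M)⁻¹ * w * ⟨m, hm⟩, (by have h5 := hTn.conj_mem w hw (⟨m, hm⟩ : M)⁻¹; rwa [inv_inv] at h5), ?_⟩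
      show m⁻¹ * (w : G) * m = z
      rw [hwz']; group
  have hN := h.normalizer_eq hPM hP1 hMN
  have hTp : IsPGroup p P := T.2.map M.subtype
  obtain ⟨S, hS⟩ := hTp.exists_le_sylow
  refine ⟨S, ?_⟩
  suffices (S : Subgroup G) = P by rw [this]; exact ⟨hPM, hP1, hMN⟩
  by_contra hne
  have hlt : P.subgroupOf (S : Subgroup G) < ⊤ := by
    rw [lt_top_iff_ne_top, Ne, Subgroup.subgroupOf_eq_top]
    exact fun h' => hne (le_antisymm h' hS)
  obtain ⟨s, hsN, hsP⟩ := SetLike.exists_of_lt
    ((Group.normalizerCondition_of_isNilpotent (h := S.2.isNilpotent)) _ hlt)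
  rw [← Subgroup.subgroupOf_normalizer_eq hS, Subgroup.mem_subgroupOf, hN] at hsN
  refine hsP (Subgroup.mem_subgroupOf.mpr ⟨⟨(s : G), hsN⟩, ?_, rfl⟩)
  refine (QuotientGroup.eq_one_iff _).mp (orderOf_eq_one_iff.mp ?_)
  obtain ⟨k, hk⟩ := GStructB.PElements.exists_orderOf_eq S.2 s.2
  exact Nat.eq_one_of_dvd_coprimes
    ((((Fact.out : p.Prime).coprime_iff_not_dvd).mpr T.not_dvd_index).pow_left k)
    ((orderOf_map_dvd (QuotientGroup.mk' (T : Subgroup M)) _).trans
      (dvd_of_eq ((Subgroup.orderOf_mk _ hsN).trans hk)))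
    (by rw [Subgroup.index_eq_card]; exact orderOf_dvd_natCard _)

/-- If `G` has normal `p`-complements for all primes `p` dividing `|M|`, then `G` is solvable. -/
theorem Setup.isSolvable {M : Subgroup G} (h : Setup M)
    (hc : ∀ p : ℕ, p.Prime → p ∣ Nat.card M → HasNormalPComplement p G) : Group.IsSolvable G := by
  classical
  set K : Subgroup G := ⨅ (p : ℕ) (_ : p.Prime ∧ p ∣ Nat.card M), pResidual p G with hK
  have hKn : K.Normal :=
    Subgroup.normal_iInf_normal fun p => Subgroup.normal_iInf_normal fun hp => by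
      have := Fact.mk hp.1
      infer_instance
  have hKcop : ∀ p : ℕ, p.Prime → p ∣ Nat.card M → (Nat.card K).Coprime p := by
    intro p hp hpM
    have := Fact.mk hp
    refine (Transfer.NormalPComplement.hasNormalPComplement_iff_pResidual.mp (hc p hp hpM)).coprime_dvd_left
      (Subgroup.card_dvd_of_le ?_)
    exact iInf_le_of_le p (iInf_le_of_le ⟨hp, hpM⟩ le_rfl)
  have hcop : (Nat.card M).Coprime (Nat.card K) := by
    refine Nat.coprime_of_dvd fun p hp hpM hpK => ?_
    exact hp.ne_one (Nat.eq_one_of_dvd_coprimes (hKcop p hp hpM) hpK dvd_rfl)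
  have hdisj : M ⊓ K = ⊥ := Subgroup.eq_bot_of_card_eq _ (Nat.eq_one_of_dvd_coprimes hcop
    (Subgroup.card_dvd_of_le inf_le_left) (Subgroup.card_dvd_of_le inf_le_right))
  -- `K` is nontrivial
  have hK1 : K ≠ ⊥ := by
    intro hK1
    have hdvd : ∀ q : ℕ, q.Prime → q ∣ Nat.card G → q ∣ Nat.card M := by
      intro q hq hqG
      by_contra hqM
      have := Fact.mk hq
      obtain ⟨y, hy⟩ := exists_prime_orderOf_dvd_card' q hqG
      have hyK : y ∈ K := by
        simp only [hK, Subgroup.mem_iInf]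
        intro p hp
        refine Transfer.NormalPComplement.mem_pResidual_of_coprime ?_
        rw [hy]
        exact (Nat.coprime_primes hq hp.1).mpr (fun he => hqM (he ▸ hp.2))
      rw [hK1, Subgroup.mem_bot] at hyK
      rw [hyK, orderOf_one] at hy
      exact hq.ne_one hy.symm
    refine h.coatom.1 (Subgroup.eq_top_of_card_eq M (Nat.dvd_antisymm M.card_subgroup_dvd_card ?_))
    rw [Nat.dvd_iff_prime_pow_dvd_dvd]
    intro q k hq hqk
    rcases k with _ | k
    · simp
    have := Fact.mk hq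
    obtain ⟨P, hPM, -⟩ := h.exists_sylow (hdvd q hq ((dvd_pow_self q (Nat.succ_ne_zero k)).trans hqk))
    exact (P.pow_dvd_card_of_pow_dvd_card hqk).trans (Subgroup.card_dvd_of_le hPM)
  have hMK : M ⊔ K = ⊤ := by
    refine (h.coatom.le_iff.mp le_sup_left).resolve_right fun he => hK1 ?_
    exact h.core K hKn (sup_eq_left.mp he)
  -- an invariant Sylow subgroup is all of `K`
  have hne : Nat.card K ≠ 1 := fun he => hK1 (K.eq_bot_of_card_eq he)
  obtain ⟨q, hq, hqK⟩ := Nat.exists_prime_and_dvd hne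
  have := Fact.mk hq
  have hMN : M ≤ Subgroup.normalizer (K : Set G) := by
    rw [Subgroup.normalizer_eq_top]; exact le_top
  have hMs : Group.IsSolvable M := by have := h.nilp; infer_instance
  obtain ⟨Q, hQ⟩ := Coprime.exists_invariant_sylow q hMN hcop (Or.inl hMs)
  set Q' := (Q : Subgroup K).map K.subtype with hQ'
  have hQ'K : Q' ≤ K := Subgroup.map_subtype_le _
  have hQ'1 : Q' ≠ ⊥ := by
    rw [hQ', Ne, Subgroup.map_eq_bot_iff_of_injective _ K.subtype_injective]
    exact Q.ne_bot_of_dvd_card hqK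
  have htop : M ⊔ Q' = ⊤ := by
    refine (h.coatom.le_iff.mp le_sup_left).resolve_right fun he => hQ'1 ?_
    exact le_bot_iff.mp (hdisj ▸ le_inf (sup_eq_left.mp he) hQ'K)
  have hKQ : K = Q' := by
    refine le_antisymm (fun x hx => ?_) hQ'K
    obtain ⟨m, hm, y, hy, rfl⟩ : ∃ m ∈ M, ∃ y ∈ Q', m * y = x := by
      have : x ∈ ((M ⊔ Q' : Subgroup G) : Set G) := by rw [htop]; exact Subgroup.mem_top x
      rw [Subgroup.coe_mul_of_left_le_normalizer_right M Q' hQ] at this
      exact this
    have hm1 : m = 1 := by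
      have : m ∈ M ⊓ K := ⟨hm, by simpa using mul_mem hx (inv_mem (hQ'K hy))⟩
      rwa [hdisj, Subgroup.mem_bot] at this
    rw [hm1, one_mul]; exact hy
  have hKs : Group.IsSolvable K := by
    have : IsPGroup q K := hKQ ▸ Q.2.map K.subtype
    have := this.isNilpotent
    infer_instance
  have hqs : Group.IsSolvable (G ⧸ K) := by
    refine Group.isSolvable_of_surjective (f := (QuotientGroup.mk' K).comp M.subtype) ?_
    rw [← MonoidHom.range_eq_top, MonoidHom.range_comp, Subgroup.range_subtype,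
      ← Subgroup.map_top_of_surjective _ (QuotientGroup.mk'_surjective K), ← hMK, Subgroup.map_sup,
      (Subgroup.map_eq_bot_iff K).mpr (by rw [QuotientGroup.ker_mk']), sup_bot_eq]
  exact (Group.isSolvable_iff_subgroup_quotient K).mpr ⟨hKs, hqs⟩

/-- For odd `p` Thompson's theorem gives the complement. -/
theorem Setup.complement_odd {M : Subgroup G} (h : Setup M) {p : ℕ} [Fact p.Prime] (hp2 : p ≠ 2)
    (hpM : p ∣ Nat.card M) : HasNormalPComplement p G := by
  obtain ⟨P, hPM, hP1, hMN⟩ := h.exists_sylow hpM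
  have hnil : HasNormalPComplement p M := by
    have := h.nilp
    exact Cfsg.Agent.Solvable.Thompson.hasNormalPComplement_of_nilpotent
  refine PLocal.ThompsonComplement.hasNormalPComplement_of_thompson hp2 P ?_ ?_
  · rw [h.normalizer_eq ((PLocal.ThompsonComplement.J_le _).trans hPM)
      (PLocal.ThompsonComplement.J_ne_bot P.2 hP1)
      (hMN.trans (PLocal.ThompsonComplement.normalizer_le_J _))]
    exact hnil
  · set Z := PLocal.ThompsonComplement.Z (P : Subgroup G)
    have hZM : Z ≤ M := inf_le_left.trans hPM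
    have hZN : Subgroup.normalizer (Z : Set G) = M :=
      h.normalizer_eq hZM (PLocal.ThompsonComplement.Z_ne_bot P.2 hP1)
        (hMN.trans (PLocal.ThompsonComplement.normalizer_le_Z _))
    refine Transfer.NormalPComplement.HasNormalPComplement.of_le
      ((Subgroup.centralizer_le_normalizer (Z : Set G)).trans hZN.le) hnil

/-- For class at most two no hypothesis on `p` is needed. -/
theorem Setup.complement_class_two {M : Subgroup G} (h : Setup M) {p : ℕ} [Fact p.Prime]
    (hpM : p ∣ Nat.card M) (hcl : Group.nilpotencyClass M ≤ 2) : HasNormalPComplement p G := by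
  classical
  have hp := (Fact.out : p.Prime)
  obtain ⟨P, hPM, hP1, hMN⟩ := h.exists_sylow hpM
  refine Transfer.Frobenius.hasNormalPComplement_of_condition ?_
  by_contra hno
  obtain ⟨Q, ⟨hQp, hQbad⟩, hQmax⟩ := (Set.toFinite {Q : Subgroup G | IsPGroup p Q ∧
    ∃ g ∈ Subgroup.normalizer (Q : Set G), (orderOf g).Coprime p ∧
      g ∉ Subgroup.centralizer (Q : Set G)}).exists_maximal
    (by
      simp only [Transfer.Frobenius.Condition, not_forall] at hno
      obtain ⟨Q, hQ, g, hg, ho, hc⟩ := hno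
      exact ⟨Q, hQ, g, hg, ho, hc⟩)
  obtain ⟨g, hgN, hgo, hgC⟩ := hQbad
  obtain ⟨R, hR⟩ := hQp.exists_le_sylow
  obtain ⟨c, hc⟩ := MulAction.exists_smul_eq G P R
  -- move `M` along
  set e := MulAut.conj c
  have hMQ : Q ≤ M.map e.toMonoidHom := hR.trans (by
    rw [← hc, Transfer.Fusion.coe_smul_eq_map]
    exact Subgroup.map_mono hPM)
  set M' := M.map e.toMonoidHom with hM'
  have hM's : Setup M' := by
    refine ⟨?_, ?_, ?_, ?_⟩
    · exact (OrderIso.isCoatom_iff e.mapSubgroup M).mpr h.coatom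
    · have := h.nilp
      exact Group.nilpotent_of_surjective (e.subgroupMap M).toMonoidHom (e.subgroupMap M).surjective
    · rw [hM', Ne, Subgroup.map_eq_bot_iff_of_injective _ e.injective]; exact h.ne_bot
    · intro N hN hNM
      refine h.core N hN fun x hx => ?_
      obtain ⟨y, hy, hyx⟩ := hNM (hN.conj_mem x hx c)
      have : c * y * c⁻¹ = c * x * c⁻¹ := hyx
      rwa [← mul_left_cancel (mul_right_cancel this)]
  have hRM : (R : Subgroup G) ≤ M' := by
    rw [← hc, Transfer.Fusion.coe_smul_eq_map]; exact Subgroup.map_mono hPM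
  have hMNR : M' ≤ Subgroup.normalizer ((R : Subgroup G) : Set G) := by
    rw [← hc, Transfer.Fusion.coe_smul_eq_map, ← Subgroup.map_equiv_normalizer_eq]
    exact Subgroup.map_mono hMN
  have hcl' : Group.nilpotencyClass M' ≤ 2 := by
    have := h.nilp
    exact (Group.nilpotencyClass_le_of_surjective (e.subgroupMap M).toMonoidHom
      (e.subgroupMap M).surjective).trans hcl
  have := hM's.nilp
  have hcomm2 : ∀ x ∈ M', ∀ y ∈ M', ∀ z ∈ M', x * y * x⁻¹ * y⁻¹ * z = z * (x * y * x⁻¹ * y⁻¹) := by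
    intro x hx y hy z hz
    have h1 := Subgroup.lowerCentralSeries_eq_bot_iff_nilpotencyClass_le.mpr hcl'
    have h2 : ⁅⁅(⟨x, hx⟩ : M'), (⟨y, hy⟩ : M')⁆, (⟨z, hz⟩ : M')⁆ ∈ (⊤ : Subgroup M').lowerCentralSeries 2 := by
      rw [Subgroup.lowerCentralSeries_succ, Subgroup.lowerCentralSeries_succ,
        Subgroup.lowerCentralSeries_zero]
      exact Subgroup.commutator_mem_commutator
        (Subgroup.commutator_mem_commutator (Subgroup.mem_top _) (Subgroup.mem_top _)) (Subgroup.mem_top _)
    rw [h1, Subgroup.mem_bot, commutatorElement_eq_one_iff_mul_comm] at h2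
    exact congrArg Subtype.val h2
  -- the centre of the Sylow subgroup centralizes `Q`
  have hQ1 : Q ≠ ⊥ := by
    intro h0
    exact hgC (Subgroup.mem_centralizer_iff.mpr fun q hq => by
      rw [h0] at hq; rw [Subgroup.mem_bot.mp hq, one_mul, mul_one])
  set Z := PLocal.ThompsonComplement.Z (R : Subgroup G) with hZ
  by_cases hZQ : Z ≤ Q
  · -- then `Q` is normal in `M'`
    have hQn : M' ≤ Subgroup.normalizer (Q : Set G) := by
      intro m hm
      suffices hconj : ∀ m ∈ M', ∀ x ∈ Q, m * x * m⁻¹ ∈ Q by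
        rw [Subgroup.mem_normalizer_iff]
        intro x
        refine ⟨fun hx => hconj m hm x hx, fun hx => ?_⟩
        have h3 := hconj m⁻¹ (inv_mem hm) _ hx
        simpa [mul_assoc] using h3
      intro m hm x hx
      have hxR := hR hx
      have h1 : m * x * m⁻¹ * x⁻¹ ∈ Z := by
        refine ⟨(R : Subgroup G).mul_mem ((Subgroup.mem_normalizer_iff.mp (hMNR hm) x).mp hxR)
          ((R : Subgroup G).inv_mem hxR), ?_⟩
        intro z hz
        exact (hcomm2 m hm x (hMQ hx) z (hRM hz)).symm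
      simpa using mul_mem (hZQ h1) hx
    have hN := hM's.normalizer_eq hMQ hQ1 hQn
    rw [hN] at hgN
    refine hgC (Subgroup.mem_centralizer_iff.mpr fun q hq => ?_)
    obtain ⟨j, hj⟩ := GStructB.PElements.exists_orderOf_eq hQp hq
    exact CN.commute_of_coprime hM's.nilp (hMQ hq) hgN (by rw [hj]; exact (hgo.symm).pow_left j)
  -- otherwise a larger subgroup is bad
  set X := Subgroup.normalizer (Q : Set G) with hX
  set C := Subgroup.centralizer (Q : Set G) with hC
  have hCX : C ≤ X := Subgroup.centralizer_le_normalizer (Q : Set G)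
  have hZC : Z ≤ C := fun z hz => Subgroup.mem_centralizer_iff.mpr fun q hq => hz.2 q (hR hq)
  obtain ⟨S⟩ : Nonempty (Sylow p C) := inferInstance
  set S' := (S : Subgroup C).map C.subtype with hS'
  have hS'C : S' ≤ C := Subgroup.map_subtype_le _
  have hS'Q : ¬ S' ≤ Q := by
    intro hle
    have hn : (S : Subgroup C).Normal := by
      refine ⟨fun s hs u => ?_⟩
      have h1 : (s : G) ∈ Q := hle ⟨s, hs, rfl⟩
      have h2 := Subgroup.mem_centralizer_iff.mp u.2 _ h1
      have : u * s * u⁻¹ = s := Subtype.ext (by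
        show (u : G) * s * (u : G)⁻¹ = s
        rw [← h2, mul_inv_cancel_right])
      rw [this]; exact hs
    apply hZQ
    intro z hz
    obtain ⟨j, hj⟩ := GStructB.PElements.exists_orderOf_eq R.2 hz.1
    refine hle ⟨⟨z, hZC hz⟩, ?_, rfl⟩
    refine (QuotientGroup.eq_one_iff _).mp (orderOf_eq_one_iff.mp ?_)
    exact Nat.eq_one_of_dvd_coprimes ((hp.coprime_iff_not_dvd.mpr S.not_dvd_index).pow_left j)
      ((orderOf_map_dvd (QuotientGroup.mk' (S : Subgroup C)) _).trans
        (dvd_of_eq ((Subgroup.orderOf_mk _ (hZC hz)).trans hj)))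
      (by rw [Subgroup.index_eq_card]; exact orderOf_dvd_natCard _)
  set R' := Q ⊔ S' with hR'
  have hS'p : IsPGroup p S' := S.2.map C.subtype
  have hR'p : IsPGroup p R' := hQp.to_sup_of_normal_left' hS'p (hS'C.trans hCX)
  have hlt : Q < R' := lt_of_le_of_ne le_sup_left fun he => hS'Q (le_sup_right.trans he.ge)
  -- Frattini
  have hCn : (C.subgroupOf X).Normal := by
    refine ⟨fun u hu m => Subgroup.mem_subgroupOf.mpr (Subgroup.mem_centralizer_iff.mpr fun z hz => ?_)⟩
    have h3 : (m : G)⁻¹ * z * m ∈ Q := by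
      simpa using (Subgroup.mem_normalizer_iff.mp (inv_mem m.2) z).mp hz
    have h4 := Subgroup.mem_centralizer_iff.mp (Subgroup.mem_subgroupOf.mp hu) _ h3
    simp only [Subgroup.coe_mul, Subgroup.coe_inv]
    calc z * ((m : G) * u * (m : G)⁻¹) = m * (((m : G)⁻¹ * z * m) * u) * (m : G)⁻¹ := by group
      _ = _ := by rw [h4]; group
  let eC : C.subgroupOf X ≃* C := Subgroup.subgroupOfEquivOfLe hCX
  let S0 : Sylow p (C.subgroupOf X) := S.comapOfInjective eC.toMonoidHom eC.injective (by
    rw [MonoidHom.range_eq_top.mpr eC.surjective]; exact le_top)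
  have hfr := Sylow.normalizer_sup_eq_top S0
  obtain ⟨v, hv, u, hu, hvu⟩ := Subgroup.mem_sup_of_normal_right.mp
    (show (⟨g, hgN⟩ : X) ∈ Subgroup.normalizer
      (((S0 : Subgroup (C.subgroupOf X)).map (C.subgroupOf X).subtype : Subgroup X) : Set X) ⊔
        C.subgroupOf X by rw [hfr]; exact Subgroup.mem_top _)
  set n : G := (v : G) with hn
  set w : G := (u : G) with hw
  have hwC : w ∈ C := hu
  have hgn : g = n * w := congrArg Subtype.val hvu.symm
  have hnS : n ∈ Subgroup.normalizer (S' : Set G) := by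
    have h1 : ((S0 : Subgroup (C.subgroupOf X)).map (C.subgroupOf X).subtype).map X.subtype = S' := by
      ext z
      constructor
      · rintro ⟨_, ⟨y, hy, rfl⟩, rfl⟩
        exact ⟨eC y, hy, rfl⟩
      · rintro ⟨y, hy, rfl⟩
        refine ⟨_, ⟨eC.symm y, ?_, rfl⟩, rfl⟩
        show eC (eC.symm y) ∈ (S : Subgroup C)
        rwa [eC.apply_symm_apply]
    rw [← h1]
    exact Subgroup.le_normalizer_map X.subtype ⟨v, hv, rfl⟩
  have hnX : n ∈ X := v.2
  have hnR : n ∈ Subgroup.normalizer (R' : Set G) := by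
    rw [← Transfer.Fusion.map_conj_eq_self_iff, hR', Subgroup.map_sup,
      Transfer.Fusion.map_conj_eq_self_iff.mpr hnX, Transfer.Fusion.map_conj_eq_self_iff.mpr hnS]
  -- powers of `g` and `n` act alike on `Q`
  have hsame : ∀ j : ℕ, ∀ q ∈ Q, g ^ j * q * (g ^ j)⁻¹ = n ^ j * q * (n ^ j)⁻¹ := by
    intro j
    induction j with
    | zero => intro q hq; simp
    | succ j ih =>
      intro q hq
      have hq' : g * q * g⁻¹ ∈ Q := (Subgroup.mem_normalizer_iff.mp hgN q).mp hq
      have e1 : g * q * g⁻¹ = n * q * n⁻¹ := by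
        rw [hgn]
        calc n * w * q * (n * w)⁻¹ = n * (w * q) * w⁻¹ * n⁻¹ := by group
          _ = n * (q * w) * w⁻¹ * n⁻¹ := by rw [Subgroup.mem_centralizer_iff.mp hwC q hq]
          _ = _ := by group
      calc g ^ (j + 1) * q * (g ^ (j + 1))⁻¹ = g ^ j * (g * q * g⁻¹) * (g ^ j)⁻¹ := by
            rw [pow_succ]; group
        _ = n ^ j * (n * q * n⁻¹) * (n ^ j)⁻¹ := by rw [ih _ hq', e1]
        _ = _ := by rw [pow_succ]; group
  obtain ⟨a, s, ha, hs, -⟩ := GStructB.PElements.exists_split p n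
  have hno' : (orderOf (n ^ p ^ a)).Coprime p := by
    rw [orderOf_pow' n (pow_ne_zero _ hp.ne_zero), ha, Nat.gcd_eq_right (dvd_mul_right _ _),
      Nat.mul_div_cancel_left _ (pow_pos hp.pos a)]
    exact (hp.coprime_iff_not_dvd.mpr hs).symm
  have hgood : n ^ p ^ a ∈ Subgroup.centralizer (R' : Set G) := by
    by_contra hbad
    exact hlt.not_ge (hQmax ⟨hR'p, _, pow_mem hnR _, hno', hbad⟩ hlt.le)
  apply hgC
  refine Transfer.NormalPComplement.mem_of_pow_mem (n := p ^ a) (hgo.pow_right a) ?_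
  refine Subgroup.mem_centralizer_iff.mpr fun q hq => ?_
  have h5 := hsame (p ^ a) q hq
  rw [← Subgroup.mem_centralizer_iff.mp hgood q (Subgroup.mem_sup_left hq), mul_inv_cancel_right] at h5
  exact (mul_inv_eq_iff_eq_mul.mp h5).symm

end Cfsg.Agent.GStructB.NilpotentMaximal
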