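import Cfsg.Agent.GStructB.PElements
import Cfsg.Agent.Lib.Cores.Basic
import Cfsg.Agent.Lib.Hall.MinimalNormal
import Cfsg.Agent.Lib.Involutions.Basic
import Cfsg.Prelude.Def_CaseTheorems
import Mathlib

/-!
Solvable ambivalent groups with one class of involutions have Sylow 2-subgroups with one involution.
-/

set_option autoImplicit false

namespace Cfsg.Agent.GStructB.OneInvolution

variable {G : Type*} [Group G] [Finite G]

/-- In a group of odd order only the identity is real. -/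
theorem eq_one_of_odd_real {x n : G} (hn : Odd (orderOf n)) (hx : Odd (orderOf x))
    (h : n * x * n⁻¹ = x⁻¹) : x = 1 := by
  have h2 : n ^ 2 ∈ Subgroup.centralizer ({x} : Set G) := by
    rw [Subgroup.mem_centralizer_singleton_iff, pow_two]
    calc n * n * x = n * (n * x * n⁻¹) * n⁻¹ * (n * n) := by group
      _ = n * x⁻¹ * n⁻¹ * (n * n) := by rw [h]
      _ = (n * x * n⁻¹)⁻¹ * (n * n) := by group
      _ = x * (n * n) := by rw [h, inv_inv]
  have h3 : n ∈ Subgroup.centralizer ({x} : Set G) :=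
    GStructB.PElements.mem_of_pow_mem_coprime (a := 2) (b := orderOf n)
      (Nat.coprime_two_left.mpr hn) h2 (by rw [pow_orderOf_eq_one]; exact one_mem _)
  rw [Subgroup.mem_centralizer_singleton_iff] at h3
  rw [h3, mul_inv_cancel_right] at h
  have h4 : x ^ 2 = 1 := by
    rw [pow_two]; nth_rewrite 2 [h]; exact mul_inv_cancel x
  exact orderOf_eq_one_iff.mp (Nat.eq_one_of_dvd_coprimes (Nat.coprime_two_left.mpr hx)
    (orderOf_dvd_of_pow_eq_one h4) dvd_rfl)

/-- An ambivalent group of odd order is trivial. -/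
theorem subsingleton_of_odd (hamb : ∀ x : G, IsConj x x⁻¹) (hodd : Odd (Nat.card G)) (x : G) : x = 1 := by
  obtain ⟨n, hn⟩ := isConj_iff.mp (hamb x)
  exact eq_one_of_odd_real (hodd.of_dvd_nat (orderOf_dvd_natCard n))
    (hodd.of_dvd_nat (orderOf_dvd_natCard x)) hn

/-- A real element is inverted by a 2-element. -/
theorem exists_two_element_inverting {x : G} (h : IsConj x x⁻¹) :
    ∃ (t : G) (k : ℕ), orderOf t = 2 ^ k ∧ t * x * t⁻¹ = x⁻¹ := by
  have : Fact (Nat.Prime 2) := ⟨Nat.prime_two⟩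
  obtain ⟨g, hg⟩ := isConj_iff.mp h
  obtain ⟨a, s, -, hs, hsp⟩ := GStructB.PElements.exists_split 2 g
  have hinv : g * x⁻¹ * g⁻¹ = x := by rw [← conj_inv, hg, inv_inv]
  have key : ∀ k : ℕ, g ^ (2 * k + 1) * x * (g ^ (2 * k + 1))⁻¹ = x⁻¹ := by
    intro k
    induction k with
    | zero => simpa using hg
    | succ k ih =>
      calc g ^ (2 * (k + 1) + 1) * x * (g ^ (2 * (k + 1) + 1))⁻¹
          = g * (g * (g ^ (2 * k + 1) * x * (g ^ (2 * k + 1))⁻¹) * g⁻¹) * g⁻¹ := by group
        _ = x⁻¹ := by rw [ih, hinv, hg]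
  obtain ⟨k, hk⟩ : Odd s := Nat.odd_iff.mpr (by omega)
  exact ⟨g ^ s, a, hsp, by rw [hk]; exact key k⟩

/-- The main step: trivial odd core is not needed, only a normal nontrivial 2-subgroup. -/
theorem involution_unique [Group.IsSolvable G] (hamb : ∀ x : G, IsConj x x⁻¹)
    (hone : ∀ s t : G, orderOf s = 2 → orderOf t = 2 → IsConj s t) {E : Subgroup G} [E.Normal]
    (hE : IsPGroup 2 E) (hE1 : E ≠ ⊥) : ∀ s t : G, orderOf s = 2 → orderOf t = 2 → s = t := by
  classical
  have : Fact (Nat.Prime 2) := ⟨Nat.prime_two⟩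
  obtain ⟨W, hWn, hWE, hW1, hmin⟩ := Hall.exists_minimal_normal E hE1
  have hW2 : IsPGroup 2 W := hE.to_le hWE
  have := hW2.isNilpotent
  obtain ⟨q, hq, hqd, -, hWab, hWexp⟩ := Hall.minimal_normal_isElementaryAbelian hW1 hmin
  obtain ⟨n, hn⟩ := IsPGroup.iff_card.mp hW2
  have hq2 : q = 2 := (Nat.prime_dvd_prime_iff_eq hq Nat.prime_two).mp
    (hq.dvd_of_dvd_pow (hn ▸ hqd))
  subst hq2
  obtain ⟨w0, hw0, hw01⟩ := (Subgroup.bot_or_exists_ne_one W).resolve_left hW1
  have hord : ∀ w ∈ W, w ≠ 1 → orderOf w = 2 := fun w hw hw1 => orderOf_eq_prime (hWexp w hw) hw1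
  have hmem : ∀ s : G, orderOf s = 2 → s ∈ W := fun s hs => by
    obtain ⟨g, hg⟩ := isConj_iff.mp (hone w0 s (hord w0 hw0 hw01) hs)
    exact hg ▸ hWn.conj_mem w0 hw0 g
  have hcommW : ∀ a ∈ W, ∀ b ∈ W, a * b = b * a := fun a ha b hb =>
    congrArg Subtype.val (hWab.is_comm.comm ⟨a, ha⟩ ⟨b, hb⟩)
  set C := Subgroup.centralizer (W : Set G) with hC
  have hWC : W ≤ C := fun a ha => Subgroup.mem_centralizer_iff.mpr fun b hb => hcommW b hb a ha
  intro s t hs ht
  by_contra hst
  -- `C` is proper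
  have hCtop : C ≠ ⊤ := by
    intro hCt
    obtain ⟨g, hg⟩ := isConj_iff.mp (hone s t hs ht)
    have h1 : g ∈ C := hCt ▸ Subgroup.mem_top g
    rw [← Subgroup.mem_centralizer_iff.mp h1 s (hmem s hs), mul_inv_cancel_right] at hg
    exact hst hg
  have hnt : Nontrivial (G ⧸ C) := QuotientGroup.nontrivial_iff.mpr hCtop
  obtain ⟨M0, hM0n, -, hM01, hM0min⟩ := Hall.exists_minimal_normal (⊤ : Subgroup (G ⧸ C)) top_ne_bot
  obtain ⟨r, hr, -, hM0p, hM0ab, hM0exp⟩ := Hall.minimal_normal_isElementaryAbelian hM01 hM0min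
  have : Fact r.Prime := ⟨hr⟩
  set π := QuotientGroup.mk' C with hπ
  set M := M0.comap π with hM
  have hMn : M.Normal := hM0n.comap π
  have hCM : ¬ M ≤ C := by
    intro h
    obtain ⟨z, hz, hz1⟩ := (Subgroup.bot_or_exists_ne_one M0).resolve_left hM01
    obtain ⟨y, rfl⟩ := QuotientGroup.mk'_surjective C z
    exact hz1 ((QuotientGroup.eq_one_iff y).mpr (h hz))
  have hr2 : r ≠ 2 := by
    rintro rfl
    apply hCM
    let ψ : G ⧸ C →* MulAut W := QuotientGroup.lift C MulAut.conjNormal fun c hc => by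
      apply MulEquiv.ext
      intro w
      apply Subtype.ext
      show c * (w : G) * c⁻¹ = w
      rw [← Subgroup.mem_centralizer_iff.mp hc w w.2, mul_inv_cancel_right]
    let _ : MulAction M0 W := MulAction.compHom W ((ψ.comp M0.subtype))
    obtain ⟨w, hw, hw1⟩ := hM0p.exists_fixed_point_of_prime_dvd_card_of_fixed_point W
      (by rw [hn]; refine dvd_pow_self 2 ?_; rintro rfl
          exact hW1 (W.eq_bot_of_card_eq (by simpa using hn)))
      (a := 1) (fun g => map_one ((ψ.comp M0.subtype) g))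
    have hwfix : (w : G) ∈ W ⊓ Subgroup.centralizer (M : Set G) := by
      refine ⟨w.2, Subgroup.mem_centralizer_iff.mpr fun y hy => ?_⟩
      have h1 : y * (w : G) * y⁻¹ = w := congrArg Subtype.val (hw ⟨π y, hy⟩)
      exact mul_inv_eq_iff_eq_mul.mp h1
    have hZn : (W ⊓ Subgroup.centralizer (M : Set G)).Normal := inferInstance
    rcases hmin _ hZn inf_le_left with h | h
    · rw [h, Subgroup.mem_bot] at hwfix
      exact (hw1 (Subtype.ext hwfix).symm).elim
    · intro y hy
      rw [hC, Subgroup.mem_centralizer_iff]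
      intro z hz
      exact (Subgroup.mem_centralizer_iff.mp (inf_eq_left.mp h hz) y hy).symm
  -- conjugations by elements of `M` commute on `W`
  have hswap : ∀ x ∈ M, ∀ y ∈ M, ∀ w ∈ W,
      x * (y * w * y⁻¹) * x⁻¹ = y * (x * w * x⁻¹) * y⁻¹ := by
    intro x hx y hy w hw
    have h1 : (y * x)⁻¹ * (x * y) ∈ C := (QuotientGroup.eq (s := C)).mp (by
      show π (y * x) = π (x * y)
      rw [map_mul, map_mul]
      exact congrArg Subtype.val (hM0ab.is_comm.comm ⟨π y, hy⟩ ⟨π x, hx⟩))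
    have h2 := Subgroup.mem_centralizer_iff.mp h1 w hw
    calc x * (y * w * y⁻¹) * x⁻¹ = (y * x) * (((y * x)⁻¹ * (x * y)) * w) * (x * y)⁻¹ := by group
      _ = (y * x) * (w * ((y * x)⁻¹ * (x * y))) * (x * y)⁻¹ := by rw [h2]
      _ = _ := by group
  have hexpC : ∀ m ∈ M, m ^ r ∈ C := fun m hm => (QuotientGroup.eq_one_iff (N := C) _).mp (by
    show π (m ^ r) = 1
    rw [map_pow]; exact hM0exp _ hm)
  -- an element of `M` outside `C` fixes no involution
  have hfpf : ∀ m ∈ M, m ∉ C → ∀ a ∈ W, m * a * m⁻¹ = a → a = 1 := by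
    intro m hm hmC a ha hma
    by_contra ha1
    set d : G → G := fun w => m * w * m⁻¹ * w⁻¹ with hd
    have hdW : ∀ w ∈ W, d w ∈ W := fun w hw => mul_mem (hWn.conj_mem w hw m) (inv_mem hw)
    have hd0 : ∀ w ∈ W, m * d w * m⁻¹ = d w → d w = 1 := by
      intro w hw hfix
      have hme : m * d w = d w * m := mul_inv_eq_iff_eq_mul.mp hfix
      have hj : ∀ j : ℕ, m ^ j * w * (m ^ j)⁻¹ = d w ^ j * w := by
        intro j
        induction j with
        | zero => simp
        | succ j ih =>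
          calc m ^ (j + 1) * w * (m ^ (j + 1))⁻¹ = m * (m ^ j * w * (m ^ j)⁻¹) * m⁻¹ := by
                rw [pow_succ']; group
            _ = (m * d w ^ j * m⁻¹) * (m * w * m⁻¹) := by rw [ih]; group
            _ = d w ^ j * (d w * w) := by
              rw [((show Commute m (d w) from hme).pow_right j).eq, mul_inv_cancel_right, hd]; group
            _ = _ := by rw [← mul_assoc, ← pow_succ]
      have h1 := hj r
      rw [← Subgroup.mem_centralizer_iff.mp (hexpC m hm) w hw, mul_inv_cancel_right, eq_comm,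
        mul_eq_right] at h1
      by_contra hne
      have h2 : orderOf (d w) ∣ r := orderOf_dvd_of_pow_eq_one h1
      rw [hord _ (hdW w hw) hne] at h2
      exact hr2 ((Nat.prime_dvd_prime_iff_eq Nat.prime_two hr).mp h2).symm
    obtain ⟨w, hw, hwm⟩ : ∃ w ∈ W, d w ≠ 1 := by
      by_contra! hc
      apply hmC
      rw [hC, Subgroup.mem_centralizer_iff]
      intro w hw
      exact (mul_inv_eq_iff_eq_mul.mp (mul_inv_eq_one.mp (hc w hw))).symm
    set b := d w with hb
    have hbW := hdW w hw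
    -- stabilisers in `M`
    let K : G → Subgroup G := fun v => M ⊓ Subgroup.centralizer ({v} : Set G)
    have hKmem : ∀ v x, x ∈ K v ↔ x ∈ M ∧ x * v * x⁻¹ = v := fun v x => by
      rw [mul_inv_eq_iff_eq_mul]
      exact and_congr_right fun _ => Subgroup.mem_centralizer_singleton_iff
    have hKcard : ∀ u v, u ∈ W → v ∈ W → u ≠ 1 → v ≠ 1 → Nat.card (K u) = Nat.card (K v) := by
      intro u v hu hv hu1 hv1
      obtain ⟨g, hg⟩ := isConj_iff.mp (hone u v (hord u hu hu1) (hord v hv hv1))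
      have : (K u).map (MulAut.conj g).toMonoidHom = K v := by
        ext x
        rw [hKmem]
        constructor
        · rintro ⟨y, hy, rfl⟩
          obtain ⟨hy1, hy2⟩ := (hKmem u y).mp hy
          refine ⟨hMn.conj_mem y hy1 g, ?_⟩
          show (g * y * g⁻¹) * v * (g * y * g⁻¹)⁻¹ = v
          calc (g * y * g⁻¹) * v * (g * y * g⁻¹)⁻¹
              = (g * y * g⁻¹) * (g * u * g⁻¹) * (g * y * g⁻¹)⁻¹ := by rw [hg]
            _ = g * (y * u * y⁻¹) * g⁻¹ := by group
            _ = v := by rw [hy2, hg]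
        · rintro ⟨hx1, hx2⟩
          refine ⟨g⁻¹ * x * g, (hKmem u _).mpr ⟨by simpa using hMn.conj_mem x hx1 g⁻¹, ?_⟩,
            by simp [mul_assoc]⟩
          calc (g⁻¹ * x * g) * u * (g⁻¹ * x * g)⁻¹
              = g⁻¹ * (x * (g * u * g⁻¹) * x⁻¹) * g := by group
            _ = u := by rw [hg, hx2, ← hg]; group
      rw [← this, Subgroup.card_map_of_injective (MulAut.conj g).injective]
    have hsplit : K (a * b) ≤ K a ⊓ K b := by
      intro x hx
      obtain ⟨hxM, hxab⟩ := (hKmem _ x).mp hx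
      set w' := x * w * x⁻¹ with hw'
      have hw'W : w' ∈ W := hWn.conj_mem w hw x
      have hxb : x * b * x⁻¹ = d w' := by
        have h1 := hswap x hxM m hm w hw
        calc x * b * x⁻¹ = (x * (m * w * m⁻¹) * x⁻¹) * (x * w * x⁻¹)⁻¹ := by rw [hb, hd]; group
          _ = _ := by rw [h1]
      set a' := x * a * x⁻¹ with ha'
      have ha'W : a' ∈ W := hWn.conj_mem a ha x
      have ha'm : m * a' * m⁻¹ = a' := by
        rw [ha', ← hswap x hxM m hm a ha, hma]
      have hprod : a' * d w' = a * b := by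
        rw [← hxb, ha']
        calc x * a * x⁻¹ * (x * b * x⁻¹) = x * (a * b) * x⁻¹ := by group
          _ = a * b := hxab
      have he : a⁻¹ * a' = d (w * w'⁻¹) := by
        have h3 : d (w * w'⁻¹) = b * (d w')⁻¹ := by
          simp only [hd, hb]
          calc m * (w * w'⁻¹) * m⁻¹ * (w * w'⁻¹)⁻¹
              = (m * w * m⁻¹) * ((m * w'⁻¹ * m⁻¹ * w') * w⁻¹) := by group
            _ = (m * w * m⁻¹) * (w⁻¹ * (m * w'⁻¹ * m⁻¹ * w')) := by
              rw [hcommW (m * w'⁻¹ * m⁻¹ * w') (mul_mem (hWn.conj_mem _ (inv_mem hw'W) m) hw'W) w⁻¹ (inv_mem hw)]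
            _ = (m * w * m⁻¹) * (w⁻¹ * (w' * (m * w'⁻¹ * m⁻¹))) := by
              rw [hcommW (m * w'⁻¹ * m⁻¹) (hWn.conj_mem _ (inv_mem hw'W) m) w' hw'W]
            _ = _ := by group
        rw [h3, show a' = a * b * (d w')⁻¹ by rw [← hprod]; group]
        group
      have hefix : a⁻¹ * a' = 1 := by
        rw [he]
        refine hd0 _ (mul_mem hw (inv_mem hw'W)) ?_
        rw [← he]
        calc m * (a⁻¹ * a') * m⁻¹ = (m * a * m⁻¹)⁻¹ * (m * a' * m⁻¹) := by group
          _ = _ := by rw [hma, ha'm]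
      rw [inv_mul_eq_one] at hefix
      refine ⟨(hKmem a x).mpr ⟨hxM, by rw [← ha', ← hefix]⟩, (hKmem b x).mpr ⟨hxM, ?_⟩⟩
      rw [hxb]
      exact mul_left_cancel (hefix ▸ hprod : a * d w' = a * b)
    have hab1 : a * b ≠ 1 := by
      intro h
      apply hwm
      refine hd0 w hw ?_
      rw [← hb, eq_inv_of_mul_eq_one_right h]
      calc m * a⁻¹ * m⁻¹ = (m * a * m⁻¹)⁻¹ := by group
        _ = a⁻¹ := by rw [hma]
    have h1 : K (a * b) = K a := Subgroup.eq_of_le_of_card_ge (hsplit.trans inf_le_left)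
      (le_of_eq (hKcard _ _ ha (mul_mem ha hbW) ha1 hab1))
    have h2 : m ∈ K b := (hsplit (h1.symm ▸ (hKmem a m).mpr ⟨hm, hma⟩)).2
    exact hwm (hd0 w hw ((hKmem b m).mp h2).2)
  -- a real `r`-element outside `C`
  obtain ⟨y, hyM, hyC⟩ := SetLike.not_le_iff_exists.mp hCM
  obtain ⟨α, σ, hα, hσ, hyσ⟩ := GStructB.PElements.exists_split r y
  set m := y ^ σ with hm
  have hmM : m ∈ M := pow_mem hyM σ
  have hmC : m ∉ C := fun h => hyC (GStructB.PElements.mem_of_pow_mem_coprime (a := σ) (b := r)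
    ((hr.coprime_iff_not_dvd.mpr hσ).symm) h (hexpC y hyM))
  have hmodd : Odd (orderOf m) := by
    rw [hyσ]; exact (hr.odd_of_ne_two hr2).pow
  obtain ⟨u, k, hu, huinv⟩ := exists_two_element_inverting (hamb m)
  have hsq : m ^ 2 ∉ C := fun h => hmC (GStructB.PElements.mem_of_pow_mem_coprime (a := 2)
    (b := orderOf m) (Nat.coprime_two_left.mpr hmodd) h (by rw [pow_orderOf_eq_one]; exact one_mem _))
  rcases k with _ | _ | k
  · rw [pow_zero, orderOf_eq_one_iff] at hu
    rw [hu, one_mul, inv_one, mul_one] at huinv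
    apply hsq
    rw [pow_two]
    nth_rewrite 2 [huinv]
    rw [mul_inv_cancel]; exact one_mem _
  · have huC : u ∈ C := hWC (hmem u (by simpa using hu))
    apply hsq
    have h1 : (u * m * u⁻¹ * m⁻¹)⁻¹ ∈ C := inv_mem (by
      rw [show u * m * u⁻¹ * m⁻¹ = u * (m * u⁻¹ * m⁻¹) by group]
      exact mul_mem huC ((inferInstance : C.Normal).conj_mem _ (inv_mem huC) m))
    rw [huinv] at h1
    simpa [pow_two] using h1
  · set w := u ^ 2 ^ (k + 1) with hw
    have hwo : orderOf w = 2 := by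
      rw [hw, orderOf_pow, hu, Nat.gcd_eq_right (pow_dvd_pow 2 (by omega)),
        Nat.pow_div (by omega) two_pos, show k + 1 + 1 - (k + 1) = 1 by omega, pow_one]
    have hu2 : u ^ 2 * m = m * u ^ 2 := by
      calc u ^ 2 * m = u * (u * m * u⁻¹) * u⁻¹ * (u * u) := by rw [pow_two]; group
        _ = u * m⁻¹ * u⁻¹ * (u * u) := by rw [huinv]
        _ = (u * m * u⁻¹)⁻¹ * (u * u) := by group
        _ = _ := by rw [huinv, inv_inv, pow_two]
    have hwm : w * m = m * w := by
      rw [hw, pow_succ', pow_mul]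
      exact ((show Commute (u ^ 2) m from hu2).pow_left _).eq
    exact Involutions.Basic.ne_one hwo (hfpf m hmM hmC w (hmem w hwo)
      (by rw [← hwm, mul_inv_cancel_right]))

/-- In a solvable ambivalent group of even order with one class of involutions a Sylow 2-subgroup
has only one involution; the same holds modulo the odd core. -/
theorem involution_unique_mod_oddCore [Group.IsSolvable G] (hamb : ∀ x : G, IsConj x x⁻¹)
    (hone : ∀ s t : G, orderOf s = 2 → orderOf t = 2 → IsConj s t) :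
    ∀ s t : G ⧸ Cfsg.oddCore G, orderOf s = 2 → orderOf t = 2 → s = t := by
  classical
  have : Fact (Nat.Prime 2) := ⟨Nat.prime_two⟩
  set O := Cfsg.oddCore G
  set π := QuotientGroup.mk' O
  have hamb' : ∀ x : G ⧸ O, IsConj x x⁻¹ := fun x => by
    obtain ⟨y, rfl⟩ := QuotientGroup.mk'_surjective O x
    rw [← map_inv]; exact π.map_isConj (hamb y)
  have hlift : ∀ s : G ⧸ O, orderOf s = 2 → ∃ x : G, orderOf x = 2 ∧ π x = s := by
    intro s hs
    obtain ⟨x, rfl⟩ := QuotientGroup.mk'_surjective O s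
    have h2 : x ^ 2 ∈ O := (QuotientGroup.eq_one_iff _).mp (by
      show π (x ^ 2) = 1
      rw [map_pow]; exact orderOf_dvd_iff_pow_eq_one.mp (dvd_of_eq hs))
    set l := orderOf (x ^ 2) with hl
    have hlodd : Odd l := Cores.oddCore_odd.of_dvd_nat (O.orderOf_dvd_natCard h2)
    have h3 : (x ^ l) ^ 2 = 1 := by rw [← pow_mul, mul_comm, pow_mul, hl, pow_orderOf_eq_one]
    obtain ⟨j, hj⟩ := hlodd
    have h4 : π (x ^ l) = π x := by
      rw [map_pow, hj, pow_succ, pow_mul, orderOf_dvd_iff_pow_eq_one.mp (dvd_of_eq hs),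
        one_pow, one_mul]
    refine ⟨x ^ l, orderOf_eq_prime h3 fun h => ?_, h4⟩
    rw [h, map_one] at h4
    rw [← h4, orderOf_one] at hs
    exact absurd hs (by decide)
  have hone' : ∀ s t : G ⧸ O, orderOf s = 2 → orderOf t = 2 → IsConj s t := by
    intro s t hs ht
    obtain ⟨x, hx, rfl⟩ := hlift s hs
    obtain ⟨y, hy, rfl⟩ := hlift t ht
    exact π.map_isConj (hone x y hx hy)
  intro s t hs ht
  by_cases hbot : (⊤ : Subgroup (G ⧸ O)) = ⊥
  · exact absurd ((Subgroup.mem_bot).mp (hbot ▸ Subgroup.mem_top s)) (Involutions.Basic.ne_one hs)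
  obtain ⟨M, hMn, -, hM1, hmin⟩ := Hall.exists_minimal_normal (⊤ : Subgroup (G ⧸ O)) hbot
  obtain ⟨q, hq, -, hMq, -⟩ := Hall.minimal_normal_isElementaryAbelian hM1 hmin
  have : Fact q.Prime := ⟨hq⟩
  rcases eq_or_ne q 2 with rfl | hq2
  · exact involution_unique hamb' hone' hMq hM1 s t hs ht
  exfalso
  obtain ⟨k, hk⟩ := IsPGroup.iff_card.mp hMq
  have hodd : Odd (Nat.card ↥(M.comap π)) := by
    rw [Cores.card_comap_mk' O M, hk]
    first
      | exact Cores.oddCore_odd.mul (hq.odd_of_ne_two hq2).pow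
      | exact (hq.odd_of_ne_two hq2).pow.mul Cores.oddCore_odd
  have := hMn.comap π
  apply hM1
  rw [← Subgroup.map_comap_eq_self_of_surjective (QuotientGroup.mk'_surjective O) M,
    Subgroup.map_eq_bot_iff, QuotientGroup.ker_mk']
  exact Cores.le_oddCore hodd

end Cfsg.Agent.GStructB.OneInvolution
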