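import Mathlib

/-!
Fixed-point-free actions of order three, in the form `a * φ a * φ (φ a) = 1`: class at most two,
and the elementary abelian case for a symmetric group of degree three of operators.
-/

set_option autoImplicit false

namespace Cfsg.Agent.GStructB.OrderThreeFpf

open scoped commutatorElement

universe u

section Class3

variable {F : Type u} [Group F] (φ : F →* F)
  (hN : ∀ a : F, a * φ a * φ (φ a) = 1) (hcc : ∀ a g : F, Commute a (g * φ a * g⁻¹))

include hN in
theorem phi3 (a : F) : φ (φ (φ a)) = a := by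
  have h1 := hN a
  have h2 := congrArg φ h1
  rw [map_one, map_mul, map_mul] at h2
  have h3 : φ a * φ (φ a) * φ (φ (φ a)) = φ a * φ (φ a) * a := by
    rw [h2]
    exact (mul_eq_one_comm.mp (by rw [← mul_assoc]; exact h1)).symm
  exact mul_left_cancel h3

include hN hcc in
theorem commute_conj_self (a g : F) : Commute a (g * a * g⁻¹) := by
  have h1 : Commute a (g * φ a * g⁻¹) := hcc a g
  have h2 : Commute a (g * φ (φ a) * g⁻¹) := by
    have h := hcc (φ (φ a)) g⁻¹
    rw [phi3 φ hN a, inv_inv] at h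
    have h' := h.map (MulAut.conj g).toMonoidHom
    simp only [MulEquiv.coe_toMonoidHom, MulAut.conj_apply] at h'
    rw [show g * (g⁻¹ * a * g) * g⁻¹ = a by group] at h'
    exact h'.symm
  have h3 : g * a * g⁻¹ = ((g * φ a * g⁻¹) * (g * φ (φ a) * g⁻¹))⁻¹ := by
    rw [eq_inv_iff_mul_eq_one]
    calc g * a * g⁻¹ * (g * φ a * g⁻¹ * (g * φ (φ a) * g⁻¹))
        = g * (a * φ a * φ (φ a)) * g⁻¹ := by group
      _ = 1 := by rw [hN]; group
  rw [h3]
  exact (h1.mul_right h2).inv_right

/-- the triple commutator -/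
def T (a b c : F) : F := ⁅⁅a, b⁆, c⁆

include hN hcc in
theorem T_aba (a b : F) : T a b a = 1 := by
  rw [T, commutatorElement_eq_one_iff_commute]
  have : ⁅a, b⁆ = a * (b * a⁻¹ * b⁻¹) := by rw [commutatorElement_def]; group
  rw [this]
  have h := (commute_conj_self φ hN hcc a b).inv_right
  rw [show (b * a * b⁻¹)⁻¹ = b * a⁻¹ * b⁻¹ by group] at h
  exact (Commute.refl a).mul_left h.symm

include hcc in
theorem T_abphi (a b : F) : T a b (φ a) = 1 := by
  rw [T, commutatorElement_eq_one_iff_commute]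
  have : ⁅a, b⁆ = a * (b * a⁻¹ * b⁻¹) := by rw [commutatorElement_def]; group
  rw [this]
  have h0 : Commute a (φ a) := by simpa using hcc a 1
  have h := (hcc a b⁻¹).map (MulAut.conj b).toMonoidHom
  simp only [MulEquiv.coe_toMonoidHom, MulAut.conj_apply, inv_inv] at h
  rw [show b * (b⁻¹ * φ a * b) * b⁻¹ = φ a by group] at h
  have h' := h.inv_left
  rw [show (b * a * b⁻¹)⁻¹ = b * a⁻¹ * b⁻¹ by group] at h'
  exact h0.mul_left h'

include hcc in
theorem T_aphic (a c : F) : T a (φ a) c = 1 := by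
  have h0 : Commute a (φ a) := by simpa using hcc a 1
  rw [T, commutatorElement_eq_one_iff_commute.mpr h0, commutatorElement_one_left]

variable (hZ : ∀ a b c : F, T a b c ∈ Subgroup.center F)

include hZ in
theorem T_mul_third (a b c d : F) : T a b (c * d) = T a b c * T a b d := by
  have h := Subgroup.mem_center_iff.mp (hZ a b d) c
  simp only [T] at h ⊢
  calc ⁅⁅a, b⁆, c * d⁆ = ⁅⁅a, b⁆, c⁆ * (c * ⁅⁅a, b⁆, d⁆ * c⁻¹) := by
        simp only [commutatorElement_def]; group
    _ = _ := by rw [h, mul_inv_cancel_right]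

include hZ in
theorem T_mul_first (a a' b c : F) : T (a * a') b c = T a b c * T a' b c := by
  have hz : ∀ g : F, g * T a' b c * g⁻¹ = T a' b c := fun g => by
    rw [Subgroup.mem_center_iff.mp (hZ a' b c) g, mul_inv_cancel_right]
  have hu : ∀ g : F, ⁅⁅a', b⁆, g⁆ ∈ Subgroup.center F := fun g => hZ a' b g
  have h1 : ⁅a * a', b⁆ = ⁅a', b⁆ * (⁅⁅a', b⁆⁻¹, a⁆) * ⁅a, b⁆ := by
    simp only [commutatorElement_def]; group
  have hk : ⁅⁅a', b⁆⁻¹, a⁆ ∈ Subgroup.center F := by
    have h2 : ⁅⁅a', b⁆⁻¹, a⁆ = ⁅a', b⁆⁻¹ * ⁅⁅a', b⁆, a⁆⁻¹ * ⁅a', b⁆ := by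
      simp only [commutatorElement_def]; group
    rw [h2]
    have := Subgroup.Normal.conj_mem (inferInstance : (Subgroup.center F).Normal) _
      (inv_mem (hu a)) ⁅a', b⁆⁻¹
    rwa [inv_inv] at this
  set k := ⁅⁅a', b⁆⁻¹, a⁆
  set u := ⁅a, b⁆ with hudef
  set v := ⁅a', b⁆ with hvdef
  have hkc := fun g => Subgroup.mem_center_iff.mp hk g
  have h3 : ⁅v * k * u, c⁆ = ⁅v * u, c⁆ := by
    rw [mul_assoc, ← hkc u, ← mul_assoc]
    calc ⁅v * u * k, c⁆ = v * u * (k * c) * k⁻¹ * (v * u)⁻¹ * c⁻¹ := by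
          simp only [commutatorElement_def]; group
      _ = ⁅v * u, c⁆ := by
          rw [← hkc c]; simp only [commutatorElement_def]; group
  have hzu := Subgroup.mem_center_iff.mp (hZ a b c) v
  simp only [T] at hzu ⊢
  rw [h1, h3]
  calc ⁅v * u, c⁆ = (v * ⁅u, c⁆ * v⁻¹) * ⁅v, c⁆ := by simp only [commutatorElement_def]; group
    _ = _ := by rw [hzu, mul_inv_cancel_right]

include hZ in
theorem T_mul_second (a b b' c : F) : T a (b * b') c = T a b c * T a b' c := by
  have hz : ∀ g : F, ⁅⁅a, b'⁆, g⁆ ∈ Subgroup.center F := fun g => hZ a b' g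
  have h1 : ⁅a, b * b'⁆ = ⁅a, b⁆ * (⁅a, b'⁆ * (⁅⁅a, b'⁆⁻¹, b⁆)) := by
    simp only [commutatorElement_def]; group
  have hk : ⁅⁅a, b'⁆⁻¹, b⁆ ∈ Subgroup.center F := by
    have h2 : ⁅⁅a, b'⁆⁻¹, b⁆ = ⁅a, b'⁆⁻¹ * ⁅⁅a, b'⁆, b⁆⁻¹ * ⁅a, b'⁆ := by
      simp only [commutatorElement_def]; group
    rw [h2]
    have := Subgroup.Normal.conj_mem (inferInstance : (Subgroup.center F).Normal) _
      (inv_mem (hz b)) ⁅a, b'⁆⁻¹
    rwa [inv_inv] at this
  set k := ⁅⁅a, b'⁆⁻¹, b⁆
  set u := ⁅a, b⁆ with hudef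
  set v := ⁅a, b'⁆ with hvdef
  have hkc := fun g => Subgroup.mem_center_iff.mp hk g
  have h3 : ⁅u * (v * k), c⁆ = ⁅u * v, c⁆ := by
    rw [← mul_assoc]
    calc ⁅u * v * k, c⁆ = u * v * (k * c) * k⁻¹ * (u * v)⁻¹ * c⁻¹ := by
          simp only [commutatorElement_def]; group
      _ = ⁅u * v, c⁆ := by
          rw [← hkc c]; simp only [commutatorElement_def]; group
  have hzu := Subgroup.mem_center_iff.mp (hZ a b' c) u
  have hzz := Subgroup.mem_center_iff.mp (hZ a b c) (T a b' c)
  simp only [T] at hzu hzz ⊢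
  rw [h1, h3]
  calc ⁅u * v, c⁆ = (u * ⁅v, c⁆ * u⁻¹) * ⁅u, c⁆ := by simp only [commutatorElement_def]; group
    _ = _ := by rw [hzu, mul_inv_cancel_right, hzz]

include hN hcc hZ in
theorem T_fixed (a b c : F) : φ (T a b c) = T a b c := by
  have hA : ∀ a b c : F, T a b c * T c b a = 1 := by
    intro a b c
    have h := T_aba φ hN hcc (a * c) b
    rw [T_mul_third hZ, T_mul_first hZ a c, T_mul_first hZ a c, T_aba φ hN hcc, one_mul,
      T_aba φ hN hcc, mul_one] at h
    exact mul_eq_one_comm.mp h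
  have hB : ∀ a b c : F, T a b (φ c) * T c b (φ a) = 1 := by
    intro a b c
    have h := T_abphi φ hcc (a * c) b
    rw [map_mul, T_mul_third hZ, T_mul_first hZ a c, T_mul_first hZ a c, T_abphi φ hcc, one_mul,
      T_abphi φ hcc, mul_one] at h
    exact mul_eq_one_comm.mp h
  have hC : ∀ a b c : F, T a (φ b) c * T b (φ a) c = 1 := by
    intro a b c
    have h := T_aphic φ hcc (a * b) c
    rw [map_mul, T_mul_second hZ, T_mul_first hZ a b, T_mul_first hZ a b, T_aphic φ hcc, one_mul,
      T_aphic φ hcc, mul_one] at h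
    exact mul_eq_one_comm.mp h
  have h13 : ∀ a b c : F, T a b (φ c) = T (φ a) b c := fun a b c =>
    mul_right_cancel ((hB a b c).trans ((hA (φ a) b c).trans (by rfl)).symm)
  have h12 : ∀ a b c : F, T a (φ b) c = T (φ a) b c := by
    intro a b c
    have h1 := hC a b c
    have hanti : ∀ x y z : F, T x y z * T y x z = 1 := by
      intro x y z
      simp only [T]
      rw [show ⁅y, x⁆ = ⁅x, y⁆⁻¹ from (commutatorElement_inv x y).symm]
      have h := T_mul_first hZ
      have hz := Subgroup.mem_center_iff.mp (hZ x y z) ⁅x, y⁆⁻¹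
      simp only [T] at hz
      calc ⁅⁅x, y⁆, z⁆ * ⁅⁅x, y⁆⁻¹, z⁆
          = ⁅⁅x, y⁆, z⁆ * (⁅x, y⁆⁻¹ * ⁅⁅x, y⁆, z⁆⁻¹ * ⁅x, y⁆) := by
            simp only [commutatorElement_def]; group
        _ = ⁅⁅x, y⁆, z⁆ * ⁅⁅x, y⁆, z⁆⁻¹ := by
            congr 1
            calc ⁅x, y⁆⁻¹ * ⁅⁅x, y⁆, z⁆⁻¹ * ⁅x, y⁆
                = ((⁅x, y⁆⁻¹ * ⁅⁅x, y⁆, z⁆) * ⁅x, y⁆)⁻¹ := by group
              _ = ⁅⁅x, y⁆, z⁆⁻¹ := by rw [hz]; group
        _ = 1 := mul_inv_cancel _
    exact mul_right_cancel (h1.trans (hanti (φ a) b c).symm)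
  calc φ (T a b c) = T (φ a) (φ b) (φ c) := by simp only [T, map_commutatorElement]
    _ = T (φ (φ (φ a))) b c := by rw [h13, h12]
    _ = T a b c := by rw [phi3 φ hN]

end Class3

theorem class_two : ∀ (n : ℕ) {F : Type u} [Group F] [Finite F], Nat.card F = n →
    Group.IsNilpotent F → ∀ (φ : F →* F), (∀ a : F, a * φ a * φ (φ a) = 1) →
    (∀ a g : F, Commute a (g * φ a * g⁻¹)) → (Nat.card F).Coprime 3 →
    ∀ a b c : F, T a b c = 1 := by
  intro n
  induction n using Nat.strong_induction_on with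
  | _ n ih =>
    intro F _ _ hn hnil φ hN hcc hcop a b c
    rcases subsingleton_or_nontrivial F with hs | hnt
    · exact Subsingleton.elim _ _
    have hfix : ∀ f : F, φ f = f → f = 1 := by
      intro f hf
      have h3 : f ^ 3 = 1 := by
        rw [pow_succ, pow_two]
        simpa [hf] using hN f
      rw [← orderOf_eq_one_iff]
      exact Nat.eq_one_of_dvd_coprimes hcop (orderOf_dvd_natCard f)
        (orderOf_dvd_of_pow_eq_one h3)
    have hle : Subgroup.center F ≤ (Subgroup.center F).comap φ := by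
      intro z hz
      rw [Subgroup.mem_comap, Subgroup.mem_center_iff]
      intro g
      have := congrArg φ (Subgroup.mem_center_iff.mp hz (φ (φ g)))
      rwa [map_mul, map_mul, phi3 φ hN] at this
    let ψ := QuotientGroup.map (Subgroup.center F) (Subgroup.center F) φ hle
    haveI := hnil
    have hlt : Nat.card (F ⧸ Subgroup.center F) < n := by
      rw [← hn, Subgroup.card_eq_card_quotient_mul_card_subgroup (Subgroup.center F)]
      refine lt_mul_of_one_lt_right Nat.card_pos ?_
      rw [Finite.one_lt_card_iff_nontrivial, Subgroup.nontrivial_iff_ne_bot]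
      exact Group.IsNilpotent.center_ne_bot F
    have hq := ih _ hlt (F := F ⧸ Subgroup.center F) rfl inferInstance ψ
      (fun x => by
        induction x using QuotientGroup.induction_on with
        | H a => simp only [ψ, QuotientGroup.map_mk, ← QuotientGroup.mk_mul, hN]; rfl)
      (fun x y => by
        induction x using QuotientGroup.induction_on with
        | H a =>
          induction y using QuotientGroup.induction_on with
          | H g => exact (hcc a g).map (QuotientGroup.mk' (Subgroup.center F)))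
      (hcop.coprime_dvd_left (Subgroup.card_quotient_dvd_card _))
    have hZ : ∀ a b c : F, T a b c ∈ Subgroup.center F := fun a b c => by
      have := hq (QuotientGroup.mk' _ a) (QuotientGroup.mk' _ b) (QuotientGroup.mk' _ c)
      simp only [T, ← map_commutatorElement] at this
      exact (QuotientGroup.eq_one_iff _).mp this
    exact hfix _ (T_fixed φ hN hcc hZ a b c)

theorem nilpotencyClass_le_two {F : Type u} [Group F] (h : ∀ a b c : F, T a b c = 1) :
    Group.nilpotencyClass F ≤ 2 := by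
  classical
  have h1 : Subgroup.upperCentralSeries F 2 = ⊤ := by
    rw [eq_top_iff]
    intro x _
    rw [Subgroup.mem_upperCentralSeries_succ_iff]
    intro y
    rw [Subgroup.upperCentralSeries_one, Subgroup.mem_center_iff]
    intro g
    exact (commutatorElement_eq_one_iff_mul_comm.mp (h x y g)).symm
  haveI : Group.IsNilpotent F := ⟨2, h1⟩
  exact Subgroup.upperCentralSeries_eq_top_iff_nilpotencyClass_le.mp h1

section SymThree

variable {F : Type u} [Group F] (φ σ : F →* F)
  (hN : ∀ a : F, a * φ a * φ (φ a) = 1) (hcc : ∀ a g : F, Commute a (g * φ a * g⁻¹))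
  (hexp : ∀ a : F, a ^ 4 = 1) (hT : ∀ a b c : F, T a b c = 1)
  (hss : ∀ a, σ (σ a) = a) (hsp : ∀ a, σ (φ a) = φ (φ (σ a)))
  (hsq : ∀ a, (σ a * a) ^ 2 = 1)

include hN hcc hexp hT hss hsp hsq in
theorem elementary_abelian : (∀ a b : F, Commute a b) ∧ ∀ a : F, a ^ 2 = 1 := by
  have hp3 := phi3 φ hN
  have hcom : ∀ a, Commute a (φ a) := fun a => by simpa using hcc a 1
  have hcom2 : ∀ a, Commute (φ a) (φ (φ a)) := fun a => hcom (φ a)
  have hφφ : ∀ a, φ (φ a) = (a * φ a)⁻¹ := fun a => eq_inv_of_mul_eq_one_right (hN a)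
  have hcz : ∀ a b, ⁅a, b⁆ ∈ Subgroup.center F := fun a b => Subgroup.mem_center_iff.mpr fun g =>
    (commutatorElement_eq_one_iff_mul_comm.mp (hT a b g)).symm
  have hlr : ∀ a b c : F, ⁅a * b, c⁆ = ⁅a, c⁆ * ⁅b, c⁆ ∧ ⁅c, a * b⁆ = ⁅c, a⁆ * ⁅c, b⁆ := by
    intro a b c
    have h1 := Subgroup.mem_center_iff.mp (hcz b c) a
    have h2 := Subgroup.mem_center_iff.mp (hcz c b) a
    have h3 := Subgroup.mem_center_iff.mp (hcz a c) ⁅b, c⁆
    constructor
    · calc ⁅a * b, c⁆ = (a * ⁅b, c⁆ * a⁻¹) * ⁅a, c⁆ := by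
            simp only [commutatorElement_def]; group
        _ = _ := by rw [h1, mul_inv_cancel_right, h3]
    · calc ⁅c, a * b⁆ = ⁅c, a⁆ * (a * ⁅c, b⁆ * a⁻¹) := by
            simp only [commutatorElement_def]; group
        _ = _ := by rw [h2, mul_inv_cancel_right]
  have hfix : ∀ f : F, φ f = f → f = 1 := by
    intro f hf
    have h := hN f
    rw [hf, hf] at h
    calc f = f ^ 4 := by rw [pow_succ, pow_succ, pow_two, h, one_mul]
      _ = 1 := hexp f
  -- fixed elements of σ have order at most two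
  have hCsq : ∀ a : F, σ a = a → a ^ 2 = 1 := by
    intro a ha
    have h := hsq (φ a)
    rw [hsp, ha, hφφ] at h
    have e : (a * φ a)⁻¹ * φ a = a⁻¹ := by rw [(hcom a).eq]; group
    rw [e, inv_pow, inv_eq_one] at h
    exact h
  have hinv : ∀ a : F, a ^ 2 = 1 → a⁻¹ = a := fun a ha =>
    inv_eq_of_mul_eq_one_left (by rwa [← pow_two])
  have hCcomm : ∀ a b, σ a = a → σ b = b → Commute a b := by
    intro a b ha hb
    have h := hinv _ (hCsq (a * b) (by rw [map_mul, ha, hb]))
    rw [mul_inv_rev, hinv a (hCsq a ha), hinv b (hCsq b hb)] at h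
    exact h.symm
  have hCphi : ∀ c d, σ c = c → σ d = d → Commute c (φ d) := by
    intro c d hc hd
    rw [← commutatorElement_eq_one_iff_commute]
    set γ := ⁅c, φ d⁆ with hγ
    have h2 : γ ^ 2 = 1 := by
      rw [pow_two, hγ, ← (hlr c c (φ d)).1, ← pow_two, hCsq c hc, commutatorElement_one_left]
    have hcd : ⁅c, d⁆ = 1 := commutatorElement_eq_one_iff_commute.mpr (hCcomm c d hc hd)
    have hmid : γ = ⁅φ c, d⁆ := by
      have h := commutatorElement_eq_one_iff_commute.mpr (hcom (c * d))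
      rw [map_mul, (hlr _ _ _).1, (hlr _ _ c).2, (hlr _ _ d).2,
        commutatorElement_eq_one_iff_commute.mpr (hcom c),
        commutatorElement_eq_one_iff_commute.mpr (hcom d), one_mul, mul_one,
        ← commutatorElement_inv (φ c) d, mul_inv_eq_one] at h
      exact h
    have hfixg : φ γ = γ := by
      have h1 : φ γ = ⁅φ c, φ (φ d)⁆ := by rw [hγ, map_commutatorElement]
      have h3 : ⁅φ c, (d * φ d)⁆ * φ γ = 1 := by
        rw [h1, ← (hlr _ _ _).2, hN, commutatorElement_one_right]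
      rw [(hlr _ _ _).2, ← hmid, show ⁅φ c, φ d⁆ = φ ⁅c, d⁆ from (map_commutatorElement φ c d).symm,
        hcd, map_one, mul_one] at h3
      rw [eq_inv_of_mul_eq_one_right h3, hinv _ h2]
    exact hfix γ hfixg
  -- the abelian subgroup generated by the fixed elements and their images
  let S : Set F := {a | σ a = a} ∪ {a | σ (φ (φ a)) = φ (φ a)}
  let H := Subgroup.closure S
  have hScomm : ∀ a ∈ S, ∀ b ∈ S, Commute a b := by
    intro a ha b hb
    rcases ha with ha | ha <;> rcases hb with hb | hb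
    · exact hCcomm a b ha hb
    · have := hCphi a (φ (φ b)) ha hb
      rwa [hp3] at this
    · have := hCphi b (φ (φ a)) hb ha
      rw [hp3] at this
      exact this.symm
    · have := (hCcomm _ _ ha hb).map φ
      rwa [hp3, hp3] at this
  have hSsq : ∀ a ∈ S, a ^ 2 = 1 := by
    intro a ha
    rcases ha with ha | ha
    · exact hCsq a ha
    · have := congrArg φ (hCsq _ ha)
      rwa [map_pow, hp3, map_one] at this
  have hHcomm : ∀ a ∈ H, ∀ b ∈ H, Commute a b := by
    intro a ha b hb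
    have h1 : S ⊆ (Subgroup.centralizer S : Set F) := fun x hx =>
      Subgroup.mem_centralizer_iff.mpr fun y hy => hScomm y hy x hx
    have h2 : H ≤ Subgroup.centralizer S := (Subgroup.closure_le _).mpr h1
    have h3 : H ≤ Subgroup.centralizer (H : Set F) := (Subgroup.closure_le _).mpr fun x hx =>
      Subgroup.mem_centralizer_iff.mpr fun y hy =>
        ((Subgroup.mem_centralizer_iff.mp (h2 hy) x hx)).symm
    exact (Subgroup.mem_centralizer_iff.mp (h3 hb) a ha)
  have hHsq : ∀ a ∈ H, a ^ 2 = 1 := by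
    intro a ha
    induction ha using Subgroup.closure_induction with
    | mem x hx => exact hSsq x hx
    | one => exact one_pow 2
    | mul x y hx hy ex ey => rw [(hHcomm x hx y hy).mul_pow, ex, ey, one_mul]
    | inv x _ ex => rw [inv_pow, ex, inv_one]
  have hCH : ∀ a, σ a = a → a ∈ H := fun a ha => Subgroup.subset_closure (Or.inl ha)
  have hC1H : ∀ a, σ a = a → φ a ∈ H := fun a ha => Subgroup.subset_closure (Or.inr (by
    show σ (φ (φ (φ a))) = φ (φ (φ a)); rw [hp3, ha]))
  have hC2H : ∀ a, σ a = a → φ (φ a) ∈ H := fun a ha => by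
    rw [hφφ]; exact inv_mem (mul_mem (hCH a ha) (hC1H a ha))
  -- the centre
  have hZc : ∀ z ∈ Subgroup.center F, ∀ g, Commute z g := fun z hz g =>
    (Subgroup.mem_center_iff.mp hz g).symm
  have hφz : ∀ z ∈ Subgroup.center F, φ z ∈ Subgroup.center F := by
    intro z hz
    rw [Subgroup.mem_center_iff]
    intro g
    have := congrArg φ (Subgroup.mem_center_iff.mp hz (φ (φ g)))
    rwa [map_mul, map_mul, hp3] at this
  have hσz : ∀ z ∈ Subgroup.center F, σ z ∈ Subgroup.center F := by
    intro z hz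
    rw [Subgroup.mem_center_iff]
    intro g
    have := congrArg σ (Subgroup.mem_center_iff.mp hz (σ g))
    rwa [map_mul, map_mul, hss] at this
  have hZsq : ∀ z ∈ Subgroup.center F, z ^ 2 = 1 := by
    intro z hz
    have h1 := hsq (φ z)
    rw [hsp, ((hZc _ (hφz _ (hφz _ (hσz z hz)))) _).mul_pow, ← map_pow, ← map_pow] at h1
    have h2 := hsq z
    rw [((hZc _ (hσz z hz)) _).mul_pow] at h2
    rw [eq_inv_of_mul_eq_one_left h2, map_inv, map_inv, ← map_pow, inv_mul_eq_one] at h1
    have h3 : φ (z ^ 2) = z ^ 2 := by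
      have h4 := congrArg φ (congrArg φ h1)
      rw [hp3, hp3] at h4
      exact h4
    exact hfix _ h3
  have hu : ∀ b, σ b * b ∈ H := by
    intro b
    set u := σ b * b with hu
    set k := ⁅b, σ b⁆ with hk
    have hkz : k ∈ Subgroup.center F := hcz _ _
    have hk1 : σ k = k := by
      rw [hk, map_commutatorElement, hss, ← commutatorElement_inv, hinv _ (hZsq _ hkz)]
    have hp : φ k ∈ Subgroup.center F := hφz k hkz
    have hsu : σ u = k * u := by
      rw [hu, map_mul, hss, hk, commutatorElement_def]; group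
    have hsk : σ (φ k) = φ k * k := by
      rw [hsp, hk1, hφφ, mul_inv_rev, hinv _ (hZsq k hkz), hinv _ (hZsq _ hp)]
    have hfixu : σ (u * φ k) = u * φ k := by
      rw [map_mul, hsu, hsk]
      calc k * u * (φ k * k) = u * φ k * (k * k) := by
            rw [(hZc k hkz u).eq, mul_assoc u k, ← mul_assoc k (φ k), (hZc k hkz (φ k)).eq]
            simp only [mul_assoc]
        _ = u * φ k := by rw [← pow_two, hZsq k hkz, mul_one]
    have hkH : φ k ∈ H := hC1H k hk1
    have := mul_mem (hCH _ hfixu) (inv_mem hkH)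
    rwa [mul_inv_cancel_right] at this
  have hHphi : ∀ a ∈ H, φ a ∈ H := by
    intro a ha
    induction ha using Subgroup.closure_induction with
    | mem x hx =>
      rcases hx with hx | hx
      · exact hC1H x hx
      · have := hC2H _ hx
        rwa [hp3] at this
    | one => rw [map_one]; exact one_mem _
    | mul x y _ _ ex ey => rw [map_mul]; exact mul_mem ex ey
    | inv x _ ex => rw [map_inv]; exact inv_mem ex
  have hd : ∀ a, (φ a)⁻¹ * φ (φ a) ∈ H := by
    intro a
    have h1 : φ (φ (σ a * a)) ∈ H := hHphi _ (hHphi _ (hu a))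
    have h2 : σ (φ a) * φ a ∈ H := hu (φ a)
    have := mul_mem (inv_mem h2) h1
    rw [hsp, map_mul, map_mul] at this
    convert this using 1
    group
  have hd' : ∀ a, a⁻¹ * φ a ∈ H := fun a => by
    have := hd (φ (φ a))
    rwa [hp3] at this
  have hall : ∀ a, a ∈ H := by
    intro a
    -- modulo `H` the map `φ` is trivial, so `a ^ 3` lies in `H`
    obtain ⟨q, hq, hqa⟩ : ∃ q, q ∈ H ∧ φ a = a * q := ⟨_, hd' a, (mul_inv_cancel_left a _).symm⟩
    obtain ⟨r, hr, hra⟩ : ∃ r, r ∈ H ∧ φ (φ a) = φ a * r :=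
      ⟨_, hd' (φ a), (mul_inv_cancel_left (φ a) _).symm⟩
    have haq : Commute a q := by
      have h := hcom a
      rw [hqa] at h
      show a * q = q * a
      exact mul_left_cancel (a := a) (h.eq.trans (mul_assoc a q a))
    have h4 := hN a
    rw [hra, hqa] at h4
    have h1 : a ^ 3 * (q * q * r) = 1 := by
      calc a ^ 3 * (q * q * r) = a * a * (a * q) * q * r := by
            simp only [pow_succ, pow_zero, one_mul, mul_assoc]
        _ = a * a * (q * a) * q * r := by rw [haq.eq]
        _ = a * (a * q) * (a * q * r) := by simp only [mul_assoc]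
        _ = 1 := h4
    have h6 : a ^ 3 ∈ H := by
      rw [eq_inv_of_mul_eq_one_left h1]
      exact inv_mem (mul_mem (mul_mem hq hq) hr)
    have h5 : a = a ^ 4 * (a ^ 3)⁻¹ := by
      rw [pow_succ' a 3, mul_inv_cancel_right]
    rw [h5, hexp, one_mul]
    exact inv_mem h6
  exact ⟨fun a b => hHcomm a (hall a) b (hall b), fun a => hHsq a (hall a)⟩

end SymThree

end Cfsg.Agent.GStructB.OrderThreeFpf
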