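import Mathlib
import Cfsg.Agent.Lib.Cores.Basic

/-!
Groups with the same numbers of solutions of `g ^ m = 1`.
-/

set_option autoImplicit false

namespace Cfsg.Agent.GStructB.OrderType

variable {G : Type*} [Group G] {H : Type*} [Group H]

/-- the number of solutions of `g ^ m = 1` -/
noncomputable def cnt (G : Type*) [Group G] (m : ℕ) : ℕ := Nat.card {g : G // g ^ m = 1}

theorem cnt_zero (G : Type*) [Group G] : cnt G 0 = Nat.card G :=
  Nat.card_congr (Equiv.subtypeUnivEquiv fun g => pow_zero g)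

theorem cnt_congr (f : G ≃* H) (m : ℕ) : cnt G m = cnt H m :=
  Nat.card_congr (f.toEquiv.subtypeEquiv fun x => by
    show x ^ m = 1 ↔ (f x) ^ m = 1
    rw [← map_pow, MulEquiv.map_eq_one_iff])

theorem exists_equiv [Finite G] [Finite H]
    (hT : ∀ m : ℕ, Nat.card {g : G // orderOf g = m} = Nat.card {h : H // orderOf h = m}) :
    ∃ e : G ≃ H, ∀ g : G, orderOf (e g) = orderOf g := by
  have e := fun m => (Finite.card_eq.mp (hT m)).some
  exact ⟨Equiv.ofFiberEquiv e, fun g => Equiv.ofFiberEquiv_map e g⟩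

theorem cnt_eq [Finite G] [Finite H]
    (hT : ∀ m : ℕ, Nat.card {g : G // orderOf g = m} = Nat.card {h : H // orderOf h = m}) (m : ℕ) :
    cnt G m = cnt H m := by
  obtain ⟨e, he⟩ := exists_equiv hT
  exact Nat.card_congr (e.subtypeEquiv fun g => by
    rw [← orderOf_dvd_iff_pow_eq_one, ← orderOf_dvd_iff_pow_eq_one, he])

theorem cnt_quotient [Finite G] (N : Subgroup G) [N.Normal]
    (hcop : (Nat.card N).Coprime N.index) (m : ℕ) :
    cnt G (m * Nat.card N) = Nat.card N * cnt (G ⧸ N) m := by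
  have hiff : ∀ g : G, g ^ (m * Nat.card N) = 1 ↔ (g : G ⧸ N) ^ m = 1 := by
    intro g
    constructor
    · intro h
      have h1 : ((g : G ⧸ N) ^ m) ^ Nat.card N = 1 := by
        rw [← pow_mul, ← QuotientGroup.mk_pow, h, QuotientGroup.mk_one]
      rw [← orderOf_eq_one_iff]
      exact Nat.eq_one_of_dvd_coprimes hcop (orderOf_dvd_of_pow_eq_one h1)
        (Subgroup.index_eq_card N ▸ orderOf_dvd_natCard _)
    · intro h
      rw [← QuotientGroup.mk_pow, QuotientGroup.eq_one_iff] at h
      rw [pow_mul]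
      exact congrArg Subtype.val (pow_card_eq_one' (x := (⟨g ^ m, h⟩ : N)))
  let t : Set (G ⧸ N) := {q | q ^ m = 1}
  rw [cnt, cnt, ← Nat.card_prod]
  exact Nat.card_congr ((Equiv.subtypeEquivRight (q := fun g : G => (g : G ⧸ N) ∈ t) hiff).trans
    (QuotientGroup.preimageMkEquivSubgroupProdSet N t))

theorem pow_card_sylow_iff {p : ℕ} [Fact p.Prime] [Finite G] (P : Sylow p G)
    (hn : (P : Subgroup G).Normal) (g : G) : g ^ Nat.card P = 1 ↔ g ∈ (P : Subgroup G) := by
  constructor
  · intro h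
    rw [← QuotientGroup.eq_one_iff (N := (P : Subgroup G))]
    rw [← orderOf_eq_one_iff]
    refine Nat.eq_one_of_dvd_coprimes P.card_coprime_index
      (orderOf_dvd_of_pow_eq_one ?_) ?_
    · rw [← QuotientGroup.mk_pow, h, QuotientGroup.mk_one]
    · rw [Subgroup.index_eq_card]; exact orderOf_dvd_natCard _
  · intro h
    exact congrArg Subtype.val (pow_card_eq_one' (x := (⟨g, h⟩ : (P : Subgroup G))))

theorem cnt_sylow {p : ℕ} [Fact p.Prime] [Finite G] (P : Sylow p G)
    (hn : (P : Subgroup G).Normal) : cnt G (Nat.card P) = Nat.card P :=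
  Nat.card_congr (Equiv.subtypeEquivRight (pow_card_sylow_iff P hn))

theorem normal_of_cnt {p : ℕ} [Fact p.Prime] [Finite G] (P : Sylow p G)
    (h : cnt G (Nat.card P) = Nat.card P) : (P : Subgroup G).Normal := by
  let f : ↥(P : Subgroup G) → {g : G // g ^ Nat.card P = 1} := fun x =>
    ⟨x, congrArg Subtype.val (pow_card_eq_one' (x := x))⟩
  have hf : Function.Injective f := fun a b hab => Subtype.ext (congrArg Subtype.val hab :)
  have hb : Function.Bijective f := (Nat.bijective_iff_injective_and_card f).mpr ⟨hf, h.symm⟩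
  refine ⟨fun x hx g => ?_⟩
  obtain ⟨y, hy⟩ := hb.2 ⟨g * x * g⁻¹, by
    rw [conj_pow, show x ^ Nat.card P = 1 from
      congrArg Subtype.val (pow_card_eq_one' (x := (⟨x, hx⟩ : (P : Subgroup G)))), mul_one,
      mul_inv_cancel]⟩
  rw [← show (y : G) = g * x * g⁻¹ from congrArg Subtype.val hy]
  exact y.2

theorem card_sylow_eq [Finite G] [Finite H] {p : ℕ} [Fact p.Prime]
    (hc : ∀ m, cnt G m = cnt H m) (P : Sylow p G) (Q : Sylow p H) : Nat.card Q = Nat.card P := by
  rw [Q.card_eq_multiplicity, P.card_eq_multiplicity, ← cnt_zero G, ← cnt_zero H, hc]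

/-- A normal Sylow subgroup is recognised by the counts. -/
theorem normal_transfer [Finite G] [Finite H] {p : ℕ} [Fact p.Prime]
    (hc : ∀ m, cnt G m = cnt H m) (P : Sylow p G) (hn : (P : Subgroup G).Normal) (Q : Sylow p H) :
    (Q : Subgroup H).Normal := by
  refine normal_of_cnt Q ?_
  rw [card_sylow_eq hc P Q, ← hc, cnt_sylow P hn]

theorem quotient_transfer [Finite G] [Finite H] (hc : ∀ m, cnt G m = cnt H m)
    (N : Subgroup G) [N.Normal] (M : Subgroup H) [M.Normal]
    (hN : (Nat.card N).Coprime N.index) (hM : (Nat.card M).Coprime M.index)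
    (hNM : Nat.card M = Nat.card N) : ∀ m, cnt (G ⧸ N) m = cnt (H ⧸ M) m := by
  intro m
  refine Nat.eq_of_mul_eq_mul_left (Nat.card_pos : 0 < Nat.card N) ?_
  rw [← cnt_quotient N hN, hc, ← hNM, cnt_quotient M hM, hNM]

/-- A normal nilpotent Hall subgroup is recognised by the counts. -/
theorem hall_transfer [Finite G] [Finite H] (hc : ∀ m, cnt G m = cnt H m)
    (K : Subgroup G) [K.Normal] (hK : Group.IsNilpotent K) (hcop : (Nat.card K).Coprime K.index) :
    ∃ N : Subgroup H, N.Normal ∧ Group.IsNilpotent N ∧ Nat.card N = Nat.card K ∧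
      (Nat.card N).Coprime N.index := by
  classical
  have hcard : Nat.card H = Nat.card G := by rw [← cnt_zero H, ← hc, cnt_zero]
  set π : Set ℕ := {p | p.Prime ∧ p ∣ Nat.card K}
  have hnormG : ∀ (p : ℕ) [Fact p.Prime], p ∣ Nat.card K → ∃ P : Sylow p G, (P : Subgroup G).Normal := by
    intro p _ hp
    obtain ⟨S⟩ : Nonempty (Sylow p K) := inferInstance
    haveI := hK
    have hSn : (S : Subgroup K).Normal :=
      ((Group.isNilpotent_of_finite_tfae (G := K)).out 0 3 rfl rfl).mp hK p inferInstance S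
    haveI := S.characteristic_of_normal hSn
    have hn := Cores.normal_map_subtype K (S : Subgroup K)
    refine ⟨(S.2.map K.subtype).toSylow ?_, hn⟩
    rw [← Subgroup.relIndex_mul_index (Subgroup.map_subtype_le (S : Subgroup K))]
    have h1 : ((S : Subgroup K).map K.subtype).relIndex K = (S : Subgroup K).index := by
      rw [Subgroup.relIndex, Subgroup.subgroupOf,
        Subgroup.comap_map_eq_self_of_injective K.subtype_injective]
    rw [h1, (Fact.out : p.Prime).dvd_mul]
    rintro (h | h)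
    · exact S.not_dvd_index h
    · exact (Fact.out : p.Prime).ne_one (Nat.eq_one_of_dvd_coprimes hcop hp h)
  set N := Cfsg.piCore π H
  have hNpi := Cores.piCore_isPi (G := H) π
  have hkpos : Nat.card K ≠ 0 := Nat.card_pos.ne'
  have hsyl : ∀ (p : ℕ) [Fact p.Prime], p ∣ Nat.card K → ∀ Q : Sylow p H,
      (Q : Subgroup H).Normal ∧ (Q : Subgroup H) ≤ N ∧ Nat.card Q = p ^ (Nat.card K).factorization p := by
    intro p _ hp Q
    obtain ⟨P, hP⟩ := hnormG p hp
    have hn := normal_transfer hc P hP Q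
    haveI := hn
    refine ⟨hn, Cores.le_piCore ?_, ?_⟩
    · intro q hq hqd
      obtain ⟨k, hk⟩ := IsPGroup.iff_card.mp Q.2
      rw [hk] at hqd
      have hqp := (Nat.prime_dvd_prime_iff_eq hq (Fact.out : p.Prime)).mp (hq.dvd_of_dvd_pow hqd)
      exact hqp ▸ ⟨(Fact.out : p.Prime), hp⟩
    · rw [Q.card_eq_multiplicity, hcard, ← K.card_mul_index,
        Nat.factorization_mul hkpos K.index_ne_zero_of_finite, Finsupp.add_apply,
        Nat.factorization_eq_zero_of_not_dvd (n := K.index) (fun h =>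
          (Fact.out : p.Prime).ne_one (Nat.eq_one_of_dvd_coprimes hcop hp h)), add_zero]
  have hNK : Nat.card N ∣ Nat.card K := by
    have h1 : (Nat.card N).Coprime K.index := Nat.coprime_of_dvd fun q hq h1 h2 =>
      hq.ne_one (Nat.eq_one_of_dvd_coprimes hcop (hNpi q hq h1).2 h2)
    refine h1.dvd_of_dvd_mul_right ?_
    rw [K.card_mul_index, ← hcard]
    exact N.card_subgroup_dvd_card
  have hKN : Nat.card K ∣ Nat.card N := by
    rw [Nat.dvd_iff_prime_pow_dvd_dvd]
    intro p n hp hd
    haveI := Fact.mk hp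
    rcases Nat.eq_zero_or_pos n with rfl | hn
    · rw [pow_zero]; exact one_dvd _
    obtain ⟨Q⟩ : Nonempty (Sylow p H) := inferInstance
    obtain ⟨-, hle, hcQ⟩ := hsyl p ((dvd_pow_self p hn.ne').trans hd) Q
    refine dvd_trans ?_ (Subgroup.card_dvd_of_le hle)
    rw [hcQ]
    exact pow_dvd_pow p ((hp.pow_dvd_iff_le_factorization hkpos).mp hd)
  have hNc : Nat.card N = Nat.card K := Nat.dvd_antisymm hNK hKN
  have hidx : N.index = K.index := by
    have := N.card_mul_index
    rw [hNc, hcard, ← K.card_mul_index] at this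
    exact Nat.eq_of_mul_eq_mul_left Nat.card_pos this
  refine ⟨N, inferInstance, ?_, hNc, by rw [hNc, hidx]; exact hcop⟩
  refine ((Group.isNilpotent_of_finite_tfae (G := N)).out 0 3 rfl rfl).mpr fun p hp S => ?_
  by_cases hpd : p ∣ Nat.card N
  · obtain ⟨Q, hQ⟩ := S.exists_comap_subtype_eq
    obtain ⟨hn, -, -⟩ := hsyl p (hpd.trans hNK) Q
    rw [← hQ]
    exact hn.comap _
  · rw [show (S : Subgroup N) = ⊥ from Subgroup.card_eq_one.mp (by
      obtain ⟨k, hk⟩ := IsPGroup.iff_card.mp S.2
      rcases k with - | k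
      · simpa using hk
      · exact absurd ((dvd_pow_self p (k.succ_ne_zero)).trans
          (hk ▸ (S : Subgroup N).card_subgroup_dvd_card)) hpd)]
    infer_instance

end Cfsg.Agent.GStructB.OrderType
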