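import Cfsg.Agent.GStructB.SubnormalizerQuotient
import Mathlib

/-!
The subnormalizer count along a normal series with `p` and `p'` factors.
-/

set_option autoImplicit false

namespace Cfsg.Agent.GStructB.SubnormalizerChain

open Cfsg SubnormalizerQuotient

universe u

variable {G : Type u} [Group G] [Finite G]

theorem card_quot_ker {N M : Subgroup G} [N.Normal] [M.Normal] (hNM : N ≤ M) :
    Nat.card (QuotientGroup.map N M (MonoidHom.id G) (by simpa using hNM)).ker = N.relIndex M := by
  rw [show (QuotientGroup.map N M (MonoidHom.id G) (by simpa using hNM)).ker = M.map (QuotientGroup.mk' N) from by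
    rw [QuotientGroup.ker_map]; rfl]
  rw [show M.map (QuotientGroup.mk' N) = ((QuotientGroup.mk' N).comp M.subtype).range by
      rw [MonoidHom.range_comp, Subgroup.range_subtype],
    ← Subgroup.index_ker]
  rw [Subgroup.relIndex]
  congr 1
  ext x
  simp [MonoidHom.mem_ker, Subgroup.mem_subgroupOf]

theorem card_comap_mk (N : Subgroup G) [N.Normal] (S : Subgroup (G ⧸ N)) :
    Nat.card ↥(S.comap (QuotientGroup.mk' N)) = Nat.card N * Nat.card S := by
  set f := (QuotientGroup.mk' N).comp (S.comap (QuotientGroup.mk' N)).subtype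
  have h1 : f.range = S := by
    rw [MonoidHom.range_comp, Subgroup.range_subtype,
      Subgroup.map_comap_eq_self_of_surjective (QuotientGroup.mk'_surjective N)]
  have hle : N ≤ S.comap (QuotientGroup.mk' N) := fun x hx => by
    show QuotientGroup.mk' N x ∈ S
    rw [(QuotientGroup.eq_one_iff x).mpr hx |> fun h => (show QuotientGroup.mk' N x = 1 from h)]
    exact S.one_mem
  rw [← f.ker.card_mul_index, Subgroup.index_ker, h1]
  congr 1
  rw [← Nat.card_congr (Subgroup.subgroupOfEquivOfLe hle).toEquiv]
  refine Nat.card_congr (Equiv.subtypeEquivRight fun x => ?_)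
  simp [f, MonoidHom.mem_ker, Subgroup.mem_subgroupOf]

/-- The count on the quotient modulo the `i`-th term. -/
theorem sn_quot {p : ℕ} [Fact p.Prime] {H : Subgroup G} (hH : IsPGroup p H) (n : ℕ)
    (M : Fin (n + 1) → Subgroup G) (hn : M (Fin.last n) = ⊤) (hmono : Monotone M)
    [hnormal : ∀ i, (M i).Normal]
    (hfac : ∀ i : Fin n, (∃ m : ℕ, (M i.castSucc).relIndex (M i.succ) = p ^ m) ∨
      ((M i.castSucc).relIndex (M i.succ)).Coprime p) :
    ∀ i : Fin (n + 1), sn (H.map (QuotientGroup.mk' (M i))) = p ^ (M i).index.factorization p *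
      ∏ j ∈ Finset.univ.filter (fun j : Fin n => i ≤ j.castSucc),
        (if ((M j.castSucc).relIndex (M j.succ)).Coprime p then
          Nat.card {u : G // u ∈ M j.succ ∧ ∀ h ∈ H, h * u * h⁻¹ * u⁻¹ ∈ M j.castSucc} / Nat.card (M j.castSucc)
          else 1) := by
  intro i
  induction i using Fin.reverseInduction with
  | last =>
    rw [show Finset.univ.filter (fun j : Fin n => Fin.last n ≤ j.castSucc) = ∅ from
      Finset.filter_false_of_mem fun j _ => not_le.mpr (Fin.castSucc_lt_last j), Finset.prod_empty,
      show (M (Fin.last n)).index = 1 by rw [hn, Subgroup.index_top], Nat.factorization_one]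
    have : Subsingleton (G ⧸ M (Fin.last n)) :=
      (Nat.card_eq_one_iff_unique.mp (by rw [← Subgroup.index_eq_card, hn, Subgroup.index_top])).1
    simp only [Finsupp.coe_zero, Pi.zero_apply, pow_zero, mul_one]
    rw [sn, Nat.card_eq_one_iff_unique]
    refine ⟨inferInstance, ⟨⟨1, ?_⟩⟩⟩
    rw [Subsingleton.elim ((H.map (QuotientGroup.mk' (M (Fin.last n)))).subgroupOf _) ⊤]
    exact Subgroup.IsSubnormal.top
  | cast i ih =>
    have hle : M i.castSucc ≤ M i.succ := hmono (Fin.castSucc_le_succ i)
    set ψ := QuotientGroup.map (M i.castSucc) (M i.succ) (MonoidHom.id G) (by simpa using hle) with hψdef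
    have hψ : Function.Surjective ψ := fun x => by
      obtain ⟨g, rfl⟩ := QuotientGroup.mk_surjective x
      exact ⟨g, rfl⟩
    have hHm : (H.map (QuotientGroup.mk' (M i.castSucc))).map ψ = H.map (QuotientGroup.mk' (M i.succ)) := by
      rw [Subgroup.map_map]; rfl
    have hidx : (M i.castSucc).index = (M i.castSucc).relIndex (M i.succ) * (M i.succ).index :=
      (Subgroup.relIndex_mul_index hle).symm
    have hr0 : (M i.castSucc).relIndex (M i.succ) ≠ 0 := Subgroup.index_ne_zero_of_finite
    have hfil : Finset.univ.filter (fun j : Fin n => i.castSucc ≤ j.castSucc) =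
        insert i (Finset.univ.filter (fun j : Fin n => i.succ ≤ j.castSucc)) := by
      ext j
      simp only [Finset.mem_filter, Finset.mem_univ, true_and, Finset.mem_insert, Fin.le_def,
        Fin.val_castSucc, Fin.val_succ, Fin.ext_iff]
      omega
    rw [hfil, Finset.prod_insert (by simp), hidx,
      Nat.factorization_mul hr0 Subgroup.index_ne_zero_of_finite, Finsupp.add_apply, pow_add]
    by_cases hcop : ((M i.castSucc).relIndex (M i.succ)).Coprime p
    · rw [if_pos hcop, sn_coprime_ker ψ hψ (by rw [card_quot_ker hle]; exact hcop) (hH.map _), hHm, ih,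
        Nat.factorization_eq_zero_of_not_dvd (fun h => (Fact.out : p.Prime).ne_one
          (Nat.eq_one_of_dvd_coprimes hcop h dvd_rfl)), pow_zero, one_mul]
      have hC : Nat.card {u : G // u ∈ M i.succ ∧ ∀ h ∈ H, h * u * h⁻¹ * u⁻¹ ∈ M i.castSucc} =
          Nat.card (M i.castSucc) * Nat.card ↥(ψ.ker ⊓
            Subgroup.centralizer ((H.map (QuotientGroup.mk' (M i.castSucc)) : Subgroup _) : Set (G ⧸ M i.castSucc))) := by
        rw [← card_comap_mk]
        refine Nat.card_congr (Equiv.subtypeEquivRight fun u => ?_)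
        have e1 : QuotientGroup.mk' (M i.castSucc) u ∈ ψ.ker ↔ u ∈ M i.succ := by
          rw [MonoidHom.mem_ker]
          exact QuotientGroup.eq_one_iff u
        simp only [Subgroup.mem_comap, Subgroup.mem_inf, e1, Subgroup.mem_centralizer_iff]
        refine and_congr Iff.rfl ⟨fun h => ?_, fun h a ha => ?_⟩
        · rintro _ ⟨a, ha, rfl⟩
          have h2 := (QuotientGroup.eq_one_iff _).mpr (h a ha)
          rw [QuotientGroup.mk_mul, QuotientGroup.mk_mul, QuotientGroup.mk_mul, QuotientGroup.mk_inv,
            QuotientGroup.mk_inv, mul_inv_eq_one, mul_inv_eq_iff_eq_mul] at h2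
          exact h2
        · have h2 := h _ ⟨a, ha, rfl⟩
          rw [← QuotientGroup.eq_one_iff, QuotientGroup.mk_mul, QuotientGroup.mk_mul, QuotientGroup.mk_mul,
            QuotientGroup.mk_inv, QuotientGroup.mk_inv, mul_inv_eq_one, mul_inv_eq_iff_eq_mul]
          exact h2
      rw [hC, Nat.mul_div_cancel_left _ Nat.card_pos]
      ring
    · obtain ⟨m, hm⟩ := (hfac i).resolve_right hcop
      rw [if_neg hcop, sn_pGroup_ker (p := p) ψ hψ (IsPGroup.of_card (by rw [card_quot_ker hle]; exact hm))
        (hH.map _), hHm, ih, card_quot_ker hle, hm, Nat.Prime.factorization_pow Fact.out,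
        Finsupp.single_eq_same]
      ring

end Cfsg.Agent.GStructB.SubnormalizerChain
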