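import Cfsg.Agent.GStructB.CoprimeFixedProduct
import Cfsg.Agent.GStructB.SubnormalizerChain
import Mathlib

/-!
A lower bound for the number of `p`-elements of a `p`-solvable group.
-/

set_option autoImplicit false

namespace Cfsg.Agent.GStructB.PElementBound

open Cfsg
open scoped Pointwise

universe u v

variable {p : ℕ} [Fact p.Prime]

/-- The fixed-point product bound for arbitrary `p'`-groups. -/
theorem bound_general {A : Type u} [Group A] [Finite A] {Q : Type v} [Group Q] [Fintype Q]
    (hQ : IsPGroup p Q) (φ : Q →* A) (V : Subgroup A)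
    (hn : φ.range ≤ Subgroup.normalizer (V : Set A)) (hcop : (Nat.card V).Coprime p) :
    CoprimeFixedProduct.Bound p φ V := by
  classical
  have hRp : IsPGroup p φ.range := hQ.of_surjective φ.rangeRestrict φ.rangeRestrict_surjective
  have hV0 : Nat.card V ≠ 0 := Nat.card_pos.ne'
  let S := (Nat.card V).primeFactors
  have hcopB : ∀ B : Subgroup A, B ≤ φ.range → (Nat.card B).Coprime (Nat.card V) := by
    intro B hB
    obtain ⟨n, hn⟩ := (hRp.to_le hB).exists_card_eq
    rw [hn]; exact (hcop.pow_right n).symm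
  have hsol : ∀ B : Subgroup A, B ≤ φ.range → Group.IsSolvable B := fun B hB => by
    have := (hRp.to_le hB).isNilpotent
    infer_instance
  have hex : ∀ r ∈ S, ∃ R : Subgroup A, IsPGroup r R ∧ R ≤ V ∧
      φ.range ≤ Subgroup.normalizer (R : Set A) ∧
      ∀ B : Subgroup A, B ≤ φ.range →
        r ^ (Nat.card ↥(V ⊓ Subgroup.centralizer (B : Set A))).factorization r =
          Nat.card ↥(R ⊓ Subgroup.centralizer (B : Set A)) := by
    intro r hr
    haveI := Fact.mk (Nat.prime_of_mem_primeFactors hr)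
    obtain ⟨R₀, hR₀⟩ := Coprime.exists_invariant_sylow r hn (hcopB _ le_rfl) (Or.inl (hsol _ le_rfl))
    refine ⟨(R₀ : Subgroup V).map V.subtype, R₀.2.map _, Subgroup.map_subtype_le _, hR₀, fun B hB => ?_⟩
    set R := (R₀ : Subgroup V).map V.subtype with hR
    set C := V ⊓ Subgroup.centralizer (B : Set A)
    obtain ⟨T⟩ : Nonempty (Sylow r C) := inferInstance
    rw [← T.card_eq_multiplicity]
    apply le_antisymm
    · have hTC : (T : Subgroup C).map C.subtype ≤ C := Subgroup.map_subtype_le _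
      have hTB : B ≤ Subgroup.normalizer (((T : Subgroup C).map C.subtype : Subgroup A) : Set A) := by
        intro b hb
        rw [Subgroup.mem_normalizer_iff]
        intro h
        constructor
        · intro hh
          have hc := Subgroup.mem_centralizer_iff.mp (hTC hh).2 b hb
          rwa [hc, mul_inv_cancel_right]
        · intro hh
          have hc := Subgroup.mem_centralizer_iff.mp (hTC hh).2 b hb
          have : h = b * h * b⁻¹ := by
            have h2 : b * (b * h * b⁻¹) = b * h * b⁻¹ * b := hc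
            simp only [mul_assoc, inv_mul_cancel, mul_one] at h2
            have h3 := mul_left_cancel h2
            rw [← mul_assoc] at h3
            exact h3.symm
          rwa [this]
      obtain ⟨R₁, hle, hR₁⟩ := Coprime.exists_invariant_sylow_ge (hB.trans hn) (hcopB B hB)
        (Or.inl (hsol B hB)) (hTC.trans inf_le_left) (T.2.map _) hTB
      obtain ⟨c, hc, hcR⟩ := Coprime.exists_centralizer_conj_sylow (hB.trans hn) (hcopB B hB)
        (Or.inl (hsol B hB)) R₀ R₁ (hB.trans hR₀) hR₁
      rw [← hcR, Coprime.sylow_map_smul, ← hR] at hle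
      rw [← Subgroup.card_map_of_injective (K := (T : Subgroup C)) C.subtype_injective,
        ← Coprime.card_conj_smul (c : A) (R ⊓ Subgroup.centralizer (B : Set A))]
      refine Subgroup.card_le_of_le fun x hx => ?_
      rw [Coprime.mem_conj_smul]
      exact ⟨Coprime.mem_conj_smul.mp (hle hx),
        Subgroup.mul_mem _ (Subgroup.mul_mem _ (Subgroup.inv_mem _ hc) (hTC hx).2) hc⟩
    · have hle : R ⊓ Subgroup.centralizer (B : Set A) ≤ C := inf_le_inf_right _ (Subgroup.map_subtype_le _)
      have hp' : IsPGroup r ((R ⊓ Subgroup.centralizer (B : Set A)).subgroupOf C) :=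
        ((R₀.2.map V.subtype).to_le inf_le_left).comap_of_injective C.subtype C.subtype_injective
      obtain ⟨T', hT'⟩ := hp'.exists_le_sylow
      rw [← Nat.card_congr (Subgroup.subgroupOfEquivOfLe hle).toEquiv]
      exact (Subgroup.card_le_of_le hT').trans (le_of_eq (by rw [T'.card_eq_multiplicity, T.card_eq_multiplicity]))
  choose! R hRr hRV hRn hRC using hex
  have hdec : ∀ B : Subgroup A, B ≤ φ.range →
      Nat.card ↥(V ⊓ Subgroup.centralizer (B : Set A)) =
        ∏ r ∈ S, Nat.card ↥(R r ⊓ Subgroup.centralizer (B : Set A)) := by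
    intro B hB
    rw [← Finset.prod_congr rfl (fun r hr => hRC r hr B hB)]
    set c := Nat.card ↥(V ⊓ Subgroup.centralizer (B : Set A))
    conv_lhs => rw [← Nat.prod_factorization_pow_eq_self (n := c) Nat.card_pos.ne']
    rw [Finsupp.prod, Nat.support_factorization]
    refine Finset.prod_subset (Nat.primeFactors_mono (Subgroup.card_dvd_of_le inf_le_left) hV0) fun r _ hr => ?_
    rw [← Nat.support_factorization, Finsupp.notMem_support_iff] at hr
    rw [hr, pow_zero]
  have htop : Subgroup.centralizer ((⊥ : Subgroup A) : Set A) = ⊤ := by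
    rw [Subgroup.coe_bot]
    exact Subgroup.centralizer_eq_top_iff_subset.mpr (by simp)
  have hV := hdec ⊥ bot_le
  simp only [htop, inf_top_eq] at hV
  have hpt : ∀ x : Q, Nat.card ↥(V ⊓ Subgroup.centralizer ({φ x} : Set A)) =
      ∏ r ∈ S, Nat.card ↥(R r ⊓ Subgroup.centralizer ({φ x} : Set A)) := by
    intro x
    have := hdec (Subgroup.zpowers (φ x)) (Subgroup.zpowers_le.mpr ⟨x, rfl⟩)
    simpa only [CoprimeFixedProduct.centralizer_zpowers] using this
  unfold CoprimeFixedProduct.Bound
  rw [hV, hdec _ le_rfl, Finset.prod_congr rfl (fun x _ => by rw [hpt x, ← Finset.prod_pow]),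
    Finset.prod_comm, ← Finset.prod_pow, ← Finset.prod_pow, ← Finset.prod_mul_distrib]
  refine Finset.prod_le_prod' fun r hr => ?_
  haveI := Fact.mk (Nat.prime_of_mem_primeFactors hr)
  exact CoprimeFixedProduct.bound_rGroup _ hQ φ (R r) (hRr r hr) (hRn r hr)
    (hcop.coprime_dvd_left (Subgroup.card_dvd_of_le (hRV r hr))) rfl

variable {G : Type u} [Group G] [Finite G]

theorem count_div {N M : Subgroup G} [N.Normal] (hNM : N ≤ M) (H : Subgroup G) :
    Nat.card {u : G // u ∈ M ∧ ∀ h ∈ H, h * u * h⁻¹ * u⁻¹ ∈ N} / Nat.card N =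
      Nat.card ↥(M.map (QuotientGroup.mk' N) ⊓
        Subgroup.centralizer ((H.map (QuotientGroup.mk' N) : Subgroup _) : Set (G ⧸ N))) := by
  have hC : Nat.card {u : G // u ∈ M ∧ ∀ h ∈ H, h * u * h⁻¹ * u⁻¹ ∈ N} =
      Nat.card N * Nat.card ↥(M.map (QuotientGroup.mk' N) ⊓
        Subgroup.centralizer ((H.map (QuotientGroup.mk' N) : Subgroup _) : Set (G ⧸ N))) := by
    rw [← SubnormalizerChain.card_comap_mk]
    refine Nat.card_congr (Equiv.subtypeEquivRight fun u => ?_)
    have e1 : QuotientGroup.mk' N u ∈ M.map (QuotientGroup.mk' N) ↔ u ∈ M := by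
      rw [← Subgroup.mem_comap, Subgroup.comap_map_eq, QuotientGroup.ker_mk', sup_eq_left.mpr hNM]
    simp only [Subgroup.mem_comap, Subgroup.mem_inf, e1, Subgroup.mem_centralizer_iff]
    refine and_congr Iff.rfl ⟨fun h => ?_, fun h a ha => ?_⟩
    · rintro _ ⟨a, ha, rfl⟩
      have h2 := (QuotientGroup.eq_one_iff _).mpr (h a ha)
      rw [QuotientGroup.mk_mul, QuotientGroup.mk_mul, QuotientGroup.mk_mul, QuotientGroup.mk_inv,
        QuotientGroup.mk_inv, mul_inv_eq_one, mul_inv_eq_iff_eq_mul] at h2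
      exact h2
    · have h2 := h _ ⟨a, ha, rfl⟩
      rw [← QuotientGroup.eq_one_iff, QuotientGroup.mk_mul, QuotientGroup.mk_mul, QuotientGroup.mk_mul,
        QuotientGroup.mk_inv, QuotientGroup.mk_inv, mul_inv_eq_one, mul_inv_eq_iff_eq_mul]
      exact h2
  rw [hC, Nat.mul_div_cancel_left _ Nat.card_pos]

/-- The product of the Sylow multiplicities. -/
theorem prod_lam_le (hG : Cfsg.IsPSolvable p G) (P : Sylow p G) [Fintype (P : Subgroup G)] :
    ∏ x : (P : Subgroup G), Nat.card {Q : Sylow p G // Subgroup.zpowers (x : G) ≤ (Q : Subgroup G)} ^ p ≤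
      Nat.card (Sylow p G) ^ Fintype.card (P : Subgroup G) := by
  classical
  obtain ⟨n, M, h0, hn, hmono, hnormal, hfac⟩ := hG
  haveI := hnormal
  set m := Fintype.card (P : Subgroup G)
  let c : Subgroup G → Fin n → ℕ := fun H j =>
    if ((M j.castSucc).relIndex (M j.succ)).Coprime p then
      Nat.card {u : G // u ∈ M j.succ ∧ ∀ h ∈ H, h * u * h⁻¹ * u⁻¹ ∈ M j.castSucc} / Nat.card (M j.castSucc)
      else 1
  have hsn : ∀ {H : Subgroup G}, IsPGroup p H →
      SubnormalizerQuotient.sn H = p ^ (Nat.card G).factorization p * ∏ j, c H j := by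
    intro H hH
    have key := SubnormalizerChain.sn_quot hH n M hn hmono hfac 0
    have hpf : IsPGroup p (QuotientGroup.mk' (M 0)).ker := by
      rw [QuotientGroup.ker_mk', h0]; exact IsPGroup.of_bot
    have h1 := SubnormalizerQuotient.sn_pGroup_ker (QuotientGroup.mk' (M 0))
      (QuotientGroup.mk'_surjective _) hpf hH
    rw [key] at h1
    have hk : Nat.card (QuotientGroup.mk' (M 0)).ker = 1 := by
      rw [QuotientGroup.ker_mk', h0, Subgroup.card_bot]
    rw [hk, one_mul, h0, Subgroup.index_bot, Finset.filter_true_of_mem (fun j _ => Fin.zero_le _)] at h1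
    exact h1
  have hmain : ∏ x : (P : Subgroup G), SubnormalizerQuotient.sn (Subgroup.zpowers (x : G)) ^ p ≤
      SubnormalizerQuotient.sn (⊥ : Subgroup G) ^ m *
        SubnormalizerQuotient.sn (P : Subgroup G) ^ ((p - 1) * m) := by
    have hxp : ∀ x : (P : Subgroup G), IsPGroup p (Subgroup.zpowers (x : G)) := fun x =>
      P.2.to_le (Subgroup.zpowers_le.mpr x.2)
    rw [Finset.prod_congr rfl (fun x _ => by rw [hsn (hxp x), mul_pow]), hsn IsPGroup.of_bot, hsn P.2,
      Finset.prod_mul_distrib, Finset.prod_const, Finset.card_univ, mul_pow, mul_pow, mul_mul_mul_comm]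
    refine Nat.mul_le_mul (le_of_eq ?_) ?_
    · show _ ^ m = _
      rw [← pow_mul, ← pow_mul, ← pow_mul, ← pow_mul, ← pow_add]
      obtain ⟨r, hr⟩ : ∃ r, p = r + 1 := ⟨p - 1, by have := (Fact.out : p.Prime).pos; omega⟩
      congr 1
      rw [hr, Nat.add_sub_cancel]; ring
    rw [Finset.prod_congr rfl (fun x _ => (Finset.prod_pow _ _ _).symm), Finset.prod_comm,
      ← Finset.prod_pow, ← Finset.prod_pow, ← Finset.prod_mul_distrib]
    refine Finset.prod_le_prod' fun j _ => ?_
    simp only [c]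
    by_cases hj : ((M j.castSucc).relIndex (M j.succ)).Coprime p
    swap
    · simp [hj]
    simp only [if_pos hj]
    have hle : M j.castSucc ≤ M j.succ := hmono (Fin.castSucc_le_succ j)
    set f := QuotientGroup.mk' (M j.castSucc)
    have hn' : ((f.comp (P : Subgroup G).subtype).range) ≤
        Subgroup.normalizer (((M j.succ).map f : Subgroup _) : Set (G ⧸ M j.castSucc)) := by
      haveI : ((M j.succ).map f).Normal := Subgroup.Normal.map (hnormal _) f (QuotientGroup.mk'_surjective _)
      exact le_top.trans (Subgroup.normalizer_eq_top (H := (M j.succ).map f)).ge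
    have hcard : Nat.card ↥((M j.succ).map f) = (M j.castSucc).relIndex (M j.succ) := by
      rw [← SubnormalizerChain.card_quot_ker hle, QuotientGroup.ker_map]
      rfl
    have hb := bound_general P.2 (f.comp (P : Subgroup G).subtype) ((M j.succ).map f) hn' (by rw [hcard]; exact hj)
    unfold CoprimeFixedProduct.Bound at hb
    have e0 : Subgroup.centralizer ((((⊥ : Subgroup G).map f) : Subgroup _) : Set (G ⧸ M j.castSucc)) = ⊤ := by
      rw [Subgroup.map_bot, Subgroup.coe_bot]
      exact Subgroup.centralizer_eq_top_iff_subset.mpr (by simp)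
    simp only [count_div hle, e0, inf_top_eq, MonoidHom.map_zpowers, CoprimeFixedProduct.centralizer_zpowers]
    rw [MonoidHom.range_comp, Subgroup.range_subtype] at hb
    simp only [f] at hb e0 ⊢
    rw [e0, inf_top_eq]
    exact hb
  have hN0 : 0 < Nat.card (Subgroup.normalizer ((P : Subgroup G) : Set G)) := Nat.card_pos
  have hP1 : Nat.card {Q : Sylow p G // (P : Subgroup G) ≤ (Q : Subgroup G)} = 1 := by
    rw [Nat.card_eq_one_iff_unique]
    exact ⟨⟨fun a b => Subtype.ext (Sylow.ext ((P.3 a.1.2 a.2).trans (P.3 b.1.2 b.2).symm))⟩, ⟨⟨P, le_rfl⟩⟩⟩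
  have hS1 : Nat.card {Q : Sylow p G // (⊥ : Subgroup G) ≤ (Q : Subgroup G)} = Nat.card (Sylow p G) :=
    Nat.card_congr (Equiv.subtypeUnivEquiv fun _ => bot_le)
  rw [Finset.prod_congr rfl (fun x _ => by
      rw [SubnormalizerQuotient.sn_eq (P.2.to_le (Subgroup.zpowers_le.mpr x.2)) P, mul_pow]),
    Finset.prod_mul_distrib, SubnormalizerQuotient.sn_eq IsPGroup.of_bot P,
    SubnormalizerQuotient.sn_eq P.2 P, hP1, hS1, one_mul, Finset.prod_const, Finset.card_univ] at hmain
  refine Nat.le_of_mul_le_mul_right (hmain.trans (le_of_eq ?_)) (pow_pos (pow_pos hN0 p) m)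
  show _ = Nat.card (Sylow p G) ^ m * _
  rw [mul_pow, mul_assoc, ← pow_mul, ← pow_add]
  congr 2
  have hp1 : p = (p - 1) + 1 := by have := (Fact.out : p.Prime).pos; omega
  calc m + (p - 1) * m = ((p - 1) + 1) * m := by ring
    _ = p * m := by rw [← hp1]

/-- The bound. -/
theorem card_pElements (hG : Cfsg.IsPSolvable p G) (P : Sylow p G) :
    Nat.card (P : Subgroup G) ^ p * Nat.card (Sylow p G) ^ (p - 1) ≤
      Nat.card {g : G // ∃ k : ℕ, orderOf g = p ^ k} ^ p := by
  classical
  have := Fintype.ofFinite G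
  have := Fintype.ofFinite (Sylow p G)
  have := Fintype.ofFinite (P : Subgroup G)
  let lam : G → ℕ := fun g => Nat.card {Q : Sylow p G // Subgroup.zpowers g ≤ (Q : Subgroup G)}
  let T := Finset.univ.filter fun g : G => ∃ k : ℕ, orderOf g = p ^ k
  have hT : Nat.card {g : G // ∃ k : ℕ, orderOf g = p ^ k} = T.card := by
    rw [Nat.card_eq_fintype_card, Fintype.card_subtype]
  have hmem : ∀ (Q : Sylow p G) (g : G), g ∈ (Q : Subgroup G) → g ∈ T := by
    intro Q g hg
    obtain ⟨k, hk⟩ := IsPGroup.iff_orderOf.mp Q.2 ⟨g, hg⟩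
    exact Finset.mem_filter.mpr ⟨Finset.mem_univ _, k, by rw [← hk, Subgroup.orderOf_mk]⟩
  have hpos : ∀ g ∈ T, 0 < lam g := by
    intro g hg
    obtain ⟨k, hk⟩ := (Finset.mem_filter.mp hg).2
    obtain ⟨Q, hQ⟩ := (IsPGroup.of_card (p := p) (n := k) (G := Subgroup.zpowers g) (by rw [Nat.card_zpowers, hk])).exists_le_sylow
    exact Nat.card_pos_iff.mpr ⟨⟨⟨Q, hQ⟩⟩, inferInstance⟩
  have hu : (T.card : ℝ) = Nat.card (Sylow p G) * ∑ x : (P : Subgroup G), ((lam x : ℝ))⁻¹ := by
    have h1 : (T.card : ℝ) = ∑ g ∈ T, ∑ Q : Sylow p G, (if g ∈ (Q : Subgroup G) then ((lam g : ℝ))⁻¹ else 0) := by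
      rw [Finset.card_eq_sum_ones, Nat.cast_sum]
      refine Finset.sum_congr rfl fun g hg => ?_
      rw [← Finset.sum_filter, Finset.sum_const, nsmul_eq_mul]
      have hl : (Finset.univ.filter fun Q : Sylow p G => g ∈ (Q : Subgroup G)).card = lam g := by
        simp only [lam, Nat.card_eq_fintype_card, Fintype.card_subtype, Subgroup.zpowers_le]
      rw [hl, mul_inv_cancel₀ (Nat.cast_ne_zero.mpr (hpos g hg).ne'), Nat.cast_one]
    rw [h1, Finset.sum_comm, Nat.card_eq_fintype_card (α := Sylow p G), ← Finset.card_univ, ← nsmul_eq_mul,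
      ← Finset.sum_const]
    refine Finset.sum_congr rfl fun Q _ => ?_
    obtain ⟨a, rfl⟩ := MulAction.exists_smul_eq G P Q
    rw [← Finset.sum_filter]
    refine (Finset.sum_bij (fun (x : (P : Subgroup G)) _ => a * x * a⁻¹) ?_ ?_ ?_ ?_).symm
    · intro x _
      have hxa : a * x * a⁻¹ ∈ ((a • P : Sylow p G) : Subgroup G) := by
        rw [Sylow.coe_subgroup_smul]; exact Coprime.conj_mem_conj_smul x.2
      exact Finset.mem_filter.mpr ⟨hmem _ _ hxa, hxa⟩
    · intro x _ y _ h
      exact Subtype.ext (by simpa using h)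
    · intro g hg
      have h2 := (Finset.mem_filter.mp hg).2
      rw [Sylow.coe_subgroup_smul, Coprime.mem_conj_smul] at h2
      exact ⟨⟨_, h2⟩, Finset.mem_univ _, by group⟩
    · intro x _
      congr 2
      refine Nat.card_congr (Equiv.subtypeEquiv (MulAction.toPerm a) fun Q => ?_)
      simp only [Subgroup.zpowers_le, MulAction.toPerm_apply, Sylow.coe_subgroup_smul, Coprime.mem_conj_smul]
      rw [show a⁻¹ * (a * (x : G) * a⁻¹) * a = x by group]
  set m := Fintype.card (P : Subgroup G) with hm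
  have hm0 : 0 < m := Fintype.card_pos
  have hamgm : ∏ x : (P : Subgroup G), ((lam x : ℝ))⁻¹ ≤
      ((∑ x : (P : Subgroup G), ((lam x : ℝ))⁻¹) / m) ^ m := by
    have h := Real.geom_mean_le_arith_mean_weighted Finset.univ (fun _ : (P : Subgroup G) => (m : ℝ)⁻¹)
      (fun x => ((lam x : ℝ))⁻¹) (fun _ _ => by positivity)
      (by rw [Finset.sum_const, Finset.card_univ, nsmul_eq_mul, mul_inv_cancel₀ (by positivity)])
      (fun _ _ => by positivity)
    rw [← Finset.mul_sum, inv_mul_eq_div] at h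
    refine le_trans (le_of_eq ?_) (pow_le_pow_left₀ (by positivity) h m)
    rw [← Finset.prod_pow]
    refine Finset.prod_congr rfl fun x _ => ?_
    rw [Real.rpow_inv_natCast_pow (by positivity) hm0.ne']
  have hprod := prod_lam_le hG P
  have hlampos : 0 < ∏ x : (P : Subgroup G), (lam x : ℝ) :=
    Finset.prod_pos fun x _ => Nat.cast_pos.mpr (hpos x (hmem P x x.2))
  have h3 : (Nat.card (Sylow p G) * m) ^ m ≤ T.card ^ m * ∏ x : (P : Subgroup G), lam x := by
    have : ((Nat.card (Sylow p G) : ℝ) * m) ^ m ≤ (T.card : ℝ) ^ m * ∏ x : (P : Subgroup G), (lam x : ℝ) := by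
      rw [Finset.prod_inv_distrib, div_pow, le_div_iff₀ (by positivity), inv_mul_le_iff₀ hlampos] at hamgm
      rw [hu, mul_pow, mul_pow, mul_assoc, mul_comm ((∑ x : (P : Subgroup G), ((lam x : ℝ))⁻¹) ^ m)]
      exact mul_le_mul_of_nonneg_left hamgm (by positivity)
    exact_mod_cast this
  rw [hT, Nat.card_eq_fintype_card (α := (P : Subgroup G)), ← hm]
  set n := Nat.card (Sylow p G) with hn
  have hn0 : 0 < n := Nat.card_pos
  refine (Nat.pow_le_pow_iff_left hm0.ne').mp (Nat.le_of_mul_le_mul_right ?_ (pow_pos hn0 m))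
  calc (m ^ p * n ^ (p - 1)) ^ m * n ^ m = ((n * m) ^ m) ^ p := by
        obtain ⟨r, hr⟩ : ∃ r, p = r + 1 := ⟨p - 1, by have := (Fact.out : p.Prime).pos; omega⟩
        rw [hr, Nat.add_sub_cancel]; ring
    _ ≤ (T.card ^ m * ∏ x : (P : Subgroup G), lam x) ^ p := Nat.pow_le_pow_left h3 p
    _ = (T.card ^ p) ^ m * ∏ x : (P : Subgroup G), lam x ^ p := by
        rw [mul_pow, ← Finset.prod_pow, ← pow_mul, ← pow_mul, mul_comm m p]
    _ ≤ (T.card ^ p) ^ m * n ^ m := Nat.mul_le_mul_left _ hprod

end Cfsg.Agent.GStructB.PElementBound
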