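import Mathlib

/-!
A group generated by its `p`-elements is not covered on `p`-elements by `p` proper subgroups.
-/

set_option autoImplicit false

namespace Cfsg.Agent.GStructB.PElementCover

open Subgroup
open scoped Pointwise

universe u v

variable {p : ℕ} [hp : Fact p.Prime]

/-- The subgroup generated by the `p`-elements of `H`. -/
def pgen {G : Type u} [Group G] (p : ℕ) (H : Subgroup G) : Subgroup G :=
  closure {g : G | g ∈ H ∧ ∃ k : ℕ, orderOf g = p ^ k}

variable {G : Type u} [Group G]

omit hp in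
theorem pgen_le (H : Subgroup G) : pgen p H ≤ H := (closure_le _).mpr fun _ hg => hg.1

omit hp in
theorem mem_pgen {H : Subgroup G} {g : G} (hg : g ∈ H) (k : ℕ) (h : orderOf g = p ^ k) :
    g ∈ pgen p H := subset_closure ⟨hg, k, h⟩

omit hp in
theorem pgen_mono {H L : Subgroup G} (h : H ≤ L) : pgen p H ≤ pgen p L :=
  closure_mono fun _ hg => ⟨h hg.1, hg.2⟩

omit hp in
theorem pgen_pgen (H : Subgroup G) : pgen p (pgen p H) = pgen p H := by
  refine le_antisymm (pgen_le _) ((closure_le _).mpr ?_)
  rintro g ⟨hg, k, hk⟩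
  exact mem_pgen (mem_pgen hg k hk) k hk

omit hp in
theorem pgen_conj (x : G) (H : Subgroup G) :
    pgen p (MulAut.conj x • H) = MulAut.conj x • pgen p H := by
  change pgen p (H.map (MulAut.conj x).toMonoidHom) = (pgen p H).map (MulAut.conj x).toMonoidHom
  rw [pgen, pgen, MonoidHom.map_closure]
  congr 1
  ext g
  constructor
  · rintro ⟨⟨h, hh, rfl⟩, k, hk⟩
    exact ⟨h, ⟨hh, k, (orderOf_injective (MulAut.conj x).toMonoidHom (MulAut.conj x).injective h) ▸ hk⟩, rfl⟩
  · rintro ⟨h, ⟨hh, k, hk⟩, rfl⟩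
    exact ⟨⟨h, hh, rfl⟩, k, (orderOf_injective (MulAut.conj x).toMonoidHom (MulAut.conj x).injective h).trans hk⟩

theorem main_aux : ∀ (N : ℕ) (G : Type u) [Group G] [Finite G], Nat.card G = N →
    closure {g : G | ∃ k : ℕ, orderOf g = p ^ k} = ⊤ →
    ∀ (ι : Type v) [Fintype ι] (K : ι → Subgroup G), (∀ i, K i ≠ ⊤) →
      (∀ g : G, (∃ k : ℕ, orderOf g = p ^ k) → ∃ i, g ∈ K i) → p + 1 ≤ Fintype.card ι := by
  intro N
  induction N using Nat.strong_induction_on with
  | _ N ih =>
  intro G _ _ hN hgen ι _ K hK hcov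
  classical
  by_contra hcard
  push Not at hcard
  have hιp : Nat.card ι ≤ p := by rw [Nat.card_eq_fintype_card]; omega
  -- proper subgroups generated by `p`-elements lie in one of the members
  have hin : ∀ L : Subgroup G, L ≠ ⊤ → pgen p L = L → ∃ i, L ≤ K i := by
    intro L hL hpg
    by_contra hcon
    push Not at hcon
    have hlt : Nat.card L < N := by
      rw [← hN]
      exact lt_of_le_of_ne (Subgroup.card_le_card_group L)
        fun h => hL (eq_top_of_card_eq L h)
    have hgenL : closure {g : L | ∃ k : ℕ, orderOf g = p ^ k} = ⊤ := by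
      apply Subgroup.map_injective L.subtype_injective
      rw [MonoidHom.map_closure, ← MonoidHom.range_eq_map, range_subtype]
      conv_rhs => rw [← hpg, pgen]
      congr 1
      ext g
      constructor
      · rintro ⟨a, ⟨k, hk⟩, rfl⟩
        exact ⟨a.2, k, (orderOf_coe a).trans hk⟩
      · rintro ⟨hg, k, hk⟩
        exact ⟨⟨g, hg⟩, ⟨k, (orderOf_coe (⟨g, hg⟩ : L)).symm.trans hk⟩, rfl⟩
    have := ih (Nat.card L) hlt L rfl hgenL ι (fun i => (K i).subgroupOf L)
      (fun i h => hcon i (subgroupOf_eq_top.mp h))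
      (fun g ⟨k, hk⟩ => (hcov (g : G) ⟨k, (orderOf_coe g).trans hk⟩))
    omega
  obtain ⟨P⟩ : Nonempty (Sylow p G) := inferInstance
  by_cases hPtop : (P : Subgroup G) = ⊤
  · -- a `p`-group is not the union of `p` proper subgroups
    have hpG : IsPGroup p G := fun g => by
      obtain ⟨k, hk⟩ := P.2 ⟨g, hPtop ▸ mem_top g⟩
      exact ⟨k, congrArg Subtype.val hk⟩
    letI := Fintype.ofFinite G
    have hsub : (Finset.univ.erase (1 : G)) ⊆
        Finset.univ.biUnion fun i => (Finset.univ.filter fun g => g ∈ K i).erase 1 := by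
      intro g hg
      obtain ⟨i, hi⟩ := hcov g ((IsPGroup.iff_orderOf.mp hpG) g)
      simp only [Finset.mem_biUnion, Finset.mem_erase, Finset.mem_filter]
      exact ⟨i, Finset.mem_univ _, (Finset.mem_erase.mp hg).1, Finset.mem_univ _, hi⟩
    have h1 := (Finset.card_le_card hsub).trans Finset.card_biUnion_le
    have hbound : ∀ i, p * ((Finset.univ.filter fun g => g ∈ K i).erase 1).card + p ≤ Nat.card G := by
      intro i
      rw [Finset.card_erase_of_mem (by simp [one_mem]), ← Fintype.card_subtype]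
      have hc : Fintype.card {g // g ∈ K i} = Nat.card (K i) := Nat.card_eq_fintype_card.symm
      rw [hc, ← (K i).card_mul_index]
      obtain ⟨a, ha⟩ := hpG.index (K i)
      have ha0 : a ≠ 0 := fun h => hK i (index_eq_one.mp (by rw [ha, h, pow_zero]))
      have hpi : p ≤ (K i).index := ha ▸ Nat.le_self_pow ha0 p
      have hc1 : 1 ≤ Nat.card (K i) := Nat.card_pos
      calc p * (Nat.card (K i) - 1) + p = p * Nat.card (K i) := by
            rw [Nat.mul_sub_one, Nat.sub_add_cancel (Nat.le_mul_of_pos_right p hc1)]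
        _ = Nat.card (K i) * p := mul_comm _ _
        _ ≤ _ := Nat.mul_le_mul_left _ hpi
    rw [Finset.card_erase_of_mem (Finset.mem_univ _), Finset.card_univ, ← Nat.card_eq_fintype_card] at h1
    have hsum := Finset.sum_le_sum (s := Finset.univ) (fun i _ => hbound i)
    rw [Finset.sum_add_distrib, ← Finset.mul_sum, Finset.sum_const, Finset.sum_const,
      Finset.card_univ, ← Nat.card_eq_fintype_card, smul_eq_mul, smul_eq_mul] at hsum
    have hp2 := hp.out.two_le
    have hG1 : 2 ≤ Nat.card G := by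
      by_contra h
      have h' : Nat.card G = 1 := by have := Nat.card_pos (α := G); omega
      have : Subsingleton G := (Nat.card_eq_one_iff_unique.mp h').1
      obtain ⟨i, -⟩ := hcov 1 ⟨0, by rw [orderOf_one, pow_zero]⟩
      exact hK i (Subsingleton.elim _ _)
    have h2 := Nat.mul_le_mul_left p h1
    rw [Nat.mul_sub_one] at h2
    have h3 : Nat.card ι * Nat.card G ≤ p * Nat.card G := Nat.mul_le_mul_right _ hιp
    have h4 : 0 < Nat.card ι := by
      by_contra h
      have h' : Nat.card ι = 0 := by omega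
      have : IsEmpty ι := (Finite.card_eq_zero_iff (α := ι)).mp h'
      obtain ⟨i, -⟩ := hcov 1 ⟨0, by rw [orderOf_one, pow_zero]⟩
      exact isEmptyElim i
    have h5 : p ≤ Nat.card ι * p := Nat.le_mul_of_pos_left p h4
    have h6 : p ≤ p * Nat.card G := Nat.le_mul_of_pos_right p (by omega)
    have h7 : p * Nat.card G + Nat.card ι * p ≤ Nat.card ι * Nat.card G + p := by omega
    rcases Nat.lt_or_ge (Nat.card ι) 2 with h8 | h8
    · have h9 : Nat.card ι = 1 := by omega
      rw [h9, one_mul, one_mul] at h7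
      have h10 := Nat.mul_le_mul_right (Nat.card G) hp2
      omega
    · have h10 := Nat.mul_le_mul_right p h8
      omega
  -- the maximal proper subgroups generated by `p`-elements
  let S : Set (Subgroup G) := {L | L ≠ ⊤ ∧ pgen p L = L}
  let M : Set (Subgroup G) := {L | Maximal (· ∈ S) L}
  have hMsub : M ⊆ Set.range fun i => pgen p (K i) := by
    intro L hL
    obtain ⟨i, hi⟩ := hin L hL.1.1 hL.1.2
    have hle : L ≤ pgen p (K i) := hL.1.2.ge.trans (pgen_mono hi)
    refine ⟨i, le_antisymm (hL.2 ⟨fun h => hK i (top_le_iff.mp (h ▸ pgen_le (K i))), pgen_pgen _⟩ hle) hle⟩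
  have hMcard : M.ncard ≤ p := by
    refine (Set.ncard_le_ncard hMsub (Set.finite_range _)).trans ?_
    rw [← Set.image_univ]
    exact (Set.ncard_image_le).trans (by rw [Set.ncard_univ]; exact hιp)
  have hex : ∀ L ∈ S, ∃ L' ∈ M, L ≤ L' := by
    intro L hL
    obtain ⟨L', hle, hmax⟩ := (Set.toFinite S).exists_le_maximal hL
    exact ⟨L', hmax, hle⟩
  have hconjS : ∀ (x : G) (L : Subgroup G), L ∈ S → MulAut.conj x • L ∈ S := by
    intro x L hL
    refine ⟨fun h => hL.1 ?_, by rw [pgen_conj, hL.2]⟩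
    have h2 := congrArg (fun A : Subgroup G => Nat.card A) h
    change Nat.card ↥(MulAut.conj x • L) = Nat.card ↥(⊤ : Subgroup G) at h2
    rw [← Nat.card_congr (Subgroup.equivSMul (MulAut.conj x) L).toEquiv, card_top] at h2
    exact eq_top_of_card_eq L h2
  have hconjM : ∀ (x : G) (L : Subgroup G), L ∈ M → MulAut.conj x • L ∈ M := by
    intro x L hL
    refine ⟨hconjS x L hL.1, fun L' hL' hle => ?_⟩
    have h1 : L ≤ MulAut.conj x⁻¹ • L' := by
      rwa [map_inv, ← pointwise_smul_subset_iff]
    have h2 := hL.2 (hconjS x⁻¹ L' hL') h1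
    have h3 : MulAut.conj x⁻¹ • L' = L := le_antisymm h2 h1
    rw [← h3, smul_smul, ← map_mul, mul_inv_cancel, map_one, one_smul]
  -- every `p`-element fixes every member of `M`
  have hfix : ∀ x : G, (∃ k : ℕ, orderOf x = p ^ k) → ∀ L ∈ M, MulAut.conj x • L = L := by
    intro x ⟨k, hk⟩ L hL
    by_contra hne
    obtain ⟨i, hi⟩ := hcov x ⟨k, hk⟩
    obtain ⟨L₀, hL₀, hle₀⟩ := hex (pgen p (K i))
      ⟨fun h => hK i (top_le_iff.mp (h ▸ pgen_le (K i))), pgen_pgen _⟩
    have hx₀ : MulAut.conj x • L₀ = L₀ := conj_smul_eq_self_of_mem (hle₀ (mem_pgen hi k hk))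
    let f : Subgroup G → Subgroup G := fun A => MulAut.conj x • A
    have hfin : ∀ n : ℕ, f^[n] L = MulAut.conj (x ^ n) • L := by
      intro n
      induction n with
      | zero => simp
      | succ n ihn => rw [Function.iterate_succ_apply', ihn, pow_succ', map_mul, mul_smul]
    have hper : Function.IsPeriodicPt f (p ^ k) L := by
      change f^[p ^ k] L = L
      rw [hfin, ← hk, pow_orderOf_eq_one, map_one, one_smul]
    set d := Function.minimalPeriod f L with hd
    obtain ⟨j, -, hj⟩ := (Nat.dvd_prime_pow hp.out).mp hper.minimalPeriod_dvd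
    have hj0 : j ≠ 0 := fun h => hne (by
      have h1 := Function.iterate_minimalPeriod (f := f) (x := L)
      rw [← hd, show d = 1 by rw [hd, hj, h, pow_zero]] at h1
      exact h1)
    let O := (fun n => f^[n] L) '' Set.Iio d
    have hOM : insert L₀ O ⊆ M := by
      rintro A (rfl | ⟨n, -, rfl⟩)
      · exact hL₀
      · change f^[n] L ∈ M
        rw [hfin]; exact hconjM _ L hL
    have hnot : L₀ ∉ O := by
      rintro ⟨n, -, hn⟩
      change f^[n] L = L₀ at hn
      rw [hfin] at hn
      apply hne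
      have hL' : L = MulAut.conj (x ^ n)⁻¹ • L₀ := by
        rw [← hn, smul_smul, ← map_mul, inv_mul_cancel, map_one, one_smul]
      rw [hL', smul_smul, ← map_mul, ((Commute.self_pow x n).inv_right).eq, map_mul, ← smul_smul, hx₀]
    have hOcard : O.ncard = d := by
      rw [Set.ncard_image_of_injOn]
      · rw [← Finset.coe_range, Set.ncard_coe_finset, Finset.card_range]
      · intro a ha b hb hab
        exact Function.iterate_injOn_Iio_minimalPeriod ha hb hab
    have h1 := Set.ncard_le_ncard hOM (Set.toFinite _)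
    rw [Set.ncard_insert_of_notMem hnot (Set.toFinite _), hOcard] at h1
    have : p ≤ d := by rw [hd, hj]; exact Nat.le_self_pow hj0 p
    omega
  have hPS : pgen p (P : Subgroup G) = (P : Subgroup G) := by
    refine le_antisymm (pgen_le _) fun g hg => ?_
    obtain ⟨k, hk⟩ := IsPGroup.iff_orderOf.mp P.2 ⟨g, hg⟩
    exact mem_pgen hg k ((orderOf_coe (⟨g, hg⟩ : (P : Subgroup G))).trans hk)
  obtain ⟨L, hL, hPL⟩ := hex (P : Subgroup G) ⟨hPtop, hPS⟩
  have hLn : L.Normal := by
    rw [← normalizer_eq_top_iff, ← top_le_iff, ← hgen, closure_le]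
    intro x hx
    rw [SetLike.mem_coe, mem_normalizer_iff_map_conj_eq]
    exact hfix x hx L hL
  apply hL.1.1
  rw [eq_top_iff, ← hgen, closure_le]
  rintro g ⟨k, hk⟩
  obtain ⟨Q, hQ⟩ := (IsPGroup.of_card (n := k) (by rw [Nat.card_zpowers, hk]) :
    IsPGroup p (zpowers g)).exists_le_sylow
  obtain ⟨a, ha⟩ := MulAction.exists_smul_eq G P Q
  have hgQ : g ∈ (Q : Subgroup G) := hQ (mem_zpowers g)
  rw [← ha, Sylow.smul_def] at hgQ
  obtain ⟨b, hb, rfl⟩ := hgQ
  exact hLn.conj_mem b (hPL hb) a

end Cfsg.Agent.GStructB.PElementCover
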