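import Mathlib

/-!
Derived length of `p`-groups of permutations.
-/

set_option autoImplicit false

namespace Cfsg.Agent.GStructB.PermPGroup

open scoped commutatorElement

variable {P : Type*} [Group P]

theorem derivedSeries_succ_le_map {M : Subgroup P} (hM : commutator P ≤ M) (j : ℕ) :
    derivedSeries P (j + 1) ≤ (derivedSeries M j).map M.subtype := by
  induction j with
  | zero => rw [derivedSeries_one, derivedSeries_zero, ← MonoidHom.range_eq_map, Subgroup.range_subtype]; exact hM
  | succ j ih =>
    rw [derivedSeries_succ _ (j + 1), derivedSeries_succ M j, Subgroup.map_commutator]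
    exact Subgroup.commutator_mono ih ih

theorem map_derivedSeries_le_succ {M : Subgroup P} (hM : M ≤ commutator P) (j : ℕ) :
    (derivedSeries M j).map M.subtype ≤ derivedSeries P (j + 1) := by
  induction j with
  | zero => rw [derivedSeries_one, derivedSeries_zero, ← MonoidHom.range_eq_map, Subgroup.range_subtype]; exact hM
  | succ j ih =>
    rw [derivedSeries_succ _ (j + 1), derivedSeries_succ M j, Subgroup.map_commutator]
    exact Subgroup.commutator_mono ih ih

/-- A subgroup of index `p ^ e` of a `p`-group contains the `e`-th derived subgroup. -/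
theorem derivedSeries_le_of_index {p : ℕ} [hp : Fact p.Prime] :
    ∀ (e : ℕ) {P : Type*} [Group P] [Finite P], IsPGroup p P → ∀ H : Subgroup P, H.index = p ^ e →
      derivedSeries P e ≤ H := by
  intro e
  induction e with
  | zero =>
    intro P _ _ _ H hH
    rw [pow_zero, Subgroup.index_eq_one] at hH
    rw [hH]; exact le_top
  | succ e ih =>
    intro P _ _ hP H hH
    have hne : H ≠ ⊤ := fun h => by
      rw [h, Subgroup.index_top] at hH
      exact (Nat.one_lt_pow e.succ_ne_zero hp.out.one_lt).ne hH
    obtain ⟨M, hM, hHM⟩ := (eq_top_or_exists_le_coatom H).resolve_left hne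
    have := hP.isNilpotent
    have hMn : M.Normal := Subgroup.NormalizerCondition.normal_of_coatom M Group.normalizerCondition_of_isNilpotent hM
    have hMi : M.index = p := by
      obtain ⟨j, hj⟩ := hP.index M
      obtain ⟨n, hn⟩ := IsPGroup.iff_card.mp (hP.to_quotient M)
      rw [Subgroup.index_eq_card, hn] at hj
      by_contra hcon
      have hn1 : 1 ≤ n := by
        by_contra h
        apply hM.1
        rw [← Subgroup.index_eq_one, Subgroup.index_eq_card, hn, show n = 0 by omega, pow_zero]
      obtain ⟨x, hx⟩ := exists_prime_orderOf_dvd_card' (G := P ⧸ M) p (hn ▸ dvd_pow_self p (by omega))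
      have hMle : M ≤ (Subgroup.zpowers x).comap (QuotientGroup.mk' M) :=
        fun m hm => by
          rw [Subgroup.mem_comap, QuotientGroup.mk'_apply, (QuotientGroup.eq_one_iff m).mpr hm]
          exact one_mem _
      have hcomap : ((Subgroup.zpowers x).comap (QuotientGroup.mk' M)).index * p = M.index := by
        rw [Subgroup.index_comap_of_surjective _ (QuotientGroup.mk'_surjective M), mul_comm,
          show M.index = Nat.card (P ⧸ M) from Subgroup.index_eq_card M,
          ← (Subgroup.zpowers x).card_mul_index, Nat.card_zpowers, hx]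
      rcases lt_or_eq_of_le hMle with h | h
      · rw [hM.2 _ h, Subgroup.index_top, one_mul] at hcomap
        exact hcon hcomap.symm
      · rw [← h] at hcomap
        exact hp.out.ne_one (by nlinarith [Nat.pos_of_ne_zero (Subgroup.index_ne_zero_of_finite (H := M)),
          hp.out.two_le])
    have hcomm : commutator P ≤ M := by
      have hc : IsCyclic (P ⧸ M) := isCyclic_of_prime_card (p := p) (by rw [← Subgroup.index_eq_card, hMi])
      have := hc.isMulCommutative
      exact Subgroup.Normal.quotient_commutative_iff_commutator_le.mp inferInstance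
    have hidx : (H.subgroupOf M).index = p ^ e := by
      have h := Subgroup.relIndex_mul_index hHM
      rw [hMi, hH, pow_succ] at h
      exact Nat.eq_of_mul_eq_mul_right hp.out.pos h
    refine (derivedSeries_succ_le_map hcomm e).trans ((Subgroup.map_mono (ih (hP.to_subgroup M) _ hidx)).trans ?_)
    rw [Subgroup.subgroupOf_map_subtype]
    exact inf_le_left

/-- A `p`-group acting on `m` points: the `⌊log_p m⌋`-th derived subgroup acts trivially. -/
theorem smul_eq_of_mem {p : ℕ} [hp : Fact p.Prime] [Finite P] (hP : IsPGroup p P) {X : Type*} [Finite X]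
    [MulAction P X] {g : P} (hg : g ∈ derivedSeries P (Nat.log p (Nat.card X))) (x : X) : g • x = x := by
  obtain ⟨e, he⟩ := hP.index (MulAction.stabilizer P x)
  have hle : p ^ e ≤ Nat.card X := by
    rw [← he, Subgroup.index_eq_card, Nat.card_congr (MulAction.orbitEquivQuotientStabilizer P x).symm]
    exact Nat.card_le_card_of_injective Subtype.val Subtype.val_injective
  exact derivedSeries_le_of_index e hP _ he
    (derivedSeries_antitone P (Nat.le_log_of_pow_le hp.out.one_lt hle) hg)

theorem wreath_step {D Q : Type*} [Group D] [Group Q] [Nontrivial Q] {j : ℕ} (h : derivedSeries D j ≠ ⊥) :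
    derivedSeries (RegularWreathProduct D Q) (j + 1) ≠ ⊥ := by
  classical
  obtain ⟨q, hq⟩ := exists_ne (1 : Q)
  set K := commutator (RegularWreathProduct D Q) ⊓ (RegularWreathProduct.rightHom (D := D) (Q := Q)).ker with hK
  let π : K →* D :=
    { toFun := fun k => k.1.left 1
      map_one' := rfl
      map_mul' := fun a b => by
        have ha : a.1.right = 1 := MonoidHom.mem_ker.mp a.2.2
        simp [ha] }
  have hπ : Function.Surjective π := by
    intro d
    let a : RegularWreathProduct D Q := ⟨Pi.mulSingle 1 d, 1⟩
    refine ⟨⟨⁅a, RegularWreathProduct.inl q⁆, Subgroup.commutator_mem_commutator (Subgroup.mem_top _) (Subgroup.mem_top _), ?_⟩, ?_⟩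
    · simp [a, MonoidHom.mem_ker, commutatorElement_def]
    · show (⁅a, RegularWreathProduct.inl q⁆ : RegularWreathProduct D Q).left 1 = d
      have hq' : q⁻¹ ≠ 1 := inv_ne_one.mpr hq
      simp [a, commutatorElement_def, hq']
  intro hbot
  have h1 := map_derivedSeries_le_succ (M := K) inf_le_left j
  rw [hbot, le_bot_iff, Subgroup.map_eq_bot_iff_of_injective _ Subtype.coe_injective] at h1
  exact h (by rw [← map_derivedSeries_eq hπ, h1, Subgroup.map_bot])

theorem iterated_ne_bot (G : Type*) [Group G] [Nontrivial G] :
    ∀ k : ℕ, derivedSeries (IteratedWreathProduct G (k + 1)) k ≠ ⊥ := by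
  intro k
  induction k with
  | zero =>
    intro h
    have hsub : Subsingleton (IteratedWreathProduct G 1) :=
      ⟨fun a b => by
        have ha : a ∈ (⊥ : Subgroup (IteratedWreathProduct G 1)) := h ▸ Subgroup.mem_top a
        have hb : b ∈ (⊥ : Subgroup (IteratedWreathProduct G 1)) := h ▸ Subgroup.mem_top b
        rw [Subgroup.mem_bot.mp ha, Subgroup.mem_bot.mp hb]⟩
    obtain ⟨g, hg⟩ := exists_ne (1 : G)
    exact hg (congrArg RegularWreathProduct.right
      (hsub.elim (⟨1, g⟩ : RegularWreathProduct (IteratedWreathProduct G 0) G) 1))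
  | succ k ih => exact wreath_step (D := IteratedWreathProduct G (k + 1)) (Q := G) ih

end Cfsg.Agent.GStructB.PermPGroup
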