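import Cfsg.Agent.GStructB.PElements
import Mathlib

/-!
The number of classes of `π`-elements is at most the `π`-part of the group order.
-/

set_option autoImplicit false

namespace Cfsg.Agent.GStructB.PiClasses

universe u

/-- Classes of elements whose order only has prime divisors in `s`. -/
abbrev SClasses (G : Type u) [Group G] (s : Finset ℕ) : Type u :=
  {C : ConjClasses G // ∃ g : G, ConjClasses.mk g = C ∧ ∀ q : ℕ, q.Prime → q ∣ orderOf g → q ∈ s}

theorem mk_conj {G : Type u} [Group G] (g x : G) : ConjClasses.mk (g * x * g⁻¹) = ConjClasses.mk x :=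
  (ConjClasses.mk_eq_mk_iff_isConj.mpr (isConj_iff.mpr ⟨g, rfl⟩)).symm

theorem card_le : ∀ (s : Finset ℕ), (∀ q ∈ s, q.Prime) → ∀ (G : Type u) [Group G] [Finite G],
    Nat.card (SClasses G s) ≤ ∏ q ∈ s, q ^ (Nat.card G).factorization q := by
  classical
  intro s
  induction s using Finset.induction_on with
  | empty =>
    intro _ G _ _
    rw [Finset.prod_empty, Finite.card_le_one_iff_subsingleton]
    refine ⟨?_⟩
    rintro ⟨_, a, rfl, ha⟩ ⟨_, b, rfl, hb⟩
    have key : ∀ x : G, (∀ q : ℕ, q.Prime → q ∣ orderOf x → q ∈ (∅ : Finset ℕ)) → x = 1 := by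
      intro x hx
      by_contra hne
      obtain ⟨q, hq, hd⟩ := Nat.exists_prime_and_dvd (fun h => hne (orderOf_eq_one_iff.mp h))
      exact absurd (hx q hq hd) (Finset.notMem_empty q)
    exact Subtype.ext (congrArg ConjClasses.mk ((key a ha).trans (key b hb).symm))
  | @insert p s hps ih =>
    intro hpr G _ _
    have hp : p.Prime := hpr p (Finset.mem_insert_self p s)
    haveI := Fact.mk hp
    have hs : ∀ q ∈ s, q.Prime := fun q hq => hpr q (Finset.mem_insert_of_mem hq)
    have := Fintype.ofFinite G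
    obtain ⟨P⟩ : Nonempty (Sylow p G) := inferInstance
    -- classes of `p`-elements
    let D := {C : ConjClasses G // ∃ g : (P : Subgroup G), ConjClasses.mk (g : G) = C}
    let rep : D → G := fun C => (C.2.choose : G)
    have hrep : ∀ C : D, ConjClasses.mk (rep C) = C.1 := fun C => C.2.choose_spec
    have hD : Nat.card D ≤ p ^ (Nat.card G).factorization p := by
      rw [← P.card_eq_multiplicity]
      exact Nat.card_le_card_of_surjective (fun g => (⟨_, g, rfl⟩ : D))
        fun C => ⟨C.2.choose, Subtype.ext C.2.choose_spec⟩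
    let U := Σ C : D, SClasses (Subgroup.centralizer ({rep C} : Set G)) s
    have hU : Nat.card U ≤ Nat.card D * ∏ q ∈ s, q ^ (Nat.card G).factorization q := by
      have := Fintype.ofFinite D
      rw [Nat.card_sigma]
      refine (Finset.sum_le_card_nsmul _ _ _ fun C _ => (ih hs _).trans ?_).trans (le_of_eq (by
        rw [smul_eq_mul, Finset.card_univ, Nat.card_eq_fintype_card]))
      refine Finset.prod_le_prod' fun q hq => Nat.pow_le_pow_right (hs q hq).pos ?_
      exact (Nat.factorization_le_iff_dvd Nat.card_pos.ne' Nat.card_pos.ne').mpr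
        (Subgroup.card_subgroup_dvd_card _) q
    rw [Finset.prod_insert hps]
    refine le_trans ?_ (hU.trans (Nat.mul_le_mul_right _ hD))
    let f : U → ConjClasses G := fun u =>
      ConjClasses.mk (rep u.1 * (u.2.2.choose : Subgroup.centralizer ({rep u.1} : Set G)).1)
    have hf : ∀ C : SClasses G (insert p s), ∃ u, f u = C.1 := by
      rintro ⟨_, g, rfl, hg⟩
      obtain ⟨a, e, hord, hpe, -⟩ := GStructB.PElements.exists_split p g
      have he0 : e ≠ 0 := fun h0 => hpe (h0 ▸ dvd_zero p)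
      have hcop : (p ^ a).Coprime e := (hp.coprime_iff_not_dvd.mpr hpe).pow_left a
      obtain ⟨b, hb1, hb2⟩ : ∃ b : ℕ, b ≡ 1 [MOD p ^ a] ∧ b ≡ 0 [MOD e] :=
        ⟨_, (Nat.chineseRemainder hcop 1 0).2⟩
      obtain ⟨d, hd1, hd2⟩ : ∃ d : ℕ, d ≡ 0 [MOD p ^ a] ∧ d ≡ 1 [MOD e] :=
        ⟨_, (Nat.chineseRemainder hcop 0 1).2⟩
      have hsplit : g ^ b * g ^ d = g := by
        rw [← pow_add]
        conv_rhs => rw [← pow_one g]
        refine pow_eq_pow_iff_modEq.mpr ?_
        rw [hord]
        exact (Nat.modEq_and_modEq_iff_modEq_mul hcop).mp ⟨by simpa using hb1.add hd1, by simpa using hb2.add hd2⟩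
      have hx : (g ^ b) ^ p ^ a = 1 := by
        rw [← pow_mul]
        obtain ⟨t, rfl⟩ := Nat.modEq_zero_iff_dvd.mp hb2
        rw [show e * t * p ^ a = p ^ a * e * t by ring, pow_mul, ← hord, pow_orderOf_eq_one, one_pow]
      have hy : (g ^ d) ^ e = 1 := by
        rw [← pow_mul]
        obtain ⟨t, rfl⟩ := Nat.modEq_zero_iff_dvd.mp hd1
        rw [show p ^ a * t * e = p ^ a * e * t by ring, pow_mul, ← hord, pow_orderOf_eq_one, one_pow]
      obtain ⟨k, -, hk⟩ := (Nat.dvd_prime_pow hp).mp (orderOf_dvd_of_pow_eq_one hx)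
      obtain ⟨Q, hQ⟩ := GStructB.PElements.exists_mem_sylow hk
      obtain ⟨c, hc⟩ := MulAction.exists_smul_eq G Q P
      have hxP : c * g ^ b * c⁻¹ ∈ (P : Subgroup G) := by
        rw [← hc, Sylow.coe_subgroup_smul, GStructB.PElements.mem_conj_smul]
        rwa [show c⁻¹ * (c * g ^ b * c⁻¹) * c = g ^ b by group]
      let C : D := ⟨ConjClasses.mk (g ^ b), ⟨_, hxP⟩, mk_conj c _⟩
      obtain ⟨w, hw⟩ := isConj_iff.mp (ConjClasses.mk_eq_mk_iff_isConj.mp (hrep C).symm)
      have hcom : Commute (rep C) (w * g ^ d * w⁻¹) := by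
        rw [← hw]; exact Commute.conj_iff w |>.mpr ((Commute.refl g).pow_pow b d)
      have hord' : orderOf (w * g ^ d * w⁻¹) ∣ e := orderOf_dvd_of_pow_eq_one (by rw [conj_pow, hy]; group)
      let y : Subgroup.centralizer ({rep C} : Set G) :=
        ⟨w * g ^ d * w⁻¹, Subgroup.mem_centralizer_singleton_iff.mpr hcom.symm.eq⟩
      have hys : ∀ q : ℕ, q.Prime → q ∣ orderOf y → q ∈ s := by
        intro q hq hd
        have hde : q ∣ e := by
          rw [← Subgroup.orderOf_coe] at hd; exact hd.trans hord'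
        rcases Finset.mem_insert.mp (hg q hq (hord ▸ dvd_mul_of_dvd_right hde _)) with rfl | h
        · exact absurd hde hpe
        · exact h
      refine ⟨⟨C, ⟨ConjClasses.mk y, y, rfl, hys⟩⟩, ?_⟩
      simp only [f]
      generalize_proofs hch
      have hy' := hch.choose_spec.1
      obtain ⟨z, hz⟩ := isConj_iff.mp (ConjClasses.mk_eq_mk_iff_isConj.mp hy')
      rw [← mk_conj (z : G)]
      have hzc : (z : G) * rep C * (z : G)⁻¹ = rep C := by
        rw [Subgroup.mem_centralizer_singleton_iff.mp z.2, mul_inv_cancel_right]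
      rw [show (z : G) * (rep C * (hch.choose : G)) * (z : G)⁻¹ =
        ((z : G) * rep C * (z : G)⁻¹) * ((z : G) * (hch.choose : G) * (z : G)⁻¹) by group, hzc,
        show (z : G) * (hch.choose : G) * (z : G)⁻¹ = w * g ^ d * w⁻¹ from congrArg Subtype.val hz]
      rw [show rep C = w * g ^ b * w⁻¹ from hw.symm,
        show w * g ^ b * w⁻¹ * (w * g ^ d * w⁻¹) = w * (g ^ b * g ^ d) * w⁻¹ by group, hsplit, mk_conj]
    exact Nat.card_le_card_of_injective (fun C => (hf C).choose)
      (fun C C' h => Subtype.ext ((hf C).choose_spec.symm.trans ((congrArg f h).trans (hf C').choose_spec)))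

/-- The form used by the statement. -/
theorem card_classes_le {G : Type u} [Group G] [Finite G] (π : Set ℕ) (hπ : ∀ q ∈ π, q.Prime)
    (m : ℕ) (hm : m ∣ Nat.card G) (hmπ : ∀ q : ℕ, q.Prime → q ∣ m → q ∈ π)
    (hm' : ∀ q ∈ π, ¬ q ∣ Nat.card G / m) :
    Nat.card {C : ConjClasses G // ∀ q : ℕ, q.Prime → (∃ g : G, ConjClasses.mk g = C ∧ q ∣ orderOf g) → q ∈ π} ≤ m := by
  classical
  have hm0 : m ≠ 0 := ne_zero_of_dvd_ne_zero Nat.card_pos.ne' hm
  let s : Finset ℕ := (Nat.card G).primeFactors.filter (· ∈ π)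
  refine le_trans (Nat.card_le_card_of_injective
    (fun C => (⟨C.1, ?_⟩ : SClasses G s)) fun C C' h => Subtype.ext (by simpa using congrArg Subtype.val h)) ?_
  · obtain ⟨g, hg⟩ := ConjClasses.exists_rep C.1
    exact ⟨g, hg, fun q hq hd => Finset.mem_filter.mpr ⟨Nat.mem_primeFactors.mpr
      ⟨hq, hd.trans (orderOf_dvd_natCard g), Nat.card_pos.ne'⟩, C.2 q hq ⟨g, hg, hd⟩⟩⟩
  refine (card_le s (fun q hq => hπ q (Finset.mem_filter.mp hq).2) G).trans (le_of_eq ?_)
  have hfac : ∀ q ∈ s, (Nat.card G).factorization q = m.factorization q := by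
    intro q hq
    obtain ⟨r, hr⟩ := hm
    have hq' := (Finset.mem_filter.mp hq).2
    have h1 := hm' q hq'
    rw [hr, Nat.mul_div_cancel_left _ (Nat.pos_of_ne_zero hm0)] at h1
    rw [hr, Nat.factorization_mul hm0 (fun h0 => h1 (by rw [h0]; exact dvd_zero q)), Finsupp.add_apply,
      Nat.factorization_eq_zero_of_not_dvd h1, add_zero]
  rw [Finset.prod_congr rfl fun q hq => by rw [hfac q hq]]
  conv_rhs => rw [← Nat.prod_factorization_pow_eq_self hm0]
  rw [Finsupp.prod, Nat.support_factorization]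
  refine (Finset.prod_subset ?_ ?_).symm
  · intro q hq
    exact Finset.mem_filter.mpr ⟨Nat.primeFactors_mono hm Nat.card_pos.ne' hq,
      hmπ q (Nat.prime_of_mem_primeFactors hq) (Nat.dvd_of_mem_primeFactors hq)⟩
  · intro q _ hq
    rw [← Nat.support_factorization, Finsupp.notMem_support_iff] at hq
    rw [hq, pow_zero]

end Cfsg.Agent.GStructB.PiClasses
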