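import Mathlib

/-!
Classes of `π`-elements in a coset of a normal subgroup.
-/

set_option autoImplicit false

namespace Cfsg.Agent.GStructB.PiCosetClasses

open scoped Pointwise

universe u

variable {G : Type u} [Group G] [Finite G]

/-- Exponents projecting to the `π`-part and to the complementary part. -/
theorem exists_exponents (M : ℕ) (hM : M ≠ 0) (π : Set ℕ) :
    ∃ e d : ℕ, (e + d) ≡ 1 [MOD M] ∧ e * d ≡ 0 [MOD M] ∧
      ∀ o : ℕ, o ∣ M → ((e ≡ 1 [MOD o]) ↔ ∀ q : ℕ, q.Prime → q ∣ o → q ∈ π) := by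
  classical
  set a := ∏ q ∈ M.primeFactors.filter (· ∈ π), q ^ M.factorization q with ha
  set b := ∏ q ∈ M.primeFactors.filter (· ∉ π), q ^ M.factorization q with hb
  have hab : a * b = M := by
    rw [ha, hb, Finset.prod_filter_mul_prod_filter_not]
    exact Nat.prod_factorization_pow_eq_self hM
  have hqa : ∀ q : ℕ, q.Prime → q ∣ a → q ∈ π := by
    intro q hq hd
    obtain ⟨r, hr, hd'⟩ := hq.prime.exists_mem_finset_dvd hd
    obtain ⟨hr1, hr2⟩ := Finset.mem_filter.mp hr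
    rwa [(Nat.prime_dvd_prime_iff_eq hq (Nat.prime_of_mem_primeFactors hr1)).mp
      (hq.dvd_of_dvd_pow hd')]
  have hqb : ∀ q : ℕ, q.Prime → q ∣ b → q ∉ π := by
    intro q hq hd
    obtain ⟨r, hr, hd'⟩ := hq.prime.exists_mem_finset_dvd hd
    obtain ⟨hr1, hr2⟩ := Finset.mem_filter.mp hr
    rwa [(Nat.prime_dvd_prime_iff_eq hq (Nat.prime_of_mem_primeFactors hr1)).mp
      (hq.dvd_of_dvd_pow hd')]
  have hcop : a.Coprime b := Nat.coprime_of_dvd fun q hq h1 h2 => hqb q hq h2 (hqa q hq h1)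
  obtain ⟨e, he1, he2⟩ : ∃ e : ℕ, e ≡ 1 [MOD a] ∧ e ≡ 0 [MOD b] :=
    ⟨_, (Nat.chineseRemainder hcop 1 0).2⟩
  obtain ⟨d, hd1, hd2⟩ : ∃ d : ℕ, d ≡ 0 [MOD a] ∧ d ≡ 1 [MOD b] :=
    ⟨_, (Nat.chineseRemainder hcop 0 1).2⟩
  refine ⟨e, d, ?_, ?_, fun o ho => ⟨fun heo q hq hqo => ?_, fun h => ?_⟩⟩
  · rw [← hab]
    exact (Nat.modEq_and_modEq_iff_modEq_mul hcop).mp ⟨by simpa using he1.add hd1, by simpa using he2.add hd2⟩
  · rw [← hab]
    exact (Nat.modEq_and_modEq_iff_modEq_mul hcop).mp ⟨by simpa using he1.mul hd1, by simpa using he2.mul hd2⟩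
  · by_contra hπ
    have h1 : q ∣ a * b := hab.symm ▸ hqo.trans ho
    rcases hq.dvd_mul.mp h1 with h2 | h2
    · exact hπ (hqa q hq h2)
    · have h3 : 1 ≡ 0 [MOD q] := (heo.of_dvd hqo).symm.trans (he2.of_dvd h2)
      exact hq.ne_one (Nat.dvd_one.mp (Nat.modEq_zero_iff_dvd.mp h3))
  · refine he1.of_dvd ?_
    have h1 : o.Coprime b := Nat.coprime_of_dvd fun q hq h1 h2 => hqb q hq h2 (h q hq h1)
    exact h1.dvd_of_dvd_mul_right (hab.symm ▸ ho)

variable (N : Subgroup G)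

/-- `N` acting on `G` by conjugation. -/
abbrev conjN : Subgroup (ConjAct G) := N.map ConjAct.toConjAct.toMonoidHom

theorem mem_conjN {a : ConjAct G} : a ∈ conjN N ↔ ConjAct.ofConjAct a ∈ N :=
  Subgroup.mem_map_equiv

theorem card_conjN : Nat.card (conjN N) = Nat.card N :=
  Nat.card_congr (N.equivMapOfInjective _ ConjAct.toConjAct.injective).toEquiv.symm

/-- Orbit counting in pairs. -/
theorem card_pairs (S : SubMulAction (conjN N) G) :
    Nat.card {x : N × G // x.2 ∈ S ∧ Commute (x.1 : G) x.2} =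
      Nat.card (MulAction.orbitRel.Quotient (conjN N) S) * Nat.card N := by
  rw [← card_conjN N, ← Nat.card_prod,
    ← Nat.card_congr (MulAction.sigmaFixedByEquivOrbitsProdGroup (conjN N) S)]
  have hfix : ∀ (a : conjN N) (y : G), a.1 • y = y ↔ Commute (ConjAct.ofConjAct a.1) y := by
    intro a y
    rw [ConjAct.smul_def, mul_inv_eq_iff_eq_mul]
    rfl
  refine Nat.card_congr
    { toFun := fun x => ⟨⟨ConjAct.toConjAct (x.1.1 : G), (mem_conjN N).mpr x.1.1.2⟩, ⟨x.1.2, x.2.1⟩,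
        Subtype.ext ((hfix ⟨ConjAct.toConjAct (x.1.1 : G), (mem_conjN N).mpr x.1.1.2⟩ x.1.2).mpr x.2.2)⟩
      invFun := fun y => ⟨(⟨ConjAct.ofConjAct y.1.1, (mem_conjN N).mp y.1.2⟩, y.2.1.1), y.2.1.2,
        (hfix y.1 y.2.1.1).mp (congrArg Subtype.val y.2.2)⟩
      left_inv := fun _ => rfl
      right_inv := fun _ => rfl }

/-- The elements of a coset fixed by the `e`-th power. -/
def cosetSet [N.Normal] (e : ℕ) (x : G) : SubMulAction (conjN N) G where
  carrier := {y | y ^ e = y ∧ x⁻¹ * y ∈ N}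
  smul_mem' := by
    rintro a y ⟨h1, h2⟩
    change (a.1 • y) ^ e = a.1 • y ∧ x⁻¹ * (a.1 • y) ∈ N
    refine ⟨by rw [← smul_pow', h1], ?_⟩
    rw [ConjAct.smul_def]
    have ha := (mem_conjN N).mp a.2
    set n := ConjAct.ofConjAct a.1
    have : x⁻¹ * (n * y * n⁻¹) = x⁻¹ * n * x * (x⁻¹ * y) * n⁻¹ := by group
    rw [this]
    exact N.mul_mem (N.mul_mem (Subgroup.Normal.conj_mem' inferInstance n ha x) h2) (N.inv_mem ha)

theorem mem_cosetSet [N.Normal] {e : ℕ} {x y : G} :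
    y ∈ cosetSet N e x ↔ y ^ e = y ∧ x⁻¹ * y ∈ N := Iff.rfl

/-- The key inequality. -/
theorem card_orbits_le [N.Normal] {e d : ℕ} (h1 : ∀ g : G, g ^ e * g ^ d = g)
    (h2 : ∀ g : G, (g ^ e) ^ d = 1) {x : G} (hx : x ^ e = x) :
    Nat.card (MulAction.orbitRel.Quotient (conjN N) (cosetSet N e x)) ≤
      Nat.card (MulAction.orbitRel.Quotient (conjN N) (cosetSet N e 1)) := by
  have h2' : ∀ g : G, (g ^ d) ^ e = 1 := fun g => by rw [← pow_mul, mul_comm, pow_mul, h2]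
  have hidem : ∀ g : G, (g ^ e) ^ e = g ^ e := fun g => by
    have := h1 (g ^ e); rwa [h2, mul_one] at this
  have hidem' : ∀ g : G, (g ^ d) ^ d = g ^ d := fun g => by
    have := h1 (g ^ d); rwa [h2', one_mul] at this
  refine Nat.le_of_mul_le_mul_right ?_ (Nat.card_pos (α := N))
  rw [← card_pairs, ← card_pairs]
  -- pairs `(m, z)` with `z` in the coset and `m` a π-element of `N`
  let B := {w : G × G // (w.1 ∈ cosetSet N e 1) ∧ x⁻¹ * w.2 ∈ N ∧ Commute w.1 w.2}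
  have hAB : Nat.card {w : N × G // w.2 ∈ cosetSet N e x ∧ Commute (w.1 : G) w.2} ≤ Nat.card B := by
    refine Nat.card_le_card_of_injective (fun w => ⟨((w.1.1 : G) ^ e, w.1.2 * (w.1.1 : G) ^ d), ?_, ?_, ?_⟩) ?_
    · exact ⟨hidem _, by simpa using N.pow_mem w.1.1.2 e⟩
    · rw [← mul_assoc]
      exact N.mul_mem w.2.1.2 (N.pow_mem w.1.1.2 d)
    · exact (w.2.2.pow_left e).mul_right ((Commute.refl (w.1.1 : G)).pow_pow e d)
    · rintro ⟨⟨n, y⟩, hy, hc⟩ ⟨⟨n', y'⟩, hy', hc'⟩ h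
      simp only [B, Subtype.mk.injEq, Prod.mk.injEq] at h
      obtain ⟨he, hm⟩ := h
      have key : ∀ (m : N) (z : G), z ^ e = z → Commute (m : G) z →
          (z * (m : G) ^ d) ^ e = z ∧ (z * (m : G) ^ d) ^ d = (m : G) ^ d := by
        intro m z hz hmz
        have hzd : z ^ d = 1 := by rw [← hz, h2]
        rw [(hmz.symm.pow_right d).mul_pow, (hmz.symm.pow_right d).mul_pow, hz, h2', hzd, hidem']
        exact ⟨mul_one _, one_mul _⟩
      have e1 := key n y hy.1 hc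
      have e2 := key n' y' hy'.1 hc'
      rw [hm] at e1
      refine Subtype.ext (Prod.ext ?_ (e1.1.symm.trans e2.1))
      refine Subtype.ext ?_
      show (n : G) = n'
      exact (h1 _).symm.trans ((congrArg₂ (· * ·) he (e1.2.symm.trans e2.2)).trans (h1 _))
  refine hAB.trans ?_
  -- for each `m` the commuting part of a coset is at most the centralizer
  refine (Nat.card_congr ((Equiv.subtypeProdEquivSigmaSubtype fun (m z : G) =>
    m ∈ cosetSet N e 1 ∧ x⁻¹ * z ∈ N ∧ Commute m z))).trans_le ?_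
  refine le_trans ?_ (Nat.card_congr ((Equiv.subtypeEquiv (p := fun w : N × G => w.2 ∈ cosetSet N e 1 ∧ Commute (w.1 : G) w.2)
      (Equiv.prodComm _ _) (q := fun w : G × N => w.1 ∈ cosetSet N e 1 ∧ Commute (w.2 : G) w.1) fun _ => Iff.rfl).trans
    (Equiv.subtypeProdEquivSigmaSubtype fun (m : G) (n : N) => m ∈ cosetSet N e 1 ∧ Commute (n : G) m))).ge
  have := Fintype.ofFinite G
  rw [Nat.card_sigma, Nat.card_sigma]
  refine Finset.sum_le_sum fun m _ => ?_
  rcases isEmpty_or_nonempty {z : G // m ∈ cosetSet N e 1 ∧ x⁻¹ * z ∈ N ∧ Commute m z} with h | ⟨⟨z₀, hm, hz₀, hc₀⟩⟩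
  · rw [Nat.card_of_isEmpty]; exact Nat.zero_le _
  refine Nat.card_le_card_of_injective (fun z => ⟨⟨z₀⁻¹ * z.1, ?_⟩, hm, ?_⟩) ?_
  · rw [show z₀⁻¹ * z.1 = (x⁻¹ * z₀)⁻¹ * (x⁻¹ * z.1) by group]
    exact N.mul_mem (N.inv_mem hz₀) z.2.2.1
  · exact (hc₀.inv_right.mul_right z.2.2.2).symm
  · intro z z' h
    exact Subtype.ext (mul_left_cancel (congrArg Subtype.val (congrArg Subtype.val h)))

end Cfsg.Agent.GStructB.PiCosetClasses
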