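import Cfsg.Agent.GStructB.PElements
import Cfsg.Agent.Lib.Coprime.Sylow
import Cfsg.Agent.Lib.Transfer.Fusion
import Mathlib

/-!
Groups inducing only `π'`-automorphisms on their `π'`-subgroups.
-/

set_option autoImplicit false

namespace Cfsg.Agent.GStructB.PiHomogeneous

variable {G : Type*} [Group G] [Finite G]

/-- `x` is a `π`-element. -/
abbrev PiElt (π : Set ℕ) (x : G) : Prop := ∀ p : ℕ, p.Prime → p ∣ orderOf x → p ∈ π

/-- The hypothesis: `N(H)/C(H)` is a `π'`-group for every nontrivial `π'`-subgroup `H`. -/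
abbrev Homog (π : Set ℕ) (G : Type*) [Group G] : Prop :=
  ∀ H : Subgroup G, H ≠ ⊥ → (∀ p : ℕ, p.Prime → p ∣ Nat.card ↥H → p ∉ π) →
    ∀ p : ℕ, p.Prime →
      p ∣ (Subgroup.centralizer (H : Set G)).relIndex (Subgroup.normalizer (H : Set G)) → p ∉ π

/-- The `π`-elements form a subgroup. -/
abbrev Closed (π : Set ℕ) (G : Type*) [Group G] : Prop :=
  ∃ K : Subgroup G, ∀ x : G, x ∈ K ↔ ∀ p : ℕ, p.Prime → p ∣ orderOf x → p ∈ π

theorem centralizer_subgroupOf_normal (H : Subgroup G) :
    ((Subgroup.centralizer (H : Set G)).subgroupOf (Subgroup.normalizer (H : Set G))).Normal := by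
  refine ⟨fun c hc m => Subgroup.mem_subgroupOf.mpr (Subgroup.mem_centralizer_iff.mpr fun z hz => ?_)⟩
  have h3 : (m : G)⁻¹ * z * m ∈ H := by
    simpa using (Subgroup.mem_normalizer_iff.mp (inv_mem m.2) z).mp hz
  have h4 := Subgroup.mem_centralizer_iff.mp (Subgroup.mem_subgroupOf.mp hc) _ h3
  simp only [Subgroup.coe_mul, Subgroup.coe_inv]
  calc z * ((m : G) * c * (m : G)⁻¹) = m * (((m : G)⁻¹ * z * m) * c) * (m : G)⁻¹ := by group
    _ = _ := by rw [h4]; group

/-- A `p`-element, `p ∈ π`, normalising a `π'`-subgroup centralises it. -/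
theorem Homog.mem_centralizer {π : Set ℕ} (h : Homog π G) {H : Subgroup G}
    (hH : ∀ p : ℕ, p.Prime → p ∣ Nat.card ↥H → p ∉ π) {p : ℕ} (hp : p.Prime) (hpπ : p ∈ π) {n : G}
    {k : ℕ} (hn : orderOf n = p ^ k) (hnH : n ∈ Subgroup.normalizer (H : Set G)) :
    n ∈ Subgroup.centralizer (H : Set G) := by
  by_cases hH1 : H = ⊥
  · exact Subgroup.mem_centralizer_iff.mpr fun z hz => by
      rw [hH1] at hz; rw [Subgroup.mem_bot.mp hz, one_mul, mul_one]
  have := centralizer_subgroupOf_normal H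
  set C := (Subgroup.centralizer (H : Set G)).subgroupOf (Subgroup.normalizer (H : Set G))
  refine Subgroup.mem_subgroupOf.mp (?_ : (⟨n, hnH⟩ : Subgroup.normalizer (H : Set G)) ∈ C)
  refine (QuotientGroup.eq_one_iff _).mp (orderOf_eq_one_iff.mp ?_)
  have hd : orderOf (QuotientGroup.mk' C ⟨n, hnH⟩) ∣ C.index := by
    rw [Subgroup.index_eq_card]; exact orderOf_dvd_natCard _
  obtain ⟨j, -, hj⟩ := (Nat.dvd_prime_pow hp).mp
    ((orderOf_map_dvd (QuotientGroup.mk' C) ⟨n, hnH⟩).trans (dvd_of_eq ((Subgroup.orderOf_mk n hnH).trans hn)))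
  rcases j with _ | j
  · simpa using hj
  · exact absurd hpπ (h H hH1 hH p hp
      (((dvd_pow_self p (Nat.succ_ne_zero j)).trans (dvd_of_eq hj.symm)).trans hd))

/-- Subgroups inherit the hypothesis. -/
theorem Homog.subgroup {π : Set ℕ} (h : Homog π G) (K : Subgroup G) : Homog π K := by
  intro H hH hHπ p hp hd
  have hne : H.map K.subtype ≠ ⊥ := by
    rwa [Ne, Subgroup.map_eq_bot_iff_of_injective _ K.subtype_injective]
  refine h (H.map K.subtype) hne (fun q hq hqd => hHπ q hq (by rwa [Subgroup.card_subtype] at hqd)) p hp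
    (hd.trans ?_)
  set N := Subgroup.normalizer ((H.map K.subtype : Subgroup G) : Set G) with hN
  set C := Subgroup.centralizer ((H.map K.subtype : Subgroup G) : Set G) with hC
  have hCn : (C.subgroupOf N).Normal := centralizer_subgroupOf_normal _
  have e1 : (Subgroup.centralizer (H : Set K)) = C.subgroupOf K := by
    ext u
    rw [Subgroup.mem_subgroupOf, hC, Subgroup.mem_centralizer_iff, Subgroup.mem_centralizer_iff]
    constructor
    · rintro hu _ ⟨w, hw, rfl⟩; exact congrArg Subtype.val (hu w hw)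
    · intro hu w hw; exact Subtype.ext (hu _ ⟨w, hw, rfl⟩)
  have hle : (Subgroup.normalizer (H : Set K)).map K.subtype ≤ N := Subgroup.le_normalizer_map K.subtype
  rw [e1, show (C.subgroupOf K).relIndex (Subgroup.normalizer (H : Set K)) =
    C.relIndex ((Subgroup.normalizer (H : Set K)).map K.subtype) from Subgroup.relIndex_comap ..,
    ← Subgroup.relIndex_subgroupOf hle]
  exact Subgroup.relIndex_dvd_index_of_normal _ _

/-- The main step. -/
theorem closed_of_extension {π : Set ℕ} (hπ : ∀ p ∈ π, p.Prime) (h : Homog π G) (K : Subgroup G)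
    [K.Normal] (hK : Closed π K) (hQ : Closed π (G ⧸ K)) : Closed π G := by
  classical
  obtain ⟨L₀, hL₀⟩ := hK
  obtain ⟨R₀, hR₀⟩ := hQ
  -- the `π`-core of `K` and its properties
  set L := L₀.map K.subtype with hLdef
  have hLmem : ∀ x : G, x ∈ L ↔ x ∈ K ∧ PiElt π x := by
    intro x
    constructor
    · rintro ⟨y, hy, rfl⟩
      refine ⟨y.2, fun p hp hd => (hL₀ y).mp hy p hp ?_⟩
      rwa [Subgroup.coe_subtype, Subgroup.orderOf_coe] at hd
    · rintro ⟨hxK, hx⟩
      refine ⟨⟨x, hxK⟩, (hL₀ _).mpr fun p hp hd => hx p hp ?_, rfl⟩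
      rwa [Subgroup.orderOf_mk] at hd
  have hLn : L.Normal := by
    refine ⟨fun x hx g => ?_⟩
    obtain ⟨hxK, hx'⟩ := (hLmem x).mp hx
    refine (hLmem _).mpr ⟨(inferInstance : K.Normal).conj_mem x hxK g, fun p hp hd => hx' p hp ?_⟩
    rwa [show g * x * g⁻¹ = MulAut.conj g x from rfl, MulEquiv.orderOf_eq] at hd
  have hLπ : ∀ p : ℕ, p.Prime → p ∣ Nat.card L → p ∈ π := by
    intro p hp hd
    have := Fact.mk hp
    obtain ⟨y, hy⟩ := exists_prime_orderOf_dvd_card' p hd
    exact ((hLmem y).mp y.2).2 p hp (by rw [Subgroup.orderOf_coe, hy])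
  set φ := QuotientGroup.mk' L with hφ
  have hφs := QuotientGroup.mk'_surjective L
  set Kb := K.map φ with hKb
  have hKbn : Kb.Normal := (inferInstance : K.Normal).map φ hφs
  have hKbπ : ∀ p : ℕ, p.Prime → p ∣ Nat.card Kb → p ∉ π := by
    intro p hp hd hpπ
    have := Fact.mk hp
    obtain ⟨z, hz⟩ := exists_prime_orderOf_dvd_card' p hd
    obtain ⟨y, hyK, hyz⟩ := z.2
    obtain ⟨a, s, -, hs, hys⟩ := GStructB.PElements.exists_split p y
    have h1 : y ^ s ∈ L := (hLmem _).mpr ⟨pow_mem hyK s, fun r hr hrd => by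
      rw [hys] at hrd
      rw [(Nat.prime_dvd_prime_iff_eq hr hp).mp (hr.dvd_of_dvd_pow hrd)]; exact hpπ⟩
    have h2 : (z : G ⧸ L) ^ s = 1 := by
      rw [← hyz, ← map_pow]
      exact (QuotientGroup.eq_one_iff _).mpr h1
    have h3 : orderOf z ∣ s := by
      rw [← Subgroup.orderOf_coe]; exact orderOf_dvd_of_pow_eq_one h2
    exact hs (hz ▸ h3)
  -- `p`-elements with `p ∈ π` centralise the quotient of `K`
  have hcent : ∀ p : ℕ, p.Prime → p ∈ π → ∀ x : G ⧸ L, (∃ k, orderOf x = p ^ k) →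
      x ∈ Subgroup.centralizer (Kb : Set (G ⧸ L)) := by
    rintro p hp hpπ x ⟨k, hk⟩
    have hpf := Fact.mk hp
    have hA : Subgroup.zpowers x ≤ Subgroup.normalizer (Kb : Set (G ⧸ L)) := by
      rw [Subgroup.normalizer_eq_top]; exact le_top
    have hcop : (Nat.card (Subgroup.zpowers x)).Coprime (Nat.card Kb) := by
      rw [Nat.card_zpowers, hk]
      exact (hp.coprime_iff_not_dvd.mpr fun hd => hKbπ p hp hd hpπ).pow_left k
    set D := Kb ⊓ Subgroup.centralizer ({x} : Set (G ⧸ L)) with hD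
    suffices hDK : Nat.card Kb ∣ Nat.card D by
      have h1 : D = Kb := Subgroup.eq_of_le_of_card_ge inf_le_left (Nat.le_of_dvd Nat.card_pos hDK)
      rw [Subgroup.mem_centralizer_iff]
      intro z hz
      exact Subgroup.mem_centralizer_singleton_iff.mp ((h1.symm ▸ hz : z ∈ D)).2
    rw [Nat.dvd_iff_prime_pow_dvd_dvd]
    intro q j hq hqj
    rcases j with _ | j
    · simp
    have hqf := Fact.mk hq
    obtain ⟨S, hS⟩ := Coprime.exists_invariant_sylow q hA hcop (Or.inl inferInstance)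
    set S' := (S : Subgroup Kb).map Kb.subtype with hS'
    suffices hSx : x ∈ Subgroup.centralizer (S' : Set (G ⧸ L)) by
      refine (S.pow_dvd_card_of_pow_dvd_card hqj).trans ?_
      rw [← Subgroup.card_subtype Kb, ← hS']
      exact Subgroup.card_dvd_of_le (le_inf (Subgroup.map_subtype_le _) fun z hz =>
        Subgroup.mem_centralizer_singleton_iff.mpr (Subgroup.mem_centralizer_iff.mp hSx z hz))
    have hqπ : q ∉ π := hKbπ q hq ((dvd_pow_self q (Nat.succ_ne_zero j)).trans hqj)
    have hqL : ¬ q ∣ Nat.card L := fun hd => hqπ (hLπ q hq hd)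
    set T := S'.comap φ with hT
    obtain ⟨Q⟩ : Nonempty (Sylow q T) := inferInstance
    set Q' := (Q : Subgroup T).map T.subtype with hQ'
    have hQp : IsPGroup q Q' := Q.2.map T.subtype
    have hQT : Q' ≤ T := Subgroup.map_subtype_le _
    have hQimg : Q'.map φ = S' := by
      refine Subgroup.eq_of_le_of_card_ge ((Subgroup.map_mono hQT).trans (Subgroup.map_comap_le _ _)) ?_
      obtain ⟨b, hb⟩ := IsPGroup.iff_card.mp (S.2.map Kb.subtype)
      have hinj : Nat.card (Q'.map φ) = Nat.card Q' := by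
        have : Function.Injective (φ.subgroupMap Q') := by
          rw [injective_iff_map_eq_one]
          intro u hu
          obtain ⟨i, hi⟩ := GStructB.PElements.exists_orderOf_eq hQp u.2
          have huL : (u : G) ∈ L := (QuotientGroup.eq_one_iff _).mp (congrArg Subtype.val hu)
          exact Subtype.ext (orderOf_eq_one_iff.mp (Nat.eq_one_of_dvd_coprimes
            ((hq.coprime_iff_not_dvd.mpr hqL).pow_left i) (dvd_of_eq hi) (L.orderOf_dvd_natCard huL)))
        exact (Nat.card_congr (Equiv.ofBijective _ ⟨this, φ.subgroupMap_surjective Q'⟩)).symm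
      rw [hinj, hQ', Subgroup.card_subtype T, hb]
      have hdvd : q ^ b ∣ Nat.card T := by
        rw [← hb]
        calc Nat.card S' = Nat.card (T.map φ) := by
              rw [hT, Subgroup.map_comap_eq_self_of_surjective hφs]
          _ ∣ Nat.card T := Subgroup.card_map_dvd T φ
      exact Nat.le_of_dvd Nat.card_pos (Q.pow_dvd_card_of_pow_dvd_card hdvd)
    obtain ⟨y, hy⟩ := hφs x
    have hyT : T.map (MulAut.conj y).toMonoidHom = T := by
      rw [Transfer.Fusion.map_conj_eq_self_iff, Subgroup.mem_normalizer_iff]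
      intro z
      rw [hT, Subgroup.mem_comap, Subgroup.mem_comap, map_mul, map_mul, map_inv, hy]
      exact Subgroup.mem_normalizer_iff.mp (hS (Subgroup.mem_zpowers x)) (φ z)
    obtain ⟨c, hc, hcQ⟩ := Coprime.exists_conj_sylow_map (K := T)
      (H := Q'.map (MulAut.conj y).toMonoidHom)
      ((Subgroup.map_mono hQT).trans hyT.le) Q
      (by rw [Subgroup.card_map_of_injective (MulAut.conj y).injective, hQ', Subgroup.card_subtype])
    have hcQ' : Q'.map (MulAut.conj y).toMonoidHom = Q'.map (MulAut.conj c).toMonoidHom := hcQ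
    -- write `c = l * u` with `l ∈ L`
    obtain ⟨u, hu, huc⟩ : φ c ∈ Q'.map φ := by rw [hQimg]; exact hc
    set n := u * c⁻¹ * y with hn
    have hnx : φ n = x := by
      rw [hn, map_mul, map_mul, map_inv, huc, mul_inv_cancel, one_mul, hy]
    have hnN : n ∈ Subgroup.normalizer (Q' : Set G) := by
      rw [← Transfer.Fusion.map_conj_eq_self_iff, hn, Transfer.Fusion.map_conj_mul, hcQ',
        ← Transfer.Fusion.map_conj_mul, inv_mul_cancel_right,
        Transfer.Fusion.map_conj_le_of_mem hu]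
    obtain ⟨a, s, -, hs, hns⟩ := GStructB.PElements.exists_split p n
    have hQπ : ∀ r : ℕ, r.Prime → r ∣ Nat.card Q' → r ∉ π := by
      intro r hr hrd
      obtain ⟨b, hb⟩ := IsPGroup.iff_card.mp hQp
      rw [hb] at hrd
      rwa [(Nat.prime_dvd_prime_iff_eq hr hq).mp (hr.dvd_of_dvd_pow hrd)]
    have hns' := h.mem_centralizer hQπ hp hpπ hns (pow_mem hnN s)
    refine GStructB.PElements.mem_of_pow_mem_coprime (a := s) (b := orderOf x) ?_ ?_
      (by rw [pow_orderOf_eq_one]; exact one_mem _)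
    · rw [hk]
      exact ((hp.coprime_iff_not_dvd.mpr hs).symm).pow_right k
    · rw [Subgroup.mem_centralizer_iff]
      intro z hz
      have hz' : z ∈ Q'.map φ := hQimg.symm ▸ hz
      obtain ⟨w, hw, rfl⟩ := hz'
      rw [← hnx, ← map_pow, ← map_mul, ← map_mul, Subgroup.mem_centralizer_iff.mp hns' w hw]
  -- every `π`-element centralises it
  set C := Subgroup.centralizer (Kb : Set (G ⧸ L))
  have hcentπ : ∀ x : G ⧸ L, PiElt π x → x ∈ C := by
    intro x hx
    refine (QuotientGroup.eq_one_iff x).mp (orderOf_eq_one_iff.mp ?_)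
    by_contra hne
    obtain ⟨p, hp, hpd⟩ := Nat.exists_prime_and_dvd hne
    have := Fact.mk hp
    have hdvd := orderOf_map_dvd (QuotientGroup.mk' C) x
    obtain ⟨a, s, -, hs, hxs⟩ := GStructB.PElements.exists_split p x
    have h2 := hcent p hp (hx p hp (hpd.trans hdvd)) _ ⟨a, hxs⟩
    exact hs (hpd.trans (orderOf_dvd_of_pow_eq_one (x := QuotientGroup.mk' C x) (by
      rw [← map_pow]; exact (QuotientGroup.eq_one_iff _).mpr h2)))
  -- the relevant part of the centraliser
  set Rb := (R₀.comap (QuotientGroup.mk' K)).map φ with hRb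
  set D := C ⊓ Rb with hD
  have hπR : ∀ x : G ⧸ L, PiElt π x → x ∈ Rb := by
    intro x hx
    obtain ⟨y, rfl⟩ := hφs x
    have hL : L ≤ R₀.comap (QuotientGroup.mk' K) := fun l hl => by
      rw [Subgroup.mem_comap, show QuotientGroup.mk' K l = 1 from
        (QuotientGroup.eq_one_iff l).mpr ((hLmem l).mp hl).1]
      exact one_mem _
    refine ⟨y, Subgroup.mem_comap.mpr ((hR₀ _).mpr fun p hp hd => hx p hp (hd.trans ?_)), rfl⟩
    have : orderOf (QuotientGroup.mk' K y) ∣ orderOf (φ y) := by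
      refine orderOf_dvd_of_pow_eq_one ?_
      rw [← map_pow]
      refine (QuotientGroup.eq_one_iff _).mpr ((hLmem _).mp ((QuotientGroup.eq_one_iff _).mp ?_)).1
      show φ (y ^ orderOf (φ y)) = 1
      rw [map_pow, pow_orderOf_eq_one]
    exact this
  set Z := Kb.subgroupOf D with hZ
  have hZc : ∀ z ∈ Z, ∀ d : D, d * z = z * d := fun z hz d =>
    Subtype.ext (Subgroup.mem_centralizer_iff.mp d.2.1 _ hz).symm
  have hZπ : ∀ p : ℕ, p.Prime → p ∣ Z.index → p ∈ π := by
    intro p hp hd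
    have := Fact.mk hp
    obtain ⟨z, hz⟩ := exists_prime_orderOf_dvd_card' (G := D ⧸ Z) p (by rwa [← Subgroup.index_eq_card])
    obtain ⟨d, rfl⟩ := QuotientGroup.mk'_surjective Z z
    obtain ⟨w, hw, hwd⟩ := d.2.2
    refine (hR₀ _).mp (Subgroup.mem_comap.mp hw) p hp ?_
    have h1 : orderOf (QuotientGroup.mk' Z d) ∣ orderOf (QuotientGroup.mk' K w) := by
      refine orderOf_dvd_of_pow_eq_one ?_
      rw [← map_pow]
      refine (QuotientGroup.eq_one_iff _).mpr (Subgroup.mem_subgroupOf.mpr ?_)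
      rw [Subgroup.coe_pow, ← hwd, ← map_pow]
      refine Subgroup.mem_map_of_mem φ ((QuotientGroup.eq_one_iff _).mp ?_)
      show QuotientGroup.mk' K (w ^ _) = 1
      rw [map_pow, pow_orderOf_eq_one]
    rwa [hz] at h1
  have hZn : Z.Normal := ⟨fun z hz d => by rw [hZc z hz d, mul_inv_cancel_right]; exact hz⟩
  have hZdvd : Nat.card Z ∣ Nat.card Kb := by
    rw [← Subgroup.card_subtype, hZ, Subgroup.subgroupOf_map_subtype]
    exact Subgroup.card_dvd_of_le inf_le_left
  obtain ⟨U, hU⟩ := Subgroup.exists_right_complement'_of_coprime (N := Z)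
    (Nat.coprime_of_dvd fun p hp h1 h2 => hKbπ p hp (h1.trans hZdvd) (hZπ p hp h2))
  have hUn : U.Normal := by
    refine ⟨fun v hv d => ?_⟩
    obtain ⟨z, hz, w, hw, rfl⟩ := Subgroup.mem_sup_of_normal_left.mp
      (show d ∈ Z ⊔ U by rw [hU.sup_eq_top]; exact Subgroup.mem_top d)
    have : z * w * v * (z * w)⁻¹ = w * v * w⁻¹ := by
      calc z * w * v * (z * w)⁻¹ = z * (w * v * w⁻¹) * z⁻¹ := by group
        _ = _ := by rw [← hZc z hz (w * v * w⁻¹), mul_inv_cancel_right]
    rw [this]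
    exact mul_mem (mul_mem hw hv) (inv_mem hw)
  have hUindex : U.index = Nat.card Z := hU.index_eq_card
  refine ⟨(U.map D.subtype).comap φ, fun y => ⟨?_, fun hy => ?_⟩⟩
  · rintro ⟨v, hv, hvy⟩ p hp hd
    have h1 : orderOf y ∣ Nat.card U * Nat.card L := by
      refine orderOf_dvd_of_pow_eq_one ?_
      have h2 : y ^ Nat.card U ∈ L := by
        refine (QuotientGroup.eq_one_iff _).mp ?_
        show φ (y ^ Nat.card U) = 1
        rw [map_pow, ← hvy, ← map_pow,
          show v ^ Nat.card U = 1 from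
            orderOf_dvd_iff_pow_eq_one.mp (U.orderOf_dvd_natCard hv), map_one]
      rw [pow_mul]
      exact orderOf_dvd_iff_pow_eq_one.mp (L.orderOf_dvd_natCard h2)
    rcases hp.dvd_mul.mp (hd.trans h1) with h3 | h3
    · exact hZπ p hp (hU.symm.index_eq_card ▸ h3)
    · exact hLπ p hp h3
  · have hyb : PiElt π (φ y) := fun p hp hd => hy p hp (hd.trans (orderOf_map_dvd φ y))
    have hyD : φ y ∈ D := ⟨hcentπ _ hyb, hπR _ hyb⟩
    refine ⟨⟨φ y, hyD⟩, ?_, rfl⟩
    refine (QuotientGroup.eq_one_iff _).mp (orderOf_eq_one_iff.mp ?_)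
    by_contra hne
    obtain ⟨p, hp, hpd⟩ := Nat.exists_prime_and_dvd hne
    have h1 := orderOf_map_dvd (QuotientGroup.mk' U) (⟨φ y, hyD⟩ : D)
    rw [Subgroup.orderOf_mk] at h1
    refine hKbπ p hp (((hpd.trans (orderOf_dvd_natCard _)).trans
      (dvd_of_eq ((Subgroup.index_eq_card U).symm.trans hUindex))).trans hZdvd) (hyb p hp (hpd.trans h1))

end Cfsg.Agent.GStructB.PiHomogeneous
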