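import Mathlib
import Cfsg.Agent.Lib.CN.Main
import Cfsg.Agent.Lib.Characters.Burnside
import Cfsg.Agent.Lib.Involutions.BaerSuzuki

/-!
If all elements outside a non-solvable normal subgroup have prime power order, the quotient is
solvable.
-/

set_option autoImplicit false

namespace Cfsg.Agent.GStructB.PrimePowerOutside

open Subgroup

variable {G : Type*} [Group G] [Finite G] {N : Subgroup G} [N.Normal]

/-- The order of an element of prime power order is a power of any prime dividing it. -/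
theorem isPrimePow_eq_pow {m r : ℕ} (hm : IsPrimePow m) (hr : r.Prime) (h : r ∣ m) :
    ∃ k, m = r ^ k := by
  obtain ⟨p, k, hp, hk, rfl⟩ := (isPrimePow_nat_iff _).1 hm
  exact ⟨k, by rw [(Nat.prime_dvd_prime_iff_eq hr hp).1 (hr.dvd_of_dvd_pow h)]⟩

/-- Two commuting non-identity elements of coprime orders have a product of non prime power order. -/
theorem not_isPrimePow_mul {x y : G} (hc : Commute x y) (hx : x ≠ 1) (hy : y ≠ 1)
    (hco : (orderOf x).Coprime (orderOf y)) : ¬ IsPrimePow (orderOf (x * y)) := by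
  intro h
  rw [hc.orderOf_mul_eq_mul_orderOf_of_coprime hco] at h
  obtain ⟨p, hp, hpx⟩ := Nat.exists_prime_and_dvd (mt orderOf_eq_one_iff.1 hx)
  obtain ⟨q, hq, hqy⟩ := Nat.exists_prime_and_dvd (mt orderOf_eq_one_iff.1 hy)
  obtain ⟨k, hk⟩ := isPrimePow_eq_pow h hp (hpx.mul_right _)
  have hqp : q = p :=
    (Nat.prime_dvd_prime_iff_eq hq hp).1 (hq.dvd_of_dvd_pow (hk ▸ hqy.mul_left _))
  exact hp.not_dvd_one (hco ▸ Nat.dvd_gcd hpx (hqp ▸ hqy))

/-- If every element has prime power order, then centralisers of non-identity elements are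
nilpotent. -/
theorem isCNGroup_of_primePow {W : Type*} [Group W] [Finite W]
    (h : ∀ w : W, w ≠ 1 → IsPrimePow (orderOf w)) : Cfsg.IsCNGroup W := by
  intro w hw
  obtain ⟨p, k, hp, hk, hpk⟩ := (isPrimePow_nat_iff _).1 (h w hw)
  have := Fact.mk hp
  have hP : IsPGroup p (centralizer ({w} : Set W)) := by
    rintro ⟨c, hc⟩
    rcases eq_or_ne c 1 with rfl | hc1
    · exact ⟨0, by ext; simp⟩
    obtain ⟨q, j, hq, hj, hqj⟩ := (isPrimePow_nat_iff _).1 (h c hc1)
    rcases eq_or_ne q p with rfl | hqp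
    · refine ⟨j, Subtype.ext ?_⟩
      simpa [hqj] using pow_orderOf_eq_one c
    · have hco : (orderOf w).Coprime (orderOf c) := by
        rw [← hpk, ← hqj]
        exact Nat.Coprime.pow _ _ ((Nat.coprime_primes hp hq).2 (Ne.symm hqp))
      have hcm : Commute w c := mem_centralizer_iff.1 hc w rfl
      refine absurd (h (w * c) ?_) (not_isPrimePow_mul hcm hw hc1 hco)
      intro he
      have h1 := hcm.orderOf_mul_eq_mul_orderOf_of_coprime hco
      rw [he, orderOf_one] at h1
      exact hw (orderOf_eq_one_iff.1 (Nat.eq_one_of_mul_eq_one_right h1.symm))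
  exact hP.isNilpotent

/-- A non-solvable group has a prime divisor of its order different from two given primes. -/
theorem exists_third_prime {H : Type*} [Group H] [Finite H] (hH : ¬ Group.IsSolvable H)
    {p q : ℕ} (hp : p.Prime) (hq : q.Prime) (hpq : p ≠ q) :
    ∃ r : ℕ, r.Prime ∧ r ∣ Nat.card H ∧ r ≠ p ∧ r ≠ q := by
  by_contra hno
  push Not at hno
  have hd : ∀ d : ℕ, d.Prime → d ∣ Nat.card H → d = p ∨ d = q := fun d hd hdv => by
    by_cases h : d = p
    · exact Or.inl h
    · exact Or.inr (hno d hd hdv h)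
  apply hH
  refine Characters.burnside_pa_qb (a := (Nat.card H).factorization p)
    (b := (Nat.card H).factorization q) hp hq ?_
  refine Nat.eq_of_factorization_eq Nat.card_pos.ne'
    (mul_ne_zero (pow_ne_zero _ hp.ne_zero) (pow_ne_zero _ hq.ne_zero)) fun d => ?_
  rw [Nat.factorization_mul (pow_ne_zero _ hp.ne_zero) (pow_ne_zero _ hq.ne_zero),
    hp.factorization_pow, hq.factorization_pow, Finsupp.add_apply]
  by_cases hdp : d = p
  · subst hdp; simp [Finsupp.single_apply, Ne.symm hpq]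
  by_cases hdq : d = q
  · subst hdq; simp [Finsupp.single_apply, hpq]
  simp only [Finsupp.single_apply, if_neg (Ne.symm hdp), if_neg (Ne.symm hdq), add_zero]
  by_contra hne
  have hd' := Nat.prime_of_mem_primeFactors
    (Nat.support_factorization (Nat.card H) ▸ Finsupp.mem_support_iff.2 hne)
  rcases hd d hd' (Nat.dvd_of_factorization_pos hne) with h | h
  · exact hdp h
  · exact hdq h

/-- The quotient contains no involution inverting a non-identity element of odd order. -/
theorem no_inverted (hns : ¬ Group.IsSolvable ↥N) (h : ∀ x : G, x ∉ N → IsPrimePow (orderOf x))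
    (i y : G ⧸ N) (hi : orderOf i = 2) (hy : y ≠ 1) (hodd : Odd (orderOf y))
    (hiy : i * y * i⁻¹ = y⁻¹) : False := by
  classical
  have h2 := Fact.mk Nat.prime_two
  have hout : ∀ g : G, (g : G ⧸ N) ≠ 1 → g ∉ N := fun g hg hgN =>
    hg ((QuotientGroup.eq_one_iff g).2 hgN)
  have hW : ∀ w : G ⧸ N, w ≠ 1 → IsPrimePow (orderOf w) := by
    intro w hw
    obtain ⟨g, rfl⟩ := QuotientGroup.mk_surjective w
    exact (h g (hout g hw)).dvd (orderOf_map_dvd (QuotientGroup.mk' N) g)
      (mt orderOf_eq_one_iff.1 hw)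
  obtain ⟨s, e, hs, he, hse⟩ := (isPrimePow_nat_iff _).1 (hW y hy)
  have := Fact.mk hs
  have hs2 : s ≠ 2 := by
    rintro rfl
    exact Nat.not_even_iff_odd.2 hodd (hse ▸ (Nat.even_pow.2 ⟨even_two, he.ne'⟩))
  obtain ⟨q, hq, hqN, hq2, hqs⟩ := exists_third_prime hns Nat.prime_two hs hs2.symm
  have := Fact.mk hq
  -- a Sylow `q`-subgroup of `N` and its normaliser
  obtain ⟨Q₀⟩ := (inferInstance : Nonempty (Sylow q N))
  set Q : Subgroup G := (Q₀ : Subgroup N).map N.subtype with hQ
  have hQp : IsPGroup q Q := Q₀.isPGroup'.map _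
  have hQN : Q ≤ N := map_subtype_le _
  obtain ⟨x, hx, hx1⟩ : ∃ x ∈ Q, x ≠ 1 := by
    refine (bot_or_exists_ne_one Q).resolve_left fun hb => ?_
    exact Q₀.ne_bot_of_dvd_card hqN (map_injective N.subtype_injective (by rw [← hQ, hb, Subgroup.map_bot]))
  -- no element outside `N` centralises a non-identity element of `Q`
  have hfree : ∀ g : G, (g : G ⧸ N) ≠ 1 → ∀ r : ℕ, r.Prime → r ≠ q → r ∣ orderOf (g : G ⧸ N) →
      ∀ z ∈ Q, z ≠ 1 → ¬ Commute g z := by
    intro g hg r hr hrq hrg z hz hz1 hc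
    obtain ⟨k, hk⟩ := isPrimePow_eq_pow (h g (hout g hg)) hr
      (hrg.trans (orderOf_map_dvd (QuotientGroup.mk' N) g))
    obtain ⟨j, hj⟩ := IsPGroup.iff_orderOf.1 hQp ⟨z, hz⟩
    rw [orderOf_mk] at hj
    have hco : (orderOf g).Coprime (orderOf z) := by
      rw [hk, hj]; exact Nat.Coprime.pow _ _ ((Nat.coprime_primes hr hq).2 hrq)
    refine not_isPrimePow_mul hc (fun e => hg (by rw [e]; rfl)) hz1 hco (h _ ?_)
    refine hout _ ?_
    rwa [QuotientGroup.mk_mul, (QuotientGroup.eq_one_iff z).2 (hQN hz), mul_one]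
  -- the elements of the normaliser of `Q` acting on `⟨y⟩`
  let D : Subgroup G := normalizer (Q : Set G) ⊓
    (normalizer ((zpowers y : Subgroup (G ⧸ N)) : Set (G ⧸ N))).comap (QuotientGroup.mk' N)
  let φ : D →* G ⧸ N := (QuotientGroup.mk' N).comp D.subtype
  have hlift : ∀ w ∈ normalizer ((zpowers y : Subgroup (G ⧸ N)) : Set (G ⧸ N)),
      ∃ d : D, φ d = w := by
    intro w hw
    obtain ⟨g, rfl⟩ := QuotientGroup.mk_surjective w
    have hg : g ∈ normalizer (Q : Set G) ⊔ N := by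
      rw [Sylow.normalizer_sup_eq_top Q₀]; exact mem_top g
    obtain ⟨a, ha, n, hn, rfl⟩ := mem_sup_of_normal_right.1 hg
    have he : ((a * n : G) : G ⧸ N) = (a : G ⧸ N) := by
      rw [QuotientGroup.mk_mul, (QuotientGroup.eq_one_iff n).2 hn, mul_one]
    exact ⟨⟨a, ha, Subgroup.mem_comap.2 (by rw [QuotientGroup.mk'_apply, ← he]; exact hw)⟩, he.symm⟩
  have hinorm : i ∈ normalizer ((zpowers y : Subgroup (G ⧸ N)) : Set (G ⧸ N)) := by
    rw [Subgroup.mem_normalizer_iff_map_conj_eq, MonoidHom.map_zpowers]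
    show zpowers (i * y * i⁻¹) = zpowers y
    rw [hiy, zpowers_inv]
  let Kt : Subgroup D := (zpowers y).comap φ
  have : Kt.Normal := ⟨fun n hn d => by
    show φ (d * n * d⁻¹) ∈ zpowers y
    rw [map_mul, map_mul, map_inv]
    exact (mem_normalizer_iff.1 d.2.2 _).1 hn⟩
  obtain ⟨S₀⟩ := (inferInstance : Nonempty (Sylow s Kt))
  set S : Subgroup D := (S₀ : Subgroup Kt).map Kt.subtype with hS
  have hSK : S ≤ Kt := map_subtype_le _
  have hSp : IsPGroup s S := S₀.isPGroup'.map _
  -- an element of `S` over `y`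
  obtain ⟨u₀, hu₀, hu₀y⟩ : ∃ u ∈ S, φ u = y := by
    obtain ⟨v, hv⟩ := hlift y (le_normalizer (mem_zpowers y))
    have hvK : v ∈ Kt := Subgroup.mem_comap.2 (hv.symm ▸ mem_zpowers y)
    obtain ⟨k, hk⟩ := isPrimePow_eq_pow (h v (hout _ (hv.trans_ne hy))) hs
      ((dvd_pow_self s he.ne').trans (hse ▸ hv ▸ (by
        rw [Subgroup.orderOf_coe]; exact orderOf_map_dvd φ v)))
    have hzp : IsPGroup s (zpowers (⟨v, hvK⟩ : Kt)) :=
      IsPGroup.of_card (n := k) (by
        rw [Nat.card_zpowers, orderOf_mk, ← hk, Subgroup.orderOf_coe])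
    obtain ⟨S₁, hS₁⟩ := hzp.exists_le_sylow
    obtain ⟨c, hc⟩ := MulAction.exists_smul_eq Kt S₁ S₀
    refine ⟨(c : D) * v * (c : D)⁻¹, ?_, ?_⟩
    · refine ⟨c * ⟨v, hvK⟩ * c⁻¹, ?_, rfl⟩
      rw [← hc]
      exact (smul_mem_pointwise_smul _ (MulAut.conj c) _ (hS₁ (mem_zpowers _)))
    · obtain ⟨m, hm⟩ := mem_zpowers_iff.1 (show φ c ∈ zpowers y from c.2)
      rw [map_mul, map_mul, map_inv, hv, ← hm]
      rw [((Commute.refl y).zpow_left m).eq, mul_inv_cancel_right]
  -- an element normalising `S` and inverting `y`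
  obtain ⟨d, hd⟩ := hlift i hinorm
  have hdm : d ∈ normalizer (S : Set D) ⊔ Kt := by
    rw [hS, Sylow.normalizer_sup_eq_top S₀]; exact mem_top d
  obtain ⟨a, ha, c, hc, hac⟩ := mem_sup_of_normal_right.1 hdm
  obtain ⟨m, hm⟩ := mem_zpowers_iff.1 (show φ c ∈ zpowers y from hc)
  have hφa : φ a = i * y ^ (-m) := by
    rw [← hd, ← hac, map_mul, zpow_neg, hm, mul_inv_cancel_right]
  have hia : ∀ z : ℤ, i * y ^ z * i⁻¹ = y ^ (-z) := fun z => by
    rw [← conj_zpow, hiy, inv_zpow, zpow_neg]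
  have hinv : φ a * y * (φ a)⁻¹ = y⁻¹ := by
    rw [hφa]
    calc i * y ^ (-m) * y * (i * y ^ (-m))⁻¹ = i * (y ^ (-m) * y) * (y ^ (-m))⁻¹ * i⁻¹ := by
          simp only [mul_inv_rev, mul_assoc]
      _ = i * y * i⁻¹ := by
          rw [((Commute.refl y).zpow_left (-m)).eq, ← mul_assoc i y, mul_inv_cancel_right]
      _ = y⁻¹ := hiy
  have hi2 : i * i = 1 := by rw [← pow_two, ← hi, pow_orderOf_eq_one]
  have hii : i⁻¹ = i := inv_eq_of_mul_eq_one_right hi2
  have hφa2 : φ a * φ a = 1 := by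
    rw [hφa]
    have h3 := hia (-m)
    rw [hii, neg_neg] at h3
    rw [← mul_assoc, h3, ← zpow_add, add_neg_cancel, zpow_zero]
  have hφa1 : φ a ≠ 1 := by
    intro e
    rw [e, one_mul, inv_one, mul_one] at hinv
    have : orderOf y ∣ 2 := orderOf_dvd_of_pow_eq_one (by
      rw [pow_two]; nth_rw 1 [hinv]; exact inv_mul_cancel y)
    rcases (Nat.dvd_prime Nat.prime_two).1 this with h1 | h1
    · exact hy (orderOf_eq_one_iff.1 h1)
    · rw [h1] at hodd; exact absurd hodd (by decide)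
  have hoa : orderOf (φ a) = 2 := orderOf_eq_prime (by rw [pow_two, hφa2]) hφa1
  obtain ⟨ea, hea⟩ := isPrimePow_eq_pow (h a (hout _ hφa1)) Nat.prime_two
    (hoa ▸ ((orderOf_map_dvd φ a).trans (Subgroup.orderOf_coe a).symm.dvd))
  -- the square of `a` fixes an element of `S` over `y`
  have hφaa : φ (a * a) = 1 := by rw [map_mul, hφa2]
  have haa : a * a ∈ normalizer (S : Set D) := mul_mem ha ha
  let σ : Equiv.Perm {u : D // u ∈ S ∧ φ u = y} :=
    (MulAut.conj (a * a)).toEquiv.subtypeEquiv fun u => by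
      show u ∈ S ∧ φ u = y ↔ (a * a) * u * (a * a)⁻¹ ∈ S ∧ φ ((a * a) * u * (a * a)⁻¹) = y
      rw [map_mul, map_mul, map_inv, hφaa, one_mul, inv_one, mul_one,
        ← mem_normalizer_iff.1 haa u]
  have hσ : ∀ k : ℕ, ∀ u, ((σ ^ k) u : D) = (a * a) ^ k * u * ((a * a) ^ k)⁻¹ := by
    intro k
    induction k with
    | zero => intro u; simp
    | succ k ih =>
      intro u
      rw [pow_succ', Equiv.Perm.mul_apply]
      show (a * a) * ((σ ^ k) u : D) * (a * a)⁻¹ = _
      rw [ih, pow_succ']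
      simp only [mul_assoc, mul_inv_rev]
  have hσ2 : σ ^ 2 ^ ea = 1 := by
    refine Equiv.ext fun u => Subtype.ext ?_
    rw [hσ]
    have : (a * a) ^ 2 ^ ea = 1 := by
      rw [← pow_two, ← pow_mul, mul_comm, pow_mul,
        show a ^ 2 ^ ea = 1 from Subtype.ext (by push_cast; rw [← hea, pow_orderOf_eq_one]), one_pow]
    simp [this]
  letI := Fintype.ofFinite {u : D // u ∈ S ∧ φ u = y}
  have hcardX : ¬ 2 ∣ Fintype.card {u : D // u ∈ S ∧ φ u = y} := by
    have e : {u : D // u ∈ S ∧ φ u = y} ≃ ↥(S ⊓ φ.ker) :=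
      { toFun := fun u => ⟨u₀⁻¹ * u, Subgroup.mem_inf.2 ⟨S.mul_mem (S.inv_mem hu₀) u.2.1, by
          show φ (u₀⁻¹ * u) = 1
          rw [map_mul, map_inv, hu₀y, u.2.2, inv_mul_cancel]⟩⟩
        invFun := fun k => ⟨u₀ * k, mul_mem hu₀ k.2.1, by
          rw [map_mul, hu₀y, show φ k = 1 from k.2.2, mul_one]⟩
        left_inv := fun u => by simp
        right_inv := fun k => by simp }
    rw [← Nat.card_eq_fintype_card, Nat.card_congr e]
    obtain ⟨j, hj⟩ := (hSp.to_le (inf_le_left : S ⊓ φ.ker ≤ S)).exists_card_eq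
    rw [hj]
    exact fun hd => hs2 ((Nat.prime_dvd_prime_iff_eq Nat.prime_two hs).1
      (Nat.prime_two.dvd_of_dvd_pow hd)).symm
  obtain ⟨⟨u, huS, huy⟩, hfix⟩ := Equiv.Perm.exists_fixed_point_of_prime hcardX hσ2
  have hcom : Commute ((a : G) * a) (u : G) := by
    have e : (a * a) * u * (a * a)⁻¹ = u := congrArg Subtype.val hfix
    exact congrArg Subtype.val (mul_inv_eq_iff_eq_mul.1 e)
  -- hence `a` is an involution
  have hune : (u : G) ≠ 1 := fun e => hy (by
    rw [← huy, show u = 1 from Subtype.ext e, map_one])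
  have ha2 : (a : G) * a = 1 := by
    by_contra hne
    obtain ⟨j, hj⟩ := IsPGroup.iff_orderOf.1 hSp ⟨u, huS⟩
    rw [orderOf_mk] at hj
    have hco : (orderOf ((a : G) * a)).Coprime (orderOf (u : G)) := by
      refine Nat.Coprime.coprime_dvd_left (show orderOf ((a : G) * a) ∣ 2 ^ ea by
        rw [← pow_two, ← hea]; exact orderOf_pow_dvd 2) ?_
      rw [Subgroup.orderOf_coe] at *; rw [hj]
      exact Nat.Coprime.pow _ _ ((Nat.coprime_primes Nat.prime_two hs).2 hs2.symm)
    refine not_isPrimePow_mul hcom hne hune hco (h _ (hout _ ?_))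
    show φ (a * a * u) ≠ 1
    rw [map_mul, hφaa, one_mul, huy]; exact hy
  -- `a` inverts `Q`
  let θ : MulAut Q := Q.normalizerMonoidHom ⟨(a : G), a.2.1⟩
  have hθ : ∀ z : Q, ((θ z : Q) : G) = (a : G) * z * (a : G)⁻¹ := fun z => rfl
  have hfp : MonoidHom.FixedPointFree (θ : Q → Q) := by
    intro z hz
    by_contra hz1
    refine hfree a hφa1 2 Nat.prime_two hq2.symm (dvd_of_eq hoa.symm) z z.2
      (fun e => hz1 (Subtype.ext e)) ?_
    have := congrArg Subtype.val hz
    rw [hθ] at this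
    exact mul_inv_eq_iff_eq_mul.1 this
  have hainv : (a : G)⁻¹ = a := inv_eq_of_mul_eq_one_right ha2
  have hinvol : Function.Involutive (θ : Q → Q) := fun z => Subtype.ext (by
    rw [hθ, hθ, hainv]
    rw [show (a : G) * ((a : G) * z * a) * a = ((a : G) * a) * z * ((a : G) * a) by simp only [mul_assoc],
      ha2, one_mul, mul_one])
  have hneg : ∀ z ∈ Q, (a : G) * z * (a : G)⁻¹ = z⁻¹ := fun z hz => by
    have := congrFun (hfp.coe_eq_inv_of_involutive hinvol) ⟨z, hz⟩
    exact (hθ ⟨z, hz⟩).symm.trans (congrArg Subtype.val this)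
  -- the commutator of `a` and `u` centralises `Q`
  set w : G := (a : G) * u * (a : G)⁻¹ * (u : G)⁻¹ with hw
  have hwy : (w : G ⧸ N) = y⁻¹ * y⁻¹ := by
    show φ a * φ u * (φ a)⁻¹ * (φ u)⁻¹ = _
    rw [huy, hinv]
  have how : orderOf (w : G ⧸ N) = orderOf y := by
    rw [hwy, ← mul_inv_rev, orderOf_inv, ← pow_two]
    exact Nat.Coprime.orderOf_pow (Nat.Coprime.symm (Nat.coprime_two_left.2 hodd))
  refine hfree w (fun e => hy (by rw [← orderOf_eq_one_iff, ← how, e, orderOf_one])) s hs hqs.symm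
    (how ▸ hse ▸ dvd_pow_self s he.ne') x hx hx1 ?_
  have hux : (u : G)⁻¹ * x * u ∈ Q := (mem_normalizer_iff''.1 u.2.1 x).1 hx
  have key : w * x * w⁻¹ = x := by
    calc w * x * w⁻¹ = (a : G) * (u * ((a : G)⁻¹ * ((u : G)⁻¹ * x * u) * (a : G)⁻¹⁻¹) * (u : G)⁻¹) *
          (a : G)⁻¹ := by simp only [hw, mul_inv_rev, inv_inv, mul_assoc]
      _ = (a : G) * (u * ((u : G)⁻¹ * x * u)⁻¹ * (u : G)⁻¹) * (a : G)⁻¹ := by
          rw [hainv, hainv]
          have := hneg _ hux
          rw [hainv] at this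
          rw [this]
      _ = (a : G) * x⁻¹ * (a : G)⁻¹ := by
          simp only [mul_inv_rev, inv_inv, mul_assoc, mul_inv_cancel_left, mul_inv_cancel, mul_one]
      _ = x := by rw [hneg _ (inv_mem hx), inv_inv]
  exact mul_inv_eq_iff_eq_mul.1 key

theorem isSolvable_quotient_aux : ∀ (n : ℕ) (N : Subgroup G) [N.Normal], N.index = n →
    ¬ Group.IsSolvable ↥N → (∀ x : G, x ∉ N → IsPrimePow (orderOf x)) →
      Group.IsSolvable (G ⧸ N) := by
  intro n
  induction n using Nat.strong_induction_on with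
  | _ n ih =>
    intro N _ hn hns h
    have h2 := Fact.mk Nat.prime_two
    have hW : ∀ w : G ⧸ N, w ≠ 1 → IsPrimePow (orderOf w) := by
      intro w hw
      obtain ⟨g, rfl⟩ := QuotientGroup.mk_surjective w
      exact (h g fun hg => hw ((QuotientGroup.eq_one_iff g).2 hg)).dvd
        (orderOf_map_dvd (QuotientGroup.mk' N) g) (mt orderOf_eq_one_iff.1 hw)
    rcases Nat.even_or_odd (Nat.card (G ⧸ N)) with hev | hodd
    · obtain ⟨t, ht⟩ := exists_prime_orderOf_dvd_card' (G := G ⧸ N) 2 (even_iff_two_dvd.1 hev)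
      obtain ⟨M, hM, hM2, htM⟩ : ∃ M : Subgroup (G ⧸ N), M.Normal ∧ IsPGroup 2 M ∧ t ∈ M := by
        by_contra hno
        push Not at hno
        obtain ⟨y, hy, hyo, hty⟩ := Involutions.BaerSuzuki.exists_inverted_odd t ht hno
        exact no_inverted hns h t y ht hy hyo hty
      have : M.Normal := hM
      let N' : Subgroup G := M.comap (QuotientGroup.mk' N)
      have : N'.Normal := Normal.comap hM _
      have hNN' : N ≤ N' := fun g hg => by
        show (g : G ⧸ N) ∈ M
        rw [(QuotientGroup.eq_one_iff g).2 hg]; exact one_mem M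
      have hlt : N < N' := lt_of_le_of_ne hNN' fun e => by
        obtain ⟨g, rfl⟩ := QuotientGroup.mk_surjective t
        have : g ∈ N := e ▸ (show g ∈ N' from htM)
        rw [(QuotientGroup.eq_one_iff g).2 this, orderOf_one] at ht
        exact absurd ht (by norm_num)
      have hns' : ¬ Group.IsSolvable ↥N' := fun hs => hns <|
        Group.isSolvable_of_isSolvable_injective (f := Subgroup.inclusion hNN') (Subgroup.inclusion_injective hNN')
      have hq : Group.IsSolvable (G ⧸ N') :=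
        ih N'.index (hn ▸ index_strictAnti hlt) N' rfl hns' fun x hx => h x fun hxN => hx (hNN' hxN)
      have hMs : Group.IsSolvable M := by
        have := hM2.isNilpotent
        infer_instance
      have hMq : Group.IsSolvable ((G ⧸ N) ⧸ M) := by
        have : ((G ⧸ N) ⧸ M) ≃* G ⧸ N' := by
          have e : M = N'.map (QuotientGroup.mk' N) :=
            (map_comap_eq_self_of_surjective (QuotientGroup.mk'_surjective N) M).symm
          exact (QuotientGroup.quotientMulEquivOfEq e).trans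
            (QuotientGroup.quotientQuotientEquivQuotient N N' hNN')
        exact Group.isSolvable_of_isSolvable_injective (f := this.toMonoidHom) this.injective
      exact Group.isSolvable_of_ker_le_range M.subtype (QuotientGroup.mk' M)
        (by rw [QuotientGroup.ker_mk', range_subtype])
    · exact CN.isSolvable_of_odd_cn _ (G ⧸ N) rfl hodd (isCNGroup_of_primePow hW)

end Cfsg.Agent.GStructB.PrimePowerOutside
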