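import Cfsg.Prelude.Def_KGroupFacts
import Mathlib

/-!
A finite central extension by a group of roots of unity, with trivial stem extensions of the
quotient, has a character extending the embedding of the kernel.
-/

set_option autoImplicit false

namespace Cfsg.Agent.GStructB.ProjectiveLift

open scoped commutatorElement

universe u

variable {Q : Type u} [Group Q] [Finite Q]

/-- If every stem extension of `Q` is trivial, then for a finite central extension `E` of `Q` with
kernel embedded in `ℂˣ` the embedding extends to a linear character of `E`. -/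
theorem exists_character (hQ : ∀ (Γ : Type u) [Group Γ] [Finite Γ] (σ : Γ →* Q),
      Cfsg.IsStemExtension σ → σ.ker = ⊥)
    {E : Type u} [Group E] [Finite E] (π : E →* Q) (hπ : Function.Surjective π)
    (hcen : π.ker ≤ Subgroup.center E) (ι : π.ker →* ℂˣ) (hι : Function.Injective ι) :
    ∃ lam : E →* ℂˣ, ∀ a : π.ker, lam a = ι a := by
  classical
  -- the part of the kernel inside the derived subgroup
  set D : Subgroup π.ker := (commutator E).comap π.ker.subtype with hD
  set d := Nat.card D with hd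
  have hd0 : 0 < d := Nat.card_pos
  -- the character `a ↦ (ι a) ^ d` extends to `E`
  let B := Abelianization E
  let H : Subgroup B := π.ker.map Abelianization.of
  let f₀ : π.ker →* ℂˣ :=
    { toFun := fun a => ι a ^ d, map_one' := by simp, map_mul' := fun a b => by simp [mul_pow] }
  let q : π.ker →* H := (Abelianization.of.comp π.ker.subtype).codRestrict H fun a =>
    Subgroup.mem_map_of_mem _ a.2
  have hq : Function.Surjective q := by
    rintro ⟨b, a, ha, rfl⟩
    exact ⟨⟨a, ha⟩, rfl⟩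
  have hker : q.ker ≤ f₀.ker := by
    intro a ha
    rw [MonoidHom.mem_ker, Subtype.ext_iff] at ha
    have haD : a ∈ D := by
      rw [hD, Subgroup.mem_comap, ← Abelianization.ker_of E, MonoidHom.mem_ker]
      exact ha
    have : (⟨a, haD⟩ : D) ^ d = 1 := pow_card_eq_one'
    rw [MonoidHom.mem_ker]
    change ι a ^ d = 1
    rw [← map_pow]
    have h2 : a ^ d = 1 := congrArg Subtype.val this
    rw [h2, map_one]
  let f₁ : H →* ℂˣ := q.liftOfSurjective hq ⟨f₀, hker⟩
  obtain ⟨f₂, hf₂⟩ := MonoidHom.domRestrict_surjective (M := ℂ) H f₁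
  let lam : E →* ℂˣ := f₂.comp Abelianization.of
  have hlam : ∀ a : π.ker, lam a = ι a ^ d := by
    intro a
    have h1 : f₁ (q a) = f₀ a := q.liftOfRightInverse_comp_apply (Function.surjInv hq) (Function.rightInverse_surjInv hq) ⟨f₀, hker⟩ a
    exact (DFunLike.congr_fun hf₂ (q a)).trans h1
  -- the rescaled extension
  let M : Subgroup (E × ℂˣ) :=
    { carrier := {x | x.2 ^ d * lam x.1 = 1}
      one_mem' := by simp
      mul_mem' := by
        intro x y hx hy
        simp only [Set.mem_setOf_eq, Prod.fst_mul, Prod.snd_mul, map_mul, mul_pow] at *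
        rw [mul_mul_mul_comm, hx, hy, mul_one]
      inv_mem' := by
        intro x hx
        simp only [Set.mem_setOf_eq, Prod.fst_inv, Prod.snd_inv, map_inv, inv_pow] at *
        rw [← mul_inv, hx, inv_one] }
  have : NeZero d := ⟨hd0.ne'⟩
  have hMfin : Finite M := by
    have hfib : ∀ e : E, {μ : ℂˣ | μ ^ d * lam e = 1}.Finite := by
      intro e
      rcases Set.eq_empty_or_nonempty {μ : ℂˣ | μ ^ d * lam e = 1} with h | ⟨μ₀, h₀⟩
      · rw [h]; exact Set.finite_empty
      · apply Set.Finite.subset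
          ((show ((rootsOfUnity d ℂ : Subgroup ℂˣ) : Set ℂˣ).Finite from
            Set.finite_coe_iff.mp (inferInstanceAs (Finite (rootsOfUnity d ℂ)))).image (fun w => μ₀ * w))
        intro μ hμ
        refine ⟨μ₀⁻¹ * μ, ?_, by simp⟩
        rw [SetLike.mem_coe, mem_rootsOfUnity, mul_pow, inv_pow, inv_mul_eq_one]
        exact mul_right_cancel (h₀.trans hμ.symm)
    have : ∀ e : E, Finite {μ : ℂˣ | μ ^ d * lam e = 1} := fun e => (hfib e).to_subtype
    refine Finite.of_injective
      (fun x : M => (⟨x.1.1, ⟨x.1.2, x.2⟩⟩ : Σ e : E, {μ : ℂˣ | μ ^ d * lam e = 1})) ?_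
    rintro ⟨⟨e₁, μ₁⟩, h₁⟩ ⟨⟨e₂, μ₂⟩, h₂⟩ h
    simp only [Sigma.mk.injEq] at h
    obtain ⟨rfl, h⟩ := h
    simp only [heq_eq_eq, Subtype.mk.injEq] at h
    subst h
    rfl
  let κ : π.ker →* M :=
    { toFun := fun a => ⟨((a : E), (ι a)⁻¹), by
        change (ι a)⁻¹ ^ d * lam a = 1
        rw [hlam, inv_pow, inv_mul_cancel]⟩
      map_one' := by simp
      map_mul' := fun a b => by
        apply Subtype.ext
        simp [mul_comm] }
  let K : Subgroup M := κ.range
  have hMcen : ∀ x : M, (x.1.1) ∈ π.ker → x ∈ Subgroup.center M := by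
    intro x hx
    rw [Subgroup.mem_center_iff]
    intro y
    exact Subtype.ext (Prod.ext (Subgroup.mem_center_iff.mp (hcen hx) _) (mul_comm _ _))
  have hKn : K.Normal := ⟨fun a ha g => by
    have : a ∈ Subgroup.center M := by
      obtain ⟨b, rfl⟩ := ha
      exact hMcen _ b.2
    rwa [Subgroup.mem_center_iff.mp this g, mul_inv_cancel_right]⟩
  let π' : M →* Q := π.comp ((MonoidHom.fst E ℂˣ).comp M.subtype)
  let σ : M ⧸ K →* Q := QuotientGroup.lift K π' (by
    rintro x ⟨a, rfl⟩
    exact a.2)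
  have hlift : ∀ e : E, ∃ μ, (e, μ) ∈ M := by
    intro e
    obtain ⟨μ, hμ⟩ := IsAlgClosed.exists_pow_nat_eq ((((lam e)⁻¹ : ℂˣ) : ℂ)) hd0
    have hμ0 : μ ≠ 0 := by
      intro h
      rw [h, zero_pow hd0.ne'] at hμ
      exact Units.ne_zero _ hμ.symm
    refine ⟨Units.mk0 μ hμ0, ?_⟩
    change Units.mk0 μ hμ0 ^ d * lam e = 1
    rw [← eq_inv_iff_mul_eq_one]
    exact Units.ext (by simpa using hμ)
  have hcomM : ∀ e ∈ commutator E, ∃ h : (e, (1 : ℂˣ)) ∈ M, ⟨(e, 1), h⟩ ∈ commutator M := by
    intro e he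
    have hle : commutator E ≤ (commutator M).map ((MonoidHom.fst E ℂˣ).comp M.subtype) := by
      rw [_root_.commutator_def E, Subgroup.commutator_le]
      intro a _ b _
      obtain ⟨μ, hμ⟩ := hlift a
      obtain ⟨ν, hν⟩ := hlift b
      refine ⟨⁅(⟨(a, μ), hμ⟩ : M), (⟨(b, ν), hν⟩ : M)⁆, ?_, ?_⟩
      · rw [_root_.commutator_def]
        exact Subgroup.commutator_mem_commutator (Subgroup.mem_top _) (Subgroup.mem_top _)
      · rw [map_commutatorElement]
        rfl
    obtain ⟨x, hx, rfl⟩ := hle he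
    have h1 : x.1.2 = 1 :=
      Abelianization.commutator_subset_ker ((MonoidHom.snd E ℂˣ).comp M.subtype) hx
    have hx' : x.1 = (x.1.1, (1 : ℂˣ)) := Prod.ext rfl h1
    have hxM : (x.1.1, (1 : ℂˣ)) ∈ M := hx' ▸ x.2
    have : x = ⟨(x.1.1, 1), hxM⟩ := Subtype.ext hx'
    exact ⟨hxM, this ▸ hx⟩
  -- the dth roots of unity come from `D`
  have hroots : ∀ μ : ℂˣ, μ ^ d = 1 → ∃ c : π.ker, c ∈ D ∧ ι c = μ := by
    intro μ hμ
    let g : D →* rootsOfUnity d ℂ := (ι.comp D.subtype).codRestrict _ (fun c => by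
      rw [mem_rootsOfUnity]
      have : c ^ d = 1 := pow_card_eq_one'
      rw [← map_pow, this, map_one])
    have hg : Function.Injective g := fun a b hab =>
      Subtype.ext (hι (congrArg Subtype.val hab))
    have hcard : Nat.card (rootsOfUnity d ℂ) = d := by
      exact Complex.card_rootsOfUnity d
    have hbij : Function.Bijective g :=
      (Nat.bijective_iff_injective_and_card g).mpr ⟨hg, by rw [hcard]⟩
    obtain ⟨c, hc⟩ := hbij.2 ⟨μ, (mem_rootsOfUnity _ _).mpr hμ⟩
    exact ⟨c, c.2, congrArg Subtype.val hc⟩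
  have hstem : Cfsg.IsStemExtension σ := by
    refine ⟨?_, ?_, ?_⟩
    · intro x
      obtain ⟨e, rfl⟩ := hπ x
      obtain ⟨μ, hμ⟩ := hlift e
      exact ⟨QuotientGroup.mk ⟨(e, μ), hμ⟩, rfl⟩
    · intro x hx
      obtain ⟨x, rfl⟩ := QuotientGroup.mk_surjective x
      rw [Subgroup.mem_center_iff]
      intro y
      obtain ⟨y, rfl⟩ := QuotientGroup.mk_surjective y
      rw [← QuotientGroup.mk_mul, ← QuotientGroup.mk_mul,
        Subgroup.mem_center_iff.mp (hMcen x hx) y]
    · intro x hx
      obtain ⟨x, rfl⟩ := QuotientGroup.mk_surjective x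
      let a : π.ker := ⟨x.1.1, hx⟩
      have hμ : (x.1.2 * ι a) ^ d = 1 := by
        rw [mul_pow, ← hlam]
        exact x.2
      obtain ⟨c, hcD, hc⟩ := hroots _ hμ
      obtain ⟨hcM, hcc⟩ := hcomM (c : E) (Subgroup.mem_comap.mp hcD)
      have heq : (QuotientGroup.mk x : M ⧸ K) = QuotientGroup.mk ⟨((c : E), 1), hcM⟩ := by
        rw [QuotientGroup.eq]
        refine ⟨a⁻¹ * c, Subtype.ext (Prod.ext rfl ?_)⟩
        simp [κ, hc]
      rw [heq]
      have := Subgroup.map_mono (f := QuotientGroup.mk' K) (le_refl (commutator M))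
        (Subgroup.mem_map_of_mem (QuotientGroup.mk' K) hcc)
      rw [_root_.commutator_def, Subgroup.map_commutator] at this
      rw [_root_.commutator_def]
      exact Subgroup.commutator_mono le_top le_top this
  have hbot := hQ (M ⧸ K) σ hstem
  have hd1 : d = 1 := by
    rw [hd, Subgroup.card_eq_one, Subgroup.eq_bot_iff_forall]
    intro c hc
    obtain ⟨hcM, -⟩ := hcomM (c : E) (Subgroup.mem_comap.mp hc)
    have hk : (QuotientGroup.mk (⟨((c : E), 1), hcM⟩ : M) : M ⧸ K) ∈ σ.ker := c.2
    rw [hbot, Subgroup.mem_bot, QuotientGroup.eq_one_iff] at hk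
    obtain ⟨b, hb⟩ := hk
    have hb' := congrArg Subtype.val hb
    simp only [κ, MonoidHom.coe_mk, OneHom.coe_mk, Prod.mk.injEq] at hb'
    obtain ⟨h1, h2⟩ := hb'
    have : b = c := Subtype.ext h1
    subst this
    rw [inv_eq_one] at h2
    exact hι (by rw [h2, map_one])
  exact ⟨lam, fun a => by rw [hlam, hd1, pow_one]⟩

end Cfsg.Agent.GStructB.ProjectiveLift
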