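import Cfsg.Agent.GStructB.PElements
import Mathlib

/-!
Elements of cyclic 2-groups' normalisers and real elements centralising a Sylow 2-subgroup.
-/

set_option autoImplicit false

namespace Cfsg.Agent.GStructB.Real

variable {G : Type*} [Group G] [Finite G]

/-- If `x` is conjugate to its inverse and its centraliser contains a Sylow 2-subgroup, then
`x ^ 2 = 1`. -/
theorem sq_eq_one (S : Sylow 2 G) {x : G}
    (hx : x ∈ Subgroup.centralizer ((S : Subgroup G) : Set G)) (hreal : IsConj x x⁻¹) :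
    x ^ 2 = 1 := by
  have : Fact (Nat.Prime 2) := ⟨Nat.prime_two⟩
  obtain ⟨g, hg⟩ := isConj_iff.mp hreal
  -- take `g` to be a 2-element
  obtain ⟨a, s, -, hs, hsp⟩ := GStructB.PElements.exists_split 2 g
  have hinv : g * x⁻¹ * g⁻¹ = x := by rw [← conj_inv, hg, inv_inv]
  have key : ∀ k : ℕ, g ^ (2 * k + 1) * x * (g ^ (2 * k + 1))⁻¹ = x⁻¹ := by
    intro k
    induction k with
    | zero => simpa using hg
    | succ k ih =>
      calc g ^ (2 * (k + 1) + 1) * x * (g ^ (2 * (k + 1) + 1))⁻¹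
          = g * (g * (g ^ (2 * k + 1) * x * (g ^ (2 * k + 1))⁻¹) * g⁻¹) * g⁻¹ := by group
        _ = x⁻¹ := by rw [ih, hinv, hg]
  have hodd : Odd s := Nat.odd_iff.mpr (by omega)
  obtain ⟨k, hk⟩ := hodd
  have hgs : g ^ s * x * (g ^ s)⁻¹ = x⁻¹ := by rw [hk]; exact key k
  -- it normalises the centraliser of `x`
  set C := Subgroup.centralizer ({x} : Set G)
  have hSC : (S : Subgroup G) ≤ C := fun y hy => by
    rw [Subgroup.mem_centralizer_singleton_iff]
    exact (Subgroup.mem_centralizer_iff.mp hx y hy)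
  have hnorm : g ^ s ∈ Subgroup.normalizer (C : Set G) := by
    rw [Subgroup.mem_normalizer_iff]
    intro y
    rw [Subgroup.mem_centralizer_singleton_iff, Subgroup.mem_centralizer_singleton_iff]
    set u := g ^ s
    have hgs' : u⁻¹ * x * u = x⁻¹ := by
      have h2 : u * x⁻¹ * u⁻¹ = x := by rw [← conj_inv, hgs, inv_inv]
      conv_lhs => rw [← h2]
      group
    constructor
    · intro h
      have h' : y * x⁻¹ = x⁻¹ * y := (Commute.inv_right (show Commute y x from h)).eq
      calc u * y * u⁻¹ * x = u * (y * (u⁻¹ * x * u)) * u⁻¹ := by group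
        _ = u * ((u⁻¹ * x * u) * y) * u⁻¹ := by rw [hgs', h']
        _ = x * (u * y * u⁻¹) := by group
    · intro h
      have h' : (u * y * u⁻¹) * x⁻¹ = x⁻¹ * (u * y * u⁻¹) :=
        (Commute.inv_right (show Commute (u * y * u⁻¹) x from h)).eq
      calc y * x = u⁻¹ * ((u * y * u⁻¹) * (u * x * u⁻¹)) * u := by group
        _ = u⁻¹ * ((u * x * u⁻¹) * (u * y * u⁻¹)) * u := by rw [hgs, h']
        _ = x * y := by group
  have hT : IsPGroup 2 (Subgroup.zpowers (g ^ s)) := GStructB.PElements.isPGroup_zpowers hsp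
  -- a Sylow subgroup inside the normaliser contains a Sylow subgroup of `C`, and so `g ^ s`
  set M := Subgroup.zpowers (g ^ s) ⊔ C
  obtain ⟨T, hT'⟩ := (hT.comap_subtype (K := M)).exists_le_sylow
  have hSM : (S : Subgroup G) ≤ M := hSC.trans le_sup_right
  obtain ⟨m, hm⟩ := MulAction.exists_smul_eq M (S.subtype hSM) T
  have hmem : (⟨g ^ s, Subgroup.mem_sup_left (Subgroup.mem_zpowers _)⟩ : M) ∈ (T : Subgroup M) :=
    hT' (Subgroup.mem_subgroupOf.mpr (Subgroup.mem_zpowers _))
  rw [← hm, Sylow.coe_subgroup_smul, GStructB.PElements.mem_conj_smul, Sylow.coe_subtype,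
    Subgroup.mem_subgroupOf] at hmem
  have hCn : (m : G) ∈ Subgroup.normalizer (C : Set G) :=
    (sup_le (Subgroup.zpowers_le.mpr hnorm) Subgroup.le_normalizer) m.2
  have hC : g ^ s ∈ C := by
    have h2 : (m : G)⁻¹ * g ^ s * m ∈ C := by simpa using hSC hmem
    have := (Subgroup.mem_normalizer_iff.mp hCn _).mp h2
    simpa [mul_assoc] using this
  rw [Subgroup.mem_centralizer_singleton_iff] at hC
  rw [hC, mul_inv_cancel_right] at hgs
  rw [pow_two]
  nth_rewrite 2 [hgs]
  exact mul_inv_cancel x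

end Cfsg.Agent.GStructB.Real
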