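import Mathlib
import Cfsg.Agent.GStructB.PElements
import Cfsg.Agent.Lib.Involutions.Basic

/-!
Groups `H` with a normal Sylow `p`-subgroup `S` and cyclic factor group `H / S`.
-/

set_option autoImplicit false
set_option linter.unusedSectionVars false

namespace Cfsg.Agent.GStructB.RestrictedPCyclic

open Subgroup

universe u

variable {G : Type u} [Group G] [Finite G] {p : ℕ} [Fact p.Prime]

/-- The shape of a candidate subgroup. -/
def Shape (p : ℕ) (H : Subgroup G) : Prop :=
  (∀ S : Sylow p ↥H, (S : Subgroup ↥H).Normal) ∧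
    ∀ (S : Sylow p ↥H) [(S : Subgroup ↥H).Normal], IsCyclic (↥H ⧸ (S : Subgroup ↥H))

theorem conj_pow_eq {G : Type u} [Group G] {y z : G} {k : ℕ} (hy : y * z * y⁻¹ = z ^ k) :
    ∀ j : ℕ, y ^ j * z * (y ^ j)⁻¹ = z ^ k ^ j := by
  intro j
  induction j with
  | zero => simp
  | succ j ih =>
    calc y ^ (j + 1) * z * (y ^ (j + 1))⁻¹ = y * (y ^ j * z * (y ^ j)⁻¹) * y⁻¹ := by
          rw [pow_succ']; group
      _ = (y * z * y⁻¹) ^ k ^ j := by rw [ih, conj_pow]
      _ = z ^ k ^ (j + 1) := by rw [hy, ← pow_mul, pow_succ']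

/-- A `p'`-element normalising a cyclic `p`-group and centralising its subgroup of order `p`
centralises it. -/
theorem commute_of_fix {s y : G} {e : ℕ} (hs : orderOf s = p ^ (e + 1))
    (hyn : y * s * y⁻¹ ∈ zpowers s) (hyp : ¬ p ∣ orderOf y)
    (hfix : Commute y (s ^ p ^ e)) : Commute y s := by
  have hp : p.Prime := Fact.out
  obtain ⟨k, hk⟩ := mem_powers_iff_mem_zpowers.2 hyn
  replace hk : s ^ k = y * s * y⁻¹ := hk
  have h1 : k ≡ 1 [MOD p] := by
    have h2 : (s ^ p ^ e) ^ k = (s ^ p ^ e) ^ 1 := by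
      rw [pow_one, ← pow_mul, mul_comm, pow_mul, hk, conj_pow, hfix.eq, mul_inv_cancel_right]
    rw [pow_eq_pow_iff_modEq, orderOf_pow_of_dvd (pow_ne_zero _ hp.ne_zero)
      (hs ▸ pow_dvd_pow p e.le_succ), hs, pow_succ, Nat.mul_div_cancel_left _ (pow_pos hp.pos e)] at h2
    exact h2
  obtain ⟨m, hm⟩ := PElements.exists_pow_commute (z := s) (a := e + 1) (hs ▸ dvd_rfl) hk.symm h1
  obtain ⟨i, hi⟩ := exists_pow_eq_self_of_coprime (x := y) (n := p ^ m)
    ((hp.coprime_iff_not_dvd.2 hyp).pow_left m)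
  rw [← hi]
  exact (show Commute (y ^ p ^ m) s from hm).pow_left i

theorem isCyclic_of_commute {S : Subgroup G} {s y : G} (hS : S = zpowers s) (h : Commute y s)
    (hco : (orderOf s).Coprime (orderOf y)) : IsCyclic ↥(S ⊔ zpowers y) := by
  have hc : orderOf (s * y) = orderOf s * orderOf y :=
    h.symm.orderOf_mul_eq_mul_orderOf_of_coprime hco
  suffices S ⊔ zpowers y = zpowers (s * y) by rw [this]; infer_instance
  refine le_antisymm (sup_le ?_ ?_) (zpowers_le.2 (mul_mem (mem_sup_left (hS ▸ mem_zpowers s))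
    (mem_sup_right (mem_zpowers y))))
  · rw [hS, zpowers_le]
    obtain ⟨i, hi⟩ := exists_pow_eq_self_of_coprime (x := s) (n := orderOf y) hco.symm
    refine ⟨(orderOf y * i : ℕ), ?_⟩
    show (s * y) ^ ((orderOf y * i : ℕ) : ℤ) = s
    rw [zpow_natCast, pow_mul, h.symm.mul_pow, pow_orderOf_eq_one, mul_one, hi]
  · rw [zpowers_le]
    obtain ⟨i, hi⟩ := exists_pow_eq_self_of_coprime (x := y) (n := orderOf s) hco
    refine ⟨(orderOf s * i : ℕ), ?_⟩
    show (s * y) ^ ((orderOf s * i : ℕ) : ℤ) = y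
    rw [zpow_natCast, pow_mul, h.symm.mul_pow, pow_orderOf_eq_one, one_mul, hi]

theorem dihedral_of_inverts {S : Subgroup G} {s t : G} (hS : S = zpowers s) (hs1 : s ≠ 1)
    (ht : orderOf t = 2) (htS : t ∉ S) (hinv : t * s * t⁻¹ = s⁻¹) :
    Nonempty (↥(S ⊔ zpowers t) ≃* DihedralGroup (orderOf s)) := by
  have htt : t * t = 1 := by rw [← pow_two, ← ht, pow_orderOf_eq_one]
  have htinv : t⁻¹ = t := inv_eq_of_mul_eq_one_right htt
  rw [htinv] at hinv
  have h2 : orderOf (t * s) = 2 := by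
    rw [orderOf_eq_prime_iff]
    refine ⟨?_, fun h => htS ?_⟩
    · rw [pow_two, ← mul_assoc, hinv, inv_mul_cancel]
    · rw [eq_inv_of_mul_eq_one_left h]
      exact inv_mem (hS ▸ mem_zpowers s)
  have hne : t ≠ t * s := fun h => hs1 (mul_eq_left.1 h.symm)
  have hprod : t * (t * s) = s := by rw [← mul_assoc, htt, one_mul]
  let φ := Involutions.Basic.dihedralHom t (t * s) ht h2
  have hinj := Involutions.Basic.dihedralHom_injective t (t * s) ht h2 hne
  have hrange : φ.range = S ⊔ zpowers t := by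
    rw [Involutions.Basic.dihedralHom_range]
    refine le_antisymm ((closure_le _).2 ?_) (sup_le ?_ ?_)
    · intro z hz
      rcases hz with rfl | hz
      · exact mem_sup_right (mem_zpowers _)
      · rw [Set.mem_singleton_iff.1 hz]
        exact mul_mem (mem_sup_right (mem_zpowers _)) (mem_sup_left (hS ▸ mem_zpowers s))
    · rw [hS, zpowers_le]
      have := mul_mem (Subgroup.subset_closure (k := ({t, t * s} : Set G)) (Or.inl rfl))
        (Subgroup.subset_closure (Or.inr rfl))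
      rwa [hprod] at this
    · rw [zpowers_le]; exact Subgroup.subset_closure (Or.inl rfl)
  have e := (MonoidHom.ofInjective hinj).trans (MulEquiv.subgroupCongr hrange)
  rw [hprod] at e
  exact ⟨e.symm⟩

/-- The normal `p`-subgroup `S` and a `p'`-element normalising it give a candidate. -/
theorem shape_sup {S : Subgroup G} (hS : IsPGroup p S) {y : G}
    (hy : y ∈ normalizer (S : Set G)) (hyp : ¬ p ∣ orderOf y) : Shape p (S ⊔ zpowers y) := by
  have hp : p.Prime := Fact.out
  set H := S ⊔ zpowers y with hH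
  set S' := S.subgroupOf H with hS'
  have hyH : y ∈ H := mem_sup_right (mem_zpowers y)
  haveI hn : S'.Normal :=
    (normal_subgroupOf_iff_le_normalizer le_sup_left).2 (sup_le le_normalizer (zpowers_le.2 hy))
  let f := QuotientGroup.mk' S'
  have hgen : zpowers (f ⟨y, hyH⟩) = ⊤ := by
    rw [eq_top_iff]
    intro z _
    obtain ⟨⟨x, hx⟩, rfl⟩ := QuotientGroup.mk'_surjective S' z
    obtain ⟨a, ha, b, hb, hab⟩ :
        ∃ a ∈ S, ∃ b ∈ zpowers y, a * b = x := by
      have : x ∈ ((S ⊔ zpowers y : Subgroup G) : Set G) := hx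
      rw [coe_mul_of_right_le_normalizer_left S (zpowers y) (zpowers_le.2 hy)] at this
      exact this
    obtain ⟨i, rfl⟩ := mem_zpowers_iff.1 hb
    have he : (⟨x, hx⟩ : H) = ⟨a, mem_sup_left ha⟩ * (⟨y, hyH⟩ : H) ^ i := Subtype.ext (by simp [hab])
    refine ⟨i, ?_⟩
    show f ⟨y, hyH⟩ ^ i = f ⟨x, hx⟩
    rw [he, map_mul, map_zpow,
      show f ⟨a, mem_sup_left ha⟩ = 1 from (QuotientGroup.eq_one_iff _).2 ha, one_mul]
  haveI hcyc : IsCyclic (↥H ⧸ S') := ⟨⟨f ⟨y, hyH⟩, fun z => show z ∈ zpowers (f ⟨y, hyH⟩) by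
    rw [hgen]; exact mem_top z⟩⟩
  have hidx : ¬ p ∣ S'.index := by
    rw [index_eq_card, ← card_top (G := ↥H ⧸ S'), ← hgen, Nat.card_zpowers]
    exact fun h => hyp (h.trans ((orderOf_map_dvd f ⟨y, hyH⟩).trans (by rw [Subgroup.orderOf_mk])))
  have hS'p : IsPGroup p S' := hS.of_equiv (subgroupOfEquivOfLe le_sup_left).symm
  have huniq : ∀ T : Sylow p H, (T : Subgroup H) = S' := fun T => by
    obtain ⟨g, hg⟩ := MulAction.exists_smul_eq H (hS'p.toSylow hidx) T
    rw [← hg, Sylow.coe_subgroup_smul]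
    ext z
    rw [PElements.mem_conj_smul]
    exact ⟨fun h => by simpa [mul_assoc] using hn.conj_mem _ h g,
      fun h => by simpa using hn.conj_mem _ h g⁻¹⟩
  refine ⟨fun T => huniq T ▸ hn, fun T hT => ?_⟩
  exact isCyclic_of_surjective (QuotientGroup.quotientMulEquivOfEq (huniq T).symm)
    (MulEquiv.surjective _)

/-- Every candidate has this form. -/
theorem exists_of_shape {H : Subgroup G} (h : Shape p H) :
    ∃ (S : Subgroup G) (y : G), IsPGroup p S ∧ S ≤ H ∧ y ∈ normalizer (S : Set G) ∧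
      ¬ p ∣ orderOf y ∧ H = S ⊔ zpowers y := by
  have hp : p.Prime := Fact.out
  obtain ⟨T⟩ : Nonempty (Sylow p H) := inferInstance
  haveI := h.1 T
  haveI := h.2 T
  obtain ⟨z, hz⟩ := IsCyclic.exists_generator (α := ↥H ⧸ (T : Subgroup H))
  obtain ⟨x, rfl⟩ := QuotientGroup.mk_surjective z
  obtain ⟨a, s, hord, hs, -⟩ := PElements.exists_split p x
  set y : H := x ^ p ^ a
  have hyord : orderOf y = s := by
    rw [orderOf_pow_of_dvd (pow_ne_zero _ hp.ne_zero) (hord ▸ dvd_mul_right _ _), hord,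
      Nat.mul_div_cancel_left _ (pow_pos hp.pos a)]
  have hxy : (QuotientGroup.mk x : ↥H ⧸ (T : Subgroup H)) ∈
      zpowers (QuotientGroup.mk y : ↥H ⧸ (T : Subgroup H)) := by
    have hco : (orderOf (QuotientGroup.mk x : ↥H ⧸ (T : Subgroup H))).Coprime (p ^ a) := by
      refine Nat.Coprime.pow_right _ ((hp.coprime_iff_not_dvd.2 fun hd => T.not_dvd_index ?_).symm)
      exact hd.trans (by rw [index_eq_card]; exact orderOf_dvd_natCard _)
    obtain ⟨i, hi⟩ := exists_pow_eq_self_of_coprime hco.symm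
    exact ⟨i, by rw [← hi]; simp [y]⟩
  have hSH : (T : Subgroup H).map H.subtype ≤ H := map_subtype_le _
  refine ⟨(T : Subgroup H).map H.subtype, y, T.2.map _, hSH, ?_, by rw [Subgroup.orderOf_coe, hyord]; exact hs, ?_⟩
  · exact (normal_subgroupOf_iff_le_normalizer hSH).1
      (by rw [subgroupOf, comap_map_eq_self_of_injective H.subtype_injective]; exact h.1 T) y.2
  refine le_antisymm (fun g hg => ?_) (sup_le hSH (zpowers_le.2 y.2))
  obtain ⟨i, hi⟩ := mem_zpowers_iff.1 ((zpowers_le.2 hxy) (hz (QuotientGroup.mk (⟨g, hg⟩ : H))))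
  rw [← QuotientGroup.mk_zpow, QuotientGroup.eq] at hi
  have h2 : (y : G) ^ i * (((y ^ i)⁻¹ * ⟨g, hg⟩ : H) : G) = g := by simp
  rw [← h2]
  exact mul_mem (mem_sup_right (zpow_mem_zpowers _ _)) (mem_sup_left ⟨_, hi, rfl⟩)

/-- In a dihedral group of order `2n` an element not commuting with some `q` of odd order has
order two and inverts every element of odd order. -/
theorem dihedral_facts {A : Type u} [Group A] [Finite A] {n : ℕ} (e : A ≃* DihedralGroup n) {q x : A}
    (hq : Odd (orderOf q)) (hx : ¬ Commute x q) :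
    orderOf x = 2 ∧ ∀ c : A, Odd (orderOf c) → x * c * x⁻¹ = c⁻¹ := by
  have hodd : ∀ c : A, Odd (orderOf c) → ∃ j, e c = DihedralGroup.r j := by
    intro c hc
    rcases hec : e c with j | j
    · exact ⟨j, rfl⟩
    · rw [← e.orderOf_eq, hec, DihedralGroup.orderOf_sr] at hc
      exact absurd hc (by decide)
  obtain ⟨j, hj⟩ := hodd q hq
  rcases hex : e x with i | i
  · exact absurd (e.injective (by rw [map_mul, map_mul, hex, hj, DihedralGroup.r_mul_r,
      DihedralGroup.r_mul_r, add_comm]) : x * q = q * x) hx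
  · refine ⟨by rw [← e.orderOf_eq, hex, DihedralGroup.orderOf_sr], fun c hc => e.injective ?_⟩
    obtain ⟨l, hl⟩ := hodd c hc
    rw [map_mul, map_mul, map_inv, map_inv, hex, hl, DihedralGroup.inv_sr, DihedralGroup.sr_mul_r,
      DihedralGroup.sr_mul_sr, DihedralGroup.inv_r]
    congr 1
    ring

end Cfsg.Agent.GStructB.RestrictedPCyclic

namespace Cfsg.Agent.GStructB.RestrictedPCyclic

open Subgroup

universe v

variable {G : Type v} [Group G] [Finite G] {p : ℕ} [Fact p.Prime]

/-- A `p`-element normalising a subgroup of order `p` centralises it. -/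
theorem commute_of_pelt {q u : G} (hq : orderOf q = p) {a : ℕ} (hu : orderOf u = p ^ a)
    (hn : u * q * u⁻¹ ∈ zpowers q) : Commute u q := by
  have hp : p.Prime := Fact.out
  obtain ⟨k, hk⟩ := mem_powers_iff_mem_zpowers.2 hn
  replace hk : q ^ k = u * q * u⁻¹ := hk
  have h := conj_pow_eq hk.symm (p ^ a)
  rw [← hu, pow_orderOf_eq_one, one_mul, inv_one, mul_one, hu] at h
  have h2 : k ≡ 1 [MOD p] := by
    have h3 : q ^ k ^ p ^ a = q ^ 1 := by rw [pow_one]; exact h.symm
    rw [pow_eq_pow_iff_modEq, hq, ← ZMod.natCast_eq_natCast_iff] at h3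
    rw [← ZMod.natCast_eq_natCast_iff]
    rwa [Nat.cast_pow, ZMod.pow_card_pow] at h3
  have h4 : q ^ k = q ^ 1 := pow_eq_pow_iff_modEq.2 (hq ▸ h2)
  rw [pow_one, hk] at h4
  exact mul_inv_eq_iff_eq_mul.1 h4

/-- The forward consequence for a subgroup of order `p`. -/
theorem outside_order_two (hp2 : p ≠ 2)
    (hR : ∀ H : Subgroup G, Shape p H → IsCyclic H ∨ ∃ n : ℕ, Nonempty (H ≃* DihedralGroup (p ^ n)))
    {q x : G} (hq : orderOf q = p) (hxN : x * q * x⁻¹ ∈ zpowers q) (hxC : ¬ Commute x q) :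
    orderOf x = 2 := by
  have hp : p.Prime := Fact.out
  obtain ⟨a, s, hord, hs, hu⟩ := PElements.exists_split p x
  set u := x ^ s with hudef
  set y := x ^ p ^ a with hydef
  have hyord : orderOf y = s := by
    rw [orderOf_pow_of_dvd (pow_ne_zero _ hp.ne_zero) (hord ▸ dvd_mul_right _ _), hord,
      Nat.mul_div_cancel_left _ (pow_pos hp.pos a)]
  obtain ⟨k, hk⟩ := mem_powers_iff_mem_zpowers.2 hxN
  replace hk : q ^ k = x * q * x⁻¹ := hk
  have hpowN : ∀ i : ℕ, x ^ i * q * (x ^ i)⁻¹ ∈ zpowers q := fun i => by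
    rw [conj_pow_eq hk.symm i]; exact pow_mem (mem_zpowers q) _
  have huq : Commute u q := commute_of_pelt hq hu (hpowN s)
  set S := zpowers q ⊔ zpowers u with hSdef
  have huN : u ∈ normalizer ((zpowers q : Subgroup G) : Set G) := by
    refine mem_normalizer_fintype (S := ((zpowers q : Subgroup G) : Set G)) fun z hz => ?_
    obtain ⟨i, rfl⟩ := hz
    show u * q ^ i * u⁻¹ ∈ zpowers q
    rw [(huq.zpow_right i).eq, mul_inv_cancel_right]
    exact zpow_mem_zpowers q i
  have hSp : IsPGroup p S :=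
    (PElements.isPGroup_zpowers (k := 1) (by rw [hq, pow_one])).to_sup_of_normal_left'
      (PElements.isPGroup_zpowers hu) (zpowers_le.2 huN)
  have hyN : y ∈ normalizer (S : Set G) := by
    refine mem_normalizer_fintype (S := (S : Set G)) fun z hz => ?_
    have hle : S.map (MulAut.conj y).toMonoidHom ≤ S := by
      rw [hSdef, Subgroup.map_sup, MonoidHom.map_zpowers, MonoidHom.map_zpowers]
      refine sup_le (zpowers_le.2 (mem_sup_left (hpowN _))) (zpowers_le.2 ?_)
      show y * u * y⁻¹ ∈ _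
      rw [((Commute.refl x).pow_pow (p ^ a) s).eq, mul_inv_cancel_right]
      exact mem_sup_right (mem_zpowers u)
    exact hle ⟨z, hz, rfl⟩
  set H := S ⊔ zpowers y
  have hqH : q ∈ H := mem_sup_left (mem_sup_left (mem_zpowers q))
  have hxH : x ∈ H := by
    refine PElements.mem_of_pow_mem_coprime (a := s) (b := p ^ a)
      ((hp.coprime_iff_not_dvd.2 hs).pow_left a).symm ?_ (mem_sup_right (mem_zpowers y))
    exact mem_sup_left (mem_sup_right (mem_zpowers u))
  rcases hR H (shape_sup hSp hyN (by rw [hyord]; exact hs)) with hc | ⟨n, ⟨e⟩⟩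
  · haveI := hc
    exact absurd (congrArg Subtype.val (IsMulCommutative.is_comm.comm (⟨x, hxH⟩ : H) ⟨q, hqH⟩)) hxC
  · have h := (dihedral_facts e (q := ⟨q, hqH⟩) (x := ⟨x, hxH⟩)
      (by rw [Subgroup.orderOf_mk, hq]; exact hp.odd_of_ne_two hp2)
      fun h => hxC (congrArg Subtype.val h.eq)).1
    rwa [Subgroup.orderOf_mk] at h

end Cfsg.Agent.GStructB.RestrictedPCyclic
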