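import Cfsg.Agent.Lib.Cores.Fitting
import Cfsg.Agent.Lib.Transfer.Frobenius
import Cfsg.Agent.GStructB.PElements
import Cfsg.Agent.Lib.CN.Basic
import Cfsg.Agent.Lib.Coprime.Basic
import Mathlib

/-!
Groups in which every non-abelian subgroup is self-normalizing.
-/

set_option autoImplicit false

namespace Cfsg.Agent.GStructB.SelfNormalizing

open Cfsg
open scoped commutatorElement Pointwise

universe u

variable {G : Type u} [Group G]

/-- Every non-abelian subgroup is self-normalizing. -/
def SN (G : Type u) [Group G] : Prop :=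
  ∀ H : Subgroup G, ¬ IsMulCommutative H → Subgroup.normalizer (H : Set G) = H

theorem isMulCommutative_of_forall {H : Subgroup G} (h : ∀ a ∈ H, ∀ b ∈ H, a * b = b * a) :
    IsMulCommutative H :=
  ⟨⟨fun a b => Subtype.ext (h a a.2 b b.2)⟩⟩

theorem comm_of_isMulCommutative {H : Subgroup G} (h : IsMulCommutative H) {a b : G} (ha : a ∈ H)
    (hb : b ∈ H) : a * b = b * a :=
  congrArg Subtype.val (h.is_comm.comm (⟨a, ha⟩ : H) ⟨b, hb⟩)

theorem SN.normal_comm (h : SN G) {N : Subgroup G} [N.Normal] (hN : N ≠ ⊤) : IsMulCommutative N := by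
  by_contra hc
  exact hN ((h N hc).symm.trans (Subgroup.normalizer_eq_top N))

theorem SN.subgroup (h : SN G) (L : Subgroup G) : SN L := by
  intro H hH
  have hmap : ¬ IsMulCommutative (H.map L.subtype) := fun hc => hH (isMulCommutative_of_forall
    fun a ha b hb => Subtype.ext (comm_of_isMulCommutative hc ⟨a, ha, rfl⟩ ⟨b, hb, rfl⟩))
  refine le_antisymm ?_ Subgroup.le_normalizer
  intro x hx
  have h1 : (x : G) ∈ Subgroup.normalizer ((H.map L.subtype : Subgroup G) : Set G) :=
    Subgroup.le_normalizer_map L.subtype ⟨x, hx, rfl⟩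
  rw [h _ hmap] at h1
  obtain ⟨y, hy, hyx⟩ := h1
  exact (Subtype.ext hyx : y = x) ▸ hy

/-- A proper subgroup containing the commutator is abelian and lies in a maximal normal one. -/
theorem coatom_normal [Finite G] {M : Subgroup G} (h : commutator G ≤ M) : M.Normal := by
  refine ⟨fun m hm g => ?_⟩
  have h1 : ⁅g, m⁆ ∈ M := h (Subgroup.commutator_mem_commutator (Subgroup.mem_top g) (Subgroup.mem_top m))
  have := M.mul_mem h1 hm
  rwa [commutatorElement_def, inv_mul_cancel_right] at this

/-- The structure of a solvable non-nilpotent group with the property. -/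
theorem SN.structure [Finite G] (h : SN G) [Group.IsSolvable G] (hnn : ¬ Group.IsNilpotent G) :
    ∃ (x : G) (A : Subgroup G) (p : ℕ), p.Prime ∧ A.Normal ∧ IsMulCommutative A ∧
      (∃ k : ℕ, orderOf x = p ^ k) ∧ ¬ p ∣ Nat.card A ∧ (Subgroup.zpowers x).IsComplement' A ∧
      x ^ p ∈ Subgroup.center G ∧ ∀ a : G, a ∈ A → a ≠ 1 → x * a * x⁻¹ ≠ a := by
  classical
  have : Nontrivial G := by
    by_contra hs
    rw [not_nontrivial_iff_subsingleton] at hs
    exact hnn inferInstance
  have hder : commutator G ≠ ⊤ := (Group.IsSolvable.commutator_lt_top_of_nontrivial G).ne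
  obtain ⟨M, hM, hGM⟩ := (eq_top_or_exists_le_coatom (commutator G)).resolve_left hder
  have hMn : M.Normal := coatom_normal hGM
  have hMc := h.normal_comm hM.1
  -- `M` is the only maximal subgroup over the commutator
  have huniq : ∀ M' : Subgroup G, IsCoatom M' → commutator G ≤ M' → M' = M := by
    intro M' hM' hle
    by_contra hne
    have hM'n : M'.Normal := coatom_normal hle
    have hM'c := h.normal_comm hM'.1
    have hsup : M ⊔ M' = ⊤ := hM.2 _ (lt_of_le_of_ne le_sup_left fun e =>
      hne ((hM'.le_iff.mp (e ▸ le_sup_right : M' ≤ M)).resolve_left hM.1).symm)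
    refine hnn ((Cores.fittingSubgroup_eq_top_iff).mp (eq_top_iff.mpr (hsup ▸ sup_le ?_ ?_)))
    · exact Cores.le_fittingSubgroup (@CommGroup.isNilpotent M { (inferInstance : Group M) with mul_comm := hMc.is_comm.comm })
    · exact Cores.le_fittingSubgroup (@CommGroup.isNilpotent M' { (inferInstance : Group M') with mul_comm := hM'c.is_comm.comm })
  -- the index of `M` is prime
  have hsimple : IsSimpleGroup (G ⧸ M) := by
    have : Nontrivial (G ⧸ M) := QuotientGroup.nontrivial_iff.mpr hM.1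
    refine ⟨fun N hN => ?_⟩
    have hle : M ≤ N.comap (QuotientGroup.mk' M) := fun m hm => by
      rw [Subgroup.mem_comap, QuotientGroup.mk'_apply, (QuotientGroup.eq_one_iff m).mpr hm]
      exact one_mem _
    rcases hM.le_iff.mp hle with h1 | h1
    · right
      rw [← Subgroup.map_comap_eq_self_of_surjective (QuotientGroup.mk'_surjective M) N, h1,
        Subgroup.map_top_of_surjective _ (QuotientGroup.mk'_surjective M)]
    · left
      rw [← Subgroup.map_comap_eq_self_of_surjective (QuotientGroup.mk'_surjective M) N, h1,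
        QuotientGroup.map_mk'_self]
  letI : CommGroup (G ⧸ M) := { (inferInstance : Group (G ⧸ M)) with
    mul_comm := fun a b => by
      obtain ⟨a, rfl⟩ := QuotientGroup.mk'_surjective M a
      obtain ⟨b, rfl⟩ := QuotientGroup.mk'_surjective M b
      rw [← commutatorElement_eq_one_iff_mul_comm, ← map_commutatorElement]
      exact (QuotientGroup.eq_one_iff _).mpr (hGM (Subgroup.commutator_mem_commutator (Subgroup.mem_top a) (Subgroup.mem_top b))) }
  set p := M.index with hpdef
  have hp : p.Prime := by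
    rw [hpdef, Subgroup.index_eq_card]
    exact IsSimpleGroup.prime_card
  haveI := Fact.mk hp
  have hpow : ∀ g : G, g ^ p ∈ M := fun g => Subgroup.pow_index_mem M g
  -- a `p`-element outside `M`
  obtain ⟨g, hg⟩ : ∃ g : G, g ∉ M := by
    by_contra hh
    push Not at hh
    exact hM.1 (eq_top_iff.mpr fun g _ => hh g)
  obtain ⟨k, s, hord, hps, hxord⟩ := GStructB.PElements.exists_split p g
  set x := g ^ s with hxdef
  have hxM : x ∉ M := fun hx => hg (GStructB.PElements.mem_of_pow_mem_coprime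
    ((hp.coprime_iff_not_dvd.mpr hps)) (hpow g) hx)
  -- `G = ⟨x⟩ G'`
  have hgen : ∀ X : Subgroup G, x ∈ X → commutator G ≤ X → X = ⊤ := by
    intro X hx hle
    by_contra hne
    obtain ⟨M', hM', hXM⟩ := (eq_top_or_exists_le_coatom X).resolve_left hne
    exact hxM (huniq M' hM' (hle.trans hXM) ▸ hXM hx)
  -- the part of `M` of order prime to `p`
  obtain ⟨i, m', hm', hMcard⟩ := Nat.exists_eq_pow_mul_and_not_dvd (Nat.card_pos (α := M)).ne' p hp.ne_one
  let A : Subgroup G :=
    { carrier := {m | m ∈ M ∧ m ^ m' = 1}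
      one_mem' := ⟨one_mem _, one_pow _⟩
      mul_mem' := fun {a b} ha hb => ⟨mul_mem ha.1 hb.1, by
        rw [Commute.mul_pow (comm_of_isMulCommutative hMc ha.1 hb.1), ha.2, hb.2, one_mul]⟩
      inv_mem' := fun {a} ha => ⟨inv_mem ha.1, by rw [inv_pow, ha.2, inv_one]⟩ }
  have hAM : A ≤ M := fun a ha => ha.1
  have hAn : A.Normal := ⟨fun a ha c => ⟨hMn.conj_mem a ha.1 c, by rw [conj_pow, ha.2]; group⟩⟩
  have hAc : IsMulCommutative A := isMulCommutative_of_forall fun a ha b hb => comm_of_isMulCommutative hMc ha.1 hb.1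
  have hAp : ∀ a ∈ A, ¬ p ∣ orderOf a := fun a ha hd => hm' (hd.trans (orderOf_dvd_of_pow_eq_one ha.2))
  have hAcard : ¬ p ∣ Nat.card A := fun hd => by
    obtain ⟨a, ha⟩ := exists_prime_orderOf_dvd_card' p hd
    exact hAp a a.2 (by rw [Subgroup.orderOf_coe, ha])
  -- the quotient by `A` is a `p`-group
  have hGA : IsPGroup p (G ⧸ A) := by
    rw [isPGroup_iff_pow_pow_eq_one]
    intro c
    obtain ⟨c, rfl⟩ := QuotientGroup.mk'_surjective A c
    refine ⟨i + 1, ?_⟩
    rw [← map_pow]
    refine (QuotientGroup.eq_one_iff _).mpr ⟨?_, ?_⟩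
    · rw [pow_succ', pow_mul]; exact Subgroup.pow_mem _ (hpow c) _
    · rw [pow_succ', pow_mul, ← pow_mul, ← hMcard]
      have h1 : (⟨c ^ p, hpow c⟩ : M) ^ Nat.card M = 1 := pow_card_eq_one'
      exact congrArg Subtype.val h1
  have hnilA : Group.IsNilpotent (G ⧸ A) := hGA.isNilpotent
  have hXA : Subgroup.zpowers x ⊔ A = ⊤ := by
    by_contra hne
    set f := QuotientGroup.mk' A
    have hne' : (Subgroup.zpowers x ⊔ A).map f ≠ ⊤ := fun e => by
      refine hne ?_
      rw [← Subgroup.comap_map_eq_self (f := f) (H := Subgroup.zpowers x ⊔ A)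
        (by rw [QuotientGroup.ker_mk']; exact le_sup_right), e, Subgroup.comap_top]
    obtain ⟨Y, hY, hle⟩ := (eq_top_or_exists_le_coatom _).resolve_left hne'
    haveI := Subgroup.NormalizerCondition.normal_of_coatom Y Group.normalizerCondition_of_isNilpotent hY
    have hYcomm : commutator (G ⧸ A) ≤ Y := by
      have hprime : IsSimpleGroup ((G ⧸ A) ⧸ Y) := by
        have : Nontrivial ((G ⧸ A) ⧸ Y) := QuotientGroup.nontrivial_iff.mpr hY.1
        refine ⟨fun N hN => ?_⟩
        have hle' : Y ≤ N.comap (QuotientGroup.mk' Y) := fun m hm => by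
          rw [Subgroup.mem_comap, QuotientGroup.mk'_apply, (QuotientGroup.eq_one_iff m).mpr hm]
          exact one_mem _
        rcases hY.le_iff.mp hle' with h1 | h1
        · right
          rw [← Subgroup.map_comap_eq_self_of_surjective (QuotientGroup.mk'_surjective Y) N, h1,
            Subgroup.map_top_of_surjective _ (QuotientGroup.mk'_surjective Y)]
        · left
          rw [← Subgroup.map_comap_eq_self_of_surjective (QuotientGroup.mk'_surjective Y) N, h1,
            QuotientGroup.map_mk'_self]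
      have hcomm : ∀ a b : (G ⧸ A) ⧸ Y, a * b = b * a := by
        have := IsSimpleGroup.comm_iff_isSolvable (G := (G ⧸ A) ⧸ Y) |>.mpr inferInstance
        exact this
      rw [commutator_def, Subgroup.commutator_le]
      intro a _ b _
      rw [← QuotientGroup.eq_one_iff]
      show QuotientGroup.mk' Y ⁅a, b⁆ = 1
      rw [map_commutatorElement, commutatorElement_eq_one_iff_mul_comm]
      exact hcomm _ _
    refine hY.1 ?_
    rw [← Subgroup.map_comap_eq_self_of_surjective (QuotientGroup.mk'_surjective A) Y, hgen (Y.comap f) ?_ ?_,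
      Subgroup.map_top_of_surjective _ (QuotientGroup.mk'_surjective A)]
    · exact hle ⟨x, Subgroup.mem_sup_left (Subgroup.mem_zpowers x), rfl⟩
    · rw [← Subgroup.map_le_iff_le_comap, commutator_def, Subgroup.map_commutator,
        Subgroup.map_top_of_surjective _ (QuotientGroup.mk'_surjective A)]
      exact hYcomm
  have hdec : ∀ c : G, ∃ j : ℤ, ∃ a ∈ A, c = x ^ j * a := fun c => by
    obtain ⟨_, ⟨j, rfl⟩, a, ha, rfl⟩ := Subgroup.mem_sup_of_normal_right.mp (hXA ▸ Subgroup.mem_top c :
      c ∈ Subgroup.zpowers x ⊔ A)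
    exact ⟨j, a, ha, rfl⟩
  have hdisj : Disjoint (Subgroup.zpowers x) A := by
    rw [disjoint_iff, Subgroup.eq_bot_iff_forall]
    rintro y ⟨hy, hyA⟩
    have h1 : orderOf y ∣ p ^ k := by
      have := (Subgroup.zpowers x).orderOf_dvd_natCard hy
      rwa [Nat.card_zpowers, hxord] at this
    have h2 : (p ^ k).Coprime (orderOf y) := (hp.coprime_iff_not_dvd.mpr (hAp y hyA)).pow_left k
    exact orderOf_eq_one_iff.mp (Nat.eq_one_of_dvd_coprimes h2 h1 dvd_rfl)
  refine ⟨x, A, p, hp, hAn, hAc, ⟨k, hxord⟩, hAcard, ?_, ?_, ?_⟩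
  · refine Subgroup.isComplement'_of_disjoint_and_mul_eq_univ hdisj ?_
    rw [← Subgroup.mul_normal, hXA, Subgroup.coe_top]
  · refine Subgroup.mem_center_iff.mpr fun c => ?_
    obtain ⟨j, a, ha, rfl⟩ := hdec c
    exact ((Commute.zpow_left (Commute.self_pow x p) j).mul_left
      (comm_of_isMulCommutative hMc ha.1 (hpow x))).eq
  · -- commutation with `x` is surjective on `A`
    let ψ : A →* A :=
      { toFun := fun a => ⟨x * a * x⁻¹ * (a : G)⁻¹, mul_mem (hAn.conj_mem a a.2 x) (inv_mem a.2)⟩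
        map_one' := Subtype.ext (by simp)
        map_mul' := fun a b => Subtype.ext (by
          simp only [Subgroup.coe_mul, mul_inv_rev]
          have hbc : Commute (a : G)⁻¹ (x * b * x⁻¹ * (b : G)⁻¹) :=
            comm_of_isMulCommutative hAc (inv_mem a.2) (mul_mem (hAn.conj_mem b b.2 x) (inv_mem b.2))
          calc x * ((a : G) * b) * x⁻¹ * ((b : G)⁻¹ * (a : G)⁻¹)
              = x * (a : G) * x⁻¹ * ((x * b * x⁻¹ * (b : G)⁻¹) * (a : G)⁻¹) := by group
            _ = x * (a : G) * x⁻¹ * ((a : G)⁻¹ * (x * b * x⁻¹ * (b : G)⁻¹)) := by rw [hbc.eq]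
            _ = _ := by group) }
    set I := ψ.range.map A.subtype with hI
    have hIA : I ≤ A := Subgroup.map_subtype_le _
    have hxI : ∀ y ∈ I, x * y * x⁻¹ ∈ I := by
      rintro _ ⟨_, ⟨a, rfl⟩, rfl⟩
      refine ⟨_, ⟨⟨x * a * x⁻¹, hAn.conj_mem a a.2 x⟩, rfl⟩, ?_⟩
      show x * (x * (a : G) * x⁻¹) * x⁻¹ * (x * (a : G) * x⁻¹)⁻¹ = x * (x * (a : G) * x⁻¹ * (a : G)⁻¹) * x⁻¹
      group
    have hmem : ∀ a ∈ A, ⁅x, a⁆ ∈ I := fun a ha => ⟨_, ⟨⟨a, ha⟩, rfl⟩, by
      show x * a * x⁻¹ * a⁻¹ = ⁅x, a⁆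
      rw [commutatorElement_def]⟩
    have hxnorm : x ∈ Subgroup.normalizer (I : Set G) := by
      have hle : MulAut.conj x • I ≤ I := by
        intro n hn
        obtain ⟨m, hm, rfl⟩ := (Subgroup.mem_smul_pointwise_iff_exists _ _ _).mp hn
        exact hxI m hm
      exact Coprime.conj_smul_eq_self_iff.mp
        (Subgroup.eq_of_le_of_card_ge hle (le_of_eq (Coprime.card_conj_smul x _).symm))
    have hIn : I.Normal := by
      rw [← Subgroup.normalizer_eq_top_iff, eq_top_iff, ← hXA]
      refine sup_le (Subgroup.zpowers_le.mpr hxnorm) fun a ha => Subgroup.mem_normalizer_iff.mpr fun y => ?_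
      constructor
      · intro hy
        rwa [comm_of_isMulCommutative hAc ha (hIA hy), mul_inv_cancel_right]
      · intro hy
        have h1 : y ∈ A := by
          have := A.mul_mem (A.mul_mem (A.inv_mem ha) (hIA hy)) ha
          rwa [show a⁻¹ * (a * y * a⁻¹) * a = y by group] at this
        rwa [comm_of_isMulCommutative hAc ha h1, mul_inv_cancel_right] at hy
    have hle : commutator G ≤ I := by
      set f := QuotientGroup.mk' I
      have hxa : ∀ a ∈ A, Commute (f x) (f a) := fun a ha => by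
        rw [Commute, SemiconjBy, ← commutatorElement_eq_one_iff_mul_comm, ← map_commutatorElement]
        exact (QuotientGroup.eq_one_iff _).mpr (hmem a ha)
      rw [commutator_def, Subgroup.commutator_le]
      intro c _ d _
      rw [← QuotientGroup.eq_one_iff]
      show f ⁅c, d⁆ = 1
      rw [map_commutatorElement, commutatorElement_eq_one_iff_mul_comm]
      obtain ⟨j, a, ha, rfl⟩ := hdec c
      obtain ⟨l, b, hb, rfl⟩ := hdec d
      simp only [map_mul, map_zpow]
      have hab : Commute (f a) (f b) := (show Commute a b from comm_of_isMulCommutative hAc ha hb).map f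
      exact (((Commute.refl (f x)).zpow_zpow j l).mul_right ((hxa b hb).zpow_left j)).mul_left
        (((hxa a ha).symm.zpow_right l).mul_right hab)
    have hsurj : Function.Surjective ψ := by
      intro a
      have h1 : (a : G) ∈ Subgroup.zpowers x ⊔ I := by
        rw [hgen (Subgroup.zpowers x ⊔ I) (Subgroup.mem_sup_left (Subgroup.mem_zpowers x)) (hle.trans le_sup_right)]
        exact Subgroup.mem_top _
      obtain ⟨y, hy, z, hz, hyz⟩ := Subgroup.mem_sup_of_normal_right.mp h1
      have hyA : y ∈ A := by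
        rw [show y = (a : G) * z⁻¹ by rw [← hyz, mul_inv_cancel_right]]
        exact mul_mem a.2 (inv_mem (hIA hz))
      rw [Subgroup.mem_bot.mp (hdisj.le_bot ⟨hy, hyA⟩), one_mul] at hyz
      obtain ⟨_, ⟨b, rfl⟩, hb⟩ := hz
      exact ⟨b, Subtype.ext (hb.trans hyz)⟩
    intro a ha ha1 hfix
    have hinj := Finite.injective_iff_surjective.mpr hsurj
    have h0 : ψ ⟨a, ha⟩ = ψ 1 := by
      rw [map_one]
      exact Subtype.ext (show x * a * x⁻¹ * a⁻¹ = 1 by rw [hfix, mul_inv_cancel])
    exact ha1 (congrArg Subtype.val (hinj h0))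

/-- Conversely, the structure implies the property. -/
theorem sn_of_structure [Finite G] {x : G} {A : Subgroup G} [A.Normal] {p : ℕ} (hp : p.Prime) (hAc : IsMulCommutative A)
    {k : ℕ} (hx : orderOf x = p ^ k) (hc : (Subgroup.zpowers x).IsComplement' A)
    (hxp : x ^ p ∈ Subgroup.center G) (hfpf : ∀ a : G, a ∈ A → a ≠ 1 → x * a * x⁻¹ ≠ a) : SN G := by
  classical
  intro H hH
  have hdec : ∀ c : G, ∃ j : ℕ, ∃ a ∈ A, c = x ^ j * a := fun c => by
    obtain ⟨y, hy, a, ha, rfl⟩ := Subgroup.mem_sup_of_normal_right.mp (show c ∈ Subgroup.zpowers x ⊔ A by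
      rw [hc.sup_eq_top]; exact Subgroup.mem_top c)
    obtain ⟨j, rfl⟩ := Submonoid.mem_powers_iff _ _ |>.mp (mem_powers_iff_mem_zpowers.mpr hy)
    exact ⟨j, a, ha, rfl⟩
  -- an element of `H` outside the abelian subgroup `⟨x ^ p⟩ A`
  obtain ⟨i, a₀, ha₀, hhH, hi⟩ : ∃ (i : ℕ) (a₀ : G), a₀ ∈ A ∧ x ^ i * a₀ ∈ H ∧ ¬ p ∣ i := by
    by_contra hcon
    push Not at hcon
    refine hH (isMulCommutative_of_forall fun c hc' d hd => ?_)
    obtain ⟨j, a, ha, rfl⟩ := hdec c
    obtain ⟨l, b, hb, rfl⟩ := hdec d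
    obtain ⟨j', rfl⟩ := hcon j a ha hc'
    obtain ⟨l', rfl⟩ := hcon l b hb hd
    have hz : ∀ n : ℕ, ∀ y : G, Commute (x ^ (p * n)) y := fun n y => by
      rw [pow_mul]
      exact (Commute.pow_right (Subgroup.mem_center_iff.mp hxp y) n).symm
    exact ((hz j' _).mul_left ((hz l' a).symm.mul_right (comm_of_isMulCommutative hAc ha hb))).eq
  set h := x ^ i * a₀ with hh
  have hcop : i.Coprime (orderOf x) := by
    rw [hx]; exact ((hp.coprime_iff_not_dvd.mpr hi).symm).pow_right k
  have hinj : ∀ a ∈ A, h * a * h⁻¹ = a → a = 1 := by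
    intro a ha he
    by_contra ha1
    have h1 : h * a * h⁻¹ = x ^ i * a * (x ^ i)⁻¹ := by
      rw [hh, show x ^ i * a₀ * a * (x ^ i * a₀)⁻¹ = x ^ i * (a₀ * a * a₀⁻¹) * (x ^ i)⁻¹ by group,
        comm_of_isMulCommutative hAc ha₀ ha, mul_inv_cancel_right]
    rw [he] at h1
    have hcomm : Commute (x ^ i) a := mul_inv_eq_iff_eq_mul.mp h1.symm
    obtain ⟨m, hm⟩ := exists_pow_eq_self_of_coprime hcop
    have h2 := hcomm.pow_left m
    rw [hm] at h2
    exact hfpf a ha ha1 (by rw [h2.eq, mul_inv_cancel_right])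
  set B := H ⊓ A with hB
  let φ : B → B := fun b => ⟨h * (b : G) * h⁻¹ * (b : G)⁻¹,
    H.mul_mem (H.mul_mem (H.mul_mem hhH b.2.1) (H.inv_mem hhH)) (H.inv_mem b.2.1),
    A.mul_mem ((inferInstance : A.Normal).conj_mem _ b.2.2 h) (A.inv_mem b.2.2)⟩
  have hkey : ∀ a ∈ A, ∀ b ∈ A, h * a * h⁻¹ * a⁻¹ = h * b * h⁻¹ * b⁻¹ → a = b := by
    intro a ha b hb hab
    refine (inv_mul_eq_one.mp (hinj (b⁻¹ * a) (mul_mem (inv_mem hb) ha) ?_)).symm
    have e1 : h * a * h⁻¹ = h * b * h⁻¹ * (b⁻¹ * a) := by
      rw [← mul_assoc, ← hab, inv_mul_cancel_right]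
    calc h * (b⁻¹ * a) * h⁻¹ = (h * b * h⁻¹)⁻¹ * (h * a * h⁻¹) := by group
      _ = _ := by rw [e1]; group
  have hφ : Function.Injective φ := fun a b hab => Subtype.ext (hkey a a.2.2 b b.2.2 (congrArg Subtype.val hab))
  refine le_antisymm ?_ Subgroup.le_normalizer
  intro n hn
  obtain ⟨j, a, ha, rfl⟩ := hdec n
  obtain ⟨m, hm⟩ := exists_pow_eq_self_of_coprime hcop
  have hpow : h ^ (m * j) * (x ^ j)⁻¹ ∈ A := by
    rw [← QuotientGroup.eq_one_iff]
    show QuotientGroup.mk' A _ = 1
    rw [map_mul, map_inv, map_pow, hh, map_mul, show QuotientGroup.mk' A a₀ = 1 from (QuotientGroup.eq_one_iff a₀).mpr ha₀,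
      mul_one, ← map_pow, pow_mul, hm, mul_inv_cancel]
  have hhj : h ^ (m * j) ∈ H := Subgroup.pow_mem _ hhH _
  have ha' : (h ^ (m * j))⁻¹ * (x ^ j * a) ∈ A := by
    have := mul_mem ((inferInstance : A.Normal).conj_mem _ (inv_mem hpow) (h ^ (m * j))⁻¹) ha
    rwa [show (h ^ (m * j))⁻¹ * (h ^ (m * j) * (x ^ j)⁻¹)⁻¹ * (h ^ (m * j))⁻¹⁻¹ * a =
      (h ^ (m * j))⁻¹ * (x ^ j * a) by group] at this
  set a' := (h ^ (m * j))⁻¹ * (x ^ j * a) with ha'def
  have ha'N : a' ∈ Subgroup.normalizer (H : Set G) := mul_mem (inv_mem (Subgroup.le_normalizer hhj)) hn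
  have hcomB : h * a' * h⁻¹ * a'⁻¹ ∈ B := by
    refine ⟨?_, A.mul_mem ((inferInstance : A.Normal).conj_mem _ ha' h) (A.inv_mem ha')⟩
    rw [show h * a' * h⁻¹ * a'⁻¹ = h * (a' * h⁻¹ * a'⁻¹) by group]
    exact H.mul_mem hhH ((Subgroup.mem_normalizer_iff.mp ha'N _).mp (H.inv_mem hhH))
  obtain ⟨b, hb⟩ := (Finite.injective_iff_surjective.mp hφ) ⟨_, hcomB⟩
  have h3 := hkey b b.2.2 a' ha' (congrArg Subtype.val hb)
  have h4 : a' ∈ H := h3 ▸ b.2.1
  rw [show x ^ j * a = h ^ (m * j) * a' by rw [ha'def, mul_inv_cancel_left]]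
  exact mul_mem hhj h4

/-- Such a group is solvable or simple. -/
theorem SN.solvable_or_simple [Finite G] (h : SN G) : Group.IsSolvable G ∨ IsSimpleGroup G := by
  classical
  by_contra hcon
  rw [not_or] at hcon
  obtain ⟨hns, hnsimple⟩ := hcon
  have hperf : commutator G = ⊤ := by
    by_contra hne
    have hc := h.normal_comm (N := commutator G) hne
    refine hns (Group.isSolvable_of_ker_le_range (commutator G).subtype (Abelianization.of (G := G)) ?_
      (hG' := Group.isSolvable_of_comm fun a b => hc.is_comm.comm a b)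
      (hG'' := Group.isSolvable_of_comm fun a b => mul_comm a b))
    rw [Subgroup.range_subtype, Abelianization.ker_of]
  have : Nontrivial G := by
    by_contra hs
    rw [not_nontrivial_iff_subsingleton] at hs
    exact hns (Group.isSolvable_of_comm fun a b => Subsingleton.elim _ _)
  have hnocompl : ∀ (p : ℕ) [Fact p.Prime], p ∣ Nat.card G → ¬ HasNormalPComplement p G := by
    intro p hp hd hcp
    obtain ⟨N, hN, hcop, k, hk⟩ := Transfer.NormalPComplement.hasNormalPComplement_iff_exists.mp hcp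
    have hNtop : N ≠ ⊤ := fun e => by
      rw [e, Subgroup.card_top] at hcop
      exact (Nat.Prime.coprime_iff_not_dvd hp.out).mp hcop.symm hd
    have hq : IsPGroup p (G ⧸ N) := IsPGroup.of_card (n := k) (by rw [← Subgroup.index_eq_card, hk])
    refine hns (Group.isSolvable_of_ker_le_range N.subtype (QuotientGroup.mk' N) ?_
      (hG' := Group.isSolvable_of_comm fun a b => (h.normal_comm (N := N) hNtop).is_comm.comm a b)
      (hG'' := by have := hq.isNilpotent; infer_instance))
    rw [QuotientGroup.ker_mk', Subgroup.range_subtype]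
  by_cases hcase : ∃ N : Subgroup G, N.Normal ∧ N ≠ ⊤ ∧ ¬ N ≤ Subgroup.center G
  · -- a self-centralising normal subgroup
    obtain ⟨N, hN, hNtop, hNc⟩ := hcase
    have hNab := h.normal_comm (N := N) hNtop
    -- a non-central prime part
    obtain ⟨n, hnN, hnZ⟩ := SetLike.not_le_iff_exists.mp hNc
    obtain ⟨r, hr, w, hwN, hwZ, hwr⟩ : ∃ r : ℕ, r.Prime ∧ ∃ w ∈ N, w ∉ Subgroup.center G ∧ ∃ a, orderOf w = r ^ a := by
      by_contra hh
      push Not at hh
      have key : ∀ (o : ℕ) (w : G), orderOf w = o → w ∈ N → w ∈ Subgroup.center G := by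
        intro o
        induction o using Nat.strong_induction_on with
        | _ o ih =>
          intro w hw hwN
          by_cases ho : o = 1
          · rw [orderOf_eq_one_iff.mp (hw.trans ho)]; exact one_mem _
          obtain ⟨r, hr, hrd⟩ := Nat.exists_prime_and_dvd ho
          haveI := Fact.mk hr
          obtain ⟨a, s, hord, hrs, hsord⟩ := GStructB.PElements.exists_split r w
          refine GStructB.PElements.mem_of_pow_mem_coprime ((hr.coprime_iff_not_dvd.mpr hrs).pow_left a) ?_
            (by_contra fun hc => hh r hr (w ^ s) (Subgroup.pow_mem _ hwN s) hc a hsord)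
          have hd : r ^ a ∣ orderOf w := hord ▸ dvd_mul_right _ _
          refine ih (orderOf (w ^ r ^ a)) ?_ _ rfl (Subgroup.pow_mem _ hwN _)
          rw [orderOf_pow_of_dvd (pow_ne_zero _ hr.ne_zero) hd, ← hw]
          refine Nat.div_lt_self (orderOf_pos w) (Nat.one_lt_pow ?_ hr.one_lt)
          rintro rfl
          rw [hw] at hord
          rw [hord, pow_zero, one_mul] at hrd
          exact hrs hrd
      exact hnZ (key _ n rfl hnN)
    haveI := Fact.mk hr
    let R : Subgroup G :=
      { carrier := {m | m ∈ N ∧ ∃ a, m ^ r ^ a = 1}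
        one_mem' := ⟨one_mem _, 0, by simp⟩
        mul_mem' := fun {a b} ha hb => ⟨mul_mem ha.1 hb.1, by
          obtain ⟨i, hi⟩ := ha.2
          obtain ⟨j, hj⟩ := hb.2
          refine ⟨i + j, ?_⟩
          rw [Commute.mul_pow (comm_of_isMulCommutative hNab ha.1 hb.1), pow_add, pow_mul, hi, one_pow,
            mul_comm, pow_mul, hj, one_pow, one_mul]⟩
        inv_mem' := fun {a} ha => ⟨inv_mem ha.1, ha.2.imp fun i hi => by rw [inv_pow, hi, inv_one]⟩ }
    have hRn : R.Normal := ⟨fun a ha c => ⟨hN.conj_mem a ha.1 c, ha.2.imp fun i hi => by rw [conj_pow, hi]; group⟩⟩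
    have hRp : IsPGroup r R := fun ⟨m, hm⟩ => hm.2.imp fun i hi => Subtype.ext hi
    have hwR : w ∈ R := ⟨hwN, hwr.imp fun a ha => orderOf_dvd_iff_pow_eq_one.mp (dvd_of_eq ha)⟩
    set M := Subgroup.centralizer (R : Set G) with hM
    have hMn : M.Normal := Subgroup.normal_centralizer
    have hMtop : M ≠ ⊤ := fun e => hwZ (Subgroup.mem_center_iff.mpr fun c =>
      ((e ▸ Subgroup.mem_top c : c ∈ M) w hwR).symm)
    have hMab := h.normal_comm (N := M) hMtop
    have hRM : R ≤ M := fun a ha b hb => comm_of_isMulCommutative hNab hb.1 ha.1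
    have hCM : Subgroup.centralizer (M : Set G) ≤ M := Subgroup.centralizer_le hRM
    obtain ⟨p, hp, hpd, hpr⟩ : ∃ p : ℕ, p.Prime ∧ p ∣ M.index ∧ p ≠ r := by
      by_contra hh
      push Not at hh
      refine hns (Group.isSolvable_of_ker_le_range M.subtype (QuotientGroup.mk' M) ?_
        (hG' := Group.isSolvable_of_comm fun a b => hMab.is_comm.comm a b) (hG'' := ?_))
      · rw [QuotientGroup.ker_mk', Subgroup.range_subtype]
      · have hq : IsPGroup r (G ⧸ M) := IsPGroup.of_card (n := M.index.primeFactorsList.length) (by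
          rw [← Subgroup.index_eq_card]
          exact Nat.eq_prime_pow_of_unique_prime_dvd Subgroup.index_ne_zero_of_finite fun {d} hd1 hd2 => hh d hd1 hd2)
        have := hq.isNilpotent
        infer_instance
    haveI := Fact.mk hp
    obtain ⟨P₀⟩ : Nonempty (Sylow p G) := inferInstance
    set L := M ⊔ (P₀ : Subgroup G) with hL
    have hLsol : Group.IsSolvable L := by
      refine Group.isSolvable_of_ker_le_range (Subgroup.inclusion (le_sup_left : M ≤ L))
        ((QuotientGroup.mk' M).subgroupMap L) ?_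
        (hG' := Group.isSolvable_of_comm fun a b => hMab.is_comm.comm a b) (hG'' := ?_)
      · intro y hy
        rw [Subgroup.inclusion_range, Subgroup.mem_subgroupOf]
        exact (QuotientGroup.eq_one_iff (y : G)).mp (congrArg Subtype.val (MonoidHom.mem_ker.mp hy))
      · have hq : IsPGroup p (L.map (QuotientGroup.mk' M)) := by
          rw [hL, Subgroup.map_sup, QuotientGroup.map_mk'_self, bot_sup_eq]
          exact P₀.2.map _
        have := hq.isNilpotent
        infer_instance
    have hLnn : ¬ Group.IsNilpotent L := by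
      intro hnil
      have hP0M : ¬ (P₀ : Subgroup G) ≤ M := fun hle => by
        have h1 := Subgroup.index_dvd_of_le hle
        exact P₀.not_dvd_index (hpd.trans h1)
      refine hP0M fun y hy m hm => ?_
      obtain ⟨a, ha⟩ := IsPGroup.iff_orderOf.mp P₀.2 ⟨y, hy⟩
      obtain ⟨b, hb⟩ := IsPGroup.iff_orderOf.mp hRp ⟨m, hm⟩
      rw [Subgroup.orderOf_mk] at ha hb
      exact CN.commute_of_coprime hnil (Subgroup.mem_sup_left (hRM hm)) (Subgroup.mem_sup_right hy)
        (by rw [ha, hb]; exact ((Nat.coprime_primes hr hp).mpr (Ne.symm hpr)).pow _ _)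
    obtain ⟨x, A, q, hq, hAn, hAc, ⟨k, hxk⟩, hqA, hxA, hxq, hfpf⟩ := (h.subgroup L).structure hLnn
    have := hAn
    haveI := Fact.mk hq
    -- the prime of the complement is `p`
    have hqp : q = p := by
      by_contra hne
      have hnd : ∀ (s : ℕ), s.Prime → s ≠ q → ∀ y : L, (∃ j, orderOf y = s ^ j) → y ∈ A := by
        intro s hs hsq y ⟨j, hj⟩
        refine (QuotientGroup.eq_one_iff y).mp (orderOf_eq_one_iff.mp (Nat.eq_one_of_dvd_coprimes
          (((Nat.coprime_primes hs hq).mpr hsq).pow j k) (hj ▸ orderOf_map_dvd (QuotientGroup.mk' A) y) ?_))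
        rw [← hxk, ← Nat.card_zpowers x, ← hxA.index_eq_card, Subgroup.index_eq_card]
        exact orderOf_dvd_natCard _
      have hP0M : ¬ (P₀ : Subgroup G) ≤ M := fun hle => P₀.not_dvd_index (hpd.trans (Subgroup.index_dvd_of_le hle))
      refine hP0M fun y hy m hm => ?_
      obtain ⟨a, ha⟩ := IsPGroup.iff_orderOf.mp P₀.2 ⟨y, hy⟩
      obtain ⟨b, hb⟩ := IsPGroup.iff_orderOf.mp hRp ⟨m, hm⟩
      rw [Subgroup.orderOf_mk] at ha hb
      set yL : L := ⟨y, Subgroup.mem_sup_right hy⟩
      set mL : L := ⟨m, Subgroup.mem_sup_left (hRM hm)⟩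
      have hyA : yL ∈ A := hnd p hp (Ne.symm hne) yL ⟨a, by rw [Subgroup.orderOf_mk, ha]⟩
      by_cases hrq : r = q
      · -- then `[m, y]` is both an `r`-element and in `A`
        have hc : ⁅mL, yL⁆ ∈ A := by
          rw [commutatorElement_def]
          exact mul_mem (hAn.conj_mem _ hyA mL) (inv_mem hyA)
        have hcR : (⁅mL, yL⁆ : L) ∈ R.subgroupOf L := by
          rw [Subgroup.mem_subgroupOf]
          show m * y * m⁻¹ * y⁻¹ ∈ R
          rw [show m * y * m⁻¹ * y⁻¹ = m * (y * m⁻¹ * y⁻¹) by group]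
          exact mul_mem hm (hRn.conj_mem _ (inv_mem hm) y)
        obtain ⟨c, hc'⟩ := IsPGroup.iff_orderOf.mp hRp ⟨_, Subgroup.mem_subgroupOf.mp hcR⟩
        rw [Subgroup.orderOf_mk, Subgroup.orderOf_coe] at hc'
        have h1 : ⁅mL, yL⁆ = 1 := orderOf_eq_one_iff.mp (Nat.eq_one_of_dvd_coprimes
          (((hq.coprime_iff_not_dvd.mpr hqA)).pow_left c) (hrq ▸ hc'.dvd) (A.orderOf_dvd_natCard hc))
        exact congrArg Subtype.val (commutatorElement_eq_one_iff_mul_comm.mp h1)
      · have hmA : mL ∈ A := hnd r hr hrq mL ⟨b, by rw [Subgroup.orderOf_mk, hb]⟩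
        exact congrArg Subtype.val (comm_of_isMulCommutative hAc hmA hyA)
    subst hqp
    -- `⟨x⟩` is a self-normalising Sylow subgroup
    have hXcard : Nat.card (Subgroup.zpowers (x : G)) = q ^ (Nat.card G).factorization q := by
      rw [Nat.card_zpowers, Subgroup.orderOf_coe, hxk]
      have h1 : Nat.card L = q ^ k * Nat.card A := by
        rw [← hxA.card_mul, Nat.card_zpowers, hxk]
      have h2 : q ^ (Nat.card G).factorization q ∣ q ^ k * Nat.card A := by
        rw [← h1, ← P₀.card_eq_multiplicity]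
        exact Subgroup.card_dvd_of_le le_sup_right
      have h3 : q ^ k ∣ Nat.card G := by
        rw [← hxk, ← Subgroup.orderOf_coe]; exact orderOf_dvd_natCard _
      congr 1
      refine le_antisymm ((hq.pow_dvd_iff_le_factorization Nat.card_pos.ne').mp h3) ?_
      exact (Nat.pow_dvd_pow_iff_le_right hq.one_lt).mp
        (((hq.coprime_iff_not_dvd.mpr hqA).pow_left _).dvd_of_dvd_mul_right h2)
    let X : Sylow q G := Sylow.ofCard (Subgroup.zpowers (x : G)) hXcard
    refine hnocompl q (hpd.trans (Subgroup.index_dvd_card M))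
      (Transfer.NormalPComplement.hasNormalPComplement_of_normalizer_le_centralizer X ?_)
    have hLeq : L = M ⊔ Subgroup.zpowers (x : G) := by
      refine le_antisymm ?_ (sup_le le_sup_left (Subgroup.zpowers_le.mpr x.2))
      intro y hy
      obtain ⟨_, ⟨j, rfl⟩, a, ha, hyj⟩ := Subgroup.mem_sup_of_normal_right.mp
        (show (⟨y, hy⟩ : L) ∈ Subgroup.zpowers x ⊔ A by rw [hxA.sup_eq_top]; exact Subgroup.mem_top _)
      have haM : (a : G) ∈ M := by
        have hM' : (M.subgroupOf L).Normal := hMn.subgroupOf L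
        rw [← QuotientGroup.eq_one_iff]
        show QuotientGroup.mk' M (a : G) = 1
        refine orderOf_eq_one_iff.mp ?_
        have hqg : IsPGroup q (L.map (QuotientGroup.mk' M)) := by
          rw [hL, Subgroup.map_sup, QuotientGroup.map_mk'_self, bot_sup_eq]
          exact P₀.2.map _
        obtain ⟨c, hc⟩ := IsPGroup.iff_orderOf.mp hqg ⟨_, (a : G), a.2, rfl⟩
        have hc' : orderOf (QuotientGroup.mk' M (a : G)) = q ^ c := (Subgroup.orderOf_mk _ _).symm.trans hc
        refine Nat.eq_one_of_dvd_coprimes ((hq.coprime_iff_not_dvd.mpr hqA).pow_left c) hc'.dvd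
          ((orderOf_map_dvd _ _).trans ?_)
        rw [Subgroup.orderOf_coe]
        exact A.orderOf_dvd_natCard ha
      rw [show y = ((x : G) ^ j) * (a : G) by
        have := congrArg Subtype.val hyj.symm
        simpa using this]
      exact mul_mem (Subgroup.mem_sup_right (Subgroup.zpow_mem _ (Subgroup.mem_zpowers _) j))
        (Subgroup.mem_sup_left haM)
    show Subgroup.normalizer (Subgroup.zpowers (x : G) : Set G) ≤ Subgroup.centralizer (Subgroup.zpowers (x : G) : Set G)
    intro g hg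
    have hgL : g ∈ L := by
      have hLna : ¬ IsMulCommutative L := fun hc => hLnn
        (@CommGroup.isNilpotent L { (inferInstance : Group L) with mul_comm := hc.is_comm.comm })
      rw [← h L hLna]
      have hgn : Subgroup.normalizer (Subgroup.zpowers (x : G) : Set G) ≤ Subgroup.normalizer (L : Set G) := by
        intro g hg
        have h1 : MulAut.conj g • L = L := by
          rw [hLeq, Subgroup.smul_sup, Coprime.conj_smul_eq_self_iff.mpr (show g ∈ Subgroup.normalizer (M : Set G) by
            rw [Subgroup.normalizer_eq_top]; exact Subgroup.mem_top g), Coprime.conj_smul_eq_self_iff.mpr hg]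
        exact Coprime.conj_smul_eq_self_iff.mp h1
      exact hgn hg
    obtain ⟨_, ⟨j, rfl⟩, a, ha, hgj⟩ := Subgroup.mem_sup_of_normal_right.mp
      (show (⟨g, hgL⟩ : L) ∈ Subgroup.zpowers x ⊔ A by rw [hxA.sup_eq_top]; exact Subgroup.mem_top _)
    have haN : (a : G) ∈ Subgroup.normalizer (Subgroup.zpowers (x : G) : Set G) := by
      have e : (a : G) = ((x : G) ^ j)⁻¹ * g := by
        rw [show g = ((x : G) ^ j) * (a : G) by
          have := congrArg Subtype.val hgj.symm
          simpa using this, inv_mul_cancel_left]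
      rw [e]
      exact mul_mem (inv_mem (Subgroup.le_normalizer (Subgroup.zpow_mem _ (Subgroup.mem_zpowers _) j))) hg
    have ha1 : a = 1 := by
      by_contra hne
      refine hfpf a ha hne ?_
      obtain ⟨l, hl⟩ := (Subgroup.mem_normalizer_iff.mp haN (x : G)).mp (Subgroup.mem_zpowers _)
      have hl' : a * x * a⁻¹ = x ^ l := Subtype.ext (by simpa using hl.symm)
      have hz : a * (x * a⁻¹ * x⁻¹) ∈ Subgroup.zpowers x := by
        rw [show a * (x * a⁻¹ * x⁻¹) = a * x * a⁻¹ * x⁻¹ by group, hl']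
        exact mul_mem (Subgroup.zpow_mem _ (Subgroup.mem_zpowers _) l) (inv_mem (Subgroup.mem_zpowers _))
      have h5 := Subgroup.mem_bot.mp (hxA.disjoint.le_bot ⟨hz, mul_mem ha (hAn.conj_mem _ (inv_mem ha) x)⟩)
      have h6 := congrArg (fun y => y⁻¹ * a) h5
      calc x * a * x⁻¹ = (a * (x * a⁻¹ * x⁻¹))⁻¹ * a := by group
        _ = a := by rw [h5]; group
    intro y hy
    obtain ⟨l, rfl⟩ := hy
    rw [show g = ((x : G) ^ j) * (a : G) by
      have := congrArg Subtype.val hgj.symm
      simpa using this, ha1, Subgroup.coe_one, mul_one]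
    exact ((Commute.refl (x : G)).zpow_zpow l j).eq
  · -- all proper normal subgroups are central
    push Not at hcase
    obtain ⟨r, hr, hrd⟩ : ∃ r : ℕ, r.Prime ∧ r ∣ Nat.card (Subgroup.center G) := by
      refine Nat.exists_prime_and_dvd fun h1 => hnsimple ⟨fun N hN => ?_⟩
      by_cases hNtop : N = ⊤
      · exact Or.inr hNtop
      · exact Or.inl (le_bot_iff.mp ((hcase N hN hNtop).trans (Subgroup.card_eq_one.mp h1).le))
    haveI := Fact.mk hr
    obtain ⟨z, hz⟩ := exists_prime_orderOf_dvd_card' r hrd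
    have hzr : orderOf (z : G) = r := by rw [Subgroup.orderOf_coe, hz]
    have hz1 : (z : G) ≠ 1 := fun e => by rw [e, orderOf_one] at hzr; exact hr.ne_one hzr.symm
    refine hnocompl r (hzr ▸ orderOf_dvd_natCard _) (Transfer.Frobenius.hasNormalPComplement_of_condition ?_)
    intro Q hQ g hg hgr d hd
    -- `⟨g, Q, z⟩` is solvable, hence proper
    set Qz := Q ⊔ Subgroup.zpowers (z : G) with hQz
    have hzn : (Subgroup.zpowers (z : G)).Normal := ⟨fun y hy c => by
      rw [Subgroup.mem_center_iff.mp ((Subgroup.zpowers_le.mpr z.2) hy) c, mul_inv_cancel_right]; exact hy⟩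
    have hQzp : IsPGroup r Qz :=
      hQ.to_sup_of_normal_right (IsPGroup.of_card (n := 1) (by rw [Nat.card_zpowers, hzr, pow_one]))
    set L := Subgroup.zpowers g ⊔ Qz with hL
    have hnorm : Subgroup.zpowers g ≤ Subgroup.normalizer (Qz : Set G) := by
      rw [Subgroup.zpowers_le]
      apply Coprime.conj_smul_eq_self_iff.mp
      rw [hQz, Subgroup.smul_sup, Coprime.conj_smul_eq_self_iff.mpr (show g ∈ Subgroup.normalizer (Subgroup.zpowers (z : G) : Set G) by
        rw [Subgroup.normalizer_eq_top]; exact Subgroup.mem_top g), Coprime.conj_smul_eq_self_iff.mpr hg]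
    have hQzn : (Qz.subgroupOf L).Normal :=
      Subgroup.normal_subgroupOf_of_le_normalizer (sup_le hnorm Subgroup.le_normalizer)
    have hLsol : Group.IsSolvable L := by
      refine Group.isSolvable_of_ker_le_range (Qz.subgroupOf L).subtype (QuotientGroup.mk' (Qz.subgroupOf L)) ?_
        (hG' := ?_) (hG'' := ?_)
      · rw [QuotientGroup.ker_mk', Subgroup.range_subtype]
      · have : Group.IsNilpotent (Qz.subgroupOf L) :=
          (hQzp.of_equiv (Subgroup.subgroupOfEquivOfLe le_sup_right).symm).isNilpotent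
        infer_instance
      · refine Group.isSolvable_of_surjective (G := Subgroup.zpowers g)
          (f := (QuotientGroup.mk' (Qz.subgroupOf L)).comp (Subgroup.inclusion le_sup_left)) ?_
        intro c
        obtain ⟨c, rfl⟩ := QuotientGroup.mk'_surjective _ c
        obtain ⟨u, hu, v, hv, huv⟩ := (Coprime.mem_sup_of_le_normalizer hnorm).mp
          (show (c : G) ∈ Qz ⊔ Subgroup.zpowers g by rw [sup_comm, ← hL]; exact c.2)
        refine ⟨⟨v, hv⟩, ?_⟩
        show QuotientGroup.mk' (Qz.subgroupOf L) (Subgroup.inclusion le_sup_left ⟨v, hv⟩) = QuotientGroup.mk' (Qz.subgroupOf L) c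
        refine QuotientGroup.eq.mpr (Subgroup.mem_subgroupOf.mpr ?_)
        show v⁻¹ * (c : G) ∈ Qz
        rw [← huv]
        have h2 := (Subgroup.mem_normalizer_iff.mp (inv_mem (hnorm hv)) u).mp hu
        rw [inv_inv] at h2
        rwa [← mul_assoc]
    set gL : L := ⟨g, Subgroup.mem_sup_left (Subgroup.mem_zpowers g)⟩
    set dL : L := ⟨d, Subgroup.mem_sup_right (Subgroup.mem_sup_left hd)⟩
    obtain ⟨b, hb⟩ := IsPGroup.iff_orderOf.mp hQ ⟨d, hd⟩
    rw [Subgroup.orderOf_mk] at hb
    by_cases hnil : Group.IsNilpotent L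
    · exact CN.commute_of_coprime hnil dL.2 gL.2 (by rw [show orderOf (dL : G) = r ^ b from hb]; exact (hgr.symm).pow_left b)
    obtain ⟨x, A, q, hq, hAn, hAc, ⟨k, hxk⟩, hqA, hxA, hxq, hfpf⟩ := (h.subgroup L).structure hnil
    have := hAn
    haveI := Fact.mk hq
    have hnd : ∀ y : L, (orderOf y).Coprime q → y ∈ A := by
      intro y hy
      refine (QuotientGroup.eq_one_iff y).mp (orderOf_eq_one_iff.mp (Nat.eq_one_of_dvd_coprimes
        (hy.pow_right k) (orderOf_map_dvd (QuotientGroup.mk' A) y) ?_))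
      rw [← hxk, ← Nat.card_zpowers x, ← hxA.index_eq_card, Subgroup.index_eq_card]
      exact orderOf_dvd_natCard _
    by_cases hrq : r = q
    · subst hrq
      have hgA : gL ∈ A := hnd gL (by rw [Subgroup.orderOf_mk]; exact hgr)
      have hc : ⁅dL, gL⁆ ∈ A := by
        rw [commutatorElement_def]
        exact mul_mem (hAn.conj_mem _ hgA dL) (inv_mem hgA)
      have hcQ : d * g * d⁻¹ * g⁻¹ ∈ Q := by
        rw [show d * g * d⁻¹ * g⁻¹ = d * (g * d⁻¹ * g⁻¹) by group]
        exact mul_mem hd ((Subgroup.mem_normalizer_iff.mp hg _).mp (inv_mem hd))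
      obtain ⟨c, hc'⟩ := IsPGroup.iff_orderOf.mp hQ ⟨_, hcQ⟩
      rw [Subgroup.orderOf_mk] at hc'
      have h1 : ⁅dL, gL⁆ = 1 := orderOf_eq_one_iff.mp (Nat.eq_one_of_dvd_coprimes
        ((hr.coprime_iff_not_dvd.mpr hqA).pow_left c) (by
          rw [← Subgroup.orderOf_coe]
          exact hc'.dvd) (A.orderOf_dvd_natCard hc))
      exact congrArg Subtype.val (commutatorElement_eq_one_iff_mul_comm.mp h1)
    · exfalso
      set zL : L := ⟨z, Subgroup.mem_sup_right (Subgroup.mem_sup_right (Subgroup.mem_zpowers _))⟩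
      have hzA : zL ∈ A := hnd zL (by rw [Subgroup.orderOf_mk, hzr]; exact (Nat.coprime_primes hr hq).mpr hrq)
      refine hfpf zL hzA (fun e => hz1 (congrArg Subtype.val e)) (Subtype.ext ?_)
      show (x : G) * z * (x : G)⁻¹ = z
      rw [Subgroup.mem_center_iff.mp z.2 (x : G), mul_inv_cancel_right]

end Cfsg.Agent.GStructB.SelfNormalizing
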