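import Mathlib
import Cfsg.Agent.GStructB.ClassGraph
import Cfsg.Agent.GStructB.PElements
import Cfsg.Agent.GStructB.ClassPrimes

/-!
# The graph on the primes dividing class sizes of `p`-singular elements

If `p` does not divide the order of the centre, no two class sizes of `p`-singular elements are
separated, i.e. some class size of a `p`-singular element meets both of them.  Hence the graph has
diameter at most three.
-/

set_option autoImplicit false
set_option linter.style.haveILetI false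

namespace Cfsg.Agent.GStructB.SingularClassGraph

open Subgroup
open scoped Pointwise

variable {G : Type*} [Group G] [Finite G] {p : ℕ}

/-- The class size. -/
noncomputable def cs (x : G) : ℕ := (centralizer ({x} : Set G)).index

/-- No `p`-singular class size meets both of those of `x` and `y`. -/
def Sep (p : ℕ) (x y : G) : Prop :=
  ∀ w : G, p ∣ orderOf w → ∀ t u : ℕ, t.Prime → u.Prime → t ∣ cs x → t ∣ cs w → u ∣ cs w →
    u ∣ cs y → False

omit [Finite G] in
theorem Sep.symm {x y : G} (h : Sep p x y) : Sep p y x :=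
  fun w hw t u ht hu h1 h2 h3 h4 => h w hw u t hu ht h4 h3 h2 h1

omit [Finite G] in
theorem cs_conj (g x : G) : cs (g * x * g⁻¹) = cs x := by
  have h : centralizer ({g * x * g⁻¹} : Set G) =
      (centralizer ({x} : Set G)).map (MulAut.conj g).toMonoidHom := by
    ext y
    simp only [mem_map, mem_centralizer_singleton_iff, MulEquiv.coe_toMonoidHom,
      MulAut.conj_apply]
    constructor
    · intro hy
      refine ⟨g⁻¹ * y * g, ?_, by group⟩
      calc g⁻¹ * y * g * x = g⁻¹ * (y * (g * x * g⁻¹)) * g := by group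
        _ = g⁻¹ * (g * x * g⁻¹ * y) * g := by rw [hy]
        _ = x * (g⁻¹ * y * g) := by group
    · rintro ⟨z, hz, rfl⟩
      calc g * z * g⁻¹ * (g * x * g⁻¹) = g * (z * x) * g⁻¹ := by group
        _ = g * (x * z) * g⁻¹ := by rw [hz]
        _ = g * x * g⁻¹ * (g * z * g⁻¹) := by group
  exact (congrArg Subgroup.index h).trans (index_map_equiv _ (MulAut.conj g))

omit [Finite G] in
theorem cs_eq_one_iff {x : G} : cs x = 1 ↔ x ∈ center G := by
  rw [cs, index_eq_one, centralizer_eq_top_iff_subset, Set.singleton_subset_iff, SetLike.mem_coe]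

omit [Finite G] in
theorem natCard_class (x : G) :
    Nat.card {d : G // ∃ g : G, g * x * g⁻¹ = d} = cs x := by
  rw [cs, index, Nat.card_congr]
  refine (Equiv.ofBijective (fun q : G ⧸ centralizer ({x} : Set G) =>
    (⟨q.out * x * q.out⁻¹, q.out, rfl⟩ : {d : G // ∃ g : G, g * x * g⁻¹ = d})) ⟨?_, ?_⟩).symm
  · intro q r h
    have h1 : q.out * x * q.out⁻¹ = r.out * x * r.out⁻¹ := congrArg Subtype.val h
    rw [← q.out_eq, ← r.out_eq]
    refine QuotientGroup.eq.mpr (mem_centralizer_singleton_iff.mpr ?_)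
    calc q.out⁻¹ * r.out * x = q.out⁻¹ * (r.out * x * r.out⁻¹) * r.out := by group
      _ = q.out⁻¹ * (q.out * x * q.out⁻¹) * r.out := by rw [h1]
      _ = x * (q.out⁻¹ * r.out) := by group
  · rintro ⟨d, g, rfl⟩
    refine ⟨QuotientGroup.mk g, Subtype.ext ?_⟩
    obtain ⟨k, hk⟩ := QuotientGroup.mk_out_eq_mul (centralizer ({x} : Set G)) g
    show (QuotientGroup.mk g : G ⧸ centralizer ({x} : Set G)).out * x * _⁻¹ = g * x * g⁻¹
    rw [hk]
    calc g * k * x * (g * k)⁻¹ = g * ((k : G) * x) * (k : G)⁻¹ * g⁻¹ := by group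
      _ = g * (x * k) * (k : G)⁻¹ * g⁻¹ := by rw [mem_centralizer_singleton_iff.mp k.2]
      _ = g * x * g⁻¹ := by group

omit [Finite G] in
theorem index_dvd_of_pow {x : G} (k : ℕ) : cs (x ^ k) ∣ cs x :=
  index_dvd_of_le fun y hy => mem_centralizer_singleton_iff.mpr
    ((Commute.pow_right (mem_centralizer_singleton_iff.mp hy : Commute y x) k).eq)

theorem factor {u v : G} (hco : (cs u).Coprime (cs v)) (g : G) :
    ∃ c d : G, Commute c u ∧ Commute d v ∧ g = c * d := by
  obtain ⟨c, hc, d, hd, he⟩ := ClassGraph.product_of_coprime (⊤ : Subgroup G)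
    (centralizer ({u} : Set G)) (centralizer ({v} : Set G)) le_top le_top
    (by rw [relIndex_top_right, relIndex_top_right]; exact hco) g (mem_top g)
  exact ⟨c, d, mem_centralizer_singleton_iff.mp hc, mem_centralizer_singleton_iff.mp hd, he⟩

/-- With coprime class sizes commuting elements have all conjugates commuting. -/
theorem conj_commute_all {u v : G} (hco : (cs u).Coprime (cs v)) (huv : Commute u v) (g h : G) :
    Commute (g * u * g⁻¹) (h * v * h⁻¹) := by
  obtain ⟨c, d, hc, hd, he⟩ := factor hco (g⁻¹ * h)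
  have hh : h = g * c * d := by rw [mul_assoc, ← he, mul_inv_cancel_left]
  have h1 : h * v * h⁻¹ = (g * c) * v * (g * c)⁻¹ := by
    rw [hh]
    calc g * c * d * v * (g * c * d)⁻¹ = g * c * (d * v) * d⁻¹ * (g * c)⁻¹ := by group
      _ = g * c * (v * d) * d⁻¹ * (g * c)⁻¹ := by rw [hd.eq]
      _ = _ := by group
  have h2 : g * u * g⁻¹ = (g * c) * u * (g * c)⁻¹ := by
    calc g * u * g⁻¹ = g * (u * c) * c⁻¹ * g⁻¹ := by group
      _ = g * (c * u) * c⁻¹ * g⁻¹ := by rw [← hc.eq]
      _ = _ := by group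
  rw [h1, h2]
  exact Commute.conj_iff _ |>.mpr huv

/-- If the class size of `u * v` is prime to that of `v`, the class of `u` is stable under
multiplication by `v⁻¹ v'` for conjugates `v'` of `v`. -/
theorem step {u v : G} (huv : Commute u v) (hco : (cs u).Coprime (cs v))
    (hw : (cs (u * v)).Coprime (cs v)) :
    (∀ g : G, Commute (g * v * g⁻¹) v) ∧
      ∀ [Fact p.Prime] {k e : ℕ}, (v ^ e) ^ (p ^ k) = 1 → v ^ e ∉ center G → p ∣ cs u := by
  classical
  set D : Set G := {d | ∃ g : G, g * u * g⁻¹ = d} with hD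
  set E : Set G := {d | ∃ g : G, g * (u * v) * g⁻¹ = d} with hE
  -- the class sizes of `u` and `u * v` agree
  have hWU : cs (u * v) = cs u := by
    set I := centralizer ({u} : Set G) ⊓ centralizer ({v} : Set G) with hI
    have hle : I ≤ centralizer ({u * v} : Set G) := fun y hy => mem_centralizer_singleton_iff.mpr
      ((Commute.mul_right (mem_centralizer_singleton_iff.mp hy.1 : Commute y u)
        (mem_centralizer_singleton_iff.mp hy.2 : Commute y v)).eq)
    have hIv : centralizer ({u * v} : Set G) ⊓ centralizer ({v} : Set G) ≤ I := fun y hy => by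
      refine ⟨mem_centralizer_singleton_iff.mpr ?_, hy.2⟩
      have h1 : Commute y (u * v) := mem_centralizer_singleton_iff.mp hy.1
      have h2 : Commute y v := mem_centralizer_singleton_iff.mp hy.2
      have h3 := h1.mul_right h2.inv_right
      rw [mul_inv_cancel_right] at h3
      exact h3.eq
    have hIeq : I.index = cs u * cs v := by
      refine le_antisymm (index_inf_le) (Nat.le_of_dvd (Nat.pos_of_ne_zero index_ne_zero_of_finite) ?_)
      exact hco.mul_dvd_of_dvd_of_dvd (index_dvd_of_le inf_le_left) (index_dvd_of_le inf_le_right)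
    have h1 : cs (u * v) ∣ cs u := hw.dvd_of_dvd_mul_right (hIeq ▸ index_dvd_of_le hle)
    refine Nat.dvd_antisymm h1 (hco.dvd_of_dvd_mul_right ?_)
    have h3 : I = centralizer ({u * v} : Set G) ⊓ centralizer ({v} : Set G) :=
      le_antisymm (le_inf hle inf_le_right) hIv
    have h2 : I.index ≤ cs (u * v) * cs v := h3 ▸ index_inf_le
    rw [hIeq] at h2
    have hv0 : 0 < cs v := Nat.pos_of_ne_zero index_ne_zero_of_finite
    have : cs u ≤ cs (u * v) := Nat.le_of_mul_le_mul_right h2 hv0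
    have h4 := Nat.le_of_dvd (Nat.pos_of_ne_zero index_ne_zero_of_finite) h1
    exact Dvd.dvd.mul_right (le_antisymm this h4 ▸ dvd_rfl) _
  -- multiplication by a conjugate of `v`
  have hmap : ∀ g d : G, d ∈ D → g * v * g⁻¹ * d ∈ E := by
    rintro g _ ⟨h, rfl⟩
    obtain ⟨c, e, hc, he, hce⟩ := factor hco (h⁻¹ * g)
    refine ⟨h * c, ?_⟩
    have hg : g = h * c * e := by rw [mul_assoc, ← hce, mul_inv_cancel_left]
    rw [hg]
    calc h * c * (u * v) * (h * c)⁻¹
        = h * c * (v * u) * (h * c)⁻¹ := by rw [huv.eq]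
      _ = (h * c * (v * e) * e⁻¹ * (h * c)⁻¹) * (h * ((c * u) * c⁻¹) * h⁻¹) := by group
      _ = (h * c * (e * v) * e⁻¹ * (h * c)⁻¹) * (h * ((u * c) * c⁻¹) * h⁻¹) := by rw [he.eq, hc.eq]
      _ = h * c * e * v * (h * c * e)⁻¹ * (h * u * h⁻¹) := by group
  have hsmul : ∀ g : G, (g * v * g⁻¹) • D = E := by
    intro g
    refine Set.eq_of_subset_of_ncard_le ?_ ?_ (Set.toFinite _)
    · rintro _ ⟨d, hd, rfl⟩
      exact hmap g d hd
    · rw [Set.ncard_smul_set, ← Nat.card_coe_set_eq, ← Nat.card_coe_set_eq]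
      show Nat.card {d : G // ∃ g : G, g * (u * v) * g⁻¹ = d} ≤
        Nat.card {d : G // ∃ g : G, g * u * g⁻¹ = d}
      rw [natCard_class, natCard_class, hWU]
  set S := MulAction.stabilizer G D with hS
  set M := Subgroup.closure {m : G | ∃ g : G, m = v⁻¹ * (g * v * g⁻¹)} with hM
  have hMS : M ≤ S := by
    rw [hM, closure_le]
    rintro _ ⟨g, rfl⟩
    show (v⁻¹ * (g * v * g⁻¹)) • D = D
    rw [mul_smul, hsmul g]
    have h1 := hsmul 1
    rw [one_mul, inv_one, mul_one] at h1
    rw [← h1, inv_smul_smul]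
  -- orders of elements stabilizing `D`
  have hdiv : ∀ (t : ℕ) [Fact t.Prime], ∀ m ∈ S, orderOf m = t → t ∣ cs u := by
    intro t ht m hm hmt
    let Z := zpowers m
    have hZ : Z ≤ S := zpowers_le.mpr hm
    letI : MulAction Z {d : G // ∃ g : G, g * u * g⁻¹ = d} :=
      { smul := fun z d => ⟨(z : G) * d.1, by
          have h1 : (z : G) • D = D := hZ z.2
          have h2 : (z : G) * d.1 ∈ (z : G) • D := ⟨d.1, d.2, rfl⟩
          rw [h1] at h2
          exact h2⟩
        one_smul := fun d => Subtype.ext (one_mul _)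
        mul_smul := fun a b d => Subtype.ext (mul_assoc _ _ _) }
    have hZp : IsPGroup t Z := IsPGroup.of_card (n := 1) (by rw [Nat.card_zpowers, hmt, pow_one])
    have h := hZp.card_modEq_card_fixedPoints {d : G // ∃ g : G, g * u * g⁻¹ = d}
    have h0 : IsEmpty (MulAction.fixedPoints Z {d : G // ∃ g : G, g * u * g⁻¹ = d}) := ⟨fun d => by
      have h1 : m * d.1.1 = d.1.1 := congrArg Subtype.val (d.2 ⟨m, mem_zpowers m⟩)
      rw [mul_eq_right] at h1
      rw [h1, orderOf_one] at hmt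
      exact (Fact.out : t.Prime).ne_one hmt.symm⟩
    rw [natCard_class, Nat.card_of_isEmpty, Nat.modEq_zero_iff_dvd] at h
    exact h
  -- `v` centralizes `M`
  have hMn : M.Normal := ⟨fun m hm a => by
    rw [hM] at hm ⊢
    induction hm using closure_induction with
    | mem x hx =>
      obtain ⟨g, rfl⟩ := hx
      have h1 : v⁻¹ * (a * v * a⁻¹) ∈ Subgroup.closure {m : G | ∃ g : G, m = v⁻¹ * (g * v * g⁻¹)} :=
        subset_closure ⟨a, rfl⟩
      have h2 : v⁻¹ * (a * g * v * (a * g)⁻¹) ∈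
          Subgroup.closure {m : G | ∃ g : G, m = v⁻¹ * (g * v * g⁻¹)} := subset_closure ⟨a * g, rfl⟩
      have h3 := mul_mem (inv_mem h1) h2
      convert h3 using 1
      group
    | one => simp
    | mul x y _ _ hx hy =>
      have h3 := mul_mem hx hy
      convert h3 using 1
      group
    | inv x _ hx =>
      have h3 := inv_mem hx
      convert h3 using 1
      group⟩
  have hMv : M ≤ centralizer ({v} : Set G) := by
    by_contra hnle
    obtain ⟨t, ht, htd⟩ := ClassGraph.exists_prime_dvd_relIndex hnle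
    haveI : Fact t.Prime := ⟨ht⟩
    have htv : t ∣ cs v := htd.trans (ClassGraph.relIndex_dvd_index M _)
    have htM : t ∣ Nat.card M := htd.trans (relIndex_dvd_card _ _)
    obtain ⟨m, hm⟩ := exists_prime_orderOf_dvd_card' t htM
    have htu := hdiv t (m : G) (hMS m.2) (by rw [orderOf_coe, hm])
    exact ht.ne_one (Nat.dvd_one.mp (hco.gcd_eq_one ▸ Nat.dvd_gcd htu htv))
  have hcomm : ∀ g : G, Commute (g * v * g⁻¹) v := by
    intro g
    have h1 : Commute (v⁻¹ * (g * v * g⁻¹)) v :=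
      mem_centralizer_singleton_iff.mp (hMv (subset_closure ⟨g, rfl⟩))
    have := (Commute.refl v).mul_left h1
    rwa [mul_inv_cancel_left] at this
  refine ⟨hcomm, fun {_} {k e} hve hnc => ?_⟩
  obtain ⟨g, hg⟩ : ∃ g : G, g * v ^ e * g⁻¹ ≠ v ^ e := by
    by_contra hcon
    push Not at hcon
    exact hnc (mem_center_iff.mpr fun g => by
      have := hcon g
      rwa [mul_inv_eq_iff_eq_mul] at this)
  set m := (v⁻¹ * (g * v * g⁻¹)) ^ e with hmdef
  have hc : Commute v⁻¹ (g * v * g⁻¹) := (hcomm g).symm.inv_left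
  have hm' : m = (v ^ e)⁻¹ * (g * v ^ e * g⁻¹) := by rw [hmdef, hc.mul_pow, inv_pow, conj_pow]
  have hm1 : m ≠ 1 := fun h0 => hg (by
    rw [hm'] at h0
    exact (inv_mul_eq_one.mp h0).symm)
  have hmk : m ^ (p ^ k) = 1 := by
    have hc2 : Commute (v⁻¹ ^ e) ((g * v * g⁻¹) ^ e) := hc.pow_pow e e
    rw [hmdef, hc.mul_pow, hc2.mul_pow, inv_pow, inv_pow, hve, conj_pow, conj_pow, hve]
    simp
  obtain ⟨i, -, hi⟩ := (Nat.dvd_prime_pow (Fact.out : p.Prime)).mp (orderOf_dvd_of_pow_eq_one hmk)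
  rcases i with _ | i
  · exact absurd (orderOf_eq_one_iff.mp (by simpa using hi)) hm1
  refine hdiv p (m ^ (p ^ i)) (pow_mem (pow_mem (hMS (subset_closure ⟨g, rfl⟩)) e) _) ?_
  rw [orderOf_pow, hi, Nat.gcd_eq_right (pow_dvd_pow p (Nat.le_succ i)),
    Nat.pow_div (Nat.le_succ i) (Fact.out : p.Prime).pos]
  simp

omit [Finite G] in
theorem dvd_orderOf_of_pow {w : G} {k : ℕ} [Fact p.Prime] (h : w ^ (p ^ k) = 1) (h1 : w ≠ 1) :
    p ∣ orderOf w := by
  obtain ⟨i, -, hi⟩ := (Nat.dvd_prime_pow (Fact.out : p.Prime)).mp (orderOf_dvd_of_pow_eq_one h)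
  rcases i with _ | i
  · exact absurd (orderOf_eq_one_iff.mp (by simpa using hi)) h1
  · exact hi ▸ dvd_pow_self p (Nat.succ_ne_zero i)

/-- The `p`-part of a `p`-singular element is not central. -/
theorem exists_ppart [hp : Fact p.Prime] (hZ : ¬ p ∣ Nat.card (center G)) {x : G}
    (hx : p ∣ orderOf x) :
    ∃ a : G, ∃ k : ℕ, orderOf a = p ^ k ∧ p ∣ orderOf a ∧ cs a ∣ cs x ∧ cs a ≠ 1 := by
  obtain ⟨k, s, hks, hs, hord⟩ := PElements.exists_split p x
  have hk : k ≠ 0 := by
    rintro rfl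
    rw [pow_zero, one_mul] at hks
    exact hs (hks ▸ hx)
  refine ⟨x ^ s, k, hord, hord ▸ dvd_pow_self p hk, index_dvd_of_pow s, fun h1 => hZ ?_⟩
  have hc := cs_eq_one_iff.mp h1
  exact ((hord ▸ dvd_pow_self p hk : p ∣ orderOf (x ^ s))).trans
    (Subgroup.orderOf_dvd_natCard _ hc)

omit [Finite G] in
/-- Splitting into a `p`-part and a `p'`-part. -/
theorem exists_parts {g : G} {k s : ℕ} (hks : orderOf g = p ^ k * s) (hcop : (p ^ k).Coprime s) :
    ∃ u h : G, g = u * h ∧ Commute u h ∧ u ^ (p ^ k) = 1 ∧ h ^ s = 1 ∧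
      u ∈ zpowers g ∧ h ∈ zpowers g := by
  have hbez := Nat.gcd_eq_gcd_ab (p ^ k) s
  rw [hcop.gcd_eq_one, Nat.cast_one] at hbez
  refine ⟨g ^ ((s : ℤ) * (p ^ k).gcdB s), g ^ (((p ^ k : ℕ) : ℤ) * (p ^ k).gcdA s), ?_,
    (Commute.refl g).zpow_zpow _ _, ?_, ?_, zpow_mem_zpowers g _, zpow_mem_zpowers g _⟩
  · rw [← zpow_add, add_comm, ← hbez, zpow_one]
  · rw [← zpow_natCast, ← zpow_mul, ← orderOf_dvd_iff_zpow_eq_one, hks]
    exact ⟨(p ^ k).gcdB s, by push_cast; ring⟩
  · rw [← zpow_natCast, ← zpow_mul, ← orderOf_dvd_iff_zpow_eq_one, hks]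
    exact ⟨(p ^ k).gcdA s, by push_cast; ring⟩

/-- No two `p`-singular class sizes are separated; `p`-regular case of the second one. -/
theorem not_sep_core [hp : Fact p.Prime] (hZ : ¬ p ∣ Nat.card (center G)) {x y : G}
    (hx : p ∣ orderOf x) (hy : p ∣ orderOf y) (hpy : ¬ p ∣ cs y) (hsep : Sep p x y) : False := by
  classical
  obtain ⟨a, ka, hak, hpa, hax, ha1⟩ := exists_ppart hZ hx
  obtain ⟨b₀, kb, hbk₀, hpb₀, hby₀, hb1₀⟩ := exists_ppart hZ hy
  have hp' : p.Prime := hp.out
  -- a conjugate of `b₀` commuting with `a`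
  obtain ⟨Q, haQ⟩ := PElements.exists_mem_sylow hak
  obtain ⟨c₀, hc₀⟩ := ClassPrimes.exists_conj_mem_centralizer Q (fun h => hpy (h.trans hby₀) :
    ¬ p ∣ cs b₀)
  set b := c₀⁻¹ * b₀ * c₀ with hb
  have hcsb : cs b = cs b₀ := by
    have := cs_conj c₀⁻¹ b₀
    rwa [inv_inv] at this
  have hab : Commute a b := mem_centralizer_iff.mp hc₀ a haQ
  have hbk : orderOf b = p ^ kb := by
    rw [← hbk₀, hb]
    have : c₀⁻¹ * b₀ * c₀ = MulAut.conj c₀⁻¹ b₀ := by simp
    rw [this, MulEquiv.orderOf_eq]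
  have hpb : p ∣ orderOf b := hbk ▸ hbk₀ ▸ hpb₀
  have hby : cs b ∣ cs y := hcsb ▸ hby₀
  have hb1 : cs b ≠ 1 := hcsb ▸ hb1₀
  have hpb' : ¬ p ∣ cs b := fun h => hpy (h.trans hby)
  have hco : (cs a).Coprime (cs b) := Nat.coprime_of_dvd fun t ht h1 h2 =>
    hsep x hx t t ht ht (h1.trans hax) (h1.trans hax) (h1.trans hax) (h2.trans hby)
  have hpow : (a * b) ^ (p ^ (ka + kb)) = 1 := by
    rw [hab.mul_pow, pow_add, pow_mul, ← hak, pow_orderOf_eq_one, one_pow, one_mul, mul_comm,
      pow_mul, ← hbk, pow_orderOf_eq_one, one_pow]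
  have hab1 : a * b ≠ 1 := by
    intro h
    have h2 : centralizer ({a} : Set G) = centralizer ({b} : Set G) := by
      rw [eq_inv_of_mul_eq_one_left h]
      ext z
      simp only [mem_centralizer_singleton_iff]
      exact ⟨fun hz => (Commute.inv_right_iff.mp hz).eq, fun hz => (Commute.inv_right hz).eq⟩
    have h3 : cs a = cs b := congrArg Subgroup.index h2
    rw [← h3, Nat.coprime_self] at hco
    exact ha1 hco
  have hps : p ∣ orderOf (a * b) := dvd_orderOf_of_pow hpow hab1
  have hnotboth : (cs (a * b)).Coprime (cs a) ∨ (cs (a * b)).Coprime (cs b) := by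
    by_contra hcon
    push Not at hcon
    obtain ⟨t, ht, ht1, ht2⟩ := Nat.Prime.not_coprime_iff_dvd.mp hcon.1
    obtain ⟨u, hu, hu1, hu2⟩ := Nat.Prime.not_coprime_iff_dvd.mp hcon.2
    exact hsep (a * b) hps t u ht hu (ht2.trans hax) ht1 hu1 (hu2.trans hby)
  have hanc : a ^ 1 ∉ center G := by rw [pow_one]; exact fun h => ha1 (cs_eq_one_iff.mpr h)
  have hbnc : b ^ 1 ∉ center G := by rw [pow_one]; exact fun h => hb1 (cs_eq_one_iff.mpr h)
  have hW : (cs (a * b)).Coprime (cs b) := by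
    rcases hnotboth with h | h
    · exfalso
      refine hpb' ((step (p := p) hab.symm hco.symm (by rwa [hab.symm.eq])).2 (k := ka) (e := 1) ?_ hanc)
      rw [pow_one, ← hak, pow_orderOf_eq_one]
    · exact h
  obtain ⟨hBcomm, hdvd⟩ := step (p := p) hab hco hW
  have hpca : p ∣ cs a := hdvd (k := kb) (e := 1) (by rw [pow_one, ← hbk, pow_orderOf_eq_one]) hbnc
  have hpx : p ∣ cs x := hpca.trans hax
  -- all `p`-elements centralize `b`
  have hcob : ∀ w : G, p ∣ orderOf w → p ∣ cs w → (cs w).Coprime (cs b) := fun w hw h =>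
    Nat.coprime_of_dvd fun t ht h1 h2 => hsep w hw p t hp' ht hpx h h1 (h2.trans hby)
  set B := Subgroup.closure {d : G | ∃ g : G, g * b * g⁻¹ = d} with hB
  haveI hBn : B.Normal := ⟨fun m hm g => by
    rw [hB] at hm ⊢
    induction hm using closure_induction with
    | mem z hz =>
      obtain ⟨h, rfl⟩ := hz
      exact subset_closure ⟨g * h, by group⟩
    | one => simp
    | mul z w _ _ hz hw =>
      convert mul_mem hz hw using 1
      group
    | inv z _ hz =>
      convert inv_mem hz using 1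
      group⟩
  have hBab : ∀ s ∈ B, ∀ t ∈ B, Commute s t := by
    have hgen : ∀ d ∈ {d : G | ∃ g : G, g * b * g⁻¹ = d}, ∀ e ∈ {d : G | ∃ g : G, g * b * g⁻¹ = d},
        Commute d e := by
      rintro _ ⟨g, rfl⟩ _ ⟨h, rfl⟩
      have h1 := (Commute.conj_iff h).mpr (hBcomm (h⁻¹ * g))
      convert h1 using 1
      group
    intro s hs t ht
    refine mem_centralizer_iff.mp ((closure_le _).mpr (fun d hd => ?_) ht) s hs
    refine mem_centralizer_iff.mpr fun w hw => ?_
    refine (mem_centralizer_singleton_iff.mp ((closure_le _).mpr (fun e he => ?_) hw) :)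
    exact mem_centralizer_singleton_iff.mpr (hgen e he d hd).eq
  have hBp : IsPGroup p B := by
    rintro ⟨s, hs⟩
    refine ⟨kb, Subtype.ext ?_⟩
    rw [SubgroupClass.coe_pow, OneMemClass.coe_one]
    show s ^ p ^ kb = 1
    clear hBn
    rw [hB] at hs hBab
    induction hs using closure_induction with
    | mem z hz =>
      obtain ⟨g, rfl⟩ := hz
      rw [conj_pow, ← hbk, pow_orderOf_eq_one]
      group
    | one => simp
    | mul z w hz' hw' hz hw => rw [(hBab z hz' w hw').mul_pow, hz, hw, one_mul]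
    | inv z _ hz => rw [inv_pow, hz, inv_one]
  have hBle : ∀ R : Sylow p G, B ≤ (R : Subgroup G) := by
    intro R
    obtain ⟨T, hT⟩ := hBp.exists_le_sylow
    obtain ⟨k, hk⟩ := MulAction.exists_smul_eq G T R
    intro s hs
    have h1 : k⁻¹ * s * k ∈ (T : Subgroup G) := hT (by
      have := hBn.conj_mem s hs k⁻¹
      rwa [inv_inv] at this)
    rw [← hk, Sylow.smul_def, Sylow.pointwise_smul_def]
    exact ⟨_, h1, by simp [mul_assoc]⟩
  set L := centralizer ({b} : Set G) with hL
  have hpel : ∀ (s : G) (k : ℕ), s ^ (p ^ k) = 1 → s ∈ L := by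
    intro s k hsk
    rcases eq_or_ne s 1 with rfl | hs1
    · exact one_mem _
    obtain ⟨j, -, hj⟩ := (Nat.dvd_prime_pow hp').mp (orderOf_dvd_of_pow_eq_one hsk)
    by_cases hps' : p ∣ cs s
    · obtain ⟨R, hsR⟩ := PElements.exists_mem_sylow hj
      obtain ⟨c, hc⟩ := ClassPrimes.exists_conj_mem_centralizer R hpb'
      have h1 : Commute s (c⁻¹ * b * c) := mem_centralizer_iff.mp hc s hsR
      have h2 : (cs s).Coprime (cs (c⁻¹ * b * c)) := by
        have := cs_conj c⁻¹ b
        rw [inv_inv] at this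
        rw [this]
        exact hcob s (dvd_orderOf_of_pow hsk hs1) hps'
      have h3 := conj_commute_all h2 h1 1 c
      rw [show c * (c⁻¹ * b * c) * c⁻¹ = b by group, one_mul, inv_one, mul_one] at h3
      exact mem_centralizer_singleton_iff.mpr h3.eq
    · obtain ⟨R⟩ : Nonempty (Sylow p G) := inferInstance
      obtain ⟨c, hc⟩ := ClassPrimes.exists_conj_mem_centralizer R hps'
      have h1 : c⁻¹ * b * c ∈ (R : Subgroup G) := hBle R (by
        have := hBn.conj_mem b (subset_closure ⟨1, by group⟩) c⁻¹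
        rwa [inv_inv] at this)
      have h2 : Commute (c⁻¹ * b * c) (c⁻¹ * s * c) := mem_centralizer_iff.mp hc _ h1
      have h3 := (Commute.conj_iff c).mpr h2
      rw [show c * (c⁻¹ * b * c) * c⁻¹ = b by group, show c * (c⁻¹ * s * c) * c⁻¹ = s by group] at h3
      exact mem_centralizer_singleton_iff.mpr h3.symm.eq
  -- `p'`-elements of `L` have class size prime to `p`
  have hprime : ∀ (h : G) (s : ℕ), h ∈ L → h ^ s = 1 → ¬ p ∣ s →
      ¬ p ∣ cs (b * h) ∧ centralizer ({b * h} : Set G) ≤ L ⊓ centralizer ({h} : Set G) := by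
    intro h s hh hs hps'
    have hbh : Commute b h := (mem_centralizer_singleton_iff.mp hh : Commute h b).symm
    have hcop : (orderOf b).Coprime (orderOf h) :=
      Nat.Coprime.coprime_dvd_right (orderOf_dvd_of_pow_eq_one hs)
        (hbk ▸ Nat.Coprime.pow_left _ (hp'.coprime_iff_not_dvd.mpr hps'))
    have hle1 := ClassGraph.centralizer_mul_le hbh hcop
    have hle2 : centralizer ({b * h} : Set G) ≤ centralizer ({h} : Set G) := by
      rw [hbh.eq]
      exact ClassGraph.centralizer_mul_le hbh.symm hcop.symm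
    refine ⟨fun hd => ?_, le_inf hle1 hle2⟩
    have hord : p ∣ orderOf (b * h) := by
      rw [hbh.orderOf_mul_eq_mul_orderOf_of_coprime hcop]
      exact hpb.mul_right _
    obtain ⟨u, hu, hud⟩ := Nat.exists_prime_and_dvd hb1
    exact hsep (b * h) hord p u hp' hu hpx hd (hud.trans (index_dvd_of_le hle1)) (hud.trans hby)
  -- a Sylow subgroup of `G` is normal in `L`
  obtain ⟨R₀⟩ : Nonempty (Sylow p G) := inferInstance
  have hR₀L : ∀ R : Sylow p G, (R : Subgroup G) ≤ L := fun R s hs => by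
    obtain ⟨k, hk⟩ := PElements.exists_orderOf_eq R.isPGroup' hs
    exact hpel s k (by rw [← hk, pow_orderOf_eq_one])
  have hsplit : ∀ g : G, ∃ u h : G, ∃ k s : ℕ, g = u * h ∧ Commute u h ∧ u ^ (p ^ k) = 1 ∧
      h ^ s = 1 ∧ ¬ p ∣ s ∧ u ∈ zpowers g ∧ h ∈ zpowers g := by
    intro g
    obtain ⟨k, s, hks, hs, -⟩ := PElements.exists_split p g
    obtain ⟨u, h, h1, h2, h3, h4, h5, h6⟩ :=
      exists_parts hks (Nat.Coprime.pow_left k (hp'.coprime_iff_not_dvd.mpr hs))
    exact ⟨u, h, k, s, h1, h2, h3, h4, hs, h5, h6⟩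
  have hnorm : L ≤ normalizer ((R₀ : Subgroup G) : Set G) := by
    refine ClassGraph.le_of_cover fun g hg => ?_
    obtain ⟨u, h, k, s, hg', huh, huk, hhs, hps', hu, hh⟩ := hsplit g
    obtain ⟨hndvd, hle⟩ := hprime h s ((zpowers_le.mpr hg) hh) hhs hps'
    obtain ⟨c, hc⟩ := ClassPrimes.exists_conj_mem_centralizer R₀ hndvd
    -- a Sylow subgroup inside `C(h) ⊓ L`
    have hR1 : ((c • R₀ : Sylow p G) : Subgroup G) ≤ L ⊓ centralizer ({h} : Set G) := by
      refine le_trans ?_ hle
      rw [Sylow.smul_def, Sylow.pointwise_smul_def]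
      rintro _ ⟨z, hz, rfl⟩
      refine mem_centralizer_singleton_iff.mpr ?_
      have h1 := (Commute.conj_iff c).mpr (mem_centralizer_iff.mp hc z hz : Commute z (c⁻¹ * (b * h) * c))
      rw [show c * (c⁻¹ * (b * h) * c) * c⁻¹ = b * h by group] at h1
      simpa using h1.eq
    set K := L ⊓ centralizer ({h} : Set G) with hK
    set R1 : Sylow p K := (c • R₀).subtype hR1
    have huK : u ∈ K := ⟨(zpowers_le.mpr hg) hu, mem_centralizer_singleton_iff.mpr huh.eq⟩
    have hup : IsPGroup p (zpowers (⟨u, huK⟩ : K)) := by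
      obtain ⟨j, -, hj⟩ := (Nat.dvd_prime_pow hp').mp (orderOf_dvd_of_pow_eq_one
        (show (⟨u, huK⟩ : K) ^ (p ^ k) = 1 from Subtype.ext (by simpa using huk)))
      exact PElements.isPGroup_zpowers hj
    obtain ⟨T, hT⟩ := hup.exists_le_sylow
    obtain ⟨m, hm⟩ := MulAction.exists_smul_eq K R1 T
    -- conjugating element inside `L`
    obtain ⟨l, hl⟩ := MulAction.exists_smul_eq L (R₀.subtype (hR₀L R₀)) ((c • R₀).subtype (hR₀L _))
    have hu1 : (m : G)⁻¹ * u * m ∈ ((c • R₀ : Sylow p G) : Subgroup G) := by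
      have h1 : (⟨u, huK⟩ : K) ∈ (T : Subgroup K) := hT (mem_zpowers _)
      rw [← hm, Sylow.smul_def, Sylow.pointwise_smul_def] at h1
      obtain ⟨z, hz, hze⟩ := h1
      have hze' : (m : G) * (z : G) * (m : G)⁻¹ = u := congrArg Subtype.val hze
      rw [← hze', show (m : G)⁻¹ * ((m : G) * z * (m : G)⁻¹) * m = z by group]
      exact hz
    have hR1l : ((c • R₀ : Sylow p G) : Subgroup G) = (MulAut.conj (l : G)) • (R₀ : Subgroup G) := by
      apply le_antisymm
      · intro z hz
        have h1 : (⟨z, hR₀L _ hz⟩ : L) ∈ (((c • R₀).subtype (hR₀L _) : Sylow p L) : Subgroup L) := hz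
        rw [← hl, Sylow.smul_def, Sylow.pointwise_smul_def] at h1
        obtain ⟨w, hw, hwe⟩ := h1
        exact ⟨w, hw, congrArg Subtype.val hwe⟩
      · rintro _ ⟨w, hw, rfl⟩
        have h1 : l * ⟨w, hR₀L _ hw⟩ * l⁻¹ ∈ (((c • R₀).subtype (hR₀L _) : Sylow p L) : Subgroup L) := by
          rw [← hl, Sylow.smul_def, Sylow.pointwise_smul_def]
          exact ⟨⟨w, hR₀L _ hw⟩, hw, rfl⟩
        exact h1
    have hhm : Commute h (m : G) := ((mem_centralizer_singleton_iff.mp m.2.2 : Commute (m : G) h)).symm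
    refine ⟨(m : G) * l, mul_mem m.2.1 l.2, ?_⟩
    rw [show ((m : G) * l)⁻¹ * g * ((m : G) * l) = ((l : G)⁻¹ * ((m : G)⁻¹ * u * m) * l) *
      ((l : G)⁻¹ * ((m : G)⁻¹ * h * m) * l) by rw [hg']; group]
    refine mul_mem (le_normalizer ?_) ?_
    · rw [hR1l] at hu1
      exact PElements.mem_conj_smul.mp hu1
    · refine centralizer_le_normalizer _ (mem_centralizer_iff.mpr fun z hz => ?_)
      have h1 : (l : G) * z * (l : G)⁻¹ ∈ centralizer ({h} : Set G) := (hR1 (by
        rw [hR1l]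
        exact ⟨z, hz, rfl⟩)).2
      have h2 := (Commute.conj_iff (l : G)⁻¹).mpr (mem_centralizer_singleton_iff.mp h1 : Commute _ h)
      rw [inv_inv, show (l : G)⁻¹ * ((l : G) * z * (l : G)⁻¹) * l = z by group] at h2
      rw [show (m : G)⁻¹ * h * m = h by rw [mul_assoc, hhm.eq, inv_mul_cancel_left]]
      exact h2.eq
  -- hence all `p`-elements lie in `R₀`
  have hall : ∀ (s : G) (k : ℕ), s ^ (p ^ k) = 1 → s ∈ (R₀ : Subgroup G) := by
    intro s k hsk
    have hsN : zpowers s ≤ normalizer ((R₀ : Subgroup G) : Set G) :=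
      zpowers_le.mpr (hnorm (hpel s k hsk))
    obtain ⟨j, -, hj⟩ := (Nat.dvd_prime_pow hp').mp (orderOf_dvd_of_pow_eq_one hsk)
    have h1 := R₀.isPGroup'.to_sup_of_normal_left' (PElements.isPGroup_zpowers hj) hsN
    rw [← R₀.is_maximal' h1 le_sup_left]
    exact mem_sup_right (mem_zpowers s)
  set P : Subgroup G := (R₀ : Subgroup G) with hP
  have hPeq : ∀ R : Sylow p G, (R : Subgroup G) = P := fun R => by
    refine (R.is_maximal' R₀.isPGroup' fun s hs => ?_).symm
    obtain ⟨k, hk⟩ := PElements.exists_orderOf_eq R.isPGroup' hs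
    exact hall s k (by rw [← hk, pow_orderOf_eq_one])
  -- every element whose class size is prime to `p` centralizes `P`
  have hcentP : ∀ s : G, ¬ p ∣ cs s → ∀ z ∈ P, Commute z s := by
    intro s hs z hz
    obtain ⟨c, hc⟩ := ClassPrimes.exists_conj_mem_centralizer R₀ hs
    have hz' : c⁻¹ * z * c ∈ P := by
      have h0 : (c • R₀ : Sylow p G) = R₀ := Sylow.ext (hPeq _)
      have h1 : z ∈ ((c • R₀ : Sylow p G) : Subgroup G) := by rw [h0]; exact hz
      rw [Sylow.smul_def, Sylow.pointwise_smul_def] at h1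
      exact PElements.mem_conj_smul.mp h1
    have h2 := (Commute.conj_iff c).mpr (mem_centralizer_iff.mp hc _ hz' : Commute _ (c⁻¹ * s * c))
    rw [show c * (c⁻¹ * z * c) * c⁻¹ = z by group, show c * (c⁻¹ * s * c) * c⁻¹ = s by group] at h2
    exact h2
  -- the elements of `L` act on `P` as elements of `P`
  have hLP : ∀ d ∈ L, ∃ u ∈ P, ∀ z ∈ P, d * z * d⁻¹ = u * z * u⁻¹ := by
    intro d hd
    obtain ⟨u, h, k, s, hg', -, huk, hhs, hps', -, hh⟩ := hsplit d
    obtain ⟨hndvd, hle⟩ := hprime h s ((zpowers_le.mpr hd) hh) hhs hps'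
    refine ⟨u, hall u k huk, fun z hz => ?_⟩
    have h1 : Commute h z := ((hcentP h (fun hd' => hndvd (hd'.trans (index_dvd_of_le
      (hle.trans inf_le_right)))) z hz)).symm
    rw [hg']
    calc u * h * z * (u * h)⁻¹ = u * (h * z) * h⁻¹ * u⁻¹ := by group
      _ = u * (z * h) * h⁻¹ * u⁻¹ := by rw [h1.eq]
      _ = u * z * u⁻¹ := by group
  -- a prime `q` dividing `cs b`
  obtain ⟨q, hq, hqb⟩ := Nat.exists_prime_and_dvd hb1
  haveI : Fact q.Prime := ⟨hq⟩
  obtain ⟨T⟩ : Nonempty (Sylow q G) := inferInstance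
  set D := P ⊓ centralizer ((T : Subgroup G) : Set G) with hD
  have hnoncentral : ∀ s ∈ P, (¬ ∀ z ∈ P, Commute z s) → ∃ u ∈ P, u * s * u⁻¹ ∈ D := by
    intro s hs hsnc
    have hps' : p ∣ cs s := by
      by_contra hh
      exact hsnc (hcentP s hh)
    have hs1 : s ≠ 1 := fun h0 => hsnc fun z _ => h0 ▸ Commute.one_right z
    obtain ⟨j, hj⟩ := PElements.exists_orderOf_eq R₀.isPGroup' hs
    have hco' := hcob s (dvd_orderOf_of_pow (by rw [← hj, pow_orderOf_eq_one]) hs1) hps'
    obtain ⟨g, hg⟩ := ClassPrimes.exists_conj_mem_centralizer T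
      (fun hh => hq.ne_one (Nat.dvd_one.mp (hco'.gcd_eq_one ▸ Nat.dvd_gcd hh hqb)) : ¬ q ∣ cs s)
    obtain ⟨d, c, hd, hc, hgc⟩ := factor hco'.symm g⁻¹
    obtain ⟨u, hu, huz⟩ := hLP d (mem_centralizer_singleton_iff.mpr hd.eq)
    refine ⟨u, hu, mem_inf.mpr ⟨P.mul_mem (P.mul_mem hu hs) (P.inv_mem hu), ?_⟩⟩
    have he : u * s * u⁻¹ = g⁻¹ * s * g := by
      rw [← huz s hs]
      calc d * s * d⁻¹ = d * (c * s) * c⁻¹ * d⁻¹ := by rw [hc.eq]; group
        _ = (d * c) * s * (d * c)⁻¹ := by group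
        _ = g⁻¹ * s * g := by rw [← hgc]; group
    rw [he]
    exact hg
  -- `P = D Z(P)`
  set Z := P ⊓ centralizer ((P : Subgroup G) : Set G) with hZdef
  have hDZ : P ≤ D ⊔ Z := ClassGraph.le_of_cover fun s hs => by
    by_cases hsc : ∀ z ∈ P, Commute z s
    · refine ⟨1, one_mem _, mem_sup_right ⟨?_, ?_⟩⟩
      · simpa using hs
      · simpa using (mem_centralizer_iff.mpr fun z hz => (hsc z hz).eq)
    · obtain ⟨u, hu, hud⟩ := hnoncentral s hs hsc
      exact ⟨u⁻¹, inv_mem hu, mem_sup_left (by rwa [inv_inv])⟩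
  have hnD : D ⊔ Z ≤ normalizer (D : Set G) := sup_le le_normalizer fun z hz => by
    refine centralizer_le_normalizer _ (mem_centralizer_iff.mpr fun w hw => ?_)
    exact mem_centralizer_iff.mp hz.2 w hw.1
  have haP : a ∈ P := hall a ka (by rw [← hak, pow_orderOf_eq_one])
  have hanc' : ¬ ∀ z ∈ P, Commute z a := by
    intro hac
    obtain ⟨c, hc⟩ : ∃ c : G, c ∈ centralizer ({a} : Set G) ∧ True := ⟨1, one_mem _, trivial⟩
    have hle : P ≤ centralizer ({a} : Set G) := fun z hz =>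
      mem_centralizer_singleton_iff.mpr (hac z hz).eq
    exact R₀.not_dvd_index (hpca.trans (index_dvd_of_le hle))
  -- some element of `D` is not central in `P`
  obtain ⟨c, hcD, hcnc⟩ : ∃ c ∈ D, ¬ ∀ z ∈ P, Commute z c := by
    by_contra hcon
    push Not at hcon
    have h1 : D ⊔ Z ≤ centralizer ((P : Subgroup G) : Set G) :=
      sup_le (fun d hd => mem_centralizer_iff.mpr fun z hz => (hcon d hd z hz).eq) inf_le_right
    exact hanc' fun z hz => mem_centralizer_iff.mp (h1 (hDZ haP)) z hz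
  have hZD : Z ≤ D := by
    intro z hz
    have hcz : ¬ ∀ w ∈ P, Commute w (c * z) := fun hh => hcnc fun w hw => by
      have h1 := (hh w hw).mul_right (show Commute w z from mem_centralizer_iff.mp hz.2 w hw).inv_right
      rwa [mul_inv_cancel_right] at h1
    obtain ⟨u, hu, hud⟩ := hnoncentral (c * z) (mul_mem hcD.1 hz.1) hcz
    have huz : Commute u z := mem_centralizer_iff.mp hz.2 u hu
    have h1 : u * (c * z) * u⁻¹ = (u * c * u⁻¹) * z := by
      calc u * (c * z) * u⁻¹ = u * c * (z * u⁻¹) := by group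
        _ = u * c * (u⁻¹ * z) := by rw [huz.inv_left.eq]
        _ = (u * c * u⁻¹) * z := by group
    have h2 : u * c * u⁻¹ ∈ D := (mem_normalizer_iff.mp (hnD (hDZ hu)) c).mp hcD
    have h3 := mul_mem (inv_mem h2) hud
    rwa [h1, inv_mul_cancel_left] at h3
  have hbD : b ∈ D := (sup_le le_rfl hZD) (hDZ (hall b kb (by rw [← hbk, pow_orderOf_eq_one])))
  have hTb : (T : Subgroup G) ≤ centralizer ({b} : Set G) := fun z hz =>
    mem_centralizer_singleton_iff.mpr (mem_centralizer_iff.mp hbD.2 z hz)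
  exact T.not_dvd_index (hqb.trans (index_dvd_of_le hTb))

/-- No two `p`-singular class sizes are separated. -/
theorem not_sep [Fact p.Prime] (hZ : ¬ p ∣ Nat.card (center G)) {x y : G} (hx : p ∣ orderOf x)
    (hy : p ∣ orderOf y) : ¬ Sep p x y := by
  intro h
  by_cases hpy : p ∣ cs y
  · refine not_sep_core hZ hy hx (fun hpx => ?_) h.symm
    exact h x hx p p Fact.out Fact.out hpx hpx hpx hpy
  · exact not_sep_core hZ hx hy hpy h

end Cfsg.Agent.GStructB.SingularClassGraph
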