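import Mathlib

/-!
Frobenius's congruence for the number of subgroups of a given prime power order, by Wielandt's
argument: count the subsets of that size under left multiplication.
-/

set_option autoImplicit false

namespace Cfsg.Agent.GStructB.SubgroupCount

open scoped Pointwise

variable {G : Type*} [Group G] [Finite G]

/-- A finite set is a union of right cosets of its stabiliser under left multiplication. -/
theorem card_stabilizer_mul (S : Set G) :
    ∃ t : Set (G ⧸ MulAction.stabilizer G S),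
      (∀ x : G, x ∈ S ↔ ((x⁻¹ : G) : G ⧸ MulAction.stabilizer G S) ∈ t) ∧
      S.ncard = Nat.card (MulAction.stabilizer G S) * t.ncard := by
  set U := MulAction.stabilizer G S
  refine ⟨(fun x : G => ((x⁻¹ : G) : G ⧸ U)) '' S, ?_, ?_⟩
  · intro x
    refine ⟨fun hx => ⟨x, hx, rfl⟩, ?_⟩
    rintro ⟨y, hy, hxy⟩
    rw [QuotientGroup.eq, inv_inv] at hxy
    have h1 : (y * x⁻¹) • S = S := hxy
    have h2 : (y * x⁻¹)⁻¹ • S = S := by
      have h3 : (y * x⁻¹)⁻¹ ∈ U := inv_mem hxy
      exact h3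
    rw [← h2]
    exact ⟨y, hy, by simp⟩
  · set t := (fun x : G => ((x⁻¹ : G) : G ⧸ U)) '' S with ht
    have hpre : (QuotientGroup.mk ⁻¹' t : Set G) = S⁻¹ := by
      ext x
      simp only [Set.mem_preimage, Set.mem_inv]
      constructor
      · rintro ⟨y, hy, hxy⟩
        rw [QuotientGroup.eq, inv_inv] at hxy
        have h1 : (y * x)⁻¹ • S = S := by
          have h3 : (y * x)⁻¹ ∈ U := inv_mem hxy
          exact h3
        rw [← h1]
        exact ⟨y, hy, by simp⟩
      · exact fun hx => ⟨x⁻¹, hx, by simp⟩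
    rw [← Nat.card_coe_set_eq, ← Nat.card_coe_set_eq, ← Nat.card_prod,
      ← Nat.card_congr (QuotientGroup.preimageMkEquivSubgroupProdSet U t), hpre]
    exact Nat.card_congr ((Equiv.inv G).subtypeEquiv fun x => by simp)

/-- Subsets of size `k`. -/
abbrev Subsets (G : Type*) (k : ℕ) : Set (Set G) := {S | S.ncard = k}

/-- Subsets of size `k` that are single right cosets. -/
abbrev Cosets (G : Type*) [Group G] (k : ℕ) : Set (Set G) :=
  {S | S.ncard = k ∧ Nat.card (MulAction.stabilizer G S) = k}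

theorem card_cosets (k m : ℕ) (hk : 0 < k) (hn : Nat.card G = k * m) :
    Nat.card (Cosets G k) = m * Nat.card {H : Subgroup G // Nat.card H = k} := by
  classical
  let f : (Σ U : {H : Subgroup G // Nat.card H = k}, G ⧸ U.1) → Set G := fun σ =>
    {x : G | ((x⁻¹ : G) : G ⧸ σ.1.1) = σ.2}
  have hstab : ∀ σ, MulAction.stabilizer G (f σ) = σ.1.1 := by
    rintro ⟨⟨U, hU⟩, q⟩
    obtain ⟨q₀, rfl⟩ := QuotientGroup.mk_surjective q
    ext g
    rw [MulAction.mem_stabilizer_iff]
    constructor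
    · intro h
      have h1 : g • q₀⁻¹ ∈ f ⟨⟨U, hU⟩, (q₀ : G ⧸ U)⟩ := by
        rw [← h]
        exact Set.smul_mem_smul_set (by simp [f])
      have h2 : (((g * q₀⁻¹)⁻¹ : G) : G ⧸ U) = (q₀ : G ⧸ U) := h1
      rw [QuotientGroup.eq, inv_inv] at h2
      simpa [mul_assoc] using h2
    · intro h
      ext x
      rw [Set.mem_smul_set_iff_inv_smul_mem]
      show (((g⁻¹ * x)⁻¹ : G) : G ⧸ U) = _ ↔ ((x⁻¹ : G) : G ⧸ U) = _
      rw [mul_inv_rev, inv_inv, QuotientGroup.mk_mul_of_mem _ h]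
  have hcard : ∀ σ, (f σ).ncard = k := by
    intro σ
    obtain ⟨⟨U, hU⟩, q⟩ := σ
    have h1 := Nat.card_congr (QuotientGroup.preimageMkEquivSubgroupProdSet U ({q} : Set (G ⧸ U)))
    rw [Nat.card_prod, hU, show Nat.card ↥({q} : Set (G ⧸ U)) = 1 from Nat.card_unique, mul_one] at h1
    rw [← Nat.card_coe_set_eq]
    refine Eq.trans ?_ h1
    exact Nat.card_congr ((Equiv.inv G).subtypeEquiv fun x => by simp [f])
  let F : (Σ U : {H : Subgroup G // Nat.card H = k}, G ⧸ U.1) → Cosets G k := fun σ =>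
    ⟨f σ, hcard σ, by rw [hstab]; exact σ.1.2⟩
  have hF : Function.Bijective F := by
    constructor
    · rintro ⟨⟨U, hU⟩, q⟩ ⟨⟨V, hV⟩, r⟩ h
      have h' : f ⟨⟨U, hU⟩, q⟩ = f ⟨⟨V, hV⟩, r⟩ := congrArg Subtype.val h
      have hUV : U = V := by
        have := congrArg (fun T => MulAction.stabilizer G T) h'
        simpa only [hstab] using this
      subst hUV
      obtain ⟨q₀, rfl⟩ := QuotientGroup.mk_surjective q
      have h2 : q₀⁻¹ ∈ f ⟨⟨U, hU⟩, r⟩ := h' ▸ (by simp [f] : q₀⁻¹ ∈ f ⟨⟨U, hU⟩, (q₀ : G ⧸ U)⟩)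
      simp [f] at h2
      rw [h2]
    · rintro ⟨S, hS, hSst⟩
      obtain ⟨t, ht, hcardt⟩ := card_stabilizer_mul S
      rw [hS, hSst] at hcardt
      have ht1 : t.ncard = 1 := by
        have := Nat.eq_of_mul_eq_mul_left hk (hcardt.symm.trans (mul_one k).symm)
        exact this
      obtain ⟨q, rfl⟩ := Set.ncard_eq_one.mp ht1
      exact ⟨⟨⟨_, hSst⟩, q⟩, Subtype.ext (Set.ext fun x => (ht x).symm)⟩
  have : Fintype {H : Subgroup G // Nat.card H = k} := Fintype.ofFinite _
  rw [← Nat.card_congr (Equiv.ofBijective F hF), Nat.card_sigma]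
  have hfib : ∀ U : {H : Subgroup G // Nat.card H = k}, Nat.card (G ⧸ U.1) = m := by
    intro U
    have h1 := U.1.card_mul_index
    rw [U.2, hn] at h1
    exact Nat.eq_of_mul_eq_mul_left hk h1
  rw [Finset.sum_congr rfl (fun U _ => hfib U), Finset.sum_const, Finset.card_univ, smul_eq_mul,
    Nat.card_eq_fintype_card, mul_comm]

theorem dvd_card_other (p β m : ℕ) (hp : p.Prime) (hn : Nat.card G = p ^ β * m) :
    p * m ∣ Nat.card ↥(Subsets G (p ^ β) \ Cosets G (p ^ β)) := by
  classical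
  let Y : SubMulAction G (Set G) :=
    { carrier := Subsets G (p ^ β) \ Cosets G (p ^ β)
      smul_mem' := fun g S hS => by
        obtain ⟨h1, h2⟩ := hS
        refine ⟨(Set.ncard_smul_set g S).trans h1, fun h3 => h2 ⟨h1, ?_⟩⟩
        rw [← h3.2, Nat.card_congr (MulAction.stabilizerEquivStabilizer (g := g) rfl).toEquiv] }
  have : Fintype (MulAction.orbitRel.Quotient G Y) := Fintype.ofFinite _
  show p * m ∣ Nat.card Y
  rw [Nat.card_congr (MulAction.selfEquivSigmaOrbitsQuotientStabilizer G Y), Nat.card_sigma]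
  refine Finset.dvd_sum fun ω _ => ?_
  rw [← Subgroup.index_eq_card, SubMulAction.stabilizer_of_subMul]
  obtain ⟨⟨h1, h2⟩⟩ : Nonempty ((ω.out : Set G).ncard = p ^ β ∧
      Nat.card (MulAction.stabilizer G (ω.out : Set G)) ≠ p ^ β) := by
    obtain ⟨h1, h2⟩ := ω.out.2
    exact ⟨h1, fun h => h2 ⟨h1, h⟩⟩
  obtain ⟨t, -, hct⟩ := card_stabilizer_mul (ω.out : Set G)
  rw [h1] at hct
  obtain ⟨j, hj, hjcard⟩ := (Nat.dvd_prime_pow hp).mp (Dvd.intro _ hct.symm)
  have hjlt : j < β := lt_of_le_of_ne hj fun h => h2 (h ▸ hjcard)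
  have h3 := (MulAction.stabilizer G (ω.out : Set G)).card_mul_index
  rw [hn, hjcard] at h3
  refine ⟨p ^ (β - j - 1), Nat.eq_of_mul_eq_mul_left (pow_pos hp.pos j) ?_⟩
  rw [h3, show p * m * p ^ (β - j - 1) = p ^ (β - j - 1 + 1) * m by rw [pow_succ]; ring,
    ← mul_assoc, ← pow_add, show j + (β - j - 1 + 1) = β by omega]

theorem card_subsets_modEq (p β m : ℕ) (hp : p.Prime) (hn : Nat.card G = p ^ β * m) :
    Nat.card (Subsets G (p ^ β)) ≡ m * Nat.card {H : Subgroup G // Nat.card H = p ^ β} [MOD p * m] := by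
  have h1 := Set.ncard_sdiff_add_ncard_of_subset (show Cosets G (p ^ β) ⊆ Subsets G (p ^ β) from
    fun S hS => hS.1) (Set.toFinite _)
  rw [← Nat.card_coe_set_eq, ← Nat.card_coe_set_eq, ← Nat.card_coe_set_eq,
    card_cosets (p ^ β) m (pow_pos hp.pos β) hn] at h1
  rw [← h1]
  have := Nat.ModEq.add_right (m * Nat.card {H : Subgroup G // Nat.card H = p ^ β})
    (Nat.modEq_zero_iff_dvd.mpr (dvd_card_other p β m hp hn))
  rwa [zero_add] at this

theorem card_subgroups_cyclic {C : Type*} [Group C] [Finite C] [IsCyclic C] {d : ℕ} (hd : d ∣ Nat.card C) :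
    Nat.card {H : Subgroup C // Nat.card H = d} = 1 := by
  classical
  have : Fintype C := Fintype.ofFinite C
  have hd0 : 0 < d := Nat.pos_of_dvd_of_pos hd Nat.card_pos
  obtain ⟨g, hg⟩ := IsCyclic.exists_generator (α := C)
  have hgo := orderOf_eq_card_of_forall_mem_zpowers hg
  rw [Nat.card_eq_one_iff_unique]
  refine ⟨⟨fun H K => Subtype.ext ?_⟩, ⟨⟨Subgroup.zpowers (g ^ (Nat.card C / d)), ?_⟩⟩⟩
  · have key : ∀ H : {H : Subgroup C // Nat.card H = d}, (H.1 : Set C).toFinset =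
        Finset.univ.filter fun a : C => a ^ d = 1 := by
      intro H
      refine Finset.eq_of_subset_of_card_le (fun a ha => ?_) ?_
      · rw [Set.mem_toFinset] at ha
        rw [Finset.mem_filter]
        refine ⟨Finset.mem_univ _, orderOf_dvd_iff_pow_eq_one.mp ?_⟩
        exact H.2 ▸ H.1.orderOf_dvd_natCard ha
      · refine (IsCyclic.card_pow_eq_one_le hd0).trans (le_of_eq ?_)
        rw [← Set.ncard_eq_toFinset_card', ← Nat.card_coe_set_eq]
        exact H.2.symm
    exact SetLike.coe_injective (Set.toFinset_inj.mp ((key H).trans (key K).symm))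
  · rw [Nat.card_zpowers, orderOf_pow, hgo, Nat.gcd_eq_right (Nat.div_dvd_of_dvd hd),
      Nat.div_div_self hd Nat.card_pos.ne']

theorem card_subgroups_modEq_one {p β : ℕ} (hp : p.Prime) (hdiv : p ^ β ∣ Nat.card G) :
    Nat.card {H : Subgroup G // Nat.card H = p ^ β} ≡ 1 [MOD p] := by
  obtain ⟨m, hm⟩ := hdiv
  let C := Multiplicative (ZMod (Nat.card G))
  have : NeZero (Nat.card G) := ⟨Nat.card_pos.ne'⟩
  have hC : Nat.card C = Nat.card G := by simp [C]
  have h1 := card_subsets_modEq (G := G) p β m hp hm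
  have h2 := card_subsets_modEq (G := C) p β m hp (hC.trans hm)
  rw [card_subgroups_cyclic (hC ▸ Dvd.intro m hm.symm), mul_one] at h2
  obtain ⟨e⟩ := Finite.card_eq.mp hC.symm
  have h3 : Nat.card (Subsets G (p ^ β)) = Nat.card (Subsets C (p ^ β)) :=
    Nat.card_congr ((Equiv.Set.congr e).subtypeEquiv fun S => by
      show S.ncard = _ ↔ (e '' S).ncard = _
      rw [Set.ncard_image_of_injective S e.injective])
  have h4 := h1.symm.trans (h3 ▸ h2)
  have hm0 : m ≠ 0 := by
    intro h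
    rw [h, mul_zero] at hm
    exact Nat.card_pos.ne' hm
  refine Nat.ModEq.mul_left_cancel' (c := m) hm0 ?_
  rw [mul_one, mul_comm m p]
  exact h4

end Cfsg.Agent.GStructB.SubgroupCount
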