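import Cfsg.Agent.Lib.Cores.Subnormal
import Cfsg.Agent.Lib.Transfer.Frobenius
import Cfsg.Agent.Lib.Coprime.Basic
import Mathlib

/-!
The subnormalizer of a `p`-subgroup: characterisation by invariant `p`-subgroups.
-/

set_option autoImplicit false

namespace Cfsg.Agent.GStructB.Subnormalizer

open Cfsg
open scoped Pointwise

universe u

variable {G : Type u} [Group G] [Finite G]

theorem isSubnormal_of_isNilpotent {F : Type*} [Group F] [Finite F] [Group.IsNilpotent F]
    (A : Subgroup F) : A.IsSubnormal := by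
  induction hn : A.index using Nat.strong_induction_on generalizing A with
  | _ n ih => ?_
  by_cases hA : A = ⊤
  · exact hA ▸ Subgroup.IsSubnormal.top
  have hlt : A < Subgroup.normalizer (A : Set F) :=
    Group.normalizerCondition_of_isNilpotent A (lt_top_iff_ne_top.mpr hA)
  refine Subgroup.IsSubnormal.step A (Subgroup.normalizer (A : Set F)) hlt.le (ih _ ?_ _ rfl)
    ((Subgroup.normal_subgroupOf_iff_le_normalizer hlt.le).mpr le_rfl)
  rw [← hn]
  refine lt_of_not_ge fun hge => hlt.ne (Subgroup.eq_of_le_of_card_ge hlt.le ?_)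
  have h1 := A.card_mul_index
  rw [← (Subgroup.normalizer (A : Set F)).card_mul_index] at h1
  exact Nat.le_of_mul_le_mul_right (h1.symm.le.trans (Nat.mul_le_mul_left _ hge))
    (Nat.pos_of_ne_zero Subgroup.index_ne_zero_of_finite)

/-- `H` is subnormal in `⟨H, g⟩` exactly when some `p`-subgroup containing `H` is normalized by `g`. -/
theorem isSubnormal_iff {p : ℕ} {H : Subgroup G} (hH : IsPGroup p H) [Fact p.Prime] (g : G) :
    (H.subgroupOf (H ⊔ Subgroup.zpowers g)).IsSubnormal ↔
      ∃ U : Subgroup G, H ≤ U ∧ IsPGroup p U ∧ g ∈ Subgroup.normalizer (U : Set G) := by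
  set L := H ⊔ Subgroup.zpowers g with hL
  constructor
  · intro h
    have h1 : H.subgroupOf L ≤ pCore p L :=
      Cores.le_pCore_of_isSubnormal h (hH.of_equiv (Subgroup.subgroupOfEquivOfLe le_sup_left).symm)
    refine ⟨(pCore p L).map L.subtype, fun x hx => ⟨⟨x, Subgroup.mem_sup_left hx⟩, h1 (Subgroup.mem_subgroupOf.mpr hx), rfl⟩,
      (Cores.pCore_isPGroup p).map _, ?_⟩
    refine Subgroup.le_normalizer_map L.subtype ⟨⟨g, Subgroup.mem_sup_right (Subgroup.mem_zpowers g)⟩, ?_, rfl⟩
    rw [Subgroup.normalizer_eq_top]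
    exact Subgroup.mem_top _
  · rintro ⟨U, hHU, hU, hg⟩
    have hLN : L ≤ Subgroup.normalizer (U : Set G) :=
      sup_le (hHU.trans Subgroup.le_normalizer) (Subgroup.zpowers_le.mpr hg)
    have hn : (U.subgroupOf L).Normal := Subgroup.normal_subgroupOf_of_le_normalizer hLN
    have hle : H.subgroupOf L ≤ U.subgroupOf L := fun x hx =>
      Subgroup.mem_subgroupOf.mpr (hHU (Subgroup.mem_subgroupOf.mp hx))
    have hp : IsPGroup p (U.subgroupOf L) :=
      hU.comap_of_injective L.subtype L.subtype_injective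
    have := hp.isNilpotent
    exact Subgroup.IsSubnormal.trans hle (isSubnormal_of_isNilpotent _) hn.isSubnormal

/-- A radical `p`-subgroup above `U` whose normalizer contains that of `U`. -/
theorem exists_radical {p : ℕ} [Fact p.Prime] (U : Subgroup G) (hU : IsPGroup p U) :
    ∃ R : Subgroup G, U ≤ R ∧
      (pCore p (Subgroup.normalizer (R : Set G))).map (Subgroup.normalizer (R : Set G)).subtype = R ∧
      Subgroup.normalizer (U : Set G) ≤ Subgroup.normalizer (R : Set G) := by
  obtain ⟨R, -, ⟨hUR, hR, hN⟩, hmax⟩ := Set.Finite.exists_le_maximal (Set.toFinite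
    {R : Subgroup G | U ≤ R ∧ IsPGroup p R ∧ Subgroup.normalizer (U : Set G) ≤ Subgroup.normalizer (R : Set G)})
    (a := U) ⟨le_rfl, hU, le_rfl⟩
  refine ⟨R, hUR, ?_, hN⟩
  set N := Subgroup.normalizer (R : Set G)
  have hle : R ≤ (pCore p N).map N.subtype := by
    intro x hx
    have : (R.subgroupOf N).Normal := Subgroup.normal_in_normalizer
    exact ⟨⟨x, Subgroup.le_normalizer hx⟩,
      Cores.le_pCore (hR.of_equiv (Subgroup.subgroupOfEquivOfLe Subgroup.le_normalizer).symm)
        (Subgroup.mem_subgroupOf.mpr hx), rfl⟩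
  refine le_antisymm (hmax ⟨hUR.trans hle, (Cores.pCore_isPGroup p).map _, hN.trans ?_⟩ hle) hle
  have h1 : (⊤ : Subgroup N) ≤ Subgroup.normalizer ((pCore p N : Subgroup N) : Set N) := by
    rw [Subgroup.normalizer_eq_top]
  refine le_trans ?_ (Subgroup.le_normalizer_map N.subtype)
  intro x hx
  exact ⟨⟨x, hx⟩, h1 (Subgroup.mem_top _), rfl⟩

/-- A radical subgroup is the intersection of the Sylow subgroups containing it. -/
theorem inter_sylow_le {p : ℕ} [Fact p.Prime] {R : Subgroup G}
    (hR : (pCore p (Subgroup.normalizer (R : Set G))).map (Subgroup.normalizer (R : Set G)).subtype = R) :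
    sInf {K : Subgroup G | ∃ Q : Sylow p G, R ≤ (Q : Subgroup G) ∧ K = (Q : Subgroup G)} ≤ R := by
  set D := sInf {K : Subgroup G | ∃ Q : Sylow p G, R ≤ (Q : Subgroup G) ∧ K = (Q : Subgroup G)} with hD
  set N := Subgroup.normalizer (R : Set G) with hN
  have hRp : IsPGroup p R := hR ▸ (Cores.pCore_isPGroup p).map _
  have hRD : R ≤ D := le_sInf fun K hK => by
    obtain ⟨Q, hQ, rfl⟩ := hK
    exact hQ
  have hDp : IsPGroup p D := by
    obtain ⟨Q, hQ⟩ := hRp.exists_le_sylow
    exact Q.2.to_le (sInf_le ⟨Q, hQ, rfl⟩)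
  have hND : N ≤ Subgroup.normalizer (D : Set G) := by
    intro n hn
    apply Coprime.conj_smul_eq_self_iff.mp
    refine Subgroup.eq_of_le_of_card_ge ?_ (le_of_eq (Coprime.card_conj_smul n _).symm)
    refine le_sInf fun K hK => ?_
    obtain ⟨Q, hQ, rfl⟩ := hK
    rintro _ hy
    obtain ⟨m, hm, rfl⟩ := (Subgroup.mem_smul_pointwise_iff_exists _ _ _).mp hy
    have hQ' : R ≤ ((n⁻¹ • Q : Sylow p G) : Subgroup G) := by
      rw [Sylow.coe_subgroup_smul]
      calc R = MulAut.conj n⁻¹ • R := (Coprime.conj_smul_eq_self_iff.mpr (inv_mem hn)).symm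
        _ ≤ _ := Subgroup.pointwise_smul_le_pointwise_smul_iff.mpr hQ
    have h1 : m ∈ ((n⁻¹ • Q : Sylow p G) : Subgroup G) := sInf_le (α := Subgroup G) (s := {K : Subgroup G | ∃ Q : Sylow p G, R ≤ (Q : Subgroup G) ∧ K = (Q : Subgroup G)}) ⟨_, hQ', rfl⟩ hm
    rw [Sylow.coe_subgroup_smul, Coprime.mem_conj_smul] at h1
    simpa [MulAut.smul_def] using h1
  by_contra hnot
  have hlt := Transfer.Frobenius.lt_inf_normalizer hDp (lt_of_le_not_ge hRD hnot)
  refine hlt.not_ge fun x hx => ?_
  have hn : ((D ⊓ N).subgroupOf N).Normal := by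
    refine Subgroup.normal_subgroupOf_of_le_normalizer ?_
    intro n hn
    apply Coprime.conj_smul_eq_self_iff.mp
    rw [Subgroup.smul_inf, Coprime.conj_smul_eq_self_iff.mpr (hND hn),
      Coprime.conj_smul_eq_self_iff.mpr (Subgroup.le_normalizer hn)]
  rw [← hR]
  have hp' : IsPGroup p ((D ⊓ N).subgroupOf N) :=
    (hDp.to_le inf_le_left).comap_of_injective N.subtype N.subtype_injective
  exact ⟨⟨x, hx.2⟩, Cores.le_pCore (N := (D ⊓ N).subgroupOf N) hp'
    (Subgroup.mem_subgroupOf.mpr hx), rfl⟩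

end Cfsg.Agent.GStructB.Subnormalizer
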