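import Cfsg.Agent.GStructB.Subnormalizer
import Mathlib

/-!
Casolo's count of the subnormalizer, by Möbius inversion on invariant `p`-subgroups.
-/

set_option autoImplicit false

namespace Cfsg.Agent.GStructB.SubnormalizerCount

open Cfsg
open scoped Classical Pointwise

universe u

variable {G : Type u} [Group G] [Fintype G] (p : ℕ) [Fact p.Prime]

/-- The `p`-subgroups of `L`. -/
noncomputable def pSubs (L : Subgroup G) : Finset (Subgroup G) :=
  Finset.univ.filter fun U => U ≤ L ∧ IsPGroup p U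

theorem mem_pSubs {L U : Subgroup G} : U ∈ pSubs p L ↔ U ≤ L ∧ IsPGroup p U := by simp [pSubs]

/-- The indicator: some `p`-subgroup of `L` above `X` is normalized by `g`. -/
noncomputable def ind (L : Subgroup G) (g : G) (X : Subgroup G) : ℤ :=
  if ∃ U ∈ pSubs p L, X ≤ U ∧ g ∈ Subgroup.normalizer (U : Set G) then 1 else 0

/-- The Möbius inverse of the indicator. -/
noncomputable def dd (L : Subgroup G) (g : G) (X : Subgroup G) : ℤ :=
  ind p L g X - ∑ U ∈ ((pSubs p L).filter (fun U => X < U)).attach, dd L g U.1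
termination_by Nat.card G - Nat.card X
decreasing_by
  have h := (Finset.mem_filter.mp U.2).2
  have h1 : Nat.card X < Nat.card U.1 := lt_of_le_of_ne (Subgroup.card_le_of_le h.le)
    fun e => h.ne (Subgroup.eq_of_le_of_card_ge h.le e.ge)
  have h2 : Nat.card U.1 ≤ Nat.card G := Nat.card_le_card_of_injective _ Subtype.val_injective
  omega

theorem dd_eq (L : Subgroup G) (g : G) (X : Subgroup G) :
    dd p L g X = ind p L g X - ∑ U ∈ (pSubs p L).filter (fun U => X < U), dd p L g U := by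
  rw [dd, ← Finset.sum_attach ((pSubs p L).filter (fun U => X < U))]

theorem filter_le_eq {L X : Subgroup G} (hX : X ∈ pSubs p L) :
    (pSubs p L).filter (fun U => X ≤ U) = insert X ((pSubs p L).filter (fun U => X < U)) := by
  ext U
  simp only [Finset.mem_insert, Finset.mem_filter]
  constructor
  · rintro ⟨h1, h2⟩
    rcases eq_or_lt_of_le h2 with h | h
    · exact Or.inl h.symm
    · exact Or.inr ⟨h1, h⟩
  · rintro (rfl | ⟨h1, h2⟩)
    · exact ⟨hX, le_rfl⟩
    · exact ⟨h1, h2.le⟩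

theorem sum_dd {L X : Subgroup G} (g : G) (hX : X ∈ pSubs p L) :
    ∑ U ∈ (pSubs p L).filter (fun U => X ≤ U), dd p L g U = ind p L g X := by
  rw [filter_le_eq p hX, Finset.sum_insert (by simp), dd_eq p L g X, sub_add_cancel]

/-- Uniqueness of the inverse on an upward closed set. -/
theorem dd_unique {L T : Subgroup G} (g : G) (f : Subgroup G → ℤ)
    (hf : ∀ X ∈ pSubs p L, T < X → ∑ U ∈ (pSubs p L).filter (fun U => X ≤ U), f U = ind p L g X) :
    ∀ X ∈ pSubs p L, T < X → f X = dd p L g X := by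
  intro X
  induction hn : Nat.card G - Nat.card X using Nat.strong_induction_on generalizing X with
  | _ n ih =>
  intro hX hTX
  have h := hf X hX hTX
  rw [filter_le_eq p hX, Finset.sum_insert (by simp)] at h
  rw [dd_eq, ← h, Finset.sum_congr rfl (fun U hU => ?_), add_sub_cancel_right]
  obtain ⟨hU1, hU2⟩ := Finset.mem_filter.mp hU
  refine ih _ ?_ U rfl hU1 (hTX.trans hU2)
  rw [← hn]
  have h1 : Nat.card X < Nat.card U := lt_of_le_of_ne (Subgroup.card_le_of_le hU2.le)
    fun e => hU2.ne (Subgroup.eq_of_le_of_card_ge hU2.le e.ge)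
  have h2 : Nat.card U ≤ Nat.card G := Nat.card_le_card_of_injective _ Subtype.val_injective
  omega

/-- The inverse is supported on invariant subgroups. -/
theorem dd_eq_zero {L : Subgroup G} {g : G} : ∀ X ∈ pSubs p L,
    g ∉ Subgroup.normalizer (X : Set G) → dd p L g X = 0 := by
  intro X
  induction hn : Nat.card G - Nat.card X using Nat.strong_induction_on generalizing X with
  | _ n ih =>
  intro hX hg
  have hzero : ∀ U ∈ (pSubs p L).filter (fun U => X < U), g ∉ Subgroup.normalizer (U : Set G) →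
      dd p L g U = 0 := by
    intro U hU hgU
    obtain ⟨hU1, hU2⟩ := Finset.mem_filter.mp hU
    refine ih _ ?_ U rfl hU1 hgU
    rw [← hn]
    have h1 : Nat.card X < Nat.card U := lt_of_le_of_ne (Subgroup.card_le_of_le hU2.le)
      fun e => hU2.ne (Subgroup.eq_of_le_of_card_ge hU2.le e.ge)
    have h2 : Nat.card U ≤ Nat.card G := Nat.card_le_card_of_injective _ Subtype.val_injective
    omega
  by_cases hS : ∃ U ∈ pSubs p L, X ≤ U ∧ g ∈ Subgroup.normalizer (U : Set G)
  · obtain ⟨U₀, hU₀, hXU₀, hgU₀⟩ := hS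
    set K := sInf {U : Subgroup G | X ≤ U ∧ g ∈ Subgroup.normalizer (U : Set G)} with hK
    have hXK : X ≤ K := le_sInf fun U hU => hU.1
    have hKU : K ≤ U₀ := sInf_le ⟨hXU₀, hgU₀⟩
    have hKmem : K ∈ pSubs p L := (mem_pSubs p).mpr
      ⟨hKU.trans ((mem_pSubs p).mp hU₀).1, ((mem_pSubs p).mp hU₀).2.to_le hKU⟩
    have hgK : g ∈ Subgroup.normalizer (K : Set G) := by
      apply Coprime.conj_smul_eq_self_iff.mp
      refine Subgroup.eq_of_le_of_card_ge (le_sInf fun U hU => ?_) (le_of_eq (Coprime.card_conj_smul g _).symm)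
      calc MulAut.conj g • K ≤ MulAut.conj g • U := Subgroup.pointwise_smul_le_pointwise_smul_iff.mpr (sInf_le hU)
        _ = U := Coprime.conj_smul_eq_self_iff.mpr hU.2
    have hXK' : X < K := lt_of_le_of_ne hXK fun e => hg (e ▸ hgK)
    have h1 : ∑ U ∈ (pSubs p L).filter (fun U => X < U), dd p L g U =
        ∑ U ∈ (pSubs p L).filter (fun U => K ≤ U), dd p L g U := by
      refine (Finset.sum_subset ?_ ?_).symm
      · intro U hU
        obtain ⟨h1, h2⟩ := Finset.mem_filter.mp hU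
        exact Finset.mem_filter.mpr ⟨h1, hXK'.trans_le h2⟩
      · intro U hU hUn
        obtain ⟨h1, h2⟩ := Finset.mem_filter.mp hU
        exact hzero U hU fun hgU => hUn (Finset.mem_filter.mpr ⟨h1, sInf_le ⟨h2.le, hgU⟩⟩)
    rw [dd_eq, h1, sum_dd p g hKmem, ind, ind, if_pos ⟨U₀, hU₀, hXU₀, hgU₀⟩, if_pos ⟨U₀, hU₀, hKU, hgU₀⟩,
      sub_self]
  · rw [dd_eq, ind, if_neg hS, Finset.sum_eq_zero fun U hU => hzero U hU fun hgU =>
      hS ⟨U, (Finset.mem_filter.mp hU).1, (Finset.mem_filter.mp hU).2.le, hgU⟩, sub_zero]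

/-- Localisation in the normalizer of `T`. -/
theorem dd_local {L T : Subgroup G} {g : G} (hT : T ∈ pSubs p L) (hg : g ∈ L ⊓ Subgroup.normalizer (T : Set G)) :
    dd p L g T = dd p (L ⊓ Subgroup.normalizer (T : Set G)) g T := by
  set L' := L ⊓ Subgroup.normalizer (T : Set G) with hL'
  have hTp := (mem_pSubs p).mp hT
  have hTL' : T ∈ pSubs p L' := (mem_pSubs p).mpr ⟨le_inf hTp.1 Subgroup.le_normalizer, hTp.2⟩
  have hmem : ∀ U ∈ pSubs p L, U ⊓ L' ∈ pSubs p L' := fun U hU =>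
    (mem_pSubs p).mpr ⟨inf_le_right, ((mem_pSubs p).mp hU).2.to_le inf_le_left⟩
  let f : Subgroup G → ℤ := fun X => ∑ U ∈ (pSubs p L).filter (fun U => T ≤ U ∧ U ⊓ L' = X), dd p L g U
  have hf : ∀ X ∈ pSubs p L', T < X → f X = dd p L' g X := by
    refine dd_unique p g f fun X hX hTX => ?_
    obtain ⟨hX1, hX2⟩ := (mem_pSubs p).mp hX
    have hXL : X ∈ pSubs p L := (mem_pSubs p).mpr ⟨hX1.trans inf_le_left, hX2⟩
    have h1 : ∑ Q ∈ (pSubs p L').filter (fun Q => X ≤ Q), f Q =
        ∑ U ∈ (pSubs p L).filter (fun U => X ≤ U), dd p L g U := by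
      rw [← Finset.sum_fiberwise_of_maps_to (g := fun U => U ⊓ L')
        (t := (pSubs p L').filter (fun Q => X ≤ Q)) (s := (pSubs p L).filter (fun U => X ≤ U))
        (fun U hU => Finset.mem_filter.mpr ⟨hmem U (Finset.mem_filter.mp hU).1, le_inf (Finset.mem_filter.mp hU).2 hX1⟩)]
      refine Finset.sum_congr rfl fun Q hQ => Finset.sum_congr ?_ fun _ _ => rfl
      obtain ⟨-, hXQ⟩ := Finset.mem_filter.mp hQ
      ext U
      simp only [Finset.mem_filter]
      constructor
      · rintro ⟨h1, -, h3⟩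
        exact ⟨⟨h1, hXQ.trans (h3 ▸ inf_le_left)⟩, h3⟩
      · rintro ⟨⟨h1, h2⟩, h3⟩
        exact ⟨h1, hTX.le.trans h2, h3⟩
    rw [h1, sum_dd p g hXL]
    have hiff : (∃ U ∈ pSubs p L, X ≤ U ∧ g ∈ Subgroup.normalizer (U : Set G)) ↔
        (∃ U ∈ pSubs p L', X ≤ U ∧ g ∈ Subgroup.normalizer (U : Set G)) := by
      constructor
      · rintro ⟨U, hU, hXU, hgU⟩
        refine ⟨U ⊓ L', hmem U hU, le_inf hXU hX1, ?_⟩
        apply Coprime.conj_smul_eq_self_iff.mp
        rw [Subgroup.smul_inf, Coprime.conj_smul_eq_self_iff.mpr hgU,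
          Coprime.conj_smul_eq_self_iff.mpr (Subgroup.le_normalizer hg)]
      · rintro ⟨U, hU, hXU, hgU⟩
        obtain ⟨h1, h2⟩ := (mem_pSubs p).mp hU
        exact ⟨U, (mem_pSubs p).mpr ⟨h1.trans inf_le_left, h2⟩, hXU, hgU⟩
    simp only [ind, hiff]
  have h2 : ∑ Q ∈ (pSubs p L').filter (fun Q => T < Q), dd p L' g Q =
      ∑ U ∈ (pSubs p L).filter (fun U => T < U), dd p L g U := by
    rw [Finset.sum_congr rfl fun Q hQ => (hf Q (Finset.mem_filter.mp hQ).1 (Finset.mem_filter.mp hQ).2).symm,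
      ← Finset.sum_fiberwise_of_maps_to (g := fun U => U ⊓ L')
        (t := (pSubs p L').filter (fun Q => T < Q)) (s := (pSubs p L).filter (fun U => T < U))
        (fun U hU => by
          obtain ⟨h1, h2⟩ := Finset.mem_filter.mp hU
          refine Finset.mem_filter.mpr ⟨hmem U h1, ?_⟩
          refine (Transfer.Frobenius.lt_inf_normalizer ((mem_pSubs p).mp h1).2 h2).trans_le ?_
          exact le_inf inf_le_left (le_inf (inf_le_left.trans ((mem_pSubs p).mp h1).1) inf_le_right))]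
    refine Finset.sum_congr rfl fun Q hQ => Finset.sum_congr ?_ fun _ _ => rfl
    obtain ⟨-, hTQ⟩ := Finset.mem_filter.mp hQ
    ext U
    simp only [Finset.mem_filter]
    constructor
    · rintro ⟨h1, -, h3⟩
      exact ⟨⟨h1, hTQ.trans_le (h3 ▸ inf_le_left)⟩, h3⟩
    · rintro ⟨⟨h1, h2⟩, h3⟩
      exact ⟨h1, h2.le, h3⟩
  rw [dd_eq p L g T, dd_eq p L' g T, h2]
  congr 1
  rw [ind, ind, if_pos ⟨T, hT, le_rfl, hg.2⟩, if_pos ⟨T, hTL', le_rfl, hg.2⟩]

/-- The total weight of `T`. -/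
noncomputable def DD (L T : Subgroup G) : ℤ :=
  ∑ g ∈ Finset.univ.filter (fun g => g ∈ L), dd p L g T

theorem DD_local {L T : Subgroup G} (hT : T ∈ pSubs p L) :
    DD p L T = DD p (L ⊓ Subgroup.normalizer (T : Set G)) T := by
  rw [DD, DD, ← Finset.sum_subset (s₁ := Finset.univ.filter fun g => g ∈ L ⊓ Subgroup.normalizer (T : Set G))
    (s₂ := Finset.univ.filter fun g => g ∈ L) (fun g hg => by simp at hg ⊢; exact hg.1) (fun g hg hg' => by
      simp at hg hg'
      exact dd_eq_zero p T hT fun hn => hg' hg hn)]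
  exact Finset.sum_congr rfl fun g hg => dd_local p hT (Finset.mem_filter.mp hg).2

theorem sum_DD {L X : Subgroup G} (hX : X ∈ pSubs p L) :
    ∑ U ∈ (pSubs p L).filter (fun U => X ≤ U), DD p L U =
      ∑ g ∈ Finset.univ.filter (fun g => g ∈ L), ind p L g X := by
  simp only [DD]
  rw [Finset.sum_comm]
  exact Finset.sum_congr rfl fun g _ => sum_dd p g hX

/-- The maximal `p`-subgroups of `L`. -/
noncomputable def maxSubs (L : Subgroup G) : Finset (Subgroup G) :=
  (pSubs p L).filter fun S => ∀ U ∈ pSubs p L, S ≤ U → U ≤ S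

theorem exists_sylow_eq {L S : Subgroup G} (hS : S ∈ maxSubs p L) : ∃ Q : Sylow p L, (Q : Subgroup L).map L.subtype = S := by
  obtain ⟨hS1, hmax⟩ := Finset.mem_filter.mp hS
  obtain ⟨hSL, hSp⟩ := (mem_pSubs p).mp hS1
  obtain ⟨Q, hQ⟩ := (hSp.of_equiv (Subgroup.subgroupOfEquivOfLe hSL).symm).exists_le_sylow
  have hle : S ≤ (Q : Subgroup L).map L.subtype := fun x hx => ⟨⟨x, hSL hx⟩, hQ (Subgroup.mem_subgroupOf.mpr hx), rfl⟩
  exact ⟨Q, le_antisymm (hmax _ ((mem_pSubs p).mpr ⟨Subgroup.map_subtype_le _, Q.2.map _⟩) hle) hle⟩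

theorem map_mem_maxSubs {L : Subgroup G} (Q : Sylow p L) : (Q : Subgroup L).map L.subtype ∈ maxSubs p L := by
  refine Finset.mem_filter.mpr ⟨(mem_pSubs p).mpr ⟨Subgroup.map_subtype_le _, Q.2.map _⟩, fun U hU hle => ?_⟩
  obtain ⟨hUL, hUp⟩ := (mem_pSubs p).mp hU
  intro x hx
  have h1 : U.subgroupOf L = (Q : Subgroup L) := Q.is_maximal' (hUp.of_equiv (Subgroup.subgroupOfEquivOfLe hUL).symm)
    fun y hy => Subgroup.mem_subgroupOf.mpr (hle ⟨y, hy, rfl⟩)
  exact ⟨⟨x, hUL hx⟩, h1 ▸ Subgroup.mem_subgroupOf.mpr hx, rfl⟩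

theorem sum_max (L : Subgroup G) :
    ∑ S ∈ maxSubs p L, (Nat.card ↥(L ⊓ Subgroup.normalizer (S : Set G)) : ℤ) = Nat.card L := by
  have hn : ∀ S ∈ maxSubs p L,
      Nat.card ↥(L ⊓ Subgroup.normalizer (S : Set G)) * Nat.card (Sylow p L) = Nat.card L := by
    intro S hS
    obtain ⟨Q, rfl⟩ := exists_sylow_eq p hS
    rw [Q.card_eq_index_normalizer, ← (Subgroup.normalizer ((Q : Subgroup L) : Set L)).card_mul_index]
    congr 1
    rw [← Nat.card_congr (Subgroup.subgroupOfEquivOfLe (inf_le_left : L ⊓ Subgroup.normalizer (((Q : Subgroup L).map L.subtype : Subgroup G) : Set G) ≤ L)).toEquiv]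
    refine Nat.card_congr (Equiv.subtypeEquivRight fun x => ?_)
    simp only [Subgroup.mem_subgroupOf, Subgroup.mem_inf, SetLike.coe_mem, true_and]
    constructor
    · intro hx
      rw [Subgroup.mem_normalizer_iff] at hx ⊢
      intro y
      have := hx (y : G)
      constructor
      · intro hy
        obtain ⟨z, hz, hzy⟩ := this.mp ⟨y, hy, rfl⟩
        exact (Subtype.ext hzy : z = x * y * x⁻¹) ▸ hz
      · intro hy
        obtain ⟨z, hz, hzy⟩ := this.mpr ⟨x * y * x⁻¹, hy, rfl⟩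
        exact (Subtype.ext hzy : z = y) ▸ hz
    · exact fun hx => Subgroup.le_normalizer_map L.subtype ⟨x, hx, rfl⟩
  have hcard : (maxSubs p L).card = Nat.card (Sylow p L) := by
    rw [← Fintype.card_coe, ← Nat.card_eq_fintype_card]
    refine (Nat.card_congr (Equiv.ofBijective (fun Q => (⟨_, map_mem_maxSubs p Q⟩ : {x // x ∈ maxSubs p L})) ⟨?_, ?_⟩)).symm
    · intro Q Q' h
      exact Sylow.ext (Subgroup.map_injective L.subtype_injective (congrArg Subtype.val h))
    · rintro ⟨S, hS⟩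
      obtain ⟨Q, hQ⟩ := exists_sylow_eq p hS
      exact ⟨Q, Subtype.ext hQ⟩
  have hne : 0 < Nat.card (Sylow p L) := Nat.card_pos
  have hval : ∀ S ∈ maxSubs p L, Nat.card ↥(L ⊓ Subgroup.normalizer (S : Set G)) = Nat.card L / Nat.card (Sylow p L) :=
    fun S hS => by rw [← hn S hS, Nat.mul_div_cancel _ hne]
  rw [← Nat.cast_sum, Finset.sum_congr rfl hval, Finset.sum_const, smul_eq_mul, hcard, Nat.mul_div_cancel']
  rw [← hcard]
  obtain ⟨Q⟩ : Nonempty (Sylow p L) := inferInstance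
  exact Dvd.intro_left _ (hcard ▸ hn _ (map_mem_maxSubs p Q))

/-- The weight is `|N_L(T)|` for Sylow subgroups and zero otherwise. -/
theorem DD_eq : ∀ (L : Subgroup G), ∀ T ∈ pSubs p L,
    DD p L T = if T ∈ maxSubs p L then (Nat.card ↥(L ⊓ Subgroup.normalizer (T : Set G)) : ℤ) else 0 := by
  suffices H : ∀ (n : ℕ) (L : Subgroup G), ∀ T ∈ pSubs p L, L ≤ Subgroup.normalizer (T : Set G) →
      Nat.card L / Nat.card T = n → DD p L T = if T ∈ maxSubs p L then (Nat.card L : ℤ) else 0 by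
    intro L T hT
    have hTp := (mem_pSubs p).mp hT
    have hT' : T ∈ pSubs p (L ⊓ Subgroup.normalizer (T : Set G)) :=
      (mem_pSubs p).mpr ⟨le_inf hTp.1 Subgroup.le_normalizer, hTp.2⟩
    rw [DD_local p hT, H _ _ T hT' inf_le_right rfl]
    refine if_congr ?_ rfl rfl
    constructor
    · intro h
      refine Finset.mem_filter.mpr ⟨hT, fun U hU hle => ?_⟩
      by_contra hnot
      have hlt : T < U := lt_of_le_not_ge hle hnot
      have h1 := Transfer.Frobenius.lt_inf_normalizer ((mem_pSubs p).mp hU).2 hlt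
      refine h1.not_ge ((Finset.mem_filter.mp h).2 _ ((mem_pSubs p).mpr
        ⟨le_inf (inf_le_left.trans ((mem_pSubs p).mp hU).1) inf_le_right, ((mem_pSubs p).mp hU).2.to_le inf_le_left⟩) h1.le)
    · intro h
      refine Finset.mem_filter.mpr ⟨hT', fun U hU hle => ?_⟩
      exact (Finset.mem_filter.mp h).2 U ((mem_pSubs p).mpr
        ⟨((mem_pSubs p).mp hU).1.trans inf_le_left, ((mem_pSubs p).mp hU).2⟩) hle
  intro n
  induction n using Nat.strong_induction_on with
  | _ n ih =>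
  intro L T hT hLT hn
  have hTp := (mem_pSubs p).mp hT
  -- the weights of the larger subgroups
  have hbig : ∀ U ∈ (pSubs p L).filter (fun U => T < U),
      DD p L U = if U ∈ maxSubs p L then (Nat.card ↥(L ⊓ Subgroup.normalizer (U : Set G)) : ℤ) else 0 := by
    intro U hU
    obtain ⟨hU1, hU2⟩ := Finset.mem_filter.mp hU
    have hUp := (mem_pSubs p).mp hU1
    have hU' : U ∈ pSubs p (L ⊓ Subgroup.normalizer (U : Set G)) :=
      (mem_pSubs p).mpr ⟨le_inf hUp.1 Subgroup.le_normalizer, hUp.2⟩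
    have hlt : Nat.card ↥(L ⊓ Subgroup.normalizer (U : Set G)) / Nat.card U < n := by
      have h1 : Nat.card T < Nat.card U := lt_of_le_of_ne (Subgroup.card_le_of_le hU2.le)
        fun e => hU2.ne (Subgroup.eq_of_le_of_card_ge hU2.le e.ge)
      have h2 : Nat.card ↥(L ⊓ Subgroup.normalizer (U : Set G)) ≤ Nat.card L := Subgroup.card_le_of_le inf_le_left
      obtain ⟨a, ha⟩ := Subgroup.card_dvd_of_le ((mem_pSubs p).mp hU').1
      obtain ⟨b, hb⟩ := Subgroup.card_dvd_of_le hTp.1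
      rw [ha, Nat.mul_div_cancel_left _ Nat.card_pos, ← hn, hb, Nat.mul_div_cancel_left _ Nat.card_pos]
      rw [ha, hb] at h2
      have ha0 : 0 < a := Nat.pos_of_ne_zero fun h0 => by
        rw [h0, mul_zero] at ha; exact Nat.card_pos.ne' ha
      by_contra hge
      have h3 : Nat.card T * b < Nat.card U * a :=
        lt_of_le_of_lt (Nat.mul_le_mul_left _ (not_lt.mp hge)) (Nat.mul_lt_mul_of_pos_right h1 ha0)
      omega
    rw [DD_local p hU1, ih _ hlt _ U hU' inf_le_right rfl]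
    refine if_congr ?_ rfl rfl
    constructor
    · intro h
      refine Finset.mem_filter.mpr ⟨hU1, fun V hV hle => ?_⟩
      by_contra hnot
      have h1 := Transfer.Frobenius.lt_inf_normalizer ((mem_pSubs p).mp hV).2 (lt_of_le_not_ge hle hnot)
      refine h1.not_ge ((Finset.mem_filter.mp h).2 _ ((mem_pSubs p).mpr
        ⟨le_inf (inf_le_left.trans ((mem_pSubs p).mp hV).1) inf_le_right, ((mem_pSubs p).mp hV).2.to_le inf_le_left⟩) h1.le)
    · intro h
      refine Finset.mem_filter.mpr ⟨hU', fun V hV hle => ?_⟩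
      exact (Finset.mem_filter.mp h).2 V ((mem_pSubs p).mpr
        ⟨((mem_pSubs p).mp hV).1.trans inf_le_left, ((mem_pSubs p).mp hV).2⟩) hle
  have htot := sum_DD p hT
  rw [Finset.sum_congr rfl (fun g hg => (show ind p L g T = 1 from
    if_pos ⟨T, hT, le_rfl, hLT (Finset.mem_filter.mp hg).2⟩)), Finset.sum_const, nsmul_eq_mul, mul_one,
    filter_le_eq p hT, Finset.sum_insert (by simp), Finset.sum_congr rfl hbig] at htot
  have hL : ((Finset.univ.filter fun g => g ∈ L).card : ℤ) = Nat.card L := by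
    rw [Nat.card_eq_fintype_card, Fintype.card_subtype]
  rw [hL] at htot
  by_cases hmax : T ∈ maxSubs p L
  · rw [if_pos hmax]
    rw [Finset.sum_eq_zero, add_zero] at htot
    · exact htot
    · intro U hU
      obtain ⟨hU1, hU2⟩ := Finset.mem_filter.mp hU
      exact absurd ((Finset.mem_filter.mp hmax).2 U hU1 hU2.le) hU2.not_ge
  · rw [if_neg hmax]
    have hsum : ∑ U ∈ (pSubs p L).filter (fun U => T < U),
        (if U ∈ maxSubs p L then (Nat.card ↥(L ⊓ Subgroup.normalizer (U : Set G)) : ℤ) else 0) = Nat.card L := by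
      rw [← Finset.sum_filter, ← sum_max p L]
      refine Finset.sum_congr ?_ fun _ _ => rfl
      ext U
      simp only [Finset.mem_filter]
      refine ⟨fun h => h.2, fun h => ⟨⟨(Finset.mem_filter.mp h).1, ?_⟩, h⟩⟩
      refine lt_of_le_of_ne ?_ fun e => hmax (e ▸ h)
      obtain ⟨Q, hQ⟩ := exists_sylow_eq p h
      have : (T.subgroupOf L).Normal := Subgroup.normal_subgroupOf_of_le_normalizer hLT
      rw [← hQ]
      intro x hx
      exact ⟨⟨x, hTp.1 hx⟩, (hTp.2.of_equiv (Subgroup.subgroupOfEquivOfLe hTp.1).symm).le_sylow_of_normal Q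
        (Subgroup.mem_subgroupOf.mpr hx), rfl⟩
    rw [hsum] at htot
    linarith

/-- Casolo's formula. -/
theorem card_subnormalizer {H : Subgroup G} (hH : IsPGroup p H) (P : Sylow p G) :
    Nat.card {g : G // (H.subgroupOf (H ⊔ Subgroup.zpowers g)).IsSubnormal} =
      Nat.card {Q : Sylow p G // H ≤ (Q : Subgroup G)} *
        Nat.card (Subgroup.normalizer ((P : Subgroup G) : Set G)) := by
  have hHm : H ∈ pSubs p ⊤ := (mem_pSubs p).mpr ⟨le_top, hH⟩
  have h := sum_DD p hHm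
  have hl : ∑ g ∈ Finset.univ.filter (fun g => g ∈ (⊤ : Subgroup G)), ind p ⊤ g H =
      (Nat.card {g : G // (H.subgroupOf (H ⊔ Subgroup.zpowers g)).IsSubnormal} : ℤ) := by
    rw [Nat.card_eq_fintype_card, Fintype.card_subtype]
    simp only [ind, Subgroup.mem_top, Finset.filter_true]
    rw [Finset.sum_boole]
    norm_cast
    congr 1
    ext g
    simp only [Finset.mem_filter, Finset.mem_univ, true_and]
    rw [GStructB.Subnormalizer.isSubnormal_iff hH]
    constructor
    · rintro ⟨U, hU, h1, h2⟩; exact ⟨U, h1, ((mem_pSubs p).mp hU).2, h2⟩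
    · rintro ⟨U, h1, h2, h3⟩; exact ⟨U, (mem_pSubs p).mpr ⟨le_top, h2⟩, h1, h3⟩
  rw [hl, Finset.sum_congr rfl fun U hU => DD_eq p ⊤ U (Finset.mem_filter.mp hU).1, ← Finset.sum_filter] at h
  have hsy : ∀ S : Subgroup G, S ∈ maxSubs p ⊤ ↔ ∃ Q : Sylow p G, (Q : Subgroup G) = S := by
    intro S
    constructor
    · intro hS
      obtain ⟨h1, h2⟩ := Finset.mem_filter.mp hS
      obtain ⟨Q, hQ⟩ := ((mem_pSubs p).mp h1).2.exists_le_sylow
      exact ⟨Q, le_antisymm (h2 _ ((mem_pSubs p).mpr ⟨le_top, Q.2⟩) hQ) hQ⟩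
    · rintro ⟨Q, rfl⟩
      refine Finset.mem_filter.mpr ⟨(mem_pSubs p).mpr ⟨le_top, Q.2⟩, fun U hU hle => ?_⟩
      rw [Q.is_maximal' ((mem_pSubs p).mp hU).2 hle]
  set Ms := ((pSubs p ⊤).filter fun U => H ≤ U).filter fun U => U ∈ maxSubs p ⊤
  have hcount : Nat.card {Q : Sylow p G // H ≤ (Q : Subgroup G)} = Ms.card := by
    rw [← Fintype.card_coe, ← Nat.card_eq_fintype_card]
    refine Nat.card_congr (Equiv.ofBijective (fun Q => (⟨(Q.1 : Subgroup G), Finset.mem_filter.mpr
      ⟨Finset.mem_filter.mpr ⟨(mem_pSubs p).mpr ⟨le_top, Q.1.2⟩, Q.2⟩, (hsy _).mpr ⟨Q.1, rfl⟩⟩⟩ : {x // x ∈ Ms})) ⟨?_, ?_⟩)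
    · intro Q Q' hQ
      exact Subtype.ext (Sylow.ext (congrArg Subtype.val hQ))
    · rintro ⟨S, hS⟩
      obtain ⟨h1, h2⟩ := Finset.mem_filter.mp hS
      obtain ⟨Q, rfl⟩ := (hsy S).mp h2
      exact ⟨⟨Q, (Finset.mem_filter.mp h1).2⟩, rfl⟩
  have hconst : ∀ S ∈ Ms, (Nat.card ↥((⊤ : Subgroup G) ⊓ Subgroup.normalizer (S : Set G)) : ℤ) =
      (Nat.card (Subgroup.normalizer ((P : Subgroup G) : Set G)) : ℤ) := by
    intro S hS
    obtain ⟨Q, rfl⟩ := (hsy S).mp (Finset.mem_filter.mp hS).2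
    rw [top_inf_eq]
    have e1 := (Subgroup.normalizer ((Q : Subgroup G) : Set G)).card_mul_index
    have eQ : (Subgroup.normalizer ((Q : Subgroup G) : Set G)).index = Nat.card (Sylow p G) :=
      Q.card_eq_index_normalizer.symm
    have eP : (Subgroup.normalizer ((P : Subgroup G) : Set G)).index = Nat.card (Sylow p G) :=
      P.card_eq_index_normalizer.symm
    rw [eQ, ← (Subgroup.normalizer ((P : Subgroup G) : Set G)).card_mul_index, eP] at e1
    exact_mod_cast Nat.eq_of_mul_eq_mul_right Nat.card_pos e1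
  rw [Finset.sum_congr rfl hconst, Finset.sum_const, nsmul_eq_mul, ← hcount] at h
  exact_mod_cast h.symm

end Cfsg.Agent.GStructB.SubnormalizerCount
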