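import Cfsg.Agent.GStructB.SubnormalizerCount
import Mathlib

/-!
Behaviour of the subnormalizer count under quotients by `p`-groups and `p'`-groups.
-/

set_option autoImplicit false

namespace Cfsg.Agent.GStructB.SubnormalizerQuotient

open Cfsg
open scoped Pointwise

universe u v

variable {A : Type u} [Group A] [Finite A] {B : Type v} [Group B] [Finite B]
variable {p : ℕ} [Fact p.Prime]

/-- The order of the subnormalizer. -/
noncomputable def sn (H : Subgroup A) : ℕ :=
  Nat.card {g : A // (H.subgroupOf (H ⊔ Subgroup.zpowers g)).IsSubnormal}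

theorem sn_eq {H : Subgroup A} (hH : IsPGroup p H) (P : Sylow p A) :
    sn H = Nat.card {Q : Sylow p A // H ≤ (Q : Subgroup A)} *
      Nat.card (Subgroup.normalizer ((P : Subgroup A) : Set A)) := by
  have := Fintype.ofFinite A
  exact SubnormalizerCount.card_subnormalizer p hH P

/-- A `p`-group kernel. -/
theorem sn_pGroup_ker (ψ : A →* B) (hψ : Function.Surjective ψ) (hK : IsPGroup p ψ.ker)
    {H : Subgroup A} (hH : IsPGroup p H) : sn H = Nat.card ψ.ker * sn (H.map ψ) := by
  have key : ∀ g : A, (H.subgroupOf (H ⊔ Subgroup.zpowers g)).IsSubnormal ↔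
      ((H.map ψ).subgroupOf (H.map ψ ⊔ Subgroup.zpowers (ψ g))).IsSubnormal := by
    intro g
    rw [Subnormalizer.isSubnormal_iff hH, Subnormalizer.isSubnormal_iff (hH.map ψ)]
    constructor
    · rintro ⟨U, hHU, hU, hg⟩
      exact ⟨U.map ψ, Subgroup.map_mono hHU, hU.map ψ, Subgroup.le_normalizer_map ψ ⟨g, hg, rfl⟩⟩
    · rintro ⟨U, hHU, hU, hg⟩
      refine ⟨U.comap ψ, Subgroup.map_le_iff_le_comap.mp hHU, hU.comap_of_ker_isPGroup ψ hK, ?_⟩
      rw [Subgroup.mem_normalizer_iff] at hg ⊢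
      intro h
      simpa using hg (ψ h)
  let e := (QuotientGroup.quotientKerEquivOfSurjective ψ hψ).toEquiv
  rw [sn, sn, ← Nat.card_prod]
  refine Nat.card_congr ((Equiv.subtypeEquivRight key).trans ?_)
  refine (Equiv.subtypeEquiv (q := fun x : (A ⧸ ψ.ker) × ψ.ker =>
    ((H.map ψ).subgroupOf (H.map ψ ⊔ Subgroup.zpowers (e x.1))).IsSubnormal)
    Subgroup.groupEquivQuotientProdSubgroup fun g => ?_).trans ?_
  · have : ψ g = e (Subgroup.groupEquivQuotientProdSubgroup (s := ψ.ker) g).1 := rfl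
    rw [this]
  · exact (((Equiv.prodSubtypeFstEquivSubtypeProd (p := fun q : A ⧸ ψ.ker =>
      ((H.map ψ).subgroupOf (H.map ψ ⊔ Subgroup.zpowers (e q))).IsSubnormal)).trans
      (Equiv.prodCongr (Equiv.subtypeEquiv e fun q => Iff.rfl) (Equiv.refl _)))).trans (Equiv.prodComm _ _)

/-- Elements of a `p'`-kernel normalizing a Sylow subgroup centralize it. -/
theorem commute_of_mem {ψ : A →* B} {Q : Subgroup A} (hdis : ψ.ker ⊓ Q = ⊥) {k h : A}
    (hk : k ∈ ψ.ker) (hh : h ∈ Q) (hkh : k⁻¹ * h * k ∈ Q) : Commute k h := by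
  have h1 : h⁻¹ * (k⁻¹ * h * k) ∈ ψ.ker ⊓ Q := by
    refine ⟨?_, Q.mul_mem (Q.inv_mem hh) hkh⟩
    show h⁻¹ * (k⁻¹ * h * k) ∈ ψ.ker
    have hkψ : ψ k = 1 := hk
    simp [MonoidHom.mem_ker, hkψ]
  rw [hdis, Subgroup.mem_bot, inv_mul_eq_one] at h1
  show k * h = h * k
  calc k * h = k * (k⁻¹ * h * k) := by rw [← h1]
    _ = h * k := by group

/-- A `p'`-group kernel. -/
theorem sn_coprime_ker (ψ : A →* B) (hψ : Function.Surjective ψ) (hK : (Nat.card ψ.ker).Coprime p)
    {H : Subgroup A} (hH : IsPGroup p H) :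
    sn H = Nat.card ↥(ψ.ker ⊓ Subgroup.centralizer (H : Set A)) * sn (H.map ψ) := by
  classical
  set K := ψ.ker with hKdef
  have hdis : ∀ Q : Sylow p A, K ⊓ (Q : Subgroup A) = ⊥ := fun Q =>
    Subgroup.inf_eq_bot_of_coprime (by
      obtain ⟨n, hn⟩ := Q.2.exists_card_eq
      rw [hn]; exact hK.pow_right n)
  let π : Sylow p A → Sylow p B := Sylow.mapSurjective hψ
  have hπ : ∀ Q : Sylow p A, ((π Q : Sylow p B) : Subgroup B) = (Q : Subgroup A).map ψ := fun Q => rfl
  -- Sylow subgroups with equal images are conjugate under the kernel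
  have hconj : ∀ Q Q' : Sylow p A, π Q = π Q' → ∃ k ∈ K, k • Q = Q' := by
    intro Q Q' h
    set L := ((Q : Subgroup A).map ψ).comap ψ with hL
    have hQL : (Q : Subgroup A) ≤ L := Subgroup.le_comap_map _ _
    have hQ'L : (Q' : Subgroup A) ≤ L := by
      rw [hL, show (Q : Subgroup A).map ψ = (Q' : Subgroup A).map ψ from congrArg (fun S : Sylow p B => (S : Subgroup B)) h]
      exact Subgroup.le_comap_map _ _
    obtain ⟨l, hl⟩ := MulAction.exists_smul_eq L (Q.subtype hQL) (Q'.subtype hQ'L)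
    rw [Sylow.smul_subtype] at hl
    have hl' := Sylow.subtype_injective hl
    have hLeq : (l : A) ∈ (Q : Subgroup A) ⊔ K := by
      have h' : (l : A) ∈ ((Q : Subgroup A).map ψ).comap ψ := hL.le l.2
      rwa [Subgroup.comap_map_eq] at h'
    rw [sup_comm, Subgroup.mem_sup_of_normal_left] at hLeq
    obtain ⟨k, hk, q, hq, hkq⟩ := hLeq
    refine ⟨k, hk, ?_⟩
    rw [← hl']
    show k • Q = (l : A) • Q
    rw [← hkq]
    rw [mul_smul, Sylow.smul_eq_iff_mem_normalizer.mpr (Subgroup.le_normalizer hq)]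
  -- orders of normalizers
  have hN : ∀ Q : Sylow p A, Nat.card (Subgroup.normalizer ((Q : Subgroup A) : Set A)) =
      Nat.card ↥(K ⊓ Subgroup.normalizer ((Q : Subgroup A) : Set A)) *
        Nat.card (Subgroup.normalizer ((π Q : Subgroup B) : Set B)) := by
    intro Q
    set N := Subgroup.normalizer ((Q : Subgroup A) : Set A)
    have himg : N.map ψ = Subgroup.normalizer ((π Q : Subgroup B) : Set B) := by
      refine le_antisymm (Subgroup.le_normalizer_map ψ) fun b hb => ?_
      obtain ⟨a, rfl⟩ := hψ b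
      have h1 : π Q = π (a • Q) := by
        refine Sylow.ext ?_
        rw [hπ (a • Q), Sylow.coe_subgroup_smul, Coprime.map_conj_smul, ← hπ,
          Coprime.conj_smul_eq_self_iff.mpr hb]
      obtain ⟨k, hk, hka⟩ := hconj Q (a • Q) h1
      refine ⟨k⁻¹ * a, ?_, ?_⟩
      · show k⁻¹ * a ∈ N
        refine Sylow.smul_eq_iff_mem_normalizer.mp ?_
        rw [mul_smul, ← hka, inv_smul_smul]
      · have hkψ : ψ k = 1 := hk
        simp [hkψ]
    rw [← himg, ← Nat.card_congr (Subgroup.subgroupOfEquivOfLe (inf_le_right : K ⊓ N ≤ N)).toEquiv]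
    rw [Subgroup.inf_subgroupOf_right]
    have : ψ.ker.subgroupOf N = (ψ.comp N.subtype).ker := rfl
    rw [this, show N.map ψ = (ψ.comp N.subtype).range by rw [MonoidHom.range_comp, Subgroup.range_subtype]]
    rw [← (ψ.comp N.subtype).ker.card_mul_index, Subgroup.index_ker]
  -- the fibre above a Sylow subgroup
  obtain ⟨Q₀, hQ₀⟩ := hH.exists_le_sylow
  have hfib : ∀ Q : Sylow p A, H ≤ (Q : Subgroup A) →
      Nat.card {Q' : Sylow p A // H ≤ (Q' : Subgroup A) ∧ π Q' = π Q} *
        Nat.card ↥(K ⊓ Subgroup.normalizer ((Q : Subgroup A) : Set A)) =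
      Nat.card ↥(K ⊓ Subgroup.centralizer (H : Set A)) := by
    intro Q hQ
    set C := K ⊓ Subgroup.centralizer (H : Set A) with hC
    have horb : ∀ Q' : Sylow p A, Q' ∈ MulAction.orbit C Q ↔ (H ≤ (Q' : Subgroup A) ∧ π Q' = π Q) := by
      intro Q'
      constructor
      · rintro ⟨⟨c, hcK, hcH⟩, rfl⟩
        show H ≤ ((c • Q : Sylow p A) : Subgroup A) ∧ π (c • Q) = π Q
        refine ⟨fun h hh => ?_, Sylow.ext ?_⟩
        · rw [Sylow.coe_subgroup_smul, Coprime.mem_conj_smul]
          have := Subgroup.mem_centralizer_iff.mp hcH h hh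
          rw [mul_assoc, this, inv_mul_cancel_left]
          exact hQ hh
        · rw [hπ, Sylow.coe_subgroup_smul, Coprime.map_conj_smul, show ψ c = 1 from hcK,
            Coprime.conj_smul_one, hπ]
      · rintro ⟨hQ', hπQ⟩
        obtain ⟨k, hk, rfl⟩ := hconj Q Q' hπQ.symm
        refine ⟨⟨k, hk, Subgroup.mem_centralizer_iff.mpr fun h hh => ?_⟩, rfl⟩
        have h1 := hQ' hh
        rw [Sylow.coe_subgroup_smul, Coprime.mem_conj_smul] at h1
        exact (commute_of_mem (hdis Q) hk (hQ hh) h1).eq.symm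
    have hstab : Nat.card (MulAction.stabilizer C Q) =
        Nat.card ↥(K ⊓ Subgroup.normalizer ((Q : Subgroup A) : Set A)) := by
      refine Nat.card_congr
        { toFun := fun c => ⟨c.1.1, c.1.2.1, Sylow.smul_eq_iff_mem_normalizer.mp c.2⟩
          invFun := fun k => ⟨⟨k.1, k.2.1, Subgroup.mem_centralizer_iff.mpr fun h hh => ?_⟩,
            Sylow.smul_eq_iff_mem_normalizer.mpr k.2.2⟩
          left_inv := fun _ => rfl
          right_inv := fun _ => rfl }
      refine (commute_of_mem (hdis Q) k.2.1 (hQ hh) ?_).eq.symm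
      exact (Subgroup.mem_normalizer_iff''.mp k.2.2 h).mp (hQ hh)
    rw [← hstab, ← Nat.card_congr (Equiv.subtypeEquivRight horb)]
    have := Fintype.ofFinite C
    have := Fintype.ofFinite (MulAction.orbit C Q)
    have := Fintype.ofFinite (MulAction.stabilizer C Q)
    rw [Nat.card_eq_fintype_card, Nat.card_eq_fintype_card, Nat.card_eq_fintype_card]
    exact MulAction.card_orbit_mul_card_stabilizer_eq_card_group C Q
  -- combine
  rw [sn_eq hH Q₀, sn_eq (hH.map ψ) (π Q₀)]
  let S := {Q : Sylow p A // H ≤ (Q : Subgroup A)}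
  let T := {Q : Sylow p B // H.map ψ ≤ (Q : Subgroup B)}
  let f : S → T := fun Q => ⟨π Q.1, Subgroup.map_mono Q.2⟩
  have hf : Function.Surjective f := by
    rintro ⟨Qb, hQb⟩
    obtain ⟨Q, rfl⟩ := Sylow.mapSurjective_surjective hψ p Qb
    obtain ⟨R, hR⟩ := (hH.of_equiv (Subgroup.subgroupOfEquivOfLe
      (show H ≤ ((Q : Subgroup A).map ψ).comap ψ from Subgroup.map_le_iff_le_comap.mp hQb)).symm).exists_le_sylow
    obtain ⟨R', hR'⟩ := (R.2.map ((((Q : Subgroup A).map ψ).comap ψ).subtype)).exists_le_sylow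
    have hQs : (Q : Subgroup A) ≤ ((Q : Subgroup A).map ψ).comap ψ := Subgroup.le_comap_map _ _
    obtain ⟨l, hl⟩ := MulAction.exists_smul_eq (((Q : Subgroup A).map ψ).comap ψ) (Q.subtype hQs) R
    refine ⟨⟨(l : A) • Q, ?_⟩, Subtype.ext (Sylow.ext ?_)⟩
    · intro h hh
      have h1 : (⟨h, Subgroup.map_le_iff_le_comap.mp hQb hh⟩ : ↥(((Q : Subgroup A).map ψ).comap ψ)) ∈ (R : Subgroup _) :=
        hR (Subgroup.mem_subgroupOf.mpr hh)
      rw [← hl, Sylow.smul_subtype] at h1
      exact h1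
    · show ((π ((l : A) • Q) : Sylow p B) : Subgroup B) = (Q : Subgroup A).map ψ
      rw [hπ, Sylow.coe_subgroup_smul, Coprime.map_conj_smul]
      exact Coprime.conj_smul_eq_self_iff.mpr (Subgroup.le_normalizer l.2)
  have := Fintype.ofFinite T
  have hcardN : ∀ Q : Sylow p A, Nat.card (Subgroup.normalizer ((Q : Subgroup A) : Set A)) =
      Nat.card (Subgroup.normalizer ((Q₀ : Subgroup A) : Set A)) := by
    intro Q
    obtain ⟨g, rfl⟩ := MulAction.exists_smul_eq A Q₀ Q
    rw [Sylow.coe_subgroup_smul, ← Coprime.conj_smul_normalizer, Coprime.card_conj_smul]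
  have hcardM : ∀ Q : Sylow p B, Nat.card (Subgroup.normalizer ((Q : Subgroup B) : Set B)) =
      Nat.card (Subgroup.normalizer ((π Q₀ : Subgroup B) : Set B)) := by
    intro Q
    obtain ⟨g, rfl⟩ := MulAction.exists_smul_eq B (π Q₀) Q
    rw [Sylow.coe_subgroup_smul, ← Coprime.conj_smul_normalizer, Coprime.card_conj_smul]
  have key : ∀ t : T, Nat.card {s : S // f s = t} * Nat.card (Subgroup.normalizer ((Q₀ : Subgroup A) : Set A)) =
      Nat.card ↥(K ⊓ Subgroup.centralizer (H : Set A)) *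
        Nat.card (Subgroup.normalizer ((π Q₀ : Subgroup B) : Set B)) := by
    intro t
    obtain ⟨⟨Q, hQ⟩, rfl⟩ := hf t
    rw [← hcardN Q, ← hcardM (π Q), hN Q, ← hfib Q hQ, ← mul_assoc]
    congr 2
    exact Nat.card_congr ((Equiv.subtypeEquivRight fun s => ⟨fun h => congrArg Subtype.val h, fun h => Subtype.ext h⟩).trans
      (Equiv.subtypeSubtypeEquivSubtypeInter (fun Q' : Sylow p A => H ≤ (Q' : Subgroup A)) fun Q' => π Q' = π Q))
  show Nat.card S * _ = _ * (Nat.card T * _)
  rw [← Nat.card_congr (Equiv.sigmaFiberEquiv f), Nat.card_sigma, Finset.sum_mul,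
    Finset.sum_congr rfl (fun t _ => key t), Finset.sum_const, smul_eq_mul, Finset.card_univ,
    ← Nat.card_eq_fintype_card]
  ring

end Cfsg.Agent.GStructB.SubnormalizerQuotient
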