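import Cfsg.Agent.S0877
import Cfsg.Agent.Lib.Coprime.Sylow
import Cfsg.Agent.Lib.Frobenius.Basic
import Cfsg.Agent.Lib.Cores.Fitting
import Mathlib

/-!
Trivial intersection subgroups `H` whose order is prime to their index in the normaliser: `H` has a
normal complement in `G` as soon as it has one in the normaliser, and is then a Frobenius complement.
-/

set_option autoImplicit false

namespace Cfsg.Agent.GStructB.TIHallComplement

open scoped Pointwise

universe u

variable {G : Type u} [Group G] [Finite G]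

theorem mem_normalizer_of_conj {H : Subgroup G} (hTI : Cfsg.IsTISubset (H : Set G)) {x g : G}
    (hx : x ∈ H) (hx1 : x ≠ 1) (hg : g * x * g⁻¹ ∈ H) : g ∈ Subgroup.normalizer (H : Set G) := by
  by_contra h
  exact hx1 (hTI g h x hx hg)

/-- A subgroup of the normaliser of order dividing `|H|` lies in `H`. -/
theorem le_of_le_normalizer {H : Subgroup G}
    (hHall : (Nat.card H).Coprime (H.subgroupOf (Subgroup.normalizer (H : Set G))).index)
    {E : Subgroup G} (hE : E ≤ Subgroup.normalizer (H : Set G)) (hcard : Nat.card E ∣ Nat.card H) :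
    E ≤ H := by
  intro e he
  set N := Subgroup.normalizer (H : Set G)
  have : (H.subgroupOf N).Normal := Subgroup.normal_in_normalizer
  set e' : N := ⟨e, hE he⟩
  have h1 : orderOf (QuotientGroup.mk' (H.subgroupOf N) e') ∣ Nat.card H := by
    refine (orderOf_map_dvd _ _).trans ?_
    rw [← Subgroup.orderOf_coe e']
    exact (E.orderOf_dvd_natCard he).trans hcard
  have h2 : orderOf (QuotientGroup.mk' (H.subgroupOf N) e') ∣ (H.subgroupOf N).index := by
    rw [Subgroup.index_eq_card]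
    exact orderOf_dvd_natCard _
  have h3 := orderOf_eq_one_iff.mp (Nat.eq_one_of_dvd_coprimes hHall h1 h2)
  exact Subgroup.mem_subgroupOf.mp ((QuotientGroup.eq_one_iff e').mp h3)

/-- `H` is a Hall subgroup of `G`. -/
theorem coprime_index {H : Subgroup G} (hTI : Cfsg.IsTISubset (H : Set G))
    (hHall : (Nat.card H).Coprime (H.subgroupOf (Subgroup.normalizer (H : Set G))).index) :
    (Nat.card H).Coprime H.index := by
  refine Nat.coprime_of_dvd fun q hq hqH hqi => ?_
  haveI := Fact.mk hq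
  obtain ⟨S₀⟩ : Nonempty (Sylow q H) := inferInstance
  set S := (S₀ : Subgroup H).map H.subtype with hS
  have hSH : S ≤ H := Subgroup.map_subtype_le _
  have hSp : IsPGroup q S := S₀.2.map _
  have hScard : Nat.card S = q ^ (Nat.card H).factorization q := by
    rw [hS, Subgroup.card_subtype, S₀.card_eq_multiplicity]
  obtain ⟨R, hSR⟩ := hSp.exists_le_sylow
  have hne : S ≠ R.1 := by
    intro h
    have h1 : q ∣ S.index := by
      rw [hS, Subgroup.index_map_subtype]; exact dvd_mul_of_dvd_right hqi _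
    rw [h] at h1
    exact R.not_dvd_index h1
  have hSR' : S.subgroupOf R.1 ≠ ⊤ := fun h => hne (le_antisymm hSR (Subgroup.subgroupOf_eq_top.mp h))
  have := R.2.isNilpotent
  have hlt := (Group.normalizerCondition_of_isNilpotent (G := R.1)) (S.subgroupOf R.1) (lt_top_iff_ne_top.mpr hSR')
  set T := (Subgroup.normalizer ((S.subgroupOf R.1 : Subgroup R.1) : Set R.1)).map R.1.subtype with hT
  obtain ⟨s, hs, hs1⟩ : ∃ s ∈ S, s ≠ 1 := by
    by_contra h
    push Not at h
    have : S = ⊥ := (Subgroup.eq_bot_iff_forall S).mpr h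
    rw [this, Subgroup.card_bot] at hScard
    exact absurd hScard.symm (Nat.one_lt_pow
      (hq.factorization_pos_of_dvd Nat.card_pos.ne' hqH).ne' hq.one_lt).ne'
  have hTN : T ≤ Subgroup.normalizer (H : Set G) := by
    rintro _ ⟨t, ht, rfl⟩
    refine mem_normalizer_of_conj hTI (hSH hs) hs1 (hSH ?_)
    have h2 := (Subgroup.mem_normalizer_iff.mp ht ⟨s, hSR hs⟩).mp (Subgroup.mem_subgroupOf.mpr hs)
    exact Subgroup.mem_subgroupOf.mp h2
  have hTcard : Nat.card T ∣ Nat.card H := by
    obtain ⟨j, hj⟩ := ((R.2.to_subgroup _).map R.1.subtype : IsPGroup q T).exists_card_eq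
    have h1 : Nat.card T ∣ Nat.card (Subgroup.normalizer (H : Set G)) := Subgroup.card_dvd_of_le hTN
    have h2 := (H.subgroupOf (Subgroup.normalizer (H : Set G))).card_mul_index
    rw [Nat.card_congr (Subgroup.subgroupOfEquivOfLe Subgroup.le_normalizer).toEquiv] at h2
    rw [hj] at h1 ⊢
    rw [← h2] at h1
    exact ((hHall.coprime_dvd_left hqH).pow_left j).dvd_of_dvd_mul_right h1
  have hTH := le_of_le_normalizer hHall hTN hTcard
  have hlt' : Nat.card S < Nat.card T := by
    rw [← Nat.card_congr (Subgroup.subgroupOfEquivOfLe hSR).toEquiv, hT, Subgroup.card_subtype]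
    exact lt_of_le_of_ne (Subgroup.card_le_of_le hlt.le)
      fun h => hlt.ne (Subgroup.eq_of_le_of_card_ge hlt.le h.ge)
  obtain ⟨j, hj⟩ := ((R.2.to_subgroup _).map R.1.subtype : IsPGroup q T).exists_card_eq
  rw [hScard, hj] at hlt'
  have h3 := (Nat.Prime.pow_dvd_iff_le_factorization hq Nat.card_pos.ne').mp
    (hj ▸ Subgroup.card_dvd_of_le hTH)
  exact absurd hlt' (not_lt.mpr (Nat.pow_le_pow_right hq.pos h3))

/-- A subgroup with a nontrivial central element and order dividing `|H|` is conjugate into `H`. -/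
theorem exists_conj_le {H : Subgroup G} (hTI : Cfsg.IsTISubset (H : Set G))
    (hHall : (Nat.card H).Coprime (H.subgroupOf (Subgroup.normalizer (H : Set G))).index)
    {E : Subgroup G} (hcard : Nat.card E ∣ Nat.card H) {z : G} (hzE : z ∈ E) (hz1 : z ≠ 1)
    (hzc : ∀ e ∈ E, e * z = z * e) : ∃ g : G, E.map (MulAut.conj g).toMonoidHom ≤ H := by
  obtain ⟨r, hr, hrd⟩ := Nat.exists_prime_and_dvd (fun h => hz1 (orderOf_eq_one_iff.mp h))
  haveI := Fact.mk hr
  set w := z ^ (orderOf z / r) with hw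
  have hwo : orderOf w = r := orderOf_pow_orderOf_div (orderOf_pos z).ne' hrd
  obtain ⟨S₀⟩ : Nonempty (Sylow r H) := inferInstance
  have hrH : r ∣ Nat.card H := hrd.trans ((E.orderOf_dvd_natCard hzE).trans hcard)
  have hidx : ¬ r ∣ ((S₀ : Subgroup H).map H.subtype).index := by
    rw [Subgroup.index_map_subtype]
    intro h
    rcases hr.dvd_mul.mp h with h | h
    · exact S₀.not_dvd_index h
    · exact hr.ne_one (Nat.eq_one_of_dvd_coprimes (coprime_index hTI hHall) hrH h)
  let S : Sylow r G := (S₀.2.map H.subtype).toSylow hidx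
  obtain ⟨R, hR⟩ := (IsPGroup.of_card (n := 1) (by rw [Nat.card_zpowers, hwo, pow_one]) :
    IsPGroup r (Subgroup.zpowers w)).exists_le_sylow
  obtain ⟨g, hg⟩ := MulAction.exists_smul_eq G R S
  have hwH : g * w * g⁻¹ ∈ H := by
    apply Subgroup.map_subtype_le (S₀ : Subgroup H)
    show g * w * g⁻¹ ∈ (S : Subgroup G)
    rw [← hg, Sylow.coe_subgroup_smul, Subgroup.mem_pointwise_smul_iff_inv_smul_mem, ← map_inv]
    simp [MulAut.smul_def, hR (Subgroup.mem_zpowers w)]
    exact (by simpa [mul_assoc] using hR (Subgroup.mem_zpowers w))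
  refine ⟨g, le_of_le_normalizer hHall ?_ ?_⟩
  · rintro _ ⟨e, he, rfl⟩
    refine mem_normalizer_of_conj hTI hwH (fun h => ?_) ?_
    · have : w = 1 := by
        have h' := congrArg (fun y => g⁻¹ * y * g) h
        simpa [mul_assoc] using h'
      rw [this, orderOf_one] at hwo
      exact hr.ne_one hwo.symm
    · have hcw : e * w * e⁻¹ = w := by
        rw [mul_inv_eq_iff_eq_mul]
        exact ((show Commute e z from hzc e he).pow_right _).eq
      show g * e * g⁻¹ * (g * w * g⁻¹) * (g * e * g⁻¹)⁻¹ ∈ H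
      rw [show g * e * g⁻¹ * (g * w * g⁻¹) * (g * e * g⁻¹)⁻¹ = g * (e * w * e⁻¹) * g⁻¹ by group, hcw]
      exact hwH
  · rw [Subgroup.card_map_of_injective (MulEquiv.injective _)]
    exact hcard

/-- Brauer-Suzuki: the complement in the normaliser gives one in the group. -/
theorem exists_complement {H : Subgroup G} (hTI : Cfsg.IsTISubset (H : Set G))
    (hHall : (Nat.card H).Coprime (H.subgroupOf (Subgroup.normalizer (H : Set G))).index)
    (hK : ∃ K : Subgroup (Subgroup.normalizer (H : Set G)),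
      K.Normal ∧ K.IsComplement' (H.subgroupOf (Subgroup.normalizer (H : Set G)))) :
    ∃ M : Subgroup G, M.Normal ∧ M.IsComplement' H := by
  classical
  obtain ⟨K, hKn, hKc⟩ := hK
  obtain ⟨M, hMn, hsup, hinf⟩ := Cfsg.Agent.S0877.result H (coprime_index hTI hHall) (fun x hx y hy hxy => by
    obtain ⟨g, rfl⟩ := isConj_iff.mp hxy
    by_cases hx1 : x = 1
    · exact ⟨1, one_mem _, by simp [hx1]⟩
    have hgN : g ∈ (Subgroup.normalizer (H : Set G)) := mem_normalizer_of_conj hTI hx hx1 hy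
    have : (H.subgroupOf (Subgroup.normalizer (H : Set G))).Normal := Subgroup.normal_in_normalizer
    obtain ⟨k, hk, h, hh, hkh⟩ := Subgroup.mem_sup_of_normal_left.mp
      (show (⟨g, hgN⟩ : (Subgroup.normalizer (H : Set G))) ∈ K ⊔ H.subgroupOf (Subgroup.normalizer (H : Set G)) by rw [hKc.sup_eq_top]; exact Subgroup.mem_top _)
    have hcomm : ∀ y : G, y ∈ H → Commute (k : G) y := fun y hy => congrArg Subtype.val
      (Subgroup.commute_of_normal_of_disjoint K (H.subgroupOf (Subgroup.normalizer (H : Set G))) hKn this hKc.disjoint k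
        ⟨y, Subgroup.le_normalizer hy⟩ hk (Subgroup.mem_subgroupOf.mpr hy)).eq
    have hhH : (h : G) ∈ H := Subgroup.mem_subgroupOf.mp hh
    have hz := mul_mem (mul_mem hhH hx) (inv_mem hhH)
    refine ⟨h, hhH, ?_⟩
    have hg' : g = (k : G) * (h : G) := congrArg Subtype.val hkh.symm
    rw [hg', show (k : G) * (h : G) * x * ((k : G) * (h : G))⁻¹ =
      (k : G) * ((h : G) * x * (h : G)⁻¹) * (k : G)⁻¹ by group, (hcomm _ hz).eq, mul_inv_cancel_right])
    (fun E p hp hE hcard => by
    haveI := Fact.mk hp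
    by_cases hE1 : E = ⊥
    · exact ⟨1, by rw [hE1, Subgroup.map_bot]; exact bot_le⟩
    haveI : Nontrivial E := (Subgroup.nontrivial_iff_ne_bot E).mpr hE1
    obtain ⟨z, hz, hz1⟩ : ∃ z : E, z ∈ Subgroup.center E ∧ z ≠ 1 := by
      obtain ⟨x, hx, -, k, hk⟩ := hE
      by_cases hx1 : x = 1
      · rw [hx1, Subgroup.zpowers_one_eq_bot, Subgroup.index_bot] at hk
        have := (IsPGroup.of_card hk : IsPGroup p E).center_nontrivial
        obtain ⟨⟨z, hz⟩, hz1⟩ := exists_ne (1 : Subgroup.center E)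
        exact ⟨z, hz, fun h => hz1 (Subtype.ext h)⟩
      · exact ⟨x, hx, hx1⟩
    exact exists_conj_le hTI hHall hcard z.2 (fun h => hz1 (Subtype.ext h))
      (fun e he => congrArg Subtype.val (Subgroup.mem_center_iff.mp hz ⟨e, he⟩)))
  refine ⟨M, hMn, Subgroup.isComplement'_of_disjoint_and_mul_eq_univ (disjoint_iff.mpr hinf) ?_⟩
  rw [← Subgroup.normal_mul, hsup, Subgroup.coe_top]

/-- A complement in the group gives one in the normaliser. -/
theorem complement_normalizer {H : Subgroup G} {M : Subgroup G} [M.Normal] (hM : M.IsComplement' H) :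
    ∃ K : Subgroup (Subgroup.normalizer (H : Set G)),
      K.Normal ∧ K.IsComplement' (H.subgroupOf (Subgroup.normalizer (H : Set G))) := by
  set N := Subgroup.normalizer (H : Set G)
  refine ⟨M.subgroupOf N, inferInstance, Subgroup.isComplement'_of_disjoint_and_mul_eq_univ ?_ ?_⟩
  · rw [disjoint_iff, Subgroup.eq_bot_iff_forall]
    intro x hx
    exact Subtype.ext (Subgroup.mem_bot.mp (hM.disjoint.le_bot
      ⟨Subgroup.mem_subgroupOf.mp hx.1, Subgroup.mem_subgroupOf.mp hx.2⟩))
  · suffices hs : M.subgroupOf N ⊔ H.subgroupOf N = ⊤ by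
      rw [← Subgroup.normal_mul, hs, Subgroup.coe_top]
    rw [eq_top_iff]
    intro x _
    obtain ⟨m, hm, h, hh, hmh⟩ := Subgroup.mem_sup_of_normal_left.mp
      (show (x : G) ∈ M ⊔ H by rw [hM.sup_eq_top]; exact Subgroup.mem_top _)
    have hmN : m ∈ N := by
      rw [show m = (x : G) * h⁻¹ by rw [← hmh, mul_inv_cancel_right]]
      exact mul_mem x.2 (inv_mem (Subgroup.le_normalizer hh))
    exact Subgroup.mem_sup_of_normal_left.mpr ⟨⟨m, hmN⟩, Subgroup.mem_subgroupOf.mpr hm,
      ⟨h, Subgroup.le_normalizer hh⟩, Subgroup.mem_subgroupOf.mpr hh, Subtype.ext hmh⟩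

/-- A subgroup all of whose elements are conjugate into `H` is itself conjugate into `H`. -/
theorem exists_conj_le_of_card {H : Subgroup G} (hTI : Cfsg.IsTISubset (H : Set G))
    (hHall : (Nat.card H).Coprime (H.subgroupOf (Subgroup.normalizer (H : Set G))).index)
    (L : Subgroup G) (hL : Nat.card L ∣ Nat.card H) : ∃ g : G, ∀ l ∈ L, g * l * g⁻¹ ∈ H := by
  classical
  by_cases hL1 : L = ⊥
  · exact ⟨1, fun l hl => by simp [Subgroup.mem_bot.mp (hL1 ▸ hl : l ∈ (⊥ : Subgroup G))]⟩
  have hel : ∀ l ∈ L, l ≠ 1 → ∃ g : G, g * l * g⁻¹ ∈ H := by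
    intro l hl hl1
    obtain ⟨g, hg⟩ := exists_conj_le hTI hHall
      ((Subgroup.card_dvd_of_le (Subgroup.zpowers_le.mpr hl)).trans hL) (Subgroup.mem_zpowers l) hl1
      (fun e he => by
        obtain ⟨k, rfl⟩ := he
        exact ((Commute.refl l).zpow_left k).eq)
    exact ⟨g, hg ⟨l, Subgroup.mem_zpowers l, rfl⟩⟩
  -- the part of `L` inside a given conjugate
  let A : G → Subgroup L := fun g => (H.comap (MulAut.conj g).toMonoidHom).subgroupOf L
  have hA : ∀ (g : G) (l : L), l ∈ A g ↔ g * (l : G) * g⁻¹ ∈ H := fun g l => Iff.rfl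
  have hTIA : ∀ (g g' : G) (x : L), x ∈ A g → x ∈ A g' → x ≠ 1 → A g = A g' := by
    intro g g' x hx hx' hx1
    have hn : g' * g⁻¹ ∈ Subgroup.normalizer (H : Set G) := by
      refine mem_normalizer_of_conj hTI ((hA g x).mp hx) (fun h => hx1 (Subtype.ext ?_)) ?_
      · have h' := congrArg (fun y => g⁻¹ * y * g) h
        simpa [mul_assoc] using h'
      · rw [show g' * g⁻¹ * (g * (x : G) * g⁻¹) * (g' * g⁻¹)⁻¹ = g' * (x : G) * g'⁻¹ by group]
        exact (hA g' x).mp hx'
    ext y
    rw [hA, hA, Subgroup.mem_normalizer_iff.mp hn (g * (y : G) * g⁻¹),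
      show g' * g⁻¹ * (g * (y : G) * g⁻¹) * (g' * g⁻¹)⁻¹ = g' * (y : G) * g'⁻¹ by group]
  have hself : ∀ (g : G) (l x : L), x ∈ A g → x ≠ 1 → l * x * l⁻¹ ∈ A g → l ∈ A g := by
    intro g l x hx hx1 hlx
    rw [hA] at hx hlx ⊢
    have hn : g * (l : G) * g⁻¹ ∈ Subgroup.normalizer (H : Set G) := by
      refine mem_normalizer_of_conj hTI hx (fun h => hx1 (Subtype.ext ?_)) ?_
      · have h' := congrArg (fun y => g⁻¹ * y * g) h
        simpa [mul_assoc] using h'
      · rw [show g * (l : G) * g⁻¹ * (g * (x : G) * g⁻¹) * (g * (l : G) * g⁻¹)⁻¹ =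
            g * ((l * x * l⁻¹ : L) : G) * g⁻¹ by simp only [Subgroup.coe_mul, Subgroup.coe_inv]; group]
        exact hlx
    refine le_of_le_normalizer hHall (Subgroup.zpowers_le.mpr hn) ?_ (Subgroup.mem_zpowers _)
    rw [Nat.card_zpowers]
    refine dvd_trans ?_ ((L.orderOf_dvd_natCard l.2).trans hL)
    exact (orderOf_injective (MulAut.conj g).toMonoidHom (MulAut.conj g).injective (l : G)).dvd
  obtain ⟨l₀, hl₀, hl₀1⟩ : ∃ l ∈ L, l ≠ 1 := by
    by_contra h
    push Not at h
    exact hL1 ((Subgroup.eq_bot_iff_forall L).mpr h)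
  obtain ⟨g, hg⟩ := hel l₀ hl₀ hl₀1
  by_cases htop : A g = ⊤
  · exact ⟨g, fun l hl => (hA g ⟨l, hl⟩).mp (htop ▸ Subgroup.mem_top _)⟩
  exfalso
  let f : (g : G) → (L ⧸ A g) × {a : A g // a ≠ 1} → {x : L // x ≠ 1} := fun g u =>
    ⟨(u.1.out : L) * (u.2.1 : L) * (u.1.out : L)⁻¹, fun h => u.2.2 (Subtype.ext (by
      have h' := congrArg (fun y => (u.1.out : L)⁻¹ * y * (u.1.out : L)) h
      simpa [mul_assoc] using h'))⟩
  have hf : ∀ g, Function.Injective (f g) := by
    intro g u v huv
    have h : (u.1.out : L) * (u.2.1 : L) * (u.1.out : L)⁻¹ = (v.1.out : L) * (v.2.1 : L) * (v.1.out : L)⁻¹ :=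
      congrArg Subtype.val huv
    have h1 : ((v.1.out : L)⁻¹ * u.1.out) ∈ A g := by
      refine hself g _ (u.2.1 : L) u.2.1.2 (fun e => u.2.2 (Subtype.ext e)) ?_
      rw [show (v.1.out : L)⁻¹ * u.1.out * (u.2.1 : L) * ((v.1.out : L)⁻¹ * u.1.out)⁻¹ =
        (v.1.out : L)⁻¹ * ((u.1.out : L) * (u.2.1 : L) * (u.1.out : L)⁻¹) * v.1.out by group, h]
      rw [show (v.1.out : L)⁻¹ * ((v.1.out : L) * (v.2.1 : L) * (v.1.out : L)⁻¹) * v.1.out = (v.2.1 : L) by group]
      exact v.2.1.2
    have h2 : u.1 = v.1 := by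
      rw [← QuotientGroup.out_eq' u.1, ← QuotientGroup.out_eq' v.1]
      exact (QuotientGroup.eq.mpr h1).symm
    refine Prod.ext h2 (Subtype.ext (Subtype.ext ?_))
    rw [h2] at h
    exact mul_left_cancel (mul_right_cancel h)
  have hcount : ∀ g : G, A g ≠ ⊥ → Nat.card L ≤ 2 * Nat.card ((L ⧸ A g) × {a : A g // a ≠ 1}) := by
    intro g hg
    have := Fintype.ofFinite (A g)
    have h1 : Nat.card {a : A g // a ≠ 1} = Nat.card (A g) - 1 := by
      rw [Nat.card_eq_fintype_card, Fintype.card_subtype_compl, Fintype.card_subtype_eq, Nat.card_eq_fintype_card]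
    have h2 : 1 < Nat.card (A g) := Finite.one_lt_card_iff_nontrivial.mpr ((Subgroup.nontrivial_iff_ne_bot _).mpr hg)
    rw [Nat.card_prod, h1, ← (A g).card_mul_index, Subgroup.index_eq_card]
    have h3 : Nat.card (A g) ≤ 2 * (Nat.card (A g) - 1) := by omega
    calc Nat.card (A g) * Nat.card (L ⧸ A g) ≤ 2 * (Nat.card (A g) - 1) * Nat.card (L ⧸ A g) :=
          Nat.mul_le_mul_right _ h3
      _ = _ := by ring
  have hbad : ∃ x : {x : L // x ≠ 1}, x ∉ Set.range (f g) := by
    by_contra h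
    push Not at h
    have h1 := Nat.card_le_card_of_surjective (f g) h
    have := Fintype.ofFinite L
    have h2 : Nat.card {x : L // x ≠ 1} = Nat.card L - 1 := by
      rw [Nat.card_eq_fintype_card, Fintype.card_subtype_compl, Fintype.card_subtype_eq, Nat.card_eq_fintype_card]
    have := Fintype.ofFinite (A g)
    have h3 : Nat.card {a : A g // a ≠ 1} = Nat.card (A g) - 1 := by
      rw [Nat.card_eq_fintype_card, Fintype.card_subtype_compl, Fintype.card_subtype_eq, Nat.card_eq_fintype_card]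
    rw [Nat.card_prod, h3, h2, ← (A g).card_mul_index, ← Subgroup.index_eq_card, Nat.mul_sub, mul_one,
      mul_comm (Nat.card (A g))] at h1
    have h4 : 1 < (A g).index := by
      rcases Nat.lt_or_ge 1 (A g).index with h5 | h5
      · exact h5
      · exfalso
        refine htop (Subgroup.index_eq_one.mp ?_)
        have : (A g).index ≠ 0 := Subgroup.index_ne_zero_of_finite
        omega
    have h5 : (A g).index ≤ (A g).index * Nat.card (A g) := Nat.le_mul_of_pos_right _ Nat.card_pos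
    omega
  obtain ⟨⟨x, hx1⟩, hx⟩ := hbad
  obtain ⟨g', hg'⟩ := hel x x.2 (fun h => hx1 (Subtype.ext h))
  have hAg : A g ≠ ⊥ := fun h => by
    have h0 : (⟨l₀, hl₀⟩ : L) = 1 := Subgroup.mem_bot.mp (h.le ((hA g ⟨l₀, hl₀⟩).mpr hg))
    exact hl₀1 (by simpa using congrArg Subtype.val h0)
  have hAg' : A g' ≠ ⊥ := fun h => hx1 (Subgroup.mem_bot.mp (h.le ((hA g' x).mpr hg')))
  have hdisj : ∀ u v, f g u ≠ f g' v := by
    intro u v huv
    have h : (u.1.out : L) * (u.2.1 : L) * (u.1.out : L)⁻¹ = (v.1.out : L) * (v.2.1 : L) * (v.1.out : L)⁻¹ :=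
      congrArg Subtype.val huv
    -- then `A g'` is a conjugate of `A g`, and so `x` is in the range of `f g`
    set c := (v.1.out : L)⁻¹ * u.1.out with hc
    have h1 : c * (u.2.1 : L) * c⁻¹ = (v.2.1 : L) := by
      rw [hc, show (v.1.out : L)⁻¹ * u.1.out * (u.2.1 : L) * ((v.1.out : L)⁻¹ * u.1.out)⁻¹ =
        (v.1.out : L)⁻¹ * ((u.1.out : L) * (u.2.1 : L) * (u.1.out : L)⁻¹) * v.1.out by group, h]
      group
    have hconj : ∀ y : L, y ∈ A (g * (c : G)⁻¹) ↔ c⁻¹ * y * c ∈ A g := by
      intro y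
      rw [hA, hA]
      refine iff_of_eq (congrArg (· ∈ H) ?_)
      simp only [Subgroup.coe_mul, Subgroup.coe_inv]
      group
    have h2 : A (g * (c : G)⁻¹) = A g' := hTIA _ _ (v.2.1 : L)
      ((hconj _).mpr (by rw [← h1, show c⁻¹ * (c * (u.2.1 : L) * c⁻¹) * c = (u.2.1 : L) by group]; exact u.2.1.2))
      v.2.1.2 (fun e => v.2.2 (Subtype.ext e))
    have h3 : c⁻¹ * x * c ∈ A g := (hconj x).mp (h2.symm ▸ (hA g' x).mpr hg')
    refine hx ⟨((c : L ⧸ A g), ⟨⟨(c : L ⧸ A g).out⁻¹ * x * (c : L ⧸ A g).out, ?_⟩, ?_⟩), Subtype.ext ?_⟩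
    · obtain ⟨w, hw⟩ := QuotientGroup.mk_out_eq_mul (A g) c
      rw [hw, show (c * (w : L))⁻¹ * x * (c * (w : L)) = (w : L)⁻¹ * (c⁻¹ * x * c) * (w : L) by group]
      exact mul_mem (mul_mem (inv_mem w.2) h3) w.2
    · intro e
      have h' := congrArg (fun y : A g => (c : L ⧸ A g).out * (y : L) * (c : L ⧸ A g).out⁻¹) e
      exact hx1 (by simpa [mul_assoc] using h')
    · show (c : L ⧸ A g).out * ((c : L ⧸ A g).out⁻¹ * x * (c : L ⧸ A g).out) * (c : L ⧸ A g).out⁻¹ = x
      group
  have htotal := Nat.card_le_card_of_injective (Sum.elim (f g) (f g'))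
    (Function.Injective.sumElim (hf g) (hf g') hdisj)
  have := Fintype.ofFinite L
  rw [Nat.card_sum, show Nat.card {x : L // x ≠ 1} = Nat.card L - 1 by
    rw [Nat.card_eq_fintype_card, Fintype.card_subtype_compl, Fintype.card_subtype_eq, Nat.card_eq_fintype_card]] at htotal
  have := hcount g hAg
  have := hcount g' hAg'
  have : 0 < Nat.card L := Nat.card_pos
  omega

/-- With a normal complement and not normal, `H` is a Frobenius complement in some finite group. -/
theorem exists_frobenius {H : Subgroup G} (hTI : Cfsg.IsTISubset (H : Set G))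
    (hHall : (Nat.card H).Coprime (H.subgroupOf (Subgroup.normalizer (H : Set G))).index)
    (M : Subgroup G) [M.Normal] (hM : M.IsComplement' H) (hn : ¬ H.Normal) :
    ∃ (F : Type u) (_ : Group F) (_ : Finite F) (C : Subgroup F),
      Cfsg.IsFrobeniusComplement C ∧ Nonempty (H ≃* C) := by
  classical
  set N := Subgroup.normalizer (H : Set G) with hN
  have hMidx : M.index = Nat.card H := hM.symm.index_eq_card
  have hcop : (Nat.card H).Coprime (Nat.card M) := by
    have := coprime_index hTI hHall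
    rwa [hM.index_eq_card] at this
  have hfix : ∀ m ∈ M, m ∈ N → ∀ h ∈ H, h * m = m * h := by
    intro m hm hmN h hh
    have h1 : h * m * h⁻¹ * m⁻¹ ∈ M := mul_mem ((inferInstance : M.Normal).conj_mem m hm h) (inv_mem hm)
    have h2 : h * m * h⁻¹ * m⁻¹ ∈ H := by
      rw [show h * m * h⁻¹ * m⁻¹ = h * (m * h⁻¹ * m⁻¹) by group]
      exact mul_mem hh ((Subgroup.mem_normalizer_iff.mp hmN _).mp (inv_mem hh))
    have h3 := Subgroup.mem_bot.mp (hM.disjoint.le_bot ⟨h1, h2⟩)
    rwa [mul_inv_eq_one, mul_inv_eq_iff_eq_mul] at h3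
  -- a prime `q` and an `H`-invariant Sylow subgroup of `M` not centralised by `H`
  obtain ⟨q, hq, Q, hQM, hQp, hQH, hQnot⟩ : ∃ q : ℕ, q.Prime ∧ ∃ Q : Subgroup G, Q ≤ M ∧ IsPGroup q Q ∧
      H ≤ Subgroup.normalizer (Q : Set G) ∧ ¬ Q ≤ N := by
    by_contra hcon
    have htop : N.subgroupOf M = ⊤ := Cores.eq_top_of_sylow_le fun q hq _ => by
      haveI := Fact.mk hq
      obtain ⟨P⟩ : Nonempty (Sylow q M) := inferInstance
      set NP := Subgroup.normalizer (((P : Subgroup M).map M.subtype : Subgroup G) : Set G)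
      have hfrat := Sylow.normalizer_sup_eq_top P
      have hidx : (M.subgroupOf NP).index = M.index := by
        rw [← Subgroup.relIndex, ← Subgroup.relIndex_top_right M, ← hfrat]
        exact (relIndex_sup NP M).symm
      obtain ⟨L, hL⟩ := Subgroup.exists_right_complement'_of_coprime (N := M.subgroupOf NP) (by
        rw [hidx, hMidx]
        exact (hcop.coprime_dvd_right (by
          rw [← Subgroup.card_subtype NP (M.subgroupOf NP)]
          exact Subgroup.card_dvd_of_le (fun x hx => by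
            obtain ⟨y, hy, rfl⟩ := hx; exact Subgroup.mem_subgroupOf.mp hy))).symm)
      have hLc : Nat.card (L.map NP.subtype) = Nat.card H := by
        rw [Subgroup.card_subtype, ← hL.symm.index_eq_card, hidx, hMidx]
      obtain ⟨g, hg⟩ := exists_conj_le_of_card hTI hHall (L.map NP.subtype) hLc.dvd
      have hHeq : (L.map NP.subtype).map (MulAut.conj g).toMonoidHom = H := by
        refine Subgroup.eq_of_le_of_card_ge ?_ (le_of_eq ?_)
        · rintro _ ⟨l, hl, rfl⟩; exact hg l hl
        · rw [Subgroup.card_map_of_injective (MulEquiv.injective _), hLc]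
      set Q := ((P : Subgroup M).map M.subtype).map (MulAut.conj g).toMonoidHom with hQdef
      have hQM : Q ≤ M := by
        rintro _ ⟨_, ⟨y, -, rfl⟩, rfl⟩
        exact (inferInstance : M.Normal).conj_mem y y.2 g
      have hQp : IsPGroup q Q := (P.2.map _).map _
      have hQH : H ≤ Subgroup.normalizer (Q : Set G) := by
        rw [← hHeq, hQdef]
        refine (Subgroup.map_mono (Subgroup.map_subtype_le L)).trans ?_
        exact Subgroup.le_normalizer_map _
      have hQN : Q ≤ N := by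
        by_contra h
        exact hcon ⟨q, hq, Q, hQM, hQp, hQH, h⟩
      have hnd : ¬ q ∣ (Q.subgroupOf M).index := by
        intro hd
        refine P.not_dvd_index (hd.trans (dvd_of_eq ?_))
        have e1 := (Q.subgroupOf M).card_mul_index
        rw [Nat.card_congr (Subgroup.subgroupOfEquivOfLe hQM).toEquiv, hQdef,
          Subgroup.card_map_of_injective (MulEquiv.injective _), Subgroup.card_subtype,
          ← (P : Subgroup M).card_mul_index] at e1
        exact Nat.eq_of_mul_eq_mul_left Nat.card_pos e1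
      exact ⟨(hQp.of_equiv (Subgroup.subgroupOfEquivOfLe hQM).symm).toSylow hnd,
        fun x hx => hQN hx⟩
    have hMN : M ≤ N := Subgroup.subgroupOf_eq_top.mp htop
    refine hn (Subgroup.normalizer_eq_top_iff.mp (eq_top_iff.mpr ?_))
    rw [← hM.sup_eq_top]
    exact sup_le hMN Subgroup.le_normalizer
  haveI := Fact.mk hq
  -- a minimal such subgroup
  obtain ⟨X, -, ⟨hXQ, hXH, hXnot⟩, hXmin⟩ := exists_minimal_le_of_wellFoundedLT
    (fun X : Subgroup G => X ≤ Q ∧ H ≤ Subgroup.normalizer (X : Set G) ∧ ¬ X ≤ N) Q ⟨le_rfl, hQH, hQnot⟩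
  have hXM : X ≤ M := hXQ.trans hQM
  set D := X ⊓ N with hD
  have hDH : ∀ h ∈ H, ∀ d ∈ D, h * d = d * h := fun h hh d hd => hfix d (hXM hd.1) hd.2 h hh
  have hHD : H ≤ Subgroup.normalizer (D : Set G) := by
    intro h hh
    rw [Subgroup.mem_normalizer_iff]
    intro d
    constructor
    · intro hd
      rwa [hDH h hh d hd, mul_inv_cancel_right]
    · intro hd
      have h1 := hDH h hh _ hd
      have h2 : d = h * d * h⁻¹ := by
        calc d = h⁻¹ * (h * d * h⁻¹ * h) := by group
          _ = h⁻¹ * (h * (h * d * h⁻¹)) := by rw [h1]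
          _ = _ := by group
      rw [h2]; exact hd
  have hXD : X ≤ Subgroup.normalizer (D : Set G) := by
    set W := X ⊓ Subgroup.normalizer (D : Set G) with hW
    by_contra hnot
    have hWX : W < X := lt_of_le_of_ne inf_le_left fun h => hnot (h ▸ inf_le_right)
    have hWN : W ≤ N := by
      by_contra h
      refine hWX.not_ge (hXmin ⟨inf_le_left.trans hXQ, ?_, h⟩ hWX.le)
      intro k hk
      rw [Subgroup.mem_normalizer_iff]
      intro w
      rw [hW, Subgroup.mem_inf, Subgroup.mem_inf]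
      refine and_congr (Subgroup.mem_normalizer_iff.mp (hXH hk) w) ?_
      have := Subgroup.le_normalizer (H := Subgroup.normalizer (D : Set G)) (hHD hk)
      exact Subgroup.mem_normalizer_iff.mp this w
    have hDX : D.subgroupOf X ≠ ⊤ := fun h => hXnot ((Subgroup.subgroupOf_eq_top.mp h).trans inf_le_right)
    have := (hQp.to_le hXQ).isNilpotent
    have hlt := (Group.normalizerCondition_of_isNilpotent (G := X)) (D.subgroupOf X) (lt_top_iff_ne_top.mpr hDX)
    refine hlt.not_ge fun x hx => Subgroup.mem_subgroupOf.mpr ⟨x.2, hWN ⟨x.2, ?_⟩⟩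
    refine Subgroup.mem_normalizer_iff.mpr fun d => ?_
    constructor
    · intro hd
      exact Subgroup.mem_subgroupOf.mp ((Subgroup.mem_normalizer_iff.mp hx ⟨d, hd.1⟩).mp (Subgroup.mem_subgroupOf.mpr hd))
    · intro hd
      have hdX : d ∈ X := by
        have h2 := X.mul_mem (X.mul_mem (X.inv_mem x.2) hd.1) x.2
        rwa [show (x : G)⁻¹ * ((x : G) * d * (x : G)⁻¹) * (x : G) = d by group] at h2
      exact Subgroup.mem_subgroupOf.mp ((Subgroup.mem_normalizer_iff.mp hx ⟨d, hdX⟩).mpr (Subgroup.mem_subgroupOf.mpr hd))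
  set Y := X ⊔ H with hY
  set D' := D.subgroupOf Y with hD'
  have hD'n : D'.Normal := Subgroup.normal_subgroupOf_of_le_normalizer (sup_le hXD hHD)
  set f := QuotientGroup.mk' D'
  set Xb := (X.subgroupOf Y).map f
  set Hb := (H.subgroupOf Y).map f
  have hXn : (X.subgroupOf Y).Normal := Subgroup.normal_subgroupOf_of_le_normalizer (sup_le Subgroup.le_normalizer hXH)
  have hXbn : Xb.Normal := hXn.map f (QuotientGroup.mk'_surjective D')
  have hHinj : Function.Injective (f.comp (Subgroup.inclusion (le_sup_right : H ≤ Y))) := by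
    rw [injective_iff_map_eq_one]
    intro h hh
    have h1 : (h : G) ∈ D := Subgroup.mem_subgroupOf.mp ((QuotientGroup.eq_one_iff (Subgroup.inclusion (le_sup_right : H ≤ Y) h)).mp hh)
    exact Subtype.ext (Subgroup.mem_bot.mp (hM.disjoint.le_bot ⟨hXM h1.1, h.2⟩))
  have hrange : (f.comp (Subgroup.inclusion (le_sup_right : H ≤ Y))).range = Hb := by
    rw [MonoidHom.range_comp, Subgroup.inclusion_range]
  let e : H ≃* Hb := (MonoidHom.ofInjective hHinj).trans (MulEquiv.subgroupCongr hrange)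
  have hH1 : H ≠ ⊥ := fun h => hn (h ▸ inferInstance)
  refine ⟨Y ⧸ D', inferInstance, inferInstance, Hb,
    (Frobenius.Basic.isFrobeniusComplement_of_fixedPointFree Xb Hb ?_ ?_ ?_ ?_ ?_).1, ⟨e⟩⟩
  · rw [Subgroup.eq_bot_iff_forall]
    rintro z ⟨⟨a, ha, hz⟩, b, hb, hz'⟩
    have h1 : (a : G)⁻¹ * b ∈ D := Subgroup.mem_subgroupOf.mp
      (QuotientGroup.eq.mp (hz.trans hz'.symm))
    have haX : (a : G) ∈ X := Subgroup.mem_subgroupOf.mp ha
    have hbX : (b : G) ∈ X := by
      have h2 := X.mul_mem haX h1.1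
      rwa [mul_inv_cancel_left] at h2
    have hb1 : b = 1 := Subtype.ext (Subgroup.mem_bot.mp (hM.disjoint.le_bot ⟨hXM hbX, Subgroup.mem_subgroupOf.mp hb⟩))
    rw [← hz', hb1, map_one]
  · rw [← Subgroup.map_sup, ← Subgroup.subgroupOf_sup le_sup_left le_sup_right, Subgroup.subgroupOf_self,
      Subgroup.map_top_of_surjective f (QuotientGroup.mk'_surjective D')]
  · intro h
    refine hXnot fun x hx => ?_
    have h1 : f ⟨x, Subgroup.mem_sup_left hx⟩ = 1 := by
      rw [← Subgroup.mem_bot, ← h]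
      exact ⟨_, Subgroup.mem_subgroupOf.mpr hx, rfl⟩
    exact (Subgroup.mem_subgroupOf.mp ((QuotientGroup.eq_one_iff _).mp h1)).2
  · intro h
    refine hH1 ((Subgroup.eq_bot_iff_forall H).mpr fun x hx => ?_)
    have h1 : (e ⟨x, hx⟩ : Y ⧸ D') = 1 := Subgroup.mem_bot.mp (h ▸ (e ⟨x, hx⟩).2)
    have h2 : e ⟨x, hx⟩ = 1 := Subtype.ext h1
    exact congrArg Subtype.val (e.map_eq_one_iff.mp h2)
  · rintro _ ⟨k, hk, rfl⟩ hk1 _ ⟨x, hx, rfl⟩ hcomm
    have hkH : (k : G) ∈ H := Subgroup.mem_subgroupOf.mp hk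
    have hkne : (k : G) ≠ 1 := fun h => hk1 (by rw [show k = 1 from Subtype.ext h, map_one])
    have hxX : (x : G) ∈ X := Subgroup.mem_subgroupOf.mp hx
    have hA : Subgroup.zpowers (k : G) ≤ H := Subgroup.zpowers_le.mpr hkH
    have hcomA : ∀ a ∈ Subgroup.zpowers (k : G), a * (x : G) * a⁻¹ * (x : G)⁻¹ ∈ D := by
      intro a ha
      obtain ⟨i, rfl⟩ := ha
      have h1 : f (k ^ i * x * (k ^ i)⁻¹ * x⁻¹) = 1 := by
        have hc : Commute (f k) (f x) := hcomm.symm
        rw [map_mul, map_mul, map_mul, map_inv, map_inv, map_zpow, (hc.zpow_left i).eq,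
          mul_inv_cancel_right, mul_inv_cancel]
      have h2 := Subgroup.mem_subgroupOf.mp ((QuotientGroup.eq_one_iff _).mp h1)
      simpa using h2
    obtain ⟨c, hc, hxc⟩ := Coprime.exists_fixed_mod (A := Subgroup.zpowers (k : G)) (K := X) (N := D)
      ((hcop.coprime_dvd_left (Subgroup.card_dvd_of_le hA)).coprime_dvd_right (Subgroup.card_dvd_of_le hXM))
      (Or.inl (Group.isSolvable_of_comm fun a b => mul_comm' a b)) inf_le_left hXD (hA.trans hHD) hxX hcomA
    have hck : c * (k : G) * c⁻¹ = (k : G) := by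
      rw [← hc.2 (k : G) (Subgroup.mem_zpowers _), mul_inv_cancel_right]
    have hcN : c ∈ N := mem_normalizer_of_conj hTI hkH hkne (by rw [hck]; exact hkH)
    rw [QuotientGroup.mk'_apply, QuotientGroup.eq_one_iff]
    refine Subgroup.mem_subgroupOf.mpr ⟨hxX, ?_⟩
    have h3 := N.mul_mem hcN (N.inv_mem hxc.2)
    rwa [mul_inv_rev, inv_inv, mul_inv_cancel_left] at h3
where
  relIndex_sup (A M : Subgroup G) [M.Normal] : M.relIndex (A ⊔ M) = M.relIndex A := by
    exact Subgroup.relIndex_sup_right A M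

end Cfsg.Agent.GStructB.TIHallComplement
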