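import Cfsg.Agent.S0690
import Cfsg.Agent.GStructB.AutQuaternion
import Cfsg.Agent.GStructB.TIHallComplement
import Cfsg.Agent.Lib.Classical.Linear
import Cfsg.Agent.Lib.Coprime.FixedPointFree
import Cfsg.Agent.Solvable.Frobenius
import Cfsg.Agent.Lib.Perm.NonsolvableRegular
import Mathlib

/-!
Solvable Frobenius complements, and trivial intersection Hall subgroups of π-separable groups.
-/

set_option autoImplicit false

namespace Cfsg.Agent.GStructB.TIComplement

open scoped commutatorElement Pointwise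

universe u

abbrev SL25 := Matrix.SpecialLinearGroup (Fin 2) (ZMod 5)

theorem commutator_SL25 : commutator SL25 = ⊤ := by
  have h23 : (2:ZMod 5) * 3 = 1 ∧ (3:ZMod 5) * 2 = 1 := by decide
  haveI := Fact.mk (show Nat.Prime 5 by norm_num)
  apply Classical.Linear.eq_top_of_transvection_mem (F := ZMod 5)
  intro i j hij c
  let D : ZMod 5 → ∀ a : ZMod 5, SL25 := fun x a => if h : x * a = 1 then ⟨!![x, 0; 0, a], by simp [Matrix.det_fin_two, h]⟩ else 1
  have key : D (if i = 0 then 2 else 3) (if i = 0 then 3 else 2) * Matrix.SpecialLinearGroup.transvection hij (2 * c) =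
        Matrix.SpecialLinearGroup.transvection hij c * Matrix.SpecialLinearGroup.transvection hij (2 * c) * D (if i = 0 then 2 else 3) (if i = 0 then 3 else 2) := by
    fin_cases i <;> fin_cases j <;> first | exact absurd rfl hij | skip
    all_goals
      refine Subtype.ext (Matrix.ext fun a b => ?_)
      fin_cases a <;> fin_cases b <;> simp [D, Matrix.SpecialLinearGroup.coe_mul, Matrix.SpecialLinearGroup.transvection, Matrix.transvection, Matrix.mul_apply, Fin.sum_univ_two, Matrix.vecMul, Matrix.vecHead, Matrix.vecTail, h23.1, h23.2] <;> revert c <;> decide +revert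
  rw [show (Matrix.SpecialLinearGroup.transvection hij c : SL25) = ⁅D (if i = 0 then 2 else 3) (if i = 0 then 3 else 2), Matrix.SpecialLinearGroup.transvection hij (2 * c)⁆ by rw [commutatorElement_def, key]; group]
  exact Subgroup.commutator_mem_commutator (Subgroup.mem_top _) (Subgroup.mem_top _)

theorem not_isSolvable_SL25 : ¬ Group.IsSolvable SL25 := by
  have : Group.IsPerfect SL25 := ⟨commutator_SL25⟩
  have : Nontrivial SL25 := ⟨⟨Matrix.SpecialLinearGroup.transvection (show (0 : Fin 2) ≠ 1 by decide) (1 : ZMod 5), 1, fun h => by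
  have := congrArg (fun g : SL25 => g.1 0 1) h
  simp [Matrix.SpecialLinearGroup.transvection, Matrix.transvection] at this
  exact absurd this (by decide)⟩⟩
  exact Group.IsPerfect.not_isSolvable SL25

/-- A Frobenius complement without `SL(2,5)` is solvable, and all its `p`-subgroups are cyclic or
generalised quaternion. -/
theorem complement_structure {F : Type u} [Group F] [Finite F] {C : Subgroup F}
    (hC : Cfsg.IsFrobeniusComplement C) :
    (∀ (p : ℕ), p.Prime → ∀ P : Subgroup C, IsPGroup p P →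
      IsCyclic P ∨ ∃ n : ℕ, Nonempty (P ≃* QuaternionGroup (2 ^ n))) ∧
    (¬ Group.IsSolvable C → ∃ K : Subgroup C, Nonempty (K ≃* SL25)) := by
  obtain ⟨N, hNset, hNn, hNc⟩ := Cfsg.Agent.Characters.frobenius_kernel_theorem hC
  haveI := hNn
  obtain ⟨hfpf, hN⟩ : (∀ a ∈ C, a ≠ 1 → N ⊓ Subgroup.centralizer {a} = ⊥) ∧ N ≠ ⊥ :=
    ⟨Solvable.Frobenius.fpf_of_kernel hC hNc, Solvable.Frobenius.kernel_ne_bot hC hNc⟩
  refine ⟨fun p hp P hP => ?_, fun hns => ?_⟩
  · haveI := Fact.mk hp
    let e := P.equivMapOfInjective C.subtype C.subtype_injective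
    rcases Coprime.fpf_isCyclic_or_quaternion (hP.map C.subtype)
      Subgroup.le_normalizer_of_normal
      (fun a ha => hfpf a (Subgroup.map_subtype_le _ ha)) hN with h | ⟨-, n, ⟨f⟩⟩
    · exact Or.inl (e.isCyclic.mpr h)
    · exact Or.inr ⟨n, ⟨e.trans f⟩⟩
  · obtain ⟨L, -, hLnt, hperf⟩ := Perm.NearField.exists_perfect_normal hns
    let act : L →* MulAut N := MulAut.conjNormal.comp (C.subtype.comp L.subtype)
    have hact : ∀ (l : L) (n : N), ((act l n : N) : F) = (l : C) * (n : F) * ((l : C) : F)⁻¹ :=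
      fun l n => MulAut.conjNormal_apply _ _
    have hfix : ∀ (l : L), l ≠ 1 → ∀ n : N, act l n = n → n = 1 := by
      intro l hl n hn
      refine Subtype.ext (Subgroup.mem_bot.mp ?_)
      rw [← hfpf (l : C) (l : C).2 (fun h => hl (Subtype.ext (Subtype.ext h)))]
      refine ⟨n.2, Subgroup.mem_centralizer_singleton_iff.mpr ?_⟩
      have := congrArg (fun z : N => (z : F)) hn
      rw [hact, mul_inv_eq_iff_eq_mul] at this
      exact this.symm
    have hinj : Function.Injective act := (injective_iff_map_eq_one act).mpr fun l hl => by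
      by_contra h
      obtain ⟨n, hn, hn1⟩ := (Subgroup.bot_or_exists_ne_one N).resolve_left hN
      exact hn1 (congrArg Subtype.val (hfix l h ⟨n, hn⟩ (by rw [hl]; rfl)))
    let e := MonoidHom.ofInjective hinj
    obtain ⟨f⟩ := S0690.result (K := N) act.range
      (by rintro _ ⟨l, rfl⟩ hl n hn; exact hfix l (fun h => hl (by rw [h, map_one])) n hn)
      (by
        have h := Subgroup.map_commutator (⊤ : Subgroup L) ⊤ e.toMonoidHom
        rw [← commutator_def, hperf, Subgroup.map_top_of_surjective e.toMonoidHom e.surjective] at h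
        rw [commutator_def]
        exact h.symm)
      (by
        intro h
        obtain ⟨l, hl⟩ := exists_ne (1 : L)
        exact hl (hinj ((Subgroup.mem_bot.mp (h ▸ ⟨l, rfl⟩ : act l ∈ (⊥ : Subgroup _))).trans (map_one act).symm)))
    exact ⟨L, ⟨e.trans f⟩⟩

variable {G : Type u} [Group G] [Finite G]

theorem coprimeCore_spec (n : ℕ) {O : Subgroup G}
    (hO : O = sSup {K : Subgroup G | K.Normal ∧ (Nat.card K).Coprime n}) :
    O.Normal ∧ (Nat.card O).Coprime n ∧ ∀ K : Subgroup G, K.Normal → (Nat.card K).Coprime n → K ≤ O := by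
  have h := Cores.sSup_normal_mem (P := fun K : Subgroup G => K.Normal ∧ (Nat.card K).Coprime n)
    ⟨inferInstance, by simp⟩ (fun A B hA hB hA' hB' => by
      haveI := hA; haveI := hB
      exact ⟨inferInstance, (hA'.2.mul_left hB'.2).coprime_dvd_left (Cores.card_sup_dvd_mul A B)⟩)
  have hset : {N : Subgroup G | N.Normal ∧ N.Normal ∧ (Nat.card N).Coprime n} =
      {K : Subgroup G | K.Normal ∧ (Nat.card K).Coprime n} :=
    Set.ext fun K => ⟨fun h => h.2, fun h => ⟨h.1, h⟩⟩
  rw [hset, ← hO] at h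
  exact ⟨h.1, h.2, fun K h1 h2 => hO ▸ le_sSup ⟨h1, h2⟩⟩

variable {H : Subgroup G}

/-- In a π-separable group, `G = O · N(H)` and `O H` is normal. -/
theorem core_sup_normalizer (hTI : Cfsg.IsTISubset (H : Set G)) (hH1 : H ≠ ⊥)
    (hHall : (Nat.card H).Coprime (H.subgroupOf (Subgroup.normalizer (H : Set G))).index)
    {n : ℕ} (M : Fin (n + 1) → Subgroup G) (hM0 : M 0 = ⊥) (hMtop : M (Fin.last n) = ⊤)
    (hMn : ∀ i, (M i).Normal)
    (hfac : ∀ i : Fin n, (∀ q : ℕ, q.Prime → q ∣ (M i.castSucc).relIndex (M i.succ) → q ∣ Nat.card H) ∨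
        ((M i.castSucc).relIndex (M i.succ)).Coprime (Nat.card H))
    (O : Subgroup G) (hO : O = sSup {K : Subgroup G | K.Normal ∧ (Nat.card K).Coprime (Nat.card H)}) :
    O ⊔ Subgroup.normalizer (H : Set G) = ⊤ ∧ (O ⊔ H).Normal := by
  obtain ⟨hOn, hOcop, hOle⟩ := coprimeCore_spec _ hO
  haveI := hOn
  set N := Subgroup.normalizer (H : Set G) with hN
  obtain ⟨i, hi, hi'⟩ : ∃ i : Fin n, M i.castSucc ≤ O ∧ ¬ M i.succ ≤ O := by
    by_contra hcon
    push Not at hcon
    have hall : ∀ i, M i ≤ O := Fin.induction (by rw [hM0]; exact bot_le) hcon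
    have htop := top_le_iff.mp (hMtop ▸ hall (Fin.last n))
    rw [htop, Subgroup.card_top] at hOcop
    exact hH1 (Subgroup.card_eq_one.mp (Nat.eq_one_of_dvd_coprimes hOcop H.card_subgroup_dvd_card dvd_rfl))
  haveI := hMn i.succ
  set R := M i.succ ⊔ O with hR
  have hOR : O ≤ R := le_sup_right
  have hcard : Nat.card R = Nat.card O * O.relIndex R := by
    rw [← Subgroup.relIndex_bot_left O, Subgroup.relIndex_mul_relIndex ⊥ O R bot_le hOR, Subgroup.relIndex_bot_left]
  have hdvd : O.relIndex R ∣ (M i.castSucc).relIndex (M i.succ) := by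
    rw [hR, Subgroup.relIndex_sup_right]
    exact Subgroup.relIndex_dvd_of_le_left _ hi
  have hm : ∀ q : ℕ, q.Prime → q ∣ O.relIndex R → q ∣ Nat.card H := by
    rcases hfac i with h | h
    · exact fun q hq hqd => h q hq (hqd.trans hdvd)
    · refine absurd (le_sup_left.trans (hOle R inferInstance ?_)) hi'
      rw [hcard]
      exact hOcop.mul_left (h.coprime_dvd_left hdvd)
  have hm1 : O.relIndex R ≠ 1 := fun h => hi' (le_sup_left.trans (Subgroup.relIndex_eq_one.mp h))
  have hHidx := TIHallComplement.coprime_index hTI hHall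
  have hrest : (O.relIndex R).Coprime (H.relIndex R) :=
    Nat.coprime_of_dvd fun q hq h1 h2 => hq.ne_one (Nat.eq_one_of_dvd_coprimes hHidx (hm q hq h1)
      (h2.trans (Cores.relIndex_dvd_index_right_normal H R)))
  have hcardK : Nat.card (H ⊓ R : Subgroup G) * H.relIndex R = Nat.card R := by
    rw [← Subgroup.inf_relIndex_right H R, ← Subgroup.relIndex_bot_left (H ⊓ R),
      Subgroup.relIndex_mul_relIndex ⊥ (H ⊓ R) R bot_le inf_le_right, Subgroup.relIndex_bot_left]
  have hdvdK : O.relIndex R ∣ Nat.card (H ⊓ R : Subgroup G) :=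
    hrest.dvd_of_dvd_mul_right (hcardK ▸ hcard ▸ Dvd.intro_left _ rfl)
  have hRle : R ≤ O ⊔ N := by
    have hRK : O ⊔ (H ⊓ R) = R := by
      refine Subgroup.eq_of_le_of_card_ge (sup_le hOR inf_le_right) ?_
      rw [Coprime.card_sup_of_coprime Subgroup.le_normalizer_of_normal
        (hOcop.coprime_dvd_right (Subgroup.card_dvd_of_le inf_le_left)), hcard]
      exact Nat.mul_le_mul_left _ (Nat.le_of_dvd Nat.card_pos hdvdK)
    exact hRK.ge.trans (sup_le_sup_left (inf_le_left.trans Subgroup.le_normalizer) _)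
  obtain ⟨q, hq, hqd⟩ := Nat.exists_prime_and_dvd hm1
  haveI := Fact.mk hq
  obtain ⟨S⟩ : Nonempty (Sylow q (H ⊓ R : Subgroup G)) := inferInstance
  set S' := (S : Subgroup (H ⊓ R : Subgroup G)).map (H ⊓ R).subtype with hS'
  have hS'le : S' ≤ H ⊓ R := Subgroup.map_subtype_le _
  have hS'p : IsPGroup q S' := S.2.map _
  have hnd : ¬ q ∣ (S'.subgroupOf R).index := by
    rw [← Subgroup.relIndex, ← Subgroup.relIndex_mul_relIndex S' (H ⊓ R) R hS'le inf_le_right,
      hS', Subgroup.inf_relIndex_right, hq.dvd_mul]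
    rintro (h | h)
    · rw [Subgroup.relIndex, Subgroup.subgroupOf, Subgroup.comap_map_eq_self_of_injective Subtype.coe_injective] at h
      exact S.not_dvd_index h
    · exact hq.ne_one (Nat.eq_one_of_dvd_coprimes hrest hqd h)
  let P : Sylow q R := (hS'p.of_equiv (Subgroup.subgroupOfEquivOfLe (hS'le.trans inf_le_right)).symm).toSylow hnd
  have hP : (P : Subgroup R).map R.subtype = S' := Subgroup.map_subgroupOf_eq_of_le (hS'le.trans inf_le_right)
  obtain ⟨s, hs, hs1⟩ : ∃ s ∈ S', s ≠ 1 := by
    refine (Subgroup.bot_or_exists_ne_one S').resolve_left fun h => ?_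
    have hb : (S : Subgroup (H ⊓ R : Subgroup G)) = ⊥ :=
      (Subgroup.map_eq_bot_iff_of_injective _ Subtype.coe_injective).mp h
    refine S.not_dvd_index ?_
    rw [hb, Subgroup.index_bot]
    exact hqd.trans hdvdK
  have hfrat := Sylow.normalizer_sup_eq_top P
  rw [hP] at hfrat
  have hNS : Subgroup.normalizer (S' : Set G) ≤ N := fun g hg =>
    TIHallComplement.mem_normalizer_of_conj hTI (hS'le hs).1 hs1
      (hS'le ((Subgroup.mem_normalizer_iff.mp hg s).mp hs)).1
  have htop : O ⊔ N = ⊤ := top_le_iff.mp (hfrat ▸ sup_le (hNS.trans le_sup_right) hRle)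
  refine ⟨htop, Subgroup.normalizer_eq_top_iff.mp (top_le_iff.mp (htop ▸ sup_le ?_ ?_))⟩
  · exact le_sup_left.trans Subgroup.le_normalizer
  · refine le_trans ?_ (Subgroup.normalizer_inf_normalizer_le_normalizer_sup O H)
    exact le_inf Subgroup.le_normalizer_of_normal le_rfl

/-- A non-normal trivial intersection Hall subgroup with normal complement core is a Frobenius
complement. -/
theorem exists_frobenius_core (hTI : Cfsg.IsTISubset (H : Set G)) (hnn : ¬ H.Normal)
    (O : Subgroup G) [O.Normal] (hOcop : (Nat.card O).Coprime (Nat.card H))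
    (htop : O ⊔ Subgroup.normalizer (H : Set G) = ⊤) :
    ∃ (F : Type u) (_ : Group F) (_ : Finite F) (C : Subgroup F),
      Cfsg.IsFrobeniusComplement C ∧ Nonempty (H ≃* C) := by
  set L := O ⊔ H with hL
  have hHL : H ≤ L := le_sup_right
  have hcompl : (O.subgroupOf L).IsComplement' (H.subgroupOf L) := by
    refine Subgroup.isComplement'_of_disjoint_and_mul_eq_univ ?_ ?_
    · rw [disjoint_iff, Subgroup.eq_bot_iff_forall]
      exact fun x hx => Subtype.ext (Subgroup.mem_bot.mp
        ((Coprime.disjoint_of_coprime hOcop).le_bot ⟨hx.1, hx.2⟩))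
    · rw [← Subgroup.normal_mul, ← Subgroup.subgroupOf_sup le_sup_left hHL, Subgroup.subgroupOf_self,
        Subgroup.coe_top]
  have hnorm : (Subgroup.normalizer (H : Set G)).subgroupOf L =
      Subgroup.normalizer ((H.subgroupOf L : Subgroup L) : Set L) := Subgroup.subgroupOf_normalizer_eq hHL
  have hTI' : Cfsg.IsTISubset ((H.subgroupOf L : Subgroup L) : Set L) := fun g hg x hx hgx =>
    Subtype.ext (hTI (g : G) (fun h => hg (hnorm ▸ Subgroup.mem_subgroupOf.mpr h)) (x : G) hx hgx)
  have hidx : (H.subgroupOf L).index = Nat.card (O.subgroupOf L) := hcompl.index_eq_card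
  have hHall' : (Nat.card (H.subgroupOf L)).Coprime ((H.subgroupOf L).subgroupOf
      (Subgroup.normalizer ((H.subgroupOf L : Subgroup L) : Set L))).index := by
    refine Nat.Coprime.coprime_dvd_right (Dvd.intro _ (Subgroup.relIndex_mul_index Subgroup.le_normalizer)) ?_
    rw [hidx, Nat.card_congr (Subgroup.subgroupOfEquivOfLe hHL).toEquiv,
      Nat.card_congr (Subgroup.subgroupOfEquivOfLe (le_sup_left : O ≤ L)).toEquiv]
    exact hOcop.symm
  have hnn' : ¬ (H.subgroupOf L).Normal := fun h => by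
    have h1 : L ≤ Subgroup.normalizer (H : Set G) := Subgroup.subgroupOf_eq_top.mp (by
      rw [hnorm, Subgroup.normalizer_eq_top])
    refine hnn (Subgroup.normalizer_eq_top_iff.mp (top_le_iff.mp (htop ▸ sup_le ?_ le_rfl)))
    exact le_sup_left.trans h1
  obtain ⟨F, i1, i2, C, hC, ⟨e⟩⟩ := TIHallComplement.exists_frobenius hTI' hHall' (O.subgroupOf L) hcompl hnn'
  exact ⟨F, i1, i2, C, hC, ⟨(Subgroup.subgroupOfEquivOfLe hHL).symm.trans e⟩⟩

/-- Elements centralising `H` lie in `O H`. -/
theorem centralizer_le_core_sup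
    (hHall : (Nat.card H).Coprime (H.subgroupOf (Subgroup.normalizer (H : Set G))).index)
    (O : Subgroup G) [O.Normal] (hOcop : (Nat.card O).Coprime (Nat.card H))
    (hOle : ∀ K : Subgroup G, K.Normal → (Nat.card K).Coprime (Nat.card H) → K ≤ O)
    (htop : O ⊔ Subgroup.normalizer (H : Set G) = ⊤) :
    Subgroup.centralizer (H : Set G) ≤ O ⊔ H := by
  set N := Subgroup.normalizer (H : Set G)
  set C := Subgroup.centralizer (H : Set G)
  have hCN : C ≤ N := Subgroup.centralizer_le_normalizer _
  set Z := H.subgroupOf C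
  have hZc : ∀ z ∈ Z, ∀ c : C, z * c = c * z := fun z hz c =>
    Subtype.ext (Subgroup.mem_centralizer_iff.mp c.2 (z : G) hz)
  haveI : Z.Normal := ⟨fun z hz c => by rw [← hZc z hz c, mul_inv_cancel_right]; exact hz⟩
  have hZH : Nat.card Z ∣ Nat.card H := by
    rw [← Subgroup.card_map_of_injective (K := Z) (f := C.subtype) Subtype.coe_injective,
      Subgroup.subgroupOf_map_subtype]
    exact Subgroup.card_dvd_of_le inf_le_left
  have hcop : (Nat.card Z).Coprime Z.index := by
    refine (hHall.coprime_dvd_left hZH).coprime_dvd_right ?_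
    haveI : (H.subgroupOf N).Normal := Subgroup.normal_in_normalizer
    have h1 : Z = (H.subgroupOf N).comap (Subgroup.inclusion hCN) := rfl
    rw [h1, Subgroup.index_comap]
    exact Subgroup.relIndex_dvd_index_of_normal _ _
  obtain ⟨B, hB⟩ := Subgroup.exists_right_complement'_of_coprime hcop
  have hBcop : (Nat.card B).Coprime (Nat.card Z) := by
    rw [← hB.symm.index_eq_card]; exact hcop.symm
  have hBH : (Nat.card B).Coprime (Nat.card H) := by
    haveI : (H.subgroupOf N).Normal := Subgroup.normal_in_normalizer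
    have h1 : Z = (H.subgroupOf N).comap (Subgroup.inclusion hCN) := rfl
    rw [← hB.symm.index_eq_card, h1, Subgroup.index_comap]
    exact (hHall.symm.coprime_dvd_left (Subgroup.relIndex_dvd_index_of_normal _ _))
  have hdec : ∀ c : C, ∃ z ∈ Z, ∃ b ∈ B, c = z * b := fun c => by
    obtain ⟨⟨z, b⟩, hzb⟩ := hB.surjective c
    exact ⟨z, z.2, b, b.2, hzb.symm⟩
  have hchar : ∀ c : C, c ∈ B ↔ (orderOf c).Coprime (Nat.card H) := by
    intro c
    refine ⟨fun hc => hBH.coprime_dvd_left (Subgroup.orderOf_dvd_natCard B hc), fun hc => ?_⟩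
    obtain ⟨z, hz, b, hb, rfl⟩ := hdec c
    have hcomm : Commute z b := hZc z hz b
    have hco : (orderOf z).Coprime (orderOf b) :=
      (hBH.symm.coprime_dvd_left ((Subgroup.orderOf_dvd_natCard Z hz).trans hZH)).coprime_dvd_right
        (Subgroup.orderOf_dvd_natCard B hb)
    rw [hcomm.orderOf_mul_eq_mul_orderOf_of_coprime hco] at hc
    have hz1 : orderOf z = 1 := Nat.eq_one_of_dvd_coprimes hc (dvd_mul_right _ _)
      ((Subgroup.orderOf_dvd_natCard Z hz).trans hZH)
    rw [orderOf_eq_one_iff.mp hz1, one_mul]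
    exact hb
  set C₀ := B.map C.subtype with hC₀
  have hNC₀ : ∀ g ∈ N, ∀ c ∈ C₀, g * c * g⁻¹ ∈ C₀ := by
    rintro g hg _ ⟨c, hc, rfl⟩
    have hgc : g * (c : G) * g⁻¹ ∈ C := by
      rw [Subgroup.mem_centralizer_iff]
      intro h hh
      have h1 := Subgroup.mem_centralizer_iff.mp c.2 _
        ((Subgroup.mem_normalizer_iff.mp (inv_mem hg) h).mp hh)
      rw [inv_inv] at h1
      calc h * (g * (c : G) * g⁻¹) = g * ((g⁻¹ * h * g) * c) * g⁻¹ := by group
        _ = g * (c * (g⁻¹ * h * g)) * g⁻¹ := by rw [h1]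
        _ = _ := by group
    refine ⟨⟨_, hgc⟩, (hchar _).mpr ?_, rfl⟩
    rw [← Subgroup.orderOf_coe]
    show (orderOf (MulAut.conj g (c : G))).Coprime _
    rw [MulEquiv.orderOf_eq, Subgroup.orderOf_coe]
    exact (hchar c).mp hc
  have hN1 : N ≤ Subgroup.normalizer (C₀ : Set G) := fun g hg => Subgroup.mem_normalizer_iff.mpr fun x => by
    refine ⟨hNC₀ g hg x, fun hx => ?_⟩
    have := hNC₀ g⁻¹ (inv_mem hg) _ hx
    rwa [show g⁻¹ * (g * x * g⁻¹) * g⁻¹⁻¹ = x by group] at this
  have hn : (C₀ ⊔ O).Normal := Subgroup.normalizer_eq_top_iff.mp (top_le_iff.mp (htop ▸ sup_le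
    (le_sup_right.trans Subgroup.le_normalizer)
    ((le_inf hN1 Subgroup.le_normalizer_of_normal).trans (Subgroup.normalizer_inf_normalizer_le_normalizer_sup C₀ O))))
  have hle := hOle _ hn (((Nat.Coprime.mul_left (by
    rw [hC₀, Subgroup.card_map_of_injective Subtype.coe_injective]; exact hBH) hOcop)).coprime_dvd_left
      (Cores.card_sup_dvd_mul C₀ O))
  intro x hx
  obtain ⟨z, hz, b, hb, hzb⟩ := hdec ⟨x, hx⟩
  rw [show x = (z : G) * (b : G) from congrArg Subtype.val hzb]
  exact mul_mem (Subgroup.mem_sup_right hz)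
    (Subgroup.mem_sup_left (hle (Subgroup.mem_sup_left ⟨b, hb, rfl⟩)))

/-- If the centraliser of a solvable normal subgroup `H` of `N` is solvable, and so are the automorphism
groups of the cores of `H`, then `N` is solvable. -/
theorem isSolvable_of_normal {N : Type u} [Group N] [Finite N] (H : Subgroup N) [H.Normal]
    [Group.IsSolvable H]
    (hAut : ∀ p : ℕ, p.Prime → Group.IsSolvable (MulAut (pCore p H)))
    [Group.IsSolvable (Subgroup.centralizer (H : Set N))] : Group.IsSolvable N := by
  classical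
  let X : ℕ → Subgroup N := fun p => (pCore p H).map H.subtype
  have hX : ∀ p, (X p).Normal := fun p => by
    haveI := Cores.pCore_characteristic p (G := H)
    exact inferInstance
  have hstep : ∀ p : (Nat.card H).primeFactors, ∃ k, derivedSeries N k ≤ Subgroup.centralizer (X p : Set N) := by
    intro p
    haveI := hX p
    haveI := hAut p (Nat.prime_of_mem_primeFactors p.2)
    haveI : Group.IsSolvable (MulAut (X p)) :=
      Group.isSolvable_of_isSolvable_injective
        (f := (MulAut.congr ((pCore (p : ℕ) H).equivMapOfInjective H.subtype H.subtype_injective).symm).toMonoidHom)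
        (MulAut.congr ((pCore (p : ℕ) H).equivMapOfInjective H.subtype H.subtype_injective).symm).injective
    obtain ⟨k, hk⟩ := Group.IsSolvable.solvable (G := MulAut (X p))
    refine ⟨k, fun g hg => Subgroup.mem_centralizer_iff.mpr fun x hx => ?_⟩
    have h1 : MulAut.conjNormal (H := X p) g = 1 := by
      rw [← Subgroup.mem_bot, ← hk]
      exact map_derivedSeries_le_derivedSeries _ k ⟨g, hg, rfl⟩
    have h2 := congrArg (fun f : MulAut (X p) => ((f ⟨x, hx⟩ : X p) : N)) h1
    simp only [MulAut.conjNormal_apply, MulAut.one_apply] at h2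
    exact (mul_inv_eq_iff_eq_mul.mp h2).symm
  choose k hk using hstep
  obtain ⟨K, hK⟩ := Finset.exists_le (Finset.univ.image k)
  set D := derivedSeries N K with hD
  have hDX : ∀ p : (Nat.card H).primeFactors, D ≤ Subgroup.centralizer (X p : Set N) := fun p =>
    (derivedSeries_antitone N (hK _ (Finset.mem_image_of_mem k (Finset.mem_univ p)))).trans (hk p)
  set F' := (fittingSubgroup H).map H.subtype
  have hDF : D ≤ Subgroup.centralizer (F' : Set N) := by
    rw [Subgroup.le_centralizer_iff]
    show (fittingSubgroup H).map H.subtype ≤ _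
    rw [Cores.fittingSubgroup_eq_iSup, Subgroup.map_iSup, iSup_le_iff]
    exact fun p => Subgroup.le_centralizer_iff.mp (hDX p)
  have hinf : D ⊓ H ≤ Subgroup.centralizer (D : Set N) := by
    refine le_trans ?_ (Subgroup.le_centralizer_iff.mp hDF)
    rintro x ⟨hxD, hxH⟩
    refine ⟨⟨x, hxH⟩, Cores.centralizer_fittingSubgroup_le (Subgroup.mem_centralizer_iff.mpr fun f hf => ?_), rfl⟩
    exact Subtype.ext (Subgroup.mem_centralizer_iff.mp (hDF hxD) (f : N) ⟨f, hf, rfl⟩)
  have h1 : ⁅⁅D, H⁆, D⁆ = ⊥ := Subgroup.commutator_eq_bot_iff_le_centralizer.mpr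
    ((Subgroup.commutator_le_inf D H).trans hinf)
  have h2 : ⁅⁅H, D⁆, D⁆ = ⊥ := by rw [Subgroup.commutator_comm H D]; exact h1
  have h3 : derivedSeries N (K + 1) ≤ Subgroup.centralizer (H : Set N) := by
    rw [derivedSeries_succ, ← Subgroup.commutator_eq_bot_iff_le_centralizer]
    exact Subgroup.commutator_commutator_eq_bot_of_rotate h1 h2
  haveI : Group.IsSolvable (N ⧸ Subgroup.centralizer (H : Set N)) := ⟨⟨K + 1, by
    rw [← map_derivedSeries_eq (QuotientGroup.mk'_surjective (Subgroup.centralizer (H : Set N))),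
      Subgroup.map_eq_bot_iff, QuotientGroup.ker_mk']
    exact h3⟩⟩
  exact (Group.isSolvable_iff_subgroup_quotient (Subgroup.centralizer (H : Set N))).mpr ⟨inferInstance, inferInstance⟩

/-- Solvability of a π-separable group with a trivial intersection Hall subgroup. -/
theorem isSolvable_of_core (hTI : Cfsg.IsTISubset (H : Set G)) (hnn : ¬ H.Normal)
    (hHall : (Nat.card H).Coprime (H.subgroupOf (Subgroup.normalizer (H : Set G))).index)
    (O : Subgroup G) [O.Normal] (hOcop : (Nat.card O).Coprime (Nat.card H))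
    (hOle : ∀ K : Subgroup G, K.Normal → (Nat.card K).Coprime (Nat.card H) → K ≤ O)
    (htop : O ⊔ Subgroup.normalizer (H : Set G) = ⊤) (hn : (O ⊔ H).Normal) [Group.IsSolvable O]
    (hSL : ∀ K : Subgroup G, K ≤ H → ¬ Nonempty (K ≃* SL25)) : Group.IsSolvable G := by
  obtain ⟨F, i1, i2, C, hC, ⟨e⟩⟩ := exists_frobenius_core hTI hnn O hOcop htop
  obtain ⟨hp, hsl⟩ := complement_structure hC
  haveI : Group.IsSolvable C := by
    by_contra h
    obtain ⟨K, ⟨f⟩⟩ := hsl h
    refine hSL ((K.map e.symm.toMonoidHom).map H.subtype) (Subgroup.map_subtype_le _) ⟨?_⟩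
    exact ((Subgroup.equivMapOfInjective _ H.subtype H.subtype_injective).symm.trans
      (K.equivMapOfInjective e.symm.toMonoidHom e.symm.injective).symm).trans f
  haveI : Group.IsSolvable H := Group.isSolvable_of_isSolvable_injective (f := e.toMonoidHom) e.injective
  haveI : Group.IsSolvable (O ⊔ H : Subgroup G) := by
    haveI : Group.IsSolvable (O.subgroupOf (O ⊔ H)) := Group.isSolvable_of_isSolvable_injective
      (f := (Subgroup.subgroupOfEquivOfLe (le_sup_left : O ≤ O ⊔ H)).toMonoidHom)
      (Subgroup.subgroupOfEquivOfLe (le_sup_left : O ≤ O ⊔ H)).injective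
    haveI : Group.IsSolvable ((O ⊔ H : Subgroup G) ⧸ O.subgroupOf (O ⊔ H)) := by
      refine Group.isSolvable_of_surjective
        (f := (QuotientGroup.mk' (O.subgroupOf (O ⊔ H))).comp (Subgroup.inclusion (le_sup_right : H ≤ O ⊔ H))) ?_
      intro q
      obtain ⟨y, rfl⟩ := QuotientGroup.mk'_surjective _ q
      obtain ⟨o, ho, h, hh, hy⟩ := Subgroup.mem_sup_of_normal_left.mp y.2
      refine ⟨⟨h, hh⟩, QuotientGroup.eq.mpr (Subgroup.mem_subgroupOf.mpr ?_)⟩
      show h⁻¹ * (y : G) ∈ O
      rw [← hy, show h⁻¹ * (o * h) = h⁻¹ * o * h⁻¹⁻¹ by group]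
      exact (inferInstance : O.Normal).conj_mem o ho _
    exact (Group.isSolvable_iff_subgroup_quotient (O.subgroupOf (O ⊔ H))).mpr ⟨inferInstance, inferInstance⟩
  set N := Subgroup.normalizer (H : Set G) with hN
  haveI : Group.IsSolvable N := by
    haveI : (H.subgroupOf N).Normal := Subgroup.normal_in_normalizer
    let e₁ : H.subgroupOf N ≃* C := (Subgroup.subgroupOfEquivOfLe Subgroup.le_normalizer).trans e
    haveI : Group.IsSolvable (H.subgroupOf N) :=
      Group.isSolvable_of_isSolvable_injective (f := e₁.toMonoidHom) e₁.injective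
    haveI : Group.IsSolvable (Subgroup.centralizer ((H.subgroupOf N : Subgroup N) : Set N)) := by
      have hle : ∀ x ∈ Subgroup.centralizer ((H.subgroupOf N : Subgroup N) : Set N), (x : G) ∈ O ⊔ H :=
        fun x hx => centralizer_le_core_sup hHall O hOcop hOle htop (Subgroup.mem_centralizer_iff.mpr fun h hh =>
          congrArg Subtype.val (Subgroup.mem_centralizer_iff.mp hx ⟨h, Subgroup.le_normalizer hh⟩ hh))
      exact Group.isSolvable_of_isSolvable_injective
        (f := (N.subtype.comp (Subgroup.centralizer ((H.subgroupOf N : Subgroup N) : Set N)).subtype).codRestrict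
          (O ⊔ H) (fun x => hle x x.2)) (fun a b h => Subtype.ext (Subtype.ext (congrArg Subtype.val h :)))
    refine isSolvable_of_normal (H.subgroupOf N) fun p hp' => ?_
    haveI := Fact.mk hp'
    let e₂ := (pCore p (H.subgroupOf N)).equivMapOfInjective e₁.toMonoidHom e₁.injective
    have h1 := hp p hp' _ ((Cores.pCore_isPGroup p (G := H.subgroupOf N)).map e₁.toMonoidHom)
    haveI := AutQuaternion.isSolvable_mulAut h1
    exact Group.isSolvable_of_isSolvable_injective (f := (MulAut.congr e₂).toMonoidHom) (MulAut.congr e₂).injective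
  haveI : Group.IsSolvable (G ⧸ O) := by
    refine Group.isSolvable_of_surjective (f := (QuotientGroup.mk' O).comp N.subtype) ?_
    intro q
    obtain ⟨y, rfl⟩ := QuotientGroup.mk'_surjective _ q
    obtain ⟨o, ho, h, hh, hy⟩ := Subgroup.mem_sup_of_normal_left.mp (htop.ge (Subgroup.mem_top y))
    refine ⟨⟨h, hh⟩, QuotientGroup.eq.mpr ?_⟩
    show h⁻¹ * y ∈ O
    rw [← hy, show h⁻¹ * (o * h) = h⁻¹ * o * h⁻¹⁻¹ by group]
    exact (inferInstance : O.Normal).conj_mem o ho _
  exact (Group.isSolvable_iff_subgroup_quotient O).mpr ⟨inferInstance, inferInstance⟩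

end Cfsg.Agent.GStructB.TIComplement
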