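import Cfsg.Agent.Recognition.PrimeTriples
import Cfsg.Agent.Lib.Hall.Solvable
import Cfsg.Agent.Lib.Counting.SylowCount
import Cfsg.Agent.Lib.Cores.Basic
import Mathlib

/-!
Lucido's three primes lemma for solvable groups.
-/

set_option autoImplicit false

namespace Cfsg.Agent.GStructB.ThreePrimes

open Cfsg Cfsg.Agent.Recognition.PrimeTriples

universe u

variable {G : Type u} [Group G]

/-- A nontrivial solvable group has a nontrivial `pCore` for some prime dividing its order. -/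
theorem exists_pCore_ne_bot [Finite G] [Nontrivial G] [Group.IsSolvable G] :
    ∃ q : ℕ, q.Prime ∧ q ∣ Nat.card (pCore q G) := by
  obtain ⟨q, N, hq, hN, hN1, hNq⟩ := Counting.SylowCount.exists_normal_pGroup_of_isSolvable (G := G) inferInstance
  have := hN
  haveI := Fact.mk hq
  obtain ⟨k, hk⟩ := hNq.exists_card_eq
  have hk0 : k ≠ 0 := fun h0 => hN1 (Subgroup.card_eq_one.mp (by rw [hk, h0, pow_zero]))
  exact ⟨q, hq, ((dvd_pow_self q hk0).trans (dvd_of_eq hk.symm)).trans
    (Subgroup.card_dvd_of_le (Cores.le_pCore hNq))⟩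

theorem third : ∀ i j : Fin 3, ∃ k, k ≠ i ∧ k ≠ j := by decide

/-- **Three primes lemma.** -/
theorem exists_pair [Finite G] [Group.IsSolvable G] (p : Fin 3 → ℕ) (hp : ∀ i, (p i).Prime)
    (hinj : Function.Injective p) (hd : ∀ i, p i ∣ Nat.card G) :
    ∃ i j, i ≠ j ∧ ∃ x : G, orderOf x = p i * p j := by
  classical
  by_contra hcon
  obtain ⟨H, hH1, hH2⟩ := Hall.exists_hall (Set.range p) G
  have hHd : ∀ i, p i ∣ Nat.card H := fun i => by
    have h := hd i
    rw [← H.card_mul_index] at h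
    exact ((hp i).dvd_mul.mp h).resolve_right (hH2 _ (hp i) ⟨i, rfl⟩)
  have hsep : ∀ i j, i ≠ j → Sep H (p i) (p j) := fun i j hij ⟨x, hx⟩ =>
    hcon ⟨i, j, hij, x, by rw [Subgroup.orderOf_coe]; exact hx⟩
  haveI : Nontrivial H := by
    rw [← Finite.one_lt_card_iff_nontrivial]
    exact (hp 0).one_lt.trans_le (Nat.le_of_dvd Nat.card_pos (hHd 0))
  obtain ⟨s, hs, hsd⟩ := exists_pCore_ne_bot (G := H)
  obtain ⟨i, hi⟩ := hH1 s hs (hsd.trans (Subgroup.card_subgroup_dvd_card _))
  subst hi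
  haveI := Fact.mk (hp i)
  set K := pCore (p i) H
  have hKp : IsPGroup (p i) K := Cores.pCore_isPGroup _
  haveI : Nontrivial (H ⧸ K) := by
    rw [← Finite.one_lt_card_iff_nontrivial, ← Subgroup.index_eq_card]
    obtain ⟨a, ha⟩ := hKp.exists_card_eq
    obtain ⟨j, hj⟩ : ∃ j, j ≠ i := exists_ne i
    have h := hHd j
    rw [← K.card_mul_index, ha] at h
    rcases (hp j).dvd_mul.mp h with h' | h'
    · exact absurd (hinj ((Nat.prime_dvd_prime_iff_eq (hp j) (hp i)).mp ((hp j).dvd_of_dvd_pow h'))) hj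
    · exact (hp j).one_lt.trans_le
        (Nat.le_of_dvd (Nat.pos_of_ne_zero Subgroup.index_ne_zero_of_finite) h')
  obtain ⟨t, ht, htd⟩ := exists_pCore_ne_bot (G := H ⧸ K)
  obtain ⟨j, hj⟩ := hH1 t ht ((htd.trans (Subgroup.card_subgroup_dvd_card _)).trans
    (Subgroup.card_quotient_dvd_card K))
  subst hj
  haveI := Fact.mk (hp j)
  have hij : j ≠ i := fun h => by
    subst h
    rw [Cores.pCore_quotient_self, Subgroup.card_bot] at htd
    exact ht.ne_one (Nat.dvd_one.mp htd)
  set M := (pCore (p j) (H ⧸ K)).comap (QuotientGroup.mk' K) with hM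
  have hKM : K ≤ M := fun x hx => by
    rw [hM, Subgroup.mem_comap, QuotientGroup.mk'_apply, (QuotientGroup.eq_one_iff x).mpr hx]
    exact one_mem _
  have hMc := Cores.card_comap_mk' K (pCore (p j) (H ⧸ K))
  obtain ⟨a, ha⟩ := hKp.exists_card_eq
  obtain ⟨b, hb⟩ := (Cores.pCore_isPGroup (G := H ⧸ K) (p j)).exists_card_eq
  obtain ⟨k, hki, hkj⟩ := third i j
  have hrel : p j ∣ K.relIndex M := by
    have h := Subgroup.relIndex_mul_relIndex ⊥ K M bot_le hKM
    rw [Subgroup.relIndex_bot_left, Subgroup.relIndex_bot_left] at h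
    have hMcard : Nat.card M = Nat.card K * Nat.card (pCore (p j) (H ⧸ K)) := by
      rw [hM, hMc]; try ring
    rw [hMcard] at h
    rw [Nat.eq_of_mul_eq_mul_left Nat.card_pos h]
    exact htd
  have hidx : p k ∣ M.index := by
    have h := hHd k
    rw [← M.card_mul_index] at h
    refine ((hp k).dvd_mul.mp h).resolve_left fun h' => ?_
    have hMcard : Nat.card M = Nat.card K * Nat.card (pCore (p j) (H ⧸ K)) := by
      rw [hM, hMc]; try ring
    rw [hMcard, ha, hb] at h'
    rcases (hp k).dvd_mul.mp h' with h'' | h''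
    · exact hki (hinj ((Nat.prime_dvd_prime_iff_eq (hp k) (hp i)).mp ((hp k).dvd_of_dvd_pow h'')))
    · exact hkj (hinj ((Nat.prime_dvd_prime_iff_eq (hp k) (hp j)).mp ((hp k).dvd_of_dvd_pow h'')))
  exact series_false K M hKM (hp i) (hp j) (hp k) (fun h => hij (hinj h).symm)
    (fun h => hki (hinj h).symm) (fun h => hkj (hinj h).symm) hsd hrel hidx
    (hsep i j (Ne.symm hij)) (hsep i k (Ne.symm hki)) (hsep j k (Ne.symm hkj))

end Cfsg.Agent.GStructB.ThreePrimes
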