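import Cfsg.Agent.Lib.Components.Layer
import Cfsg.Agent.Lib.Cores.Subnormal
import Cfsg.Agent.Lib.Cores.Residual
import Cfsg.Agent.Lib.Transfer.Tate
import Cfsg.Agent.Solvable.Gaschutz
import Cfsg.Agent.Solvable.Basics
import Cfsg.Agent.Lib.Coprime.PGroup

/-!
Groups with a two-generated Sylow `p`-subgroup whose Frattini subgroup is core-free.
-/

set_option autoImplicit false

namespace Cfsg.Agent.GStructB.TwoGenSylow

open Subgroup Cfsg
open scoped commutatorElement
open Cfsg.Agent.Components.Basic Cfsg.Agent.Components.Fitting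

universe u

/-- In a group whose Frattini subgroup has index `p²`, a subgroup outside the Frattini subgroup
needs one more generator. -/
theorem exists_sup_zpowers {Q : Type*} [Group Q] [Finite Q] {p : ℕ} [hp : Fact p.Prime]
    (hna : ¬ IsMulCommutative Q) (hgen : (frattini Q).index = p ^ 2) {A : Subgroup Q}
    (hA : ¬ A ≤ frattini Q) : ∃ b : Q, A ⊔ zpowers b = ⊤ := by
  obtain ⟨a, haA, ha⟩ := SetLike.not_le_iff_exists.mp hA
  set H1 := zpowers a ⊔ frattini Q with hH1
  have hlt : frattini Q < H1 := lt_of_le_of_ne le_sup_right fun h =>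
    ha (h ▸ mem_sup_left (mem_zpowers a))
  have hne : H1 ≠ ⊤ := fun h => hna (by
    have h2 := frattini_nongenerating h
    have : IsCyclic Q := ⟨⟨a, fun x => (h2 ▸ mem_top x : x ∈ zpowers a)⟩⟩
    infer_instance)
  obtain ⟨b, hb⟩ : ∃ b, b ∉ H1 := by
    by_contra h
    push Not at h
    exact hne (eq_top_iff.mpr fun x _ => h x)
  refine ⟨b, ?_⟩
  set H2 := H1 ⊔ zpowers b with hH2
  have hlt2 : H1 < H2 := lt_of_le_of_ne le_sup_left fun h => hb (h ▸ mem_sup_right (mem_zpowers b))
  have htop : H2 = ⊤ := by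
    rw [← index_eq_one]
    have d1 := index_dvd_of_le hlt.le
    have d2 := index_dvd_of_le hlt2.le
    obtain ⟨i, hi, e1⟩ := (Nat.dvd_prime_pow hp.out).mp (hgen ▸ d1)
    obtain ⟨j, hj, e2⟩ := (Nat.dvd_prime_pow hp.out).mp (e1 ▸ d2)
    have l1 := index_strictAnti hlt
    have l2 := index_strictAnti hlt2
    rw [e1, hgen] at l1
    rw [e1, e2] at l2
    have := (Nat.pow_lt_pow_iff_right hp.out.one_lt).mp l1
    have := (Nat.pow_lt_pow_iff_right hp.out.one_lt).mp l2
    obtain rfl : j = 0 := by omega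
    rw [e2, pow_zero]
  refine frattini_nongenerating (eq_top_iff.mpr ?_)
  rw [← htop]
  refine sup_le (sup_le ?_ le_sup_right) (le_sup_right.trans le_sup_left)
  exact (zpowers_le.mpr haA).trans (le_sup_left.trans le_sup_left)

variable {G : Type u} [Group G] [Finite G] {p : ℕ} [hp : Fact p.Prime] (P : Sylow p G)

/-- The Frattini subgroup of `P`, as a subgroup of `G`. -/
abbrev phi : Subgroup G := (frattini ↥(P : Subgroup G)).map (P : Subgroup G).subtype

/-- The hypotheses. -/
structure Hyp : Prop where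
  hna : ¬ IsMulCommutative (P : Subgroup G)
  hgen : (frattini ↥(P : Subgroup G)).index = p ^ 2
  hcore : pPrimeCore p G = ⊥
  hfrat : (phi P).normalCore = ⊥

omit [Finite G] in
theorem subgroupOf_le_frattini_iff (K : Subgroup G) :
    K.subgroupOf (P : Subgroup G) ≤ frattini ↥(P : Subgroup G) ↔ K ⊓ (P : Subgroup G) ≤ phi P := by
  rw [← map_subtype_le_map_subtype, subgroupOf_map_subtype]

theorem commutator_le_phi : ⁅(P : Subgroup G), (P : Subgroup G)⁆ ≤ phi P := by
  haveI := P.2.isNilpotent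
  rw [← map_subtype_commutator]
  exact Subgroup.map_mono (Coprime.commutator_le_frattini _)

variable {P}

theorem Hyp.exists_gen (hP : Hyp P) {K : Subgroup G} (hK : ¬ K ⊓ (P : Subgroup G) ≤ phi P) :
    ∃ b ∈ (P : Subgroup G), (K ⊓ (P : Subgroup G)) ⊔ zpowers b = (P : Subgroup G) := by
  obtain ⟨b, hb⟩ := exists_sup_zpowers hP.hna hP.hgen
    (A := K.subgroupOf (P : Subgroup G)) (fun h => hK ((subgroupOf_le_frattini_iff P K).mp h))
  refine ⟨b, b.2, ?_⟩
  have := congrArg (Subgroup.map (P : Subgroup G).subtype) hb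
  rwa [Subgroup.map_sup, subgroupOf_map_subtype, MonoidHom.map_zpowers, ← MonoidHom.range_eq_map,
    range_subtype] at this

theorem Hyp.not_both (hP : Hyp P) {K L : Subgroup G} (hK : (P : Subgroup G) ≤ normalizer (K : Set G))
    (hL : (P : Subgroup G) ≤ normalizer (L : Set G)) (hKL : K ⊓ L = ⊥) :
    K ⊓ (P : Subgroup G) ≤ phi P ∨ L ⊓ (P : Subgroup G) ≤ phi P := by
  by_contra h
  push Not at h
  have key : ∀ (A : Subgroup G), (P : Subgroup G) ≤ normalizer (A : Set G) →
      ¬ A ⊓ (P : Subgroup G) ≤ phi P →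
      commutator ↥(P : Subgroup G) ≤ A.subgroupOf (P : Subgroup G) := by
    intro A hA hA'
    haveI := normal_subgroupOf_of_le_normalizer hA
    obtain ⟨b, hb⟩ := exists_sup_zpowers hP.hna hP.hgen
      (A := A.subgroupOf (P : Subgroup G)) (fun h' => hA' ((subgroupOf_le_frattini_iff P A).mp h'))
    exact Subgroup.Normal.commutator_le_of_self_sup_commutative_eq_top hb inferInstance
  have h3 : commutator ↥(P : Subgroup G) = ⊥ := by
    rw [eq_bot_iff]
    intro x hx
    have : (x : G) ∈ K ⊓ L := ⟨key K hK h.1 hx, key L hL h.2 hx⟩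
    rw [hKL, mem_bot] at this
    exact mem_bot.mpr (Subtype.ext this)
  apply hP.hna
  refine ⟨⟨fun x y => ?_⟩⟩
  have hxy : ⁅x, y⁆ ∈ commutator ↥(P : Subgroup G) := by
    rw [_root_.commutator_def]
    exact commutator_mem_commutator (mem_top x) (mem_top y)
  rw [h3, mem_bot] at hxy
  exact commutatorElement_eq_one_iff_mul_comm.mp hxy

theorem normal_le_phi_eq_bot (hP : Hyp P) (K : Subgroup G) [K.Normal] (h : K ≤ phi P) : K = ⊥ :=
  le_bot_iff.mp (hP.hfrat ▸ Subgroup.normal_le_normalCore.mpr h)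

theorem isPGroup_of_hasNormalPComplement (hP : Hyp P) {K : Subgroup G} (hK : K.IsSubnormal)
    (h : HasNormalPComplement p K) : IsPGroup p K := by
  rw [← Cores.pResidual_eq_bot_iff]
  rw [Transfer.NormalPComplement.hasNormalPComplement_iff_pResidual] at h
  have hsn : ((pResidual p K).map K.subtype).IsSubnormal :=
    (isSubnormal_map_subtype_iff hK _).mpr
      (Transfer.NormalPComplement.pResidual_normal (p := p) (G := K)).isSubnormal
  have hle := Cores.le_pPrimeCore_of_isSubnormal hsn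
    (by rwa [card_map_of_injective K.subtype_injective])
  rwa [hP.hcore, le_bot_iff, Subgroup.map_eq_bot_iff_of_injective _ K.subtype_injective] at hle

theorem eq_bot_of_inf_le (hP : Hyp P) (K : Subgroup G) [K.Normal]
    (h : K ⊓ (P : Subgroup G) ≤ phi P) : K = ⊥ := by
  have hp' := isPGroup_of_hasNormalPComplement hP
    (inferInstance : K.Normal).isSubnormal
    (Transfer.Tate.hasNormalPComplement_of_inf_le_frattini P K h)
  refine normal_le_phi_eq_bot hP K fun x hx => h ⟨hx, ?_⟩
  exact Cores.pCore_le_sylow P (Cores.le_pCore hp' hx)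

theorem inf_ne_bot (hP : Hyp P) {K L : Subgroup G} [K.Normal] [L.Normal] (hK : K ≠ ⊥)
    (hL : L ≠ ⊥) : K ⊓ L ≠ ⊥ := fun h => by
  rcases hP.not_both le_normalizer_of_normal le_normalizer_of_normal h with h1 | h1
  · exact hK (eq_bot_of_inf_le hP K h1)
  · exact hL (eq_bot_of_inf_le hP L h1)

/-- A central element of `E` lying in `E'` and in the Sylow subgroup lies in `Φ(P)`. -/
theorem mem_phi_of_central (P : Sylow p G) (E : Subgroup G) [E.Normal] {z : G} (hzE : z ∈ ⁅E, E⁆)
    (hzP : z ∈ (P : Subgroup G)) (hz : ∀ x ∈ E, x * z = z * x) : z ∈ phi P := by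
  have hzE' : z ∈ E := commutator_le_left E E hzE
  set H := (P : Subgroup G).subgroupOf E with hH
  have hidx : H.index ∣ (P : Subgroup G).index :=
    Cores.relIndex_dvd_index_right_normal (P : Subgroup G) E
  have hcop : p.Coprime H.index :=
    ((Nat.Prime.coprime_iff_not_dvd hp.out).mpr fun h => P.not_dvd_index (h.trans hidx))
  let z' : E := ⟨z, hzE'⟩
  have hzH : z' ∈ H := hzP
  have key : ∀ (k : ℕ) (g₀ : E), g₀⁻¹ * z' ^ k * g₀ ∈ H → g₀⁻¹ * z' ^ k * g₀ = z' ^ k := by
    intro k g₀ _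
    have h1 : Commute g₀ z' := Subtype.ext (hz g₀ g₀.2)
    rw [mul_assoc, ← (h1.pow_right k).eq, inv_mul_cancel_left]
  have h1 := MonoidHom.transfer_eq_pow (Abelianization.of (G := H)) z' key
  have hzc : z' ∈ commutator E := by
    rw [← mem_map_iff_mem E.subtype_injective, map_subtype_commutator]
    exact hzE
  have h2 : MonoidHom.transfer (Abelianization.of (G := H)) z' = 1 :=
    Abelianization.commutator_subset_ker (MonoidHom.transfer (Abelianization.of (G := H))) hzc
  rw [h2] at h1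
  have h3 : (⟨z', hzH⟩ : H) ^ H.index ∈ commutator H := by
    rw [← Abelianization.ker_of, MonoidHom.mem_ker]
    exact (congrArg _ (Subtype.ext rfl)).trans h1.symm
  have h4 : (⟨z', hzH⟩ : H) ∈ commutator H := by
    refine Transfer.NormalPComplement.mem_of_pow_mem ?_ h3
    obtain ⟨k, hk⟩ := (P.2.comap_subtype (K := E)) ⟨z', hzH⟩
    exact Nat.Coprime.coprime_dvd_left (orderOf_dvd_of_pow_eq_one hk) (hcop.pow_left k)
  have h5 : z' ∈ ⁅H, H⁆ := by
    rw [← map_subtype_commutator]
    exact ⟨_, h4, rfl⟩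
  have h6 : z ∈ ⁅H.map E.subtype, H.map E.subtype⁆ := by
    rw [← map_commutator]
    exact ⟨z', h5, rfl⟩
  have hHP : H.map E.subtype ≤ (P : Subgroup G) := by
    rw [hH, subgroupOf_map_subtype]
    exact inf_le_left
  exact commutator_le_phi P (commutator_mono hHP hHP h6)

theorem fitting_le_sylow (hP : Hyp P) : fittingSubgroup G ≤ (P : Subgroup G) := by
  rw [fitting_eq_coreJoin]
  refine (coreJoin_le_sup p).trans ?_
  rw [hP.hcore, sup_bot_eq]
  exact Cores.pCore_le_sylow P

theorem fitting_elementary (hP : Hyp P) :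
    IsMulCommutative (fittingSubgroup G) ∧ ∀ x ∈ fittingSubgroup G, x ^ p = 1 := by
  have hF := fitting_le_sylow hP
  have hmem : ∀ x : G, (∀ g : G, g * x * g⁻¹ ∈ phi P) → x = 1 := fun x hx => by
    have : x ∈ (phi P).normalCore := hx
    rwa [hP.hfrat, mem_bot] at this
  constructor
  · refine commutator_self_eq_bot_iff.mp (normal_le_phi_eq_bot hP _ ?_)
    exact (commutator_mono hF hF).trans (commutator_le_phi P)
  · intro x hx
    refine hmem _ fun g => ?_
    have hc : g * x * g⁻¹ ∈ (P : Subgroup G) :=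
      hF (fitting_normal.conj_mem x hx g)
    refine ⟨⟨_, hc⟩ ^ p, Solvable.Basics.pow_mem_frattini P.2 _, ?_⟩
    rw [map_pow]
    exact conj_pow

theorem layer_eq_bot_of_fitting (hP : Hyp P) (hF : fittingSubgroup G ≠ ⊥) : layer G = ⊥ := by
  by_contra hE
  refine inf_ne_bot hP hE hF (eq_bot_of_inf_le hP _ fun z hz => ?_)
  obtain ⟨⟨hzE, hzF⟩, hzP⟩ := hz
  refine mem_phi_of_central P (layer G) ((commutator_layer_self (G := G)).ge hzE) hzP fun x hx => ?_
  exact mem_centralizer_iff.mp (fitting_le_centralizer_layer hzF) x hx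

theorem fitting_le_of_normal (hP : Hyp P) (hF : fittingSubgroup G ≠ ⊥) (K : Subgroup G) [K.Normal]
    (hK : K ≠ ⊥) : fittingSubgroup G ≤ K := by
  obtain ⟨hFc, hFe⟩ := fitting_elementary hP
  have hFP := fitting_le_sylow hP
  set F := fittingSubgroup G with hFdef
  set M := K ⊓ F with hM
  have hM0 : M ≠ ⊥ := inf_ne_bot hP hK hF
  have hMF : M ≤ F := inf_le_right
  by_contra hFK
  obtain ⟨x, hxF, hxK⟩ := SetLike.not_le_iff_exists.mp hFK
  have hxM : x ∉ M := fun h => hxK h.1
  obtain ⟨b, hbP, hb⟩ := hP.exists_gen (K := M) fun h => hM0 (eq_bot_of_inf_le hP M h)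
  rw [inf_eq_left.mpr (hMF.trans hFP)] at hb
  have hxb : x ∈ M ⊔ zpowers b := by rw [hb]; exact hFP hxF
  obtain ⟨m, hm, z, hz, hmz⟩ := mem_sup_of_normal_left.mp hxb
  have hzF : z ∈ F := by
    have : z = m⁻¹ * x := by rw [← hmz, inv_mul_cancel_left]
    rw [this]
    exact mul_mem (inv_mem (hMF hm)) hxF
  have hzM : z ∉ M := fun h => hxM (hmz ▸ mul_mem hm h)
  -- the cyclic group `zpowers b` meets `F` in a group of order `p`
  set Y := zpowers b ⊓ F with hY
  have hYp : Nat.card Y ∣ p := by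
    haveI : IsCyclic Y := Subgroup.isCyclic_of_le (inf_le_left : Y ≤ zpowers b)
    rw [← IsCyclic.exponent_eq_card (α := Y)]
    exact Monoid.exponent_dvd_of_forall_pow_eq_one fun y => Subtype.ext (hFe y y.2.2)
  have hA : zpowers b ⊓ M = ⊥ := by
    have hle : zpowers b ⊓ M ≤ Y := inf_le_inf_left _ hMF
    rcases (Nat.dvd_prime hp.out).mp ((card_dvd_of_le hle).trans hYp) with h1 | h1
    · exact card_eq_one.mp h1
    · have heq : zpowers b ⊓ M = Y :=
        eq_of_le_of_card_ge hle (h1 ▸ Nat.le_of_dvd hp.out.pos hYp)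
      exact absurd (heq.ge ⟨hz, hzF⟩).2 hzM
  haveI : IsMulCommutative M := commutator_self_eq_bot_iff.mp
    (le_bot_iff.mp ((commutator_mono hMF hMF).trans (commutator_self_eq_bot_iff.mpr hFc).le))
  have hcop : (Nat.card M).Coprime (P : Subgroup G).index :=
    P.card_coprime_index.coprime_dvd_left (card_dvd_of_le (hMF.trans hFP))
  obtain ⟨H, hH⟩ := Solvable.Gaschutz.exists_complement' (K := M) (U := (P : Subgroup G))
    (A := zpowers b) (hMF.trans hFP) hcop (zpowers_le.mpr hbP) hA hb
  haveI hN : (H ⊓ F).Normal := by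
    refine ⟨fun n hn g => mem_inf.mpr ⟨?_, fitting_normal.conj_mem n hn.2 g⟩⟩
    have hg : g ∈ H ⊔ M := by rw [sup_comm, hH.sup_eq_top]; exact mem_top g
    obtain ⟨h, hh, m', hm', rfl⟩ := mem_sup_of_normal_right.mp hg
    have h2 : m' * n * m'⁻¹ = n := by
      have h3 : (⟨m', hMF hm'⟩ : F) * ⟨n, hn.2⟩ = ⟨n, hn.2⟩ * ⟨m', hMF hm'⟩ := hFc.is_comm.comm _ _
      have h4 : m' * n = n * m' := congrArg Subtype.val h3
      rw [h4, mul_inv_cancel_right]
    have h5 : h * m' * n * (h * m')⁻¹ = h * (m' * n * m'⁻¹) * h⁻¹ := by group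
    rw [h5, h2]
    exact mul_mem (mul_mem hh hn.1) (inv_mem hh)
  refine inf_ne_bot hP (L := H ⊓ F) hM0 ?_ ?_
  · intro hbot
    have hx : x ∈ M ⊔ H := by rw [hH.sup_eq_top]; exact mem_top x
    obtain ⟨m', hm', h, hh, hmh⟩ := mem_sup_of_normal_left.mp hx
    have hhF : h ∈ H ⊓ F := by
      refine mem_inf.mpr ⟨hh, ?_⟩
      have : h = m'⁻¹ * x := by rw [← hmh, inv_mul_cancel_left]
      rw [this]
      exact mul_mem (inv_mem (hMF hm')) hxF
    rw [hbot, mem_bot] at hhF
    exact hxM (by rw [← hmh, hhF, mul_one]; exact hm')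
  · exact le_bot_iff.mp ((inf_le_inf_left M inf_le_left).trans hH.disjoint.le_bot)

theorem frattini_comap {X : Subgroup G} (hX : (P : Subgroup G) ≤ X) (E : Subgroup G)
    (h : E ⊓ (P : Subgroup G) ≤ phi P) :
    E.subgroupOf X ⊓ ((P.subtype hX : Sylow p X) : Subgroup X) ≤
      (frattini ↥((P.subtype hX : Sylow p X) : Subgroup X)).map
        ((P.subtype hX : Sylow p X) : Subgroup X).subtype := by
  intro x hx
  let e : ((P.subtype hX : Sylow p X) : Subgroup X) ≃* (P : Subgroup G) := subgroupOfEquivOfLe hX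
  obtain ⟨y, hy, hyx⟩ := h ⟨(hx.1 : (x : G) ∈ E), (e ⟨x, hx.2⟩).2⟩
  refine ⟨⟨x, hx.2⟩, ?_, rfl⟩
  have hsub := frattini_le_comap_frattini_of_surjective (φ := e.symm.toMonoidHom) e.symm.surjective hy
  have hye : y = e ⟨x, hx.2⟩ := Subtype.ext hyx
  rw [mem_comap, hye] at hsub
  change e.symm (e ⟨x, hx.2⟩) ∈ frattini _ at hsub
  rw [e.symm_apply_apply] at hsub
  exact hsub

/-- With trivial Fitting subgroup, `P` permutes the components transitively. -/
theorem transitive (hP : Hyp P) (hF : fittingSubgroup G = ⊥) {K L : Subgroup G}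
    (hK : IsComponent K) (hL : IsComponent L) :
    ∃ x ∈ (P : Subgroup G), L = K.map (MulAut.conj x).toMonoidHom := by
  by_contra hcon
  let Orb : Set (Subgroup G) :=
    {C | IsComponent C ∧ ∃ x ∈ (P : Subgroup G), C = K.map (MulAut.conj x).toMonoidHom}
  let Oth : Set (Subgroup G) :=
    {C | IsComponent C ∧ ¬ ∃ x ∈ (P : Subgroup G), C = K.map (MulAut.conj x).toMonoidHom}
  have hconj : ∀ (C : Subgroup G) (x y : G),
      (C.map (MulAut.conj x).toMonoidHom).map (MulAut.conj y).toMonoidHom =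
        C.map (MulAut.conj (y * x)).toMonoidHom := by
    intro C x y
    rw [Subgroup.map_map, map_mul]
    rfl
  have hone : ∀ (C : Subgroup G), C.map (MulAut.conj (1 : G)).toMonoidHom = C := by
    intro C
    rw [map_one]
    exact Subgroup.map_id C
  have hinv : ∀ (T : Set (Subgroup G)), (∀ C ∈ T, ∀ x ∈ (P : Subgroup G),
      C.map (MulAut.conj x).toMonoidHom ∈ T) → (P : Subgroup G) ≤ normalizer ((sSup T : Subgroup G) : Set G) := by
    intro T hT x hx
    rw [mem_normalizer_iff_map_conj_eq]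
    refine eq_of_le_of_card_ge ?_ (le_of_eq (card_map_of_injective (MulAut.conj x).injective).symm)
    rw [map_le_iff_le_comap]
    exact sSup_le fun C hC => map_le_iff_le_comap.mp (le_sSup (hT C hC x hx))
  have hT1 : ∀ C ∈ Orb, ∀ x ∈ (P : Subgroup G), C.map (MulAut.conj x).toMonoidHom ∈ Orb := by
    rintro C ⟨hC, y, hy, rfl⟩ x hx
    exact ⟨component_conj hC x, x * y, mul_mem hx hy, hconj K y x⟩
  have hT2 : ∀ C ∈ Oth, ∀ x ∈ (P : Subgroup G), C.map (MulAut.conj x).toMonoidHom ∈ Oth := by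
    rintro C ⟨hC, hC'⟩ x hx
    refine ⟨component_conj hC x, fun ⟨y, hy, he⟩ => hC' ⟨x⁻¹ * y, mul_mem (inv_mem hx) hy, ?_⟩⟩
    have := congrArg (Subgroup.map (MulAut.conj x⁻¹).toMonoidHom) he
    rwa [hconj, hconj, inv_mul_cancel, hone] at this
  set E1 := sSup Orb with hE1
  set E2 := sSup Oth with hE2
  have hcomm : E2 ≤ centralizer (E1 : Set G) := by
    refine sSup_le fun C hC => le_centralizer_iff.mp (sSup_le fun D hD => ?_)
    exact commutator_eq_bot_iff_le_centralizer.mp
      (component_commutator_eq_bot_of_ne hD.1 hC.1 fun h => hC.2 (h ▸ hD.2))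
  have hlay : layer G ≤ E1 ⊔ E2 := layer_le fun C hC => by
    by_cases hC' : ∃ x ∈ (P : Subgroup G), C = K.map (MulAut.conj x).toMonoidHom
    · exact (le_sSup (show C ∈ Orb from ⟨hC, hC'⟩)).trans le_sup_left
    · exact (le_sSup (show C ∈ Oth from ⟨hC, hC'⟩)).trans le_sup_right
  have hE1l : E1 ≤ layer G := sSup_le fun C hC => le_layer hC.1
  have hE2l : E2 ≤ layer G := sSup_le fun C hC => le_layer hC.1
  have hbot : E1 ⊓ E2 = ⊥ := by
    rw [eq_bot_iff, ← hF]
    intro z hz
    refine layer_inf_centralizer_le_fitting ⟨hE1l hz.1, ?_⟩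
    refine centralizer_le hlay ?_
    rw [← zpowers_le, le_centralizer_iff]
    refine sup_le (le_centralizer_iff.mp ?_) (le_centralizer_iff.mp ?_)
    · exact zpowers_le.mpr (hcomm hz.2)
    · exact zpowers_le.mpr (le_centralizer_iff.mp hcomm hz.1)
  -- a part meeting `P` inside `Φ(P)` is trivial
  have hkill : ∀ T : Set (Subgroup G), (∀ C ∈ T, IsComponent C) →
      (∀ C ∈ T, ∀ x ∈ (P : Subgroup G), C.map (MulAut.conj x).toMonoidHom ∈ T) →
      sSup T ⊓ (P : Subgroup G) ≤ phi P → ∀ C ∈ T, False := by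
    intro T hTc hT hle C hC
    set E := sSup T with hE
    have hEl : E ≤ layer G := sSup_le fun D hD => le_layer (hTc D hD)
    have hln : layer G ≤ normalizer (E : Set G) := by
      intro x hx
      rw [mem_normalizer_iff_map_conj_eq]
      refine eq_of_le_of_card_ge ?_ (le_of_eq (card_map_of_injective (MulAut.conj x).injective).symm)
      rw [map_le_iff_le_comap]
      refine sSup_le fun D hD => map_le_iff_le_comap.mp ?_
      rw [mem_normalizer_iff_map_conj_eq.mp (layer_le_normalizer (hTc D hD) hx)]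
      exact le_sSup hD
    haveI : (E.subgroupOf (layer G)).Normal := normal_subgroupOf_of_le_normalizer hln
    have hsn : E.IsSubnormal := IsSubnormal.trans hEl
      (inferInstance : (E.subgroupOf (layer G)).Normal).isSubnormal
      (inferInstance : (layer G).Normal).isSubnormal
    set X := normalizer (E : Set G) with hX
    have hPX : (P : Subgroup G) ≤ X := hinv T hT
    haveI : (E.subgroupOf X).Normal := normal_subgroupOf_of_le_normalizer le_rfl
    have hcompl := Transfer.Tate.hasNormalPComplement_of_inf_le_frattini (P.subtype hPX)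
      (E.subgroupOf X) (frattini_comap hPX E hle)
    have hcompl' : HasNormalPComplement p E :=
      (Transfer.NormalPComplement.hasNormalPComplement_congr
        (subgroupOfEquivOfLe (le_normalizer : E ≤ X))).mp hcompl
    have hEp := isPGroup_of_hasNormalPComplement hP hsn hcompl'
    have h1 := (Cores.le_pCore_of_isSubnormal hsn hEp).trans (pCore_le_fitting p)
    rw [hF, le_bot_iff] at h1
    exact component_ne_bot (hTc C hC) (le_bot_iff.mp (h1 ▸ le_sSup hC))
  rcases hP.not_both (hinv Orb hT1) (hinv Oth hT2) hbot with h | h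
  · exact hkill Orb (fun C hC => hC.1) hT1 h K ⟨hK, 1, one_mem _, (hone K).symm⟩
  · exact hkill Oth (fun C hC => hC.1) hT2 h L ⟨hL, hcon⟩

theorem layer_le_of_normal (hP : Hyp P) (hF : fittingSubgroup G = ⊥) (K : Subgroup G) [K.Normal]
    (hK : K ≠ ⊥) : layer G ≤ K := by
  refine layer_le fun L hL => ?_
  obtain ⟨C, hC, hCK⟩ : ∃ C : Subgroup G, IsComponent C ∧ C ≤ K := by
    by_contra h
    push Not at h
    have hc : ⁅layer G, K⁆ = ⊥ := commutator_layer_eq_bot fun C hC =>
      (component_le_or_commutator_eq_bot hC (inferInstance : K.Normal).isSubnormal).resolve_left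
        (h C hC)
    have hle : layer G ⊓ K ≤ fittingSubgroup G := by
      refine le_trans (le_inf inf_le_left ?_) layer_inf_centralizer_le_fitting
      exact inf_le_right.trans (le_centralizer_iff.mp (commutator_eq_bot_iff_le_centralizer.mp hc))
    have hne : layer G ≠ ⊥ := fun e => component_ne_bot hL (le_bot_iff.mp (e ▸ le_layer hL))
    rw [hF, le_bot_iff] at hle
    exact inf_ne_bot hP hne hK hle
  obtain ⟨x, -, rfl⟩ := transitive hP hF hC hL
  rintro _ ⟨c, hc, rfl⟩
  exact (inferInstance : K.Normal).conj_mem c (hCK hc) x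

theorem main (hP : Hyp P) :
    generalizedFittingSubgroup G ≠ ⊥ ∧
      (∀ K : Subgroup G, K.Normal → K ≠ ⊥ → generalizedFittingSubgroup G ≤ K) ∧
      (¬ IsMulCommutative (generalizedFittingSubgroup G) → fittingSubgroup G = ⊥) := by
  refine ⟨fun h => hP.hna ?_, fun K hK hK0 => ?_, fun h => ?_⟩
  · have hc := centralizer_genFitting_le (G := G)
    rw [h] at hc
    refine ⟨⟨fun x y => ?_⟩⟩
    have h1 : ∀ g : G, g = 1 := fun g =>
      mem_bot.mp (hc (mem_centralizer_iff.mpr fun a ha => by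
        rw [SetLike.mem_coe, mem_bot] at ha
        rw [ha, one_mul, mul_one]))
    exact Subtype.ext ((h1 _).trans (h1 _).symm)
  · by_cases hF : fittingSubgroup G = ⊥
    · rw [generalizedFittingSubgroup, hF, sup_bot_eq]
      exact layer_le_of_normal hP hF K hK0
    · rw [generalizedFittingSubgroup, layer_eq_bot_of_fitting hP hF, bot_sup_eq]
      exact fitting_le_of_normal hP hF K hK0
  · by_contra hF
    apply h
    rw [generalizedFittingSubgroup, layer_eq_bot_of_fitting hP hF, bot_sup_eq]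
    exact (fitting_elementary hP).1

theorem isCyclic_image (hP : Hyp P) [hFn : (generalizedFittingSubgroup G).Normal] :
    IsCyclic ↥((P : Subgroup G).map (QuotientGroup.mk' (generalizedFittingSubgroup G))) := by
  set F := generalizedFittingSubgroup G with hF
  obtain ⟨b, hbP, hb⟩ := hP.exists_gen (K := F) fun h => (main hP).1 (eq_bot_of_inf_le hP F h)
  refine isCyclic_iff_exists_zpowers_eq_top.mpr ⟨⟨_, ⟨b, hbP, rfl⟩⟩, ?_⟩
  apply Subgroup.map_injective ((P : Subgroup G).map (QuotientGroup.mk' F)).subtype_injective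
  rw [MonoidHom.map_zpowers, ← MonoidHom.range_eq_map, range_subtype]
  change zpowers (QuotientGroup.mk' F b) = _
  conv_rhs => rw [← hb]
  have h0 : (F ⊓ (P : Subgroup G)).map (QuotientGroup.mk' F) = ⊥ := by
    rw [Subgroup.map_eq_bot_iff, QuotientGroup.ker_mk']
    exact inf_le_left
  rw [Subgroup.map_sup, h0, bot_sup_eq, MonoidHom.map_zpowers]

end Cfsg.Agent.GStructB.TwoGenSylow
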